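import Mathlib.RingTheory.Ideal.HasGoingUp
import Mathlib.RingTheory.Ideal.GoingUp
import Mathlib.RingTheory.KrullDimension.Basic
import Mathlib.RingTheory.KrullDimension.Polynomial
import Mathlib.RingTheory.KrullDimension.Field
import Mathlib.RingTheory.NoetherNormalization

set_option autoImplicit false

namespace Groth.Agent.H54

open Ideal

section
variable {R S : Type*} [CommRing R] [CommRing S] [Algebra R S]

/-- For an integral extension, the Krull dimension of the target is at most that of the source. -/
theorem ringKrullDim_le_of_isIntegral [Algebra.IsIntegral R S] :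
    ringKrullDim S ≤ ringKrullDim R := by
  refine Order.krullDim_le_of_strictMono (PrimeSpectrum.comap (algebraMap R S)) ?_
  intro p q hpq
  have h : p.asIdeal < q.asIdeal := hpq
  exact IsIntegral.comap_lt_comap (R := R) h

/-- For an injective integral extension, the Krull dimension of the source is at most that of
the target. -/
theorem ringKrullDim_le_of_isIntegral_of_injective [Algebra.IsIntegral R S]
    (hinj : Function.Injective (algebraMap R S)) :
    ringKrullDim R ≤ ringKrullDim S := by
  unfold ringKrullDim
  rw [Order.krullDim]
  apply iSup_le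
  intro l
  obtain ⟨Q, -, hQ, hQc⟩ := exists_ideal_over_prime_of_isIntegral (S := S) l.head.asIdeal
    (⊥ : Ideal S) (by
      rw [← RingHom.ker_eq_comap_bot, (RingHom.injective_iff_ker_eq_bot _).mp hinj]
      exact bot_le)
  have : Q.IsPrime := hQ
  have : Q.LiesOver l.head.asIdeal := ⟨hQc.symm⟩
  obtain ⟨L, hL, -, -⟩ := exists_ltSeries_of_hasGoingUp (S := S) l Q
  rw [← hL]
  exact Order.LTSeries.length_le_krullDim L

theorem ringKrullDim_eq_of_isIntegral_of_injective [Algebra.IsIntegral R S]
    (hinj : Function.Injective (algebraMap R S)) :
    ringKrullDim R = ringKrullDim S :=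
  le_antisymm (ringKrullDim_le_of_isIntegral_of_injective hinj) ringKrullDim_le_of_isIntegral

end

/-- Ring hom version. -/
theorem ringKrullDim_eq_of_ringHom_isIntegral_of_injective {R S : Type*} [CommRing R] [CommRing S]
    (f : R →+* S) (hint : f.IsIntegral) (hinj : Function.Injective f) :
    ringKrullDim R = ringKrullDim S := by
  let _ : Algebra R S := f.toAlgebra
  have : Algebra.IsIntegral R S := ⟨hint⟩
  exact ringKrullDim_eq_of_isIntegral_of_injective hinj

theorem ringKrullDim_mvPolynomial_fin_field (k : Type*) [Field k] (d : ℕ) :
    ringKrullDim (MvPolynomial (Fin d) k) = (d : WithBot ℕ∞) := by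
  rw [MvPolynomial.ringKrullDim_of_isNoetherianRing, ringKrullDim_eq_zero_of_field]
  simp

end Groth.Agent.H54
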