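import Mathlib
import Groth.Prelude.Def_CohB1

set_option autoImplicit false
universe u
open Module

namespace Groth.Agent.H54

section graded
variable {k R : Type*} [Field k] [CommRing R] [Algebra k R] (𝒜 : ℕ → Submodule k R)
  [GradedAlgebra 𝒜]

/-- The degree `m` piece of `I + (f)` for `I` homogeneous, `f` homogeneous of degree `d ≤ m`. -/
theorem piece_sup_span_singleton (I : Ideal R) (hI : I.IsHomogeneous 𝒜) (f : R) (d : ℕ)
    (hf : f ∈ 𝒜 d) (m : ℕ) (hdm : d ≤ m) :
    (I ⊔ Ideal.span {f}).restrictScalars k ⊓ 𝒜 m =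
      (I.restrictScalars k ⊓ 𝒜 m) ⊔ Submodule.map (LinearMap.mulLeft k f) (𝒜 (m - d)) := by
  classical
  apply le_antisymm
  · rintro x ⟨hxI, hxm⟩
    rw [SetLike.mem_coe, Submodule.restrictScalars_mem] at hxI
    obtain ⟨a, ha, b, hb, rfl⟩ := Submodule.mem_sup.mp hxI
    obtain ⟨c, rfl⟩ := Ideal.mem_span_singleton'.mp hb
    have hx : (DirectSum.decompose 𝒜 (a + c * f) m : R) = a + c * f :=
      DirectSum.decompose_of_mem_same 𝒜 hxm
    rw [DirectSum.decompose_add, DirectSum.add_apply, Submodule.coe_add, mul_comm c f,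
      DirectSum.coe_decompose_mul_of_left_mem_of_le 𝒜 hf hdm] at hx
    rw [mul_comm c f, ← hx]
    apply Submodule.add_mem_sup
    · exact ⟨hI m ha, SetLike.coe_mem _⟩
    · exact ⟨_, SetLike.coe_mem _, rfl⟩
  · apply sup_le
    · exact inf_le_inf_right _ (fun x hx => Ideal.mem_sup_left hx)
    · rintro _ ⟨g, hg, rfl⟩
      refine ⟨?_, ?_⟩
      · rw [SetLike.mem_coe, Submodule.restrictScalars_mem]
        exact Ideal.mem_sup_right (Ideal.mul_mem_right _ _ (Ideal.mem_span_singleton_self f))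
      · have := SetLike.mul_mem_graded hf hg
        rwa [Nat.add_sub_cancel' hdm] at this

theorem piece_inf_map_mulLeft (I : Ideal R) (f : R) (d : ℕ) (hf : f ∈ 𝒜 d)
    (hnzd : ∀ g, f * g ∈ I → g ∈ I) (m : ℕ) (hdm : d ≤ m) :
    (I.restrictScalars k ⊓ 𝒜 m) ⊓ Submodule.map (LinearMap.mulLeft k f) (𝒜 (m - d)) =
      Submodule.map (LinearMap.mulLeft k f) (I.restrictScalars k ⊓ 𝒜 (m - d)) := by
  apply le_antisymm
  · rintro x ⟨⟨hxI, -⟩, ⟨g, hg, rfl⟩⟩
    exact ⟨g, ⟨hnzd g hxI, hg⟩, rfl⟩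
  · rintro _ ⟨g, ⟨hgI, hg⟩, rfl⟩
    refine ⟨⟨?_, ?_⟩, ⟨g, hg, rfl⟩⟩
    · exact Ideal.mul_mem_left _ _ hgI
    · have := SetLike.mul_mem_graded hf hg
      rwa [Nat.add_sub_cancel' hdm] at this

/-- The dimension count for hypersurface sections. -/
theorem finrank_piece_sup_span_singleton [∀ m, Module.Finite k (𝒜 m)] (I : Ideal R)
    (hI : I.IsHomogeneous 𝒜) (f : R) (d : ℕ)
    (hf : f ∈ 𝒜 d) (hnzd : ∀ g, f * g ∈ I → g ∈ I) (hinj : Function.Injective (LinearMap.mulLeft k f))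
    (m : ℕ) (hdm : d ≤ m) :
    finrank k ↥((I ⊔ Ideal.span {f}).restrictScalars k ⊓ 𝒜 m) +
        finrank k ↥(I.restrictScalars k ⊓ 𝒜 (m - d)) =
      finrank k ↥(I.restrictScalars k ⊓ 𝒜 m) + finrank k ↥(𝒜 (m - d)) := by
  rw [piece_sup_span_singleton 𝒜 I hI f d hf m hdm]
  have h1 := Submodule.finrank_sup_add_finrank_inf_eq (I.restrictScalars k ⊓ 𝒜 m)
    (Submodule.map (LinearMap.mulLeft k f) (𝒜 (m - d)))
  rw [piece_inf_map_mulLeft 𝒜 I f d hf hnzd m hdm] at h1
  rw [← (Submodule.equivMapOfInjective _ hinj (I.restrictScalars k ⊓ 𝒜 (m - d))).finrank_eq,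
    ← (Submodule.equivMapOfInjective _ hinj (𝒜 (m - d))).finrank_eq] at h1
  exact h1

end graded


section polydiff
open Polynomial

/-- The backward difference `P(X) - P(X - c)` of a polynomial of degree `t + 1` has degree `t` and
leading coefficient `(t + 1) * c * lc(P)`. -/
theorem natDegree_leadingCoeff_sub_comp (P : ℚ[X]) (c : ℚ) (hc : c ≠ 0) (t : ℕ)
    (ht : P.natDegree = t + 1) :
    (P - P.comp (X - C c)).natDegree = t ∧
      (P - P.comp (X - C c)).leadingCoeff = (t + 1) * c * P.leadingCoeff := by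
  have hcomp : P.comp (X - C c) = taylor (-c) P := by
    rw [taylor_apply, C_neg, sub_eq_add_neg]
  rw [hcomp]
  have hP0 : P ≠ 0 := by
    rintro rfl
    simp at ht
  have hlc : P.leadingCoeff ≠ 0 := leadingCoeff_ne_zero.mpr hP0
  set Q := P - taylor (-c) P with hQ
  have hdeg : Q.degree < P.degree :=
    degree_sub_lt_left (degree_taylor P (-c)).symm hP0 (leadingCoeff_taylor (r := -c) (f := P)).symm
  have hle : Q.natDegree ≤ t := by
    by_cases hQ0 : Q = 0
    · rw [hQ0]; simp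
    have := natDegree_lt_natDegree hQ0 hdeg
    omega
  have hcoeff : Q.coeff t = (t + 1) * c * P.leadingCoeff := by
    rw [hQ, coeff_sub, taylor_coeff]
    have hnd : (hasseDeriv t P).natDegree ≤ 1 := by
      have := natDegree_hasseDeriv_le P t
      omega
    rw [eq_X_add_C_of_natDegree_le_one hnd, hasseDeriv_coeff, hasseDeriv_coeff]
    simp only [eval_add, eval_mul, eval_C, eval_X, zero_add]
    have h1 : P.coeff (1 + t) = P.leadingCoeff := by
      rw [leadingCoeff, ht, add_comm]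
    rw [h1, Nat.choose_self, Nat.add_comm 1 t, Nat.choose_succ_self_right]
    push_cast
    ring
  have hne : Q.coeff t ≠ 0 := by
    rw [hcoeff]
    have : ((t : ℚ) + 1) ≠ 0 := by positivity
    exact mul_ne_zero (mul_ne_zero this hc) hlc
  have hnat : Q.natDegree = t := le_antisymm hle (le_natDegree_of_ne_zero hne)
  refine ⟨hnat, ?_⟩
  rw [leadingCoeff, hnat, hcoeff]

/-- Two rational polynomials related by a difference equation at all large naturals. -/
theorem eq_sub_comp_of_eval (P Q : ℚ[X]) (d : ℕ) (m₀ : ℕ)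
    (h : ∀ m : ℕ, m₀ ≤ m → Q.eval (m : ℚ) = P.eval (m : ℚ) - P.eval ((m : ℚ) - d)) :
    Q = P - P.comp (X - C (d : ℚ)) := by
  apply Polynomial.eq_of_infinite_eval_eq
  have hinf : (Set.range (fun m : ℕ => ((m + m₀ : ℕ) : ℚ))).Infinite := by
    apply Set.infinite_range_of_injective
    intro a b hab
    have hab' : ((a + m₀ : ℕ) : ℚ) = ((b + m₀ : ℕ) : ℚ) := hab
    have : a + m₀ = b + m₀ := by exact_mod_cast hab'
    omega
  refine hinf.mono ?_
  rintro _ ⟨m, rfl⟩
  simp only [Set.mem_ofPred_eq, eval_sub, eval_comp, eval_X, eval_C]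
  exact h (m + m₀) (by omega)


end polydiff

section hilb
open Polynomial
variable (k : Type u) [Field k] (n : ℕ)

local notation "𝒜" => CohB1.polyGrading n k
local notation "A" => MvPolynomial (Fin (n + 1)) k

instance polyGrading_finite (m : ℕ) : Module.Finite k ↥(𝒜 m) :=
  Module.Finite.iff_fg.mpr (MvPolynomial.homogeneousSubmodule_fg (Fin (n + 1)) k m)

/-- Hilbert polynomial of a hypersurface section. -/
theorem hilbertPoly_hypersurface_section
    (I : Ideal A) (hIh : I.IsHomogeneous 𝒜) [hIp : I.IsPrime]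
    (f : A) (d : ℕ) (hd : 0 < d) (hf : f.IsHomogeneous d) (hfI : f ∉ I)
    (P Q : ℚ[X])
    (hP : ∃ m₀ : ℕ, ∀ m : ℕ, m₀ ≤ m → P.eval (m : ℚ) =
      (Module.finrank k ↥(𝒜 m) : ℚ) -
        Module.finrank k ↥(Submodule.restrictScalars k I ⊓ 𝒜 m))
    (hQ : ∃ m₀ : ℕ, ∀ m : ℕ, m₀ ≤ m → Q.eval (m : ℚ) =
      (Module.finrank k ↥(𝒜 m) : ℚ) -
        Module.finrank k ↥(Submodule.restrictScalars k (I ⊔ Ideal.span {f}) ⊓ 𝒜 m))
    (hdim : 1 ≤ P.natDegree) :
    Q.natDegree + 1 = P.natDegree ∧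
      (Q.natDegree.factorial : ℚ) * Q.leadingCoeff =
        d * ((P.natDegree.factorial : ℚ) * P.leadingCoeff) := by
  classical
  obtain ⟨m₀, hP⟩ := hP
  obtain ⟨m₁, hQ⟩ := hQ
  have hf0 : f ≠ 0 := by
    rintro rfl
    exact hfI I.zero_mem
  have hnzd : ∀ g, f * g ∈ I → g ∈ I := fun g hg => (hIp.mem_or_mem hg).resolve_left hfI
  have hinj : Function.Injective (LinearMap.mulLeft k f) := by
    intro a b hab
    exact mul_left_cancel₀ hf0 (by simpa using hab)
  have hfmem : f ∈ 𝒜 d := (MvPolynomial.mem_homogeneousSubmodule d f).mpr hf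
  have hQP : Q = P - P.comp (X - C (d : ℚ)) := by
    apply eq_sub_comp_of_eval P Q d (max m₀ m₁ + d)
    intro m hm
    have hdm : d ≤ m := by omega
    have h1 := finrank_piece_sup_span_singleton 𝒜 I hIh f d hfmem hnzd hinj m hdm
    have h1' : (Module.finrank k ↥((I ⊔ Ideal.span {f}).restrictScalars k ⊓ 𝒜 m) : ℚ) +
        Module.finrank k ↥(I.restrictScalars k ⊓ 𝒜 (m - d)) =
        Module.finrank k ↥(I.restrictScalars k ⊓ 𝒜 m) + Module.finrank k ↥(𝒜 (m - d)) := by
      exact_mod_cast h1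
    have h2 := hQ m (by omega)
    have h3 := hP m (by omega)
    have h4 := hP (m - d) (by omega)
    rw [Nat.cast_sub hdm] at h4
    rw [h2, h3, h4]
    linarith
  obtain ⟨t, ht⟩ : ∃ t, P.natDegree = t + 1 := ⟨P.natDegree - 1, by omega⟩
  have hd0 : (d : ℚ) ≠ 0 := by exact_mod_cast hd.ne'
  obtain ⟨h5, h6⟩ := natDegree_leadingCoeff_sub_comp P (d : ℚ) hd0 t ht
  rw [← hQP] at h5 h6
  refine ⟨by rw [h5, ht], ?_⟩
  rw [h5, h6, ht, Nat.factorial_succ]
  push_cast
  ring

end hilb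

end Groth.Agent.H54
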