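import Mathlib
import Groth.Prelude.Def_CohB1
import Groth.Agent.H54.HilbertSection

set_option autoImplicit false
universe u
open Module

namespace Groth.Agent.H54

/-- If every scalar of `A` acts on each element of `X` like some scalar of `R`, then the `A`-length
and the `R`-length of `X` agree. -/
theorem length_eq_of_forall_exists_smul_eq {R₀ A₀ X : Type*} [CommRing R₀] [CommRing A₀]
    [Algebra R₀ A₀] [AddCommGroup X] [Module A₀ X] [Module R₀ X] [IsScalarTower R₀ A₀ X]
    (h : ∀ (a : A₀) (x : X), ∃ r : R₀, a • x = r • x) :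
    Module.length A₀ X = Module.length R₀ X := by
  let e : Submodule A₀ X ≃o Submodule R₀ X :=
    { toFun := fun N => N.restrictScalars R₀
      invFun := fun N =>
        { carrier := N
          add_mem' := N.add_mem
          zero_mem' := N.zero_mem
          smul_mem' := by
            intro a x hx
            obtain ⟨r, hr⟩ := h a x
            change a • x ∈ N
            rw [hr]
            exact N.smul_mem r hx }
      left_inv := fun N => by ext; rfl
      right_inv := fun N => by ext; rfl
      map_rel_iff' := by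
        intro N N'
        exact Iff.rfl }
  rw [Module.length, Module.length, WithBot.unbot_inj, Order.krullDim_eq_of_orderIso e]

/-- Length of a quotient by a smaller ideal: additivity along `R/K' → R/K''`. -/
theorem length_quotient_eq_add {R : Type*} [CommRing R] {K' K'' : Ideal R} (H : K' ≤ K'') :
    Module.length R (R ⧸ K') =
      Module.length R ↥(LinearMap.ker (Submodule.factor H)) + Module.length R (R ⧸ K'') :=
  Module.length_eq_add_of_exact (LinearMap.ker (Submodule.factor H)).subtype (Submodule.factor H)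
    Subtype.val_injective (Submodule.factor_surjective H)
    (LinearMap.exact_subtype_ker_map _)

section poly
variable (k : Type u) [Field k] (n : ℕ)

local notation "𝒜" => CohB1.polyGrading n k
local notation "R" => MvPolynomial (Fin (n + 1)) k
local notation "𝔪" => MvPolynomial.idealOfVars (Fin (n + 1)) k

theorem homogeneous_mem_pow_idealOfVars {t : ℕ} {r : R} (hr : r ∈ 𝒜 t) : r ∈ 𝔪 ^ t := by
  rw [MvPolynomial.mem_pow_idealOfVars_iff]
  intro x hx
  have := hr (MvPolynomial.mem_support_iff.mp hx)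
  have h2 : Finsupp.degree x = Finsupp.weight (1 : Fin (n + 1) → ℕ) x := by
    rw [Finsupp.degree_eq_weight_one]; rfl
  rw [h2]
  exact this.ge

theorem sub_homogeneousComponent_mem {t : ℕ} {b : R} (hb : b ∈ 𝔪 ^ t) :
    b - MvPolynomial.homogeneousComponent t b ∈ 𝔪 ^ (t + 1) := by
  rw [MvPolynomial.mem_pow_idealOfVars_iff'] at hb ⊢
  intro x hx
  rw [MvPolynomial.coeff_sub, MvPolynomial.coeff_homogeneousComponent]
  split_ifs with h
  · exact sub_self _
  · rw [sub_zero]
    exact hb x (by omega)

theorem homogeneousComponent_eq_zero_of_mem {t : ℕ} {b : R} (hb : b ∈ 𝔪 ^ (t + 1)) :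
    MvPolynomial.homogeneousComponent t b = 0 := by
  rw [MvPolynomial.mem_pow_idealOfVars_iff'] at hb
  ext x
  rw [MvPolynomial.coeff_homogeneousComponent, MvPolynomial.coeff_zero]
  split_ifs with h
  · exact hb x (by omega)
  · rfl

theorem sub_C_coeff_zero_mem (f : R) : f - MvPolynomial.C (MvPolynomial.coeff 0 f) ∈ 𝔪 := by
  have h : f - MvPolynomial.C (MvPolynomial.coeff 0 f) ∈ 𝔪 ^ 1 := by
    rw [MvPolynomial.mem_pow_idealOfVars_iff']
    intro x hx
    have hx0 : x = 0 := by
      have : x.degree = 0 := by omega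
      exact (Finsupp.degree_eq_zero_iff x).mp this
    subst hx0
    simp
  rwa [pow_one] at h


theorem sup_pow_succ_le (K : Ideal R) (t : ℕ) : K ⊔ 𝔪 ^ (t + 1) ≤ K ⊔ 𝔪 ^ t :=
  sup_le_sup_left (Ideal.pow_le_pow_right (Nat.le_succ t)) K

/-- The irrelevant ideal kills the kernel of `R/(K + 𝔪^(t+1)) → R/(K + 𝔪^t)`. -/
theorem smul_eq_zero_of_mem_ker_factor (K : Ideal R) (t : ℕ) (a : R) (ha : a ∈ 𝔪)
    (x : R ⧸ (K ⊔ 𝔪 ^ (t + 1))) (hx : x ∈ LinearMap.ker (Submodule.factor (sup_pow_succ_le k n K t))) :
    a • x = 0 := by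
  obtain ⟨r, rfl⟩ := Submodule.mkQ_surjective _ x
  rw [LinearMap.mem_ker, Submodule.factor_mk, Submodule.mkQ_apply, Submodule.Quotient.mk_eq_zero] at hx
  rw [Submodule.mkQ_apply, ← Submodule.Quotient.mk_smul, Submodule.Quotient.mk_eq_zero]
  obtain ⟨u, hu, v, hv, rfl⟩ := Submodule.mem_sup.mp hx
  rw [smul_eq_mul, mul_add]
  refine Submodule.add_mem_sup (K.mul_mem_left a hu) ?_
  rw [pow_succ']
  exact Ideal.mul_mem_mul ha hv

theorem smul_eq_coeff_zero_smul_of_mem_ker_factor (K : Ideal R) (t : ℕ) (f : R)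
    (x : ↥(LinearMap.ker (Submodule.factor (sup_pow_succ_le k n K t)))) :
    f • x = (MvPolynomial.coeff 0 f) • x := by
  have h0 : (f - MvPolynomial.C (MvPolynomial.coeff 0 f)) • x = 0 := by
    ext
    rw [Submodule.coe_smul, Submodule.coe_zero]
    exact smul_eq_zero_of_mem_ker_factor k n K t _ (sub_C_coeff_zero_mem k n f) x.1 x.2
  have h1 : f • x = (MvPolynomial.C (MvPolynomial.coeff 0 f) : R) • x := by
    have := sub_smul f (MvPolynomial.C (MvPolynomial.coeff 0 f) : R) x
    rw [h0] at this
    exact (sub_eq_zero.mp this.symm)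
  rw [h1, ← MvPolynomial.algebraMap_eq, algebraMap_smul]

/-- The comparison map from the degree `t` piece onto the kernel. -/
noncomputable def pieceToKer (K : Ideal R) (t : ℕ) :
    ↥(𝒜 t) →ₗ[k] ↥(LinearMap.ker (Submodule.factor (sup_pow_succ_le k n K t))) where
  toFun r := ⟨Submodule.mkQ _ r.1, by
    rw [LinearMap.mem_ker, Submodule.factor_mk, Submodule.mkQ_apply, Submodule.Quotient.mk_eq_zero]
    exact Ideal.mem_sup_right (homogeneous_mem_pow_idealOfVars k n r.2)⟩
  map_add' r s := by
    ext
    simp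
  map_smul' c r := by
    ext
    simp

theorem pieceToKer_surjective (K : Ideal R) (t : ℕ) :
    Function.Surjective (pieceToKer k n K t) := by
  rintro ⟨x, hx⟩
  obtain ⟨r, rfl⟩ := Submodule.mkQ_surjective _ x
  rw [LinearMap.mem_ker, Submodule.factor_mk, Submodule.mkQ_apply, Submodule.Quotient.mk_eq_zero] at hx
  obtain ⟨u, hu, v, hv, rfl⟩ := Submodule.mem_sup.mp hx
  refine ⟨⟨MvPolynomial.homogeneousComponent t v, MvPolynomial.homogeneousComponent_mem t v⟩, ?_⟩
  ext
  change Submodule.mkQ _ (MvPolynomial.homogeneousComponent t v) = Submodule.mkQ _ (u + v)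
  rw [Submodule.mkQ_apply, Submodule.mkQ_apply, eq_comm, Submodule.Quotient.eq]
  have : u + v - MvPolynomial.homogeneousComponent t v =
      u + (v - MvPolynomial.homogeneousComponent t v) := by ring
  rw [this]
  exact Submodule.add_mem_sup hu (sub_homogeneousComponent_mem k n hv)

theorem ker_pieceToKer (K : Ideal R) (hK : K.IsHomogeneous 𝒜) (t : ℕ) :
    LinearMap.ker (pieceToKer k n K t) =
      Submodule.comap (𝒜 t).subtype (K.restrictScalars k ⊓ 𝒜 t) := by
  ext ⟨r, hr⟩
  rw [LinearMap.mem_ker, Submodule.mem_comap]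
  change (⟨Submodule.mkQ _ r, _⟩ : ↥(LinearMap.ker (Submodule.factor (sup_pow_succ_le k n K t)))) = 0 ↔
    r ∈ K.restrictScalars k ⊓ 𝒜 t
  rw [Subtype.ext_iff, Submodule.coe_zero]
  change Submodule.mkQ _ r = 0 ↔ _
  rw [Submodule.mkQ_apply, Submodule.Quotient.mk_eq_zero]
  constructor
  · intro h
    refine ⟨?_, hr⟩
    rw [SetLike.mem_coe, Submodule.restrictScalars_mem]
    obtain ⟨u, hu, v, hv, huv⟩ := Submodule.mem_sup.mp h
    have h1 : MvPolynomial.homogeneousComponent t r = r :=
      MvPolynomial.homogeneousComponent_eq_self hr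
    have h2 : MvPolynomial.homogeneousComponent t r = MvPolynomial.homogeneousComponent t u := by
      rw [← huv, map_add, homogeneousComponent_eq_zero_of_mem k n hv, add_zero]
    rw [← h1, h2]
    exact MvPolynomial.homogeneousComponent_mem_of_mem hK hu t
  · rintro ⟨h, -⟩
    exact Ideal.mem_sup_left h


/-- The graded piece: the kernel of `R/(K + 𝔪^(t+1)) → R/(K + 𝔪^t)` has length `H_K(t)`. -/
theorem length_ker_factor (K : Ideal R) (hK : K.IsHomogeneous 𝒜) (t : ℕ) :
    Module.length R ↥(LinearMap.ker (Submodule.factor (sup_pow_succ_le k n K t))) +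
        (finrank k ↥(K.restrictScalars k ⊓ 𝒜 t) : ℕ∞) = (finrank k ↥(𝒜 t) : ℕ∞) := by
  have h1 : Module.length R ↥(LinearMap.ker (Submodule.factor (sup_pow_succ_le k n K t))) =
      Module.length k ↥(LinearMap.ker (Submodule.factor (sup_pow_succ_le k n K t))) :=
    length_eq_of_forall_exists_smul_eq (R₀ := k)
      (fun f x => ⟨MvPolynomial.coeff 0 f, smul_eq_coeff_zero_smul_of_mem_ker_factor k n K t f x⟩)
  have hfin : Module.Finite k ↥(LinearMap.ker (Submodule.factor (sup_pow_succ_le k n K t))) :=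
    Module.Finite.of_surjective (pieceToKer k n K t) (pieceToKer_surjective k n K t)
  rw [h1, Module.length_eq_finrank]
  have h2 := LinearMap.finrank_range_add_finrank_ker (pieceToKer k n K t)
  rw [LinearMap.range_eq_top.mpr (pieceToKer_surjective k n K t), finrank_top,
    ker_pieceToKer k n K hK t,
    (Submodule.comapSubtypeEquivOfLe (inf_le_right :
      K.restrictScalars k ⊓ 𝒜 t ≤ 𝒜 t)).finrank_eq] at h2
  exact_mod_cast h2

/-- The Hilbert function of `R/K`. -/
noncomputable def hilbFn (K : Ideal R) (j : ℕ) : ℕ :=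
  finrank k ↥(𝒜 j) - finrank k ↥(K.restrictScalars k ⊓ 𝒜 j)

theorem hilbFn_add (K : Ideal R) (j : ℕ) :
    hilbFn k n K j + finrank k ↥(K.restrictScalars k ⊓ 𝒜 j) = finrank k ↥(𝒜 j) := by
  unfold hilbFn
  exact Nat.sub_add_cancel (Submodule.finrank_mono inf_le_right)

theorem length_ker_factor' (K : Ideal R) (hK : K.IsHomogeneous 𝒜) (t : ℕ) :
    Module.length R ↥(LinearMap.ker (Submodule.factor (sup_pow_succ_le k n K t))) =
      (hilbFn k n K t : ℕ∞) := by
  have h1 := length_ker_factor k n K hK t
  have h2 := hilbFn_add k n K t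
  rw [← h2, Nat.cast_add] at h1
  exact (ENat.add_left_injective_of_ne_top (ENat.natCast_ne_top _)) h1

/-- The length of `R/(K + 𝔪^t)` is the sum of the first `t` values of the Hilbert function. -/
theorem length_quotient_sup_pow (K : Ideal R) (hK : K.IsHomogeneous 𝒜) (t : ℕ) :
    Module.length R (R ⧸ (K ⊔ 𝔪 ^ t)) = ((∑ j ∈ Finset.range t, hilbFn k n K j : ℕ) : ℕ∞) := by
  induction t with
  | zero =>
    rw [pow_zero, Ideal.one_eq_top, sup_top_eq, Finset.range_zero, Finset.sum_empty, Nat.cast_zero,
      Module.length_eq_zero_iff]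
    exact Submodule.Quotient.subsingleton_iff.mpr rfl
  | succ t ih =>
    rw [length_quotient_eq_add (sup_pow_succ_le k n K t), ih, length_ker_factor' k n K hK t,
      Finset.sum_range_succ, Nat.cast_add, add_comm]

end poly

end Groth.Agent.H54
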