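import Mathlib
import Groth.Prelude.Def_Curv2

set_option autoImplicit false
universe u
open CategoryTheory AlgebraicGeometry Opposite CategoryTheory.Limits

namespace Groth.Agent.H54

theorem epi_of_shortExact_of_epi {C : Type*} [Category C] [Abelian C] (S : ShortComplex C)
    (hS : S.ShortExact) {A B P : C} (a' : A ⟶ S.X₁) [Epi a'] (b : B ⟶ S.X₂) [Epi (b ≫ S.g)]
    (c : P ⟶ S.X₂) (u : A ⟶ P) (hu : u ≫ c = a' ≫ S.f) (v : B ⟶ P) (hv : v ≫ c = b) : Epi c := by
  have hepi : Epi S.g := hS.epi_g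
  constructor
  intro Z q q' hqq'
  have h1 : (a' ≫ S.f) ≫ q = (a' ≫ S.f) ≫ q' := by
    rw [← hu, Category.assoc, Category.assoc, hqq']
  have h1' : S.f ≫ (q - q') = 0 := by
    rw [Preadditive.comp_sub, sub_eq_zero, ← cancel_epi a']
    simpa using h1
  have h3 : b ≫ q = b ≫ q' := by
    rw [← hv, Category.assoc, Category.assoc, hqq']
  have hdesc := hS.exact.g_desc (q - q') h1'
  have h4 : hS.exact.desc (q - q') h1' = 0 := by
    rw [← cancel_epi (b ≫ S.g), Category.assoc, hdesc, Preadditive.comp_sub, h3, sub_self,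
      comp_zero]
  rw [h4, comp_zero] at hdesc
  exact (sub_eq_zero.mp hdesc.symm)

section
variable {X : Scheme.{u}}

/-- global section from an element over `⊤` -/
noncomputable def sectionOfTop (M : X.Modules) (t : M.val.obj (op ⊤)) : M.sections :=
  PresheafOfModules.sectionsMk
    (fun U => M.val.map (homOfLE (le_top : U.unop ≤ ⊤)).op t)
    (fun U V f => by
      rw [← PresheafOfModules.map_comp_apply]
      rfl)

theorem sectionOfTop_eval (M : X.Modules) (s : M.sections) :
    sectionOfTop M (s.val (op ⊤)) = s := by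
  apply PresheafOfModules.sections_ext
  intro U
  exact PresheafOfModules.sections_property s _

theorem sectionsMap_sectionOfTop {M N : X.Modules} (g : M ⟶ N) (t : M.val.obj (op ⊤)) :
    SheafOfModules.sectionsMap g (sectionOfTop M t) = sectionOfTop N (g.val.app (op ⊤) t) := by
  apply PresheafOfModules.sections_ext
  intro U
  exact PresheafOfModules.naturality_apply g.val _ t

theorem isGloballyGenerated_of_shortExact
    (S : ShortComplex X.Modules) (hS : S.ShortExact)
    (hsurj : Function.Surjective (S.g.val.app (op ⊤)).hom)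
    (h1 : Curv2.IsGloballyGenerated S.X₁) (h3 : Curv2.IsGloballyGenerated S.X₃) :
    Curv2.IsGloballyGenerated S.X₂ := by
  obtain ⟨ι₁, p₁, hp₁⟩ := h1
  obtain ⟨ι₃, p₃, hp₃⟩ := h3
  -- lifts of the generating sections of X₃
  choose t ht using fun i : ι₃ => hsurj ((S.X₃.freeHomEquiv p₃ i).val (op ⊤))
  let s : ι₁ ⊕ ι₃ → S.X₂.sections :=
    Sum.elim (fun i => S.X₂.freeHomEquiv (p₁ ≫ S.f) i) (fun i => sectionOfTop S.X₂ (t i))
  let c : (SheafOfModules.free (ι₁ ⊕ ι₃) : X.Modules) ⟶ S.X₂ := S.X₂.freeHomEquiv.symm s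
  have hc : ∀ j, SheafOfModules.sectionsMap c (SheafOfModules.freeSection j) = s j := by
    intro j
    rw [← SheafOfModules.freeHomEquiv_apply]
    exact congrFun (S.X₂.freeHomEquiv.apply_symm_apply s) j
  -- the lift
  let l : (SheafOfModules.free ι₃ : X.Modules) ⟶ S.X₂ :=
    S.X₂.freeHomEquiv.symm (fun i => sectionOfTop S.X₂ (t i))
  have hl : l ≫ S.g = p₃ := by
    rw [SheafOfModules.freeHomEquiv_symm_comp]
    apply S.X₃.freeHomEquiv.injective
    rw [Equiv.apply_symm_apply]
    funext i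
    rw [sectionsMap_sectionOfTop]
    have := ht i
    rw [show (S.g.val.app (op ⊤)) (t i) = (S.g.val.app (op ⊤)).hom (t i) from rfl, this]
    exact sectionOfTop_eval _ _
  have hlepi : Epi (l ≫ S.g) := by rw [hl]; exact hp₃
  let u : (SheafOfModules.free ι₁ : X.Modules) ⟶ SheafOfModules.free (ι₁ ⊕ ι₃) :=
    (SheafOfModules.free (ι₁ ⊕ ι₃) : X.Modules).freeHomEquiv.symm
      (fun i => SheafOfModules.freeSection (Sum.inl i))
  let v : (SheafOfModules.free ι₃ : X.Modules) ⟶ SheafOfModules.free (ι₁ ⊕ ι₃) :=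
    (SheafOfModules.free (ι₁ ⊕ ι₃) : X.Modules).freeHomEquiv.symm
      (fun i => SheafOfModules.freeSection (Sum.inr i))
  have hu : u ≫ c = p₁ ≫ S.f := by
    rw [SheafOfModules.freeHomEquiv_symm_comp]
    apply S.X₂.freeHomEquiv.injective
    rw [Equiv.apply_symm_apply]
    funext i
    exact hc (Sum.inl i)
  have hv : v ≫ c = l := by
    rw [SheafOfModules.freeHomEquiv_symm_comp]
    congr 1
    funext i
    exact hc (Sum.inr i)
  exact ⟨ι₁ ⊕ ι₃, c, @epi_of_shortExact_of_epi _ _ _ S hS _ _ _ p₁ hp₁ l hlepi c u hu v hv⟩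

end

end Groth.Agent.H54
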