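import Mathlib.RingTheory.RegularLocalRing.Polynomial
import Mathlib.RingTheory.DiscreteValuationRing.TFAE

set_option autoImplicit false

namespace Groth.Agent.H54

open IsLocalRing Polynomial Ideal

/-- If the localization of `R` at the contraction of a prime `p` of `R[X]` is a regular ring, then
`R[X]` localized at `p` is a regular local ring. -/
theorem isRegularLocalRing_localization_polynomial {R : Type*} [CommRing R]
    (p : Ideal R[X]) [hp : p.IsPrime]
    [hreg : IsRegularRing (Localization.AtPrime (p.comap (C : R →+* R[X])))] :
    IsRegularLocalRing (Localization.AtPrime p) := by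
  let q := p.comap (C : R →+* R[X])
  let S := (Localization.AtPrime q)[X]
  let pc := Submonoid.map Polynomial.C.toMonoidHom q.primeCompl
  let _ : Algebra R[X] S := Polynomial.algebra R (Localization.AtPrime q)
  have : IsLocalization pc S := Polynomial.isLocalization _ _
  let pS := p.map (algebraMap R[X] S)
  have disj : Disjoint (pc : Set R[X]) (p : Set R[X]) := by
    simpa [pc, q] using! Set.disjoint_image_left.mpr
      (Set.disjoint_compl_left_iff_subset.mpr (fun _ a ↦ a))
  have : pS.IsPrime := IsLocalization.isPrime_of_isPrime_disjoint pc _ _ ‹_› disj
  have : IsLocalization.AtPrime (Localization.AtPrime pS) p := by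
    convert IsLocalization.isLocalization_isLocalization_atPrime_isLocalization pc
      (Localization.AtPrime pS) pS
    exact (IsLocalization.under_map_of_isPrime_disjoint pc _ ‹_› disj).symm
  have : IsRegularRing S := Polynomial.isRegularRing_of_isRegularRing _
  have : IsRegularLocalRing (Localization.AtPrime pS) := inferInstance
  exact IsRegularLocalRing.of_ringEquiv (R := Localization.AtPrime pS)
    (IsLocalization.algEquiv p.primeCompl
      (Localization.AtPrime pS) (Localization.AtPrime p)).toRingEquiv

/-- A regular local domain of Krull dimension one is a discrete valuation ring. -/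
theorem isDiscreteValuationRing_of_isRegularLocalRing_of_dim_one {R : Type*} [CommRing R]
    [IsDomain R] [IsRegularLocalRing R] (h : ringKrullDim R = 1) :
    IsDiscreteValuationRing R := by
  have hnf : ¬ IsField R := by
    intro hf
    rw [ringKrullDim_eq_zero_of_isField hf] at h
    exact zero_ne_one h
  have h1 : Module.finrank (ResidueField R) (CotangentSpace R) = 1 := by
    have := (IsRegularLocalRing.iff_finrank_cotangentSpace R).mp inferInstance
    rw [h] at this
    exact_mod_cast this
  exact ((IsDiscreteValuationRing.TFAE R hnf).out 0 5).mpr h1

end Groth.Agent.H54
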