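import Mathlib

/-!
# Noetherian sober spaces of dimension at most one (helper54)

Generic points, the canonical pairwise disjoint open neighbourhoods of the generic points, and the
fact that an open set containing the relevant generic points misses only finitely many points, all
of them closed.
-/

set_option autoImplicit false
universe u
open Topology TopologicalSpace

namespace Groth.Agent.H54.OneDimTop

variable {α : Type u} [TopologicalSpace α]

/-- every point is a specialization of a generic point of an irreducible component -/
theorem exists_generic_specializes [QuasiSober α] (x : α) : ∃ η ∈ genericPoints α, η ⤳ x := by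
  let C : irreducibleComponents α := ⟨irreducibleComponent x,
    irreducibleComponent_mem_irreducibleComponents x⟩
  refine ⟨(genericPoints.ofComponent C).1, (genericPoints.ofComponent C).2, ?_⟩
  have h := genericPoints.isGenericPoint_ofComponent C
  rw [specializes_iff_mem_closure, h.def]
  exact mem_irreducibleComponent

/-- nothing specializes properly to a generic point -/
theorem eq_of_specializes_generic [T0Space α] {η y : α} (hη : η ∈ genericPoints α)
    (h : y ⤳ η) : y = η := by
  have h1 : closure {η} ⊆ closure {y} := h.closure_subset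
  have h2 : closure {y} ⊆ closure {η} :=
    hη.2 (isIrreducible_singleton.closure) h1
  have h3 : η ⤳ y := by
    rw [specializes_iff_closure_subset]
    exact h2
  exact ((h.antisymm h3).eq)

variable (α) in
/-- the complement of the closures of the generic points other than `η` -/
def genNhd (η : α) : Set α := (⋃ η' ∈ genericPoints α \ {η}, closure {η'})ᶜ

section noeth

variable [QuasiSober α] [T0Space α] [NoetherianSpace α]

omit [QuasiSober α] in
theorem finite_genericPoints : (genericPoints α).Finite :=
  genericPoints.finite NoetherianSpace.finite_irreducibleComponents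

omit [QuasiSober α] in
theorem isOpen_genNhd (η : α) : IsOpen (genNhd α η) := by
  rw [genNhd, isOpen_compl_iff]
  exact (finite_genericPoints.subset Set.sdiff_subset).isClosed_biUnion (fun _ _ => isClosed_closure)

omit [QuasiSober α] [NoetherianSpace α] in
theorem mem_genNhd {η : α} (hη : η ∈ genericPoints α) : η ∈ genNhd α η := by
  rw [genNhd, Set.mem_compl_iff, Set.mem_iUnion₂]
  rintro ⟨η', ⟨_, hne⟩, hmem⟩
  exact hne (eq_of_specializes_generic hη (specializes_iff_mem_closure.mpr hmem))

omit [T0Space α] [NoetherianSpace α] in
theorem specializes_of_mem_genNhd {η x : α} (hx : x ∈ genNhd α η) : η ⤳ x := by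
  obtain ⟨η', hη', hsp⟩ := exists_generic_specializes x
  by_cases h : η' = η
  · exact h ▸ hsp
  · exfalso
    apply hx
    exact Set.mem_iUnion₂.mpr ⟨η', ⟨hη', h⟩, specializes_iff_mem_closure.mp hsp⟩

omit [T0Space α] [NoetherianSpace α] in
theorem generic_of_mem_genNhd {η x : α} (hx : x ∈ genNhd α η) : η ∈ genericPoints α := by
  obtain ⟨η', hη', hsp⟩ := exists_generic_specializes x
  by_cases h : η' = η
  · exact h ▸ hη'
  · exfalso
    apply hx
    exact Set.mem_iUnion₂.mpr ⟨η', ⟨hη', h⟩, specializes_iff_mem_closure.mp hsp⟩

omit [T0Space α] [NoetherianSpace α] in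
theorem genNhd_disjoint {η η' : α} (h : η ≠ η') : Disjoint (genNhd α η) (genNhd α η') := by
  rw [Set.disjoint_left]
  intro x hx hx'
  apply hx'
  exact Set.mem_iUnion₂.mpr ⟨η, ⟨generic_of_mem_genNhd hx, h⟩,
    specializes_iff_mem_closure.mp (specializes_of_mem_genNhd hx)⟩

/-- a dense open set contains all generic points -/
theorem generic_mem_of_dense {V : Set α} (hV : IsOpen V) (hd : Dense V) {η : α}
    (hη : η ∈ genericPoints α) : η ∈ V := by
  obtain ⟨x, hx, hxV⟩ := hd.inter_open_nonempty (genNhd α η) (isOpen_genNhd η) ⟨η, mem_genNhd hη⟩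
  exact (specializes_of_mem_genNhd hx).mem_open hV hxV

omit [QuasiSober α] [NoetherianSpace α] in
/-- in dimension at most one, a point with a proper generization is closed -/
theorem isClosed_singleton_of_specializes (hdim : topologicalKrullDim α ≤ 1) {η y : α}
    (h : η ⤳ y) (hne : η ≠ y) (hη : η ∈ genericPoints α) : IsClosed ({y} : Set α) := by
  let Zy : IrreducibleCloseds α := ⟨closure {y}, isIrreducible_singleton.closure, isClosed_closure⟩
  let Zη : IrreducibleCloseds α := ⟨closure {η}, isIrreducible_singleton.closure, isClosed_closure⟩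
  have hlt : Zy < Zη := by
    refine lt_of_le_of_ne ?_ ?_
    · exact (show closure {y} ⊆ closure {η} from h.closure_subset)
    · intro heq
      have : closure {y} = closure {η} := congrArg (fun Z : IrreducibleCloseds α => (Z : Set α)) heq
      apply hne
      have h' : y ⤳ η := by
        rw [specializes_iff_closure_subset, this]
      exact (eq_of_specializes_generic hη h').symm
  have hmin : IsMin Zy := by
    rcases Order.krullDim_le_one_iff.mp hdim Zy with h1 | h1
    · exact h1
    · exact absurd hlt h1.not_lt
  have hcl : closure {y} ⊆ {y} := by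
    intro z hz
    let Zz : IrreducibleCloseds α :=
      ⟨closure {z}, isIrreducible_singleton.closure, isClosed_closure⟩
    have hzy : Zz ≤ Zy := by
      show closure {z} ⊆ closure {y}
      exact (specializes_iff_mem_closure.mpr hz).closure_subset
    have hyz : Zy ≤ Zz := hmin hzy
    have h1 : y ⤳ z := specializes_iff_mem_closure.mpr hz
    have h2 : z ⤳ y := by
      rw [specializes_iff_closure_subset]
      exact hyz
    exact (h2.antisymm h1).eq
  have : closure {y} = {y} := Set.Subset.antisymm hcl subset_closure
  rw [← this]
  exact isClosed_closure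

/-- **Key lemma.**  If every generic point lying in the open set `W` lies in the open set `G`,
then `W \ G` is a finite set of closed points. -/
theorem finite_diff_of_generic_mem (hdim : topologicalKrullDim α ≤ 1) {W G : Set α}
    (hW : IsOpen W) (hG : IsOpen G) (h : ∀ η ∈ genericPoints α, η ∈ W → η ∈ G) :
    (W \ G).Finite ∧ ∀ y ∈ W \ G, IsClosed ({y} : Set α) := by
  have hclosed : ∀ y ∈ W \ G, IsClosed ({y} : Set α) := by
    rintro y ⟨hyW, hyG⟩
    obtain ⟨η, hη, hsp⟩ := exists_generic_specializes y
    have hηG : η ∈ G := h η hη (hsp.mem_open hW hyW)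
    have hne : η ≠ y := fun he => hyG (he ▸ hηG)
    exact isClosed_singleton_of_specializes hdim hsp hne hη
  refine ⟨?_, hclosed⟩
  obtain ⟨S, hSf, hSc, hSi, hSU⟩ :=
    NoetherianSpace.exists_finite_set_isClosed_irreducible (isClosed_closure (s := W \ G))
  have hCG : closure (W \ G) ⊆ Gᶜ :=
    closure_minimal (fun x hx => hx.2) (isClosed_compl_iff.mpr hG)
  let z : S → α := fun t => (hSi t.1 t.2).genericPoint
  have hz : ∀ t : S, IsGenericPoint (z t) t.1 := fun t =>
    (hSi t.1 t.2).isGenericPoint_genericPoint (hSc t.1 t.2)
  haveI := hSf.to_subtype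
  refine (Set.finite_range z).subset ?_
  intro y hy
  have hyC : y ∈ closure (W \ G) := subset_closure hy
  rw [hSU] at hyC
  obtain ⟨t, htS, hyt⟩ := hyC
  have hzt := hz ⟨t, htS⟩
  have hsp : z ⟨t, htS⟩ ⤳ y := by
    rw [specializes_iff_mem_closure, hzt.def]
    exact hyt
  have hzW : z ⟨t, htS⟩ ∈ W := hsp.mem_open hW hy.1
  have hzC : z ⟨t, htS⟩ ∈ closure (W \ G) := by
    rw [hSU]
    exact ⟨t, htS, hzt.mem⟩
  have hzcl : IsClosed ({z ⟨t, htS⟩} : Set α) := hclosed _ ⟨hzW, hCG hzC⟩
  have : y ∈ ({z ⟨t, htS⟩} : Set α) := by
    have h1 := specializes_iff_mem_closure.mp hsp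
    rwa [hzcl.closure_eq] at h1
  exact ⟨⟨t, htS⟩, (Set.mem_singleton_iff.mp this).symm⟩

end noeth

end Groth.Agent.H54.OneDimTop
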