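import Mathlib
import Groth.Agent.H15.StalkLoc
import Groth.Agent.H20.DVRFlat
import Groth.Agent.H24.LiftChains
import Groth.Agent.H54.PolyReg

set_option autoImplicit false
universe u
open AlgebraicGeometry CategoryTheory TopologicalSpace Order

namespace Groth.Agent.H54.FD

open Groth.Agent.H15.StalkLoc

section gen
variable {X : Scheme.{u}}

/-- every prime of the local ring is the prime of a generization. -/
theorem exists_genPrime_eq (x : X) (𝔮 : Ideal (X.presheaf.stalk x)) [h𝔮 : 𝔮.IsPrime] :
    ∃ (x' : X) (h : x' ⤳ x), genPrime h = 𝔮 := by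
  let P : PrimeSpectrum (X.presheaf.stalk x) := ⟨𝔮, h𝔮⟩
  have h : X.fromSpecStalk x P ⤳ x := by
    have : X.fromSpecStalk x P ∈ Set.range (X.fromSpecStalk x) := ⟨P, rfl⟩
    rwa [Scheme.range_fromSpecStalk] at this
  refine ⟨X.fromSpecStalk x P, h, ?_⟩
  have h1 := Scheme.fromSpecStalk_closedPoint (X := X) (x := X.fromSpecStalk x P)
  rw [← Scheme.SpecMap_stalkSpecializes_fromSpecStalk h] at h1
  have h2 : X.fromSpecStalk x (Spec.map (X.presheaf.stalkSpecializes h)
      (IsLocalRing.closedPoint _)) = X.fromSpecStalk x P := h1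
  have h3 := (X.fromSpecStalk x).isEmbedding.injective h2
  exact congrArg PrimeSpectrum.asIdeal h3

theorem not_isUnit_stalkSpecializes_of_stalkMap {Y : Scheme.{u}} (f : X ⟶ Y) {x x' : X}
    (h : x' ⤳ x) (b : Y.presheaf.stalk (f x))
    (hb : ¬ IsUnit ((X.presheaf.stalkSpecializes h).hom ((f.stalkMap x).hom b))) :
    ¬ IsUnit ((Y.presheaf.stalkSpecializes (f.base.hom.map_specializes h)).hom b) := by
  intro hu
  apply hb
  have := Scheme.Hom.stalkSpecializes_stalkMap_apply f x' x h b
  rw [← this]
  exact hu.map _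

theorem isUnit_stalkSpecializes_genericPoint {Y : Scheme.{u}} [IsIntegral Y] {y z : Y} (hz : z ⤳ y)
    (hzη : z = genericPoint Y) (r : Y.presheaf.stalk y) (hr : r ≠ 0) :
    IsUnit ((Y.presheaf.stalkSpecializes hz).hom r) := by
  subst hzη
  have : (Y.presheaf.stalkSpecializes hz).hom r =
      algebraMap (Y.presheaf.stalk y) Y.functionField r := rfl
  rw [this]
  exact IsUnit.mk0 _ ((map_ne_zero_iff _ (IsFractionRing.injective _ _)).mpr hr)

end gen

section dvr
variable {Y : Scheme.{u}} [IsIntegral Y]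

theorem coheight_le_one_of_topologicalKrullDim_le (hdim : topologicalKrullDim Y ≤ 1) (y : Y) :
    coheight y ≤ 1 := by
  have h1 : ((coheight y : ℕ∞) : WithBot ℕ∞) ≤ Order.krullDim Y := Order.coheight_le_krullDim y
  have h2 : topologicalKrullDim Y = Order.krullDim Y :=
    Groth.Agent.H24.topologicalKrullDim_eq_krullDim_specializationOrder Y
  rw [← h2] at h1
  have h3 := h1.trans hdim
  exact_mod_cast h3

theorem eq_genericPoint_of_coheight_eq_zero (y : Y) (h : coheight y = 0) : y = genericPoint Y := by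
  rw [Order.coheight_eq_zero] at h
  have h1 : y ≤ genericPoint Y := genericPoint_specializes y
  have h2 : genericPoint Y ≤ y := h h1
  have h3 : y ⤳ genericPoint Y := h2
  exact (h3.antisymm (genericPoint_specializes y)).eq

theorem isDiscreteValuationRing_stalk (hreg : ∀ y : Y, IsRegularLocalRing (Y.presheaf.stalk y))
    (hdim : topologicalKrullDim Y ≤ 1) (y : Y) (hy : y ≠ genericPoint Y) :
    IsDiscreteValuationRing (Y.presheaf.stalk y) := by
  have h1 := coheight_le_one_of_topologicalKrullDim_le hdim y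
  have h0 : coheight y ≠ 0 := fun h => hy (eq_genericPoint_of_coheight_eq_zero y h)
  have h2 : coheight y = 1 := le_antisymm h1 (Order.one_le_iff_ne_zero.mpr h0)
  have h3 : ringKrullDim (Y.presheaf.stalk y) = 1 := by
    rw [ringKrullDim_stalk_eq_coheight, h2]
    rfl
  haveI := hreg y
  exact Groth.Agent.H54.isDiscreteValuationRing_of_isRegularLocalRing_of_dim_one h3

theorem exists_mem_maximalIdeal_ne_zero (y : Y) (hy : y ≠ genericPoint Y) :
    ∃ t ∈ IsLocalRing.maximalIdeal (Y.presheaf.stalk y), t ≠ 0 := by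
  by_contra hcon
  push Not at hcon
  have hbot : IsLocalRing.maximalIdeal (Y.presheaf.stalk y) = ⊥ := by
    rw [eq_bot_iff]
    intro t ht
    exact (Submodule.mem_bot _).mpr (hcon t ht)
  have hf : IsField (Y.presheaf.stalk y) := IsLocalRing.isField_iff_maximalIdeal_eq.mpr hbot
  have h3 : ringKrullDim (Y.presheaf.stalk y) = 0 := ringKrullDim_eq_zero_of_isField hf
  rw [ringKrullDim_stalk_eq_coheight] at h3
  have h4 : coheight y = 0 := by exact_mod_cast h3
  exact hy (eq_genericPoint_of_coheight_eq_zero y h4)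

end dvr

section flat
variable {X Y : Scheme.{u}} (f : X ⟶ Y)

theorem flat_stalkMap_of_regular (x : X) [IsDomain (Y.presheaf.stalk (f x))]
    [IsDiscreteValuationRing (Y.presheaf.stalk (f x))] (π : Y.presheaf.stalk (f x))
    (hπ : Irreducible π)
    (hreg : ∀ a : X.presheaf.stalk x, (f.stalkMap x).hom π * a = 0 → a = 0) :
    (f.stalkMap x).hom.Flat := by
  algebraize [(f.stalkMap x).hom]
  refine Groth.Agent.H20.flat_of_isSMulRegular_irreducible hπ ?_
  intro a b hab
  have h1 : (f.stalkMap x).hom π * (a - b) = 0 := by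
    have h2 : (f.stalkMap x).hom π * a = (f.stalkMap x).hom π * b := hab
    rw [mul_sub, h2, sub_self]
  exact sub_eq_zero.mp (hreg _ h1)

theorem flat_of_isField {R M : Type*} [CommRing R] [AddCommGroup M] [Module R M] (h : IsField R) :
    Module.Flat R M := by
  letI := h.toField
  infer_instance

theorem flat_stalkMap_of_isField (x : X) (hf : IsField (Y.presheaf.stalk (f x))) :
    (f.stalkMap x).hom.Flat := by
  algebraize [(f.stalkMap x).hom]
  exact flat_of_isField hf

theorem mem_nonZeroDivisors_of_flat (x : X) [IsDomain (Y.presheaf.stalk (f x))]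
    (hfl : (f.stalkMap x).hom.Flat) (t : Y.presheaf.stalk (f x)) (ht : t ≠ 0) :
    (f.stalkMap x).hom t ∈ nonZeroDivisors (X.presheaf.stalk x) := by
  algebraize [(f.stalkMap x).hom]
  have hfl' : Module.Flat (Y.presheaf.stalk (f x)) (X.presheaf.stalk x) := hfl
  have h1 : IsSMulRegular (X.presheaf.stalk x) t :=
    Module.Flat.isSMulRegular_of_nonZeroDivisors (mem_nonZeroDivisors_of_ne_zero ht)
  rw [mem_nonZeroDivisors_iff_right]
  intro a ha
  apply h1
  change t • a = t • 0
  rw [smul_zero, Algebra.smul_def, mul_comm]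
  exact ha

end flat

end Groth.Agent.H54.FD
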