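import Mathlib
import Groth.Agent.H54.FlatDVRStalk
import Groth.Agent.H8.StructAss
import Groth.Agent.H19.AssPoints
import Groth.Agent.H20.BiratPullback

set_option autoImplicit false
universe u
open AlgebraicGeometry CategoryTheory TopologicalSpace Order

namespace Groth.Agent.H54.FD

open Groth.Agent.H15.StalkLoc

section main
variable {X Y : Scheme.{u}} (f : X ⟶ Y) [IsIntegral Y]

theorem isField_stalk_of_eq_genericPoint (y : Y) (hy : y = genericPoint Y) :
    IsField (Y.presheaf.stalk y) := by
  subst hy
  exact Field.toIsField (Y.functionField)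

/-- flatness over a Dedekind scheme in terms of associated points. -/
theorem flat_iff_assoc (hreg : ∀ y : Y, IsRegularLocalRing (Y.presheaf.stalk y))
    (hdim : topologicalKrullDim Y ≤ 1) [IsLocallyNoetherian X] :
    Flat f ↔ ∀ x : X, IsAssociatedPrime (IsLocalRing.maximalIdeal (X.presheaf.stalk x))
      (X.presheaf.stalk x) → f x = genericPoint Y := by
  constructor
  · intro hfl x hass
    by_contra hne
    obtain ⟨t, htm, ht0⟩ := exists_mem_maximalIdeal_ne_zero (f x) hne
    have h1 := mem_nonZeroDivisors_of_flat f x (Flat.stalkMap f x) t ht0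
    have h2 := Groth.Agent.H8.isUnit_of_mem_nonZeroDivisors_of_isAssociatedPrime hass h1
    have h3 : IsUnit t := (isUnit_map_iff (f.stalkMap x).hom t).mp h2
    exact ((IsLocalRing.mem_maximalIdeal _).mp htm) h3
  · intro H
    apply Flat.of_stalkMap
    intro x
    by_cases hy : f x = genericPoint Y
    · exact flat_stalkMap_of_isField f x (isField_stalk_of_eq_genericPoint (f x) hy)
    · haveI := isDiscreteValuationRing_stalk hreg hdim (f x) hy
      obtain ⟨π, hπ⟩ := IsDiscreteValuationRing.exists_irreducible (Y.presheaf.stalk (f x))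
      apply flat_stalkMap_of_regular f x π hπ
      intro a ha
      by_contra ha0
      have hmem : (f.stalkMap x).hom π ∈
          ⋃ p ∈ associatedPrimes (X.presheaf.stalk x) (X.presheaf.stalk x), (p : Set _) := by
        rw [biUnion_associatedPrimes_eq_zero_divisors]
        exact ⟨a, ha0, by rw [smul_eq_mul]; exact ha⟩
      obtain ⟨𝔮, h𝔮ass, hπ𝔮⟩ := Set.mem_iUnion₂.mp hmem
      haveI : 𝔮.IsPrime := h𝔮ass.isPrime
      obtain ⟨x', h, hgen⟩ := exists_genPrime_eq x 𝔮
      subst hgen
      have hass' : IsAssociatedPrime (IsLocalRing.maximalIdeal (X.presheaf.stalk x'))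
          (X.presheaf.stalk x') := by
        letI := (X.presheaf.stalkSpecializes h).hom.toAlgebra
        haveI : IsLocalization.AtPrime (X.presheaf.stalk x') (genPrime h) :=
          isLocalization_stalkSpecializes h
        exact (Groth.Agent.H19.AssPoints.maximalIdeal_isAssociatedPrime_iff (genPrime h)
          (X.presheaf.stalk x')).mpr h𝔮ass
      have hη := H x' hass'
      have hnu : ¬ IsUnit ((X.presheaf.stalkSpecializes h).hom ((f.stalkMap x).hom π)) :=
        (mem_genPrime_iff h _).mp hπ𝔮
      have hnu' := not_isUnit_stalkSpecializes_of_stalkMap f h π hnu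
      exact hnu' (isUnit_stalkSpecializes_genericPoint _ hη π hπ.ne_zero)

/-- flatness over a Dedekind scheme for a reduced source: every component dominates. -/
theorem flat_iff_dominant (hreg : ∀ y : Y, IsRegularLocalRing (Y.presheaf.stalk y))
    (hdim : topologicalKrullDim Y ≤ 1) [IsReduced X] :
    Flat f ↔ ∀ Z ∈ irreducibleComponents (X : Type u), Dense (f.base '' Z) := by
  constructor
  · intro hfl Z hZ
    obtain ⟨ξ, hξ⟩ := QuasiSober.sober hZ.1 (isClosed_of_mem_irreducibleComponents Z hZ)
    have hξcl : closure {ξ} ∈ irreducibleComponents (X : Type u) := by rw [hξ.def]; exact hZ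
    have hfξ : f ξ = genericPoint Y := by
      by_contra hne
      obtain ⟨t, htm, ht0⟩ := exists_mem_maximalIdeal_ne_zero (f ξ) hne
      have h1 := mem_nonZeroDivisors_of_flat f ξ (Flat.stalkMap f ξ) t ht0
      have hfield := isField_stalk_of_closure_mem_irreducibleComponents X ξ hξcl
      have hbot : IsLocalRing.maximalIdeal (X.presheaf.stalk ξ) = ⊥ :=
        IsLocalRing.isField_iff_maximalIdeal_eq.mp hfield
      have h2 : (f.stalkMap ξ).hom t ∈ IsLocalRing.maximalIdeal (X.presheaf.stalk ξ) := by
        rw [IsLocalRing.mem_maximalIdeal, mem_nonunits_iff] at htm ⊢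
        exact fun hu => htm ((isUnit_map_iff (f.stalkMap ξ).hom t).mp hu)
      rw [hbot, Ideal.mem_bot] at h2
      rw [h2] at h1
      exact zero_notMem_nonZeroDivisors h1
    rw [dense_iff_closure_eq, ← Set.univ_subset_iff, ← (genericPoint_spec Y).def]
    apply closure_mono
    rw [Set.singleton_subset_iff]
    exact ⟨ξ, hξ.mem, hfξ⟩
  · intro H
    apply Flat.of_stalkMap
    intro x
    by_cases hy : f x = genericPoint Y
    · exact flat_stalkMap_of_isField f x (isField_stalk_of_eq_genericPoint (f x) hy)
    · haveI := isDiscreteValuationRing_stalk hreg hdim (f x) hy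
      obtain ⟨π, hπ⟩ := IsDiscreteValuationRing.exists_irreducible (Y.presheaf.stalk (f x))
      apply flat_stalkMap_of_regular f x π hπ
      intro a ha
      by_contra ha0
      -- a prime not containing `a`
      have hnil : a ∉ nilradical (X.presheaf.stalk x) := by
        rw [nilradical_eq_zero, Ideal.zero_eq_bot, Ideal.mem_bot]
        exact ha0
      rw [nilradical_eq_sInf, Ideal.mem_sInf] at hnil
      push Not at hnil
      obtain ⟨𝔮, h𝔮, ha𝔮⟩ := hnil
      haveI : 𝔮.IsPrime := h𝔮
      obtain ⟨x', h, hgen⟩ := exists_genPrime_eq x 𝔮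
      obtain ⟨x₂, hx₂, hsp⟩ := Groth.Agent.H20.exists_generic_specializes x'
      have h₂ : x₂ ⤳ x := hsp.trans h
      have ha₂ : a ∉ genPrime h₂ := by
        intro hmem
        have h1 : ¬ IsUnit ((X.presheaf.stalkSpecializes h₂).hom a) := (mem_genPrime_iff h₂ a).mp hmem
        have h2 : IsUnit ((X.presheaf.stalkSpecializes h).hom a) := by
          by_contra hnu
          exact ha𝔮 (hgen ▸ (mem_genPrime_iff h a).mpr hnu)
        apply h1
        have h3 : X.presheaf.stalkSpecializes h ≫ X.presheaf.stalkSpecializes hsp =
            X.presheaf.stalkSpecializes h₂ := TopCat.Presheaf.stalkSpecializes_comp _ hsp h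
        rw [← h3]
        exact h2.map (X.presheaf.stalkSpecializes hsp).hom
      have hπ₂ : (f.stalkMap x).hom π ∈ genPrime h₂ := by
        have h0 : (f.stalkMap x).hom π * a ∈ genPrime h₂ := by rw [ha]; exact Submodule.zero_mem _
        exact ((inferInstance : (genPrime h₂).IsPrime).mem_or_mem h0).resolve_right ha₂
      have hnu : ¬ IsUnit ((X.presheaf.stalkSpecializes h₂).hom ((f.stalkMap x).hom π)) :=
        (mem_genPrime_iff h₂ _).mp hπ₂
      have hnu' := not_isUnit_stalkSpecializes_of_stalkMap f h₂ π hnu
      have hη : f x₂ = genericPoint Y := by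
        have hd := H _ hx₂
        have hsub : f.base '' closure {x₂} ⊆ closure {f x₂} := by
          refine (image_closure_subset_closure_image f.continuous).trans ?_
          rw [Set.image_singleton]
        have hgen₂ : IsGenericPoint (f x₂) (Set.univ : Set Y) := by
          rw [isGenericPoint_def, ← Set.univ_subset_iff, ← hd.closure_eq]
          exact closure_minimal hsub isClosed_closure
        exact hgen₂.eq (genericPoint_spec Y)
      exact hnu' (isUnit_stalkSpecializes_genericPoint _ hη π hπ.ne_zero)

end main

end Groth.Agent.H54.FD
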