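import Mathlib
import Groth.Agent.H54.FlatDedekind
import Groth.Agent.H9.IrredComp
import Groth.Agent.Lead.RegularLocal

set_option autoImplicit false
universe u
open AlgebraicGeometry CategoryTheory TopologicalSpace Order Limits

namespace Groth.Agent.H54.UOD

open Groth.Agent.H15.StalkLoc Groth.Agent.H54.FD

/-! ### universal openness descends along a surjection on the source -/

theorem universallyOpen_of_comp_surjective {X' X Y : Scheme.{u}} (g : X' ⟶ X) [Surjective g]
    (f : X ⟶ Y) [h : UniversallyOpen (g ≫ f)] : UniversallyOpen f := by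
  constructor
  intro P Y' i₁ i₂ f' hsq V hV
  have hbig : IsPullback (pullback.fst i₁ g ≫ f') (pullback.snd i₁ g) i₂ (g ≫ f) :=
    (IsPullback.of_hasPullback i₁ g).paste_horiz hsq
  have hopen : IsOpenMap (pullback.fst i₁ g ≫ f') := h.universally_isOpenMap _ _ _ hbig
  have hsurj : Function.Surjective (pullback.fst i₁ g) := (pullback.fst i₁ g).surjective
  have himg : ⇑f' '' V = ⇑(pullback.fst i₁ g ≫ f') '' (⇑(pullback.fst i₁ g) ⁻¹' V) := by
    ext y
    constructor
    · rintro ⟨x, hxV, rfl⟩
      obtain ⟨p, rfl⟩ := hsurj x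
      exact ⟨p, hxV, by simp⟩
    · rintro ⟨p, hpV, rfl⟩
      exact ⟨pullback.fst i₁ g p, hpV, by simp⟩
  rw [himg]
  exact hopen _ (hV.preimage (pullback.fst i₁ g).continuous)

/-! ### maximal points -/

theorem closure_mem_irreducibleComponents_iff {T : Type*} [TopologicalSpace T] [T0Space T]
    [QuasiSober T] (x : T) :
    closure {x} ∈ irreducibleComponents T ↔ ∀ x' : T, x' ⤳ x → x' = x := by
  constructor
  · intro hx x' h
    exact Groth.Agent.H20.eq_of_specializes_of_mem_irreducibleComponents hx h
  · intro H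
    obtain ⟨x₂, hx₂, hsp⟩ := Groth.Agent.H20.exists_generic_specializes x
    rw [← H x₂ hsp]
    exact hx₂

theorem closure_mem_irreducibleComponents_of_isOpenEmbedding {S T : Type*} [TopologicalSpace S]
    [TopologicalSpace T] [T0Space S] [QuasiSober S] [T0Space T] [QuasiSober T] {j : S → T}
    (hj : Topology.IsOpenEmbedding j) (s : S) (hs : closure {s} ∈ irreducibleComponents S) :
    closure {j s} ∈ irreducibleComponents T := by
  rw [closure_mem_irreducibleComponents_iff] at hs ⊢
  intro x' hx'
  have hmem : x' ∈ Set.range j := hx'.mem_open hj.isOpen_range ⟨s, rfl⟩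
  obtain ⟨s', rfl⟩ := hmem
  rw [hj.isInducing.specializes_iff] at hx'
  rw [hs s' hx']

/-! ### local finiteness of irreducible components -/

theorem locallyFinite_irreducibleComponents (X : Scheme.{u}) [IsLocallyNoetherian X] :
    LocallyFinite (fun T : irreducibleComponents (X : Type u) => (T : Set X)) := by
  intro x
  obtain ⟨U, hU, hxU, -⟩ := exists_isAffineOpen_mem_and_subset (U := ⊤) (x := x) (by simp)
  have hN : NoetherianSpace ((U : Set X) : Type u) := by
    have : IsNoetherianRing Γ(X, U) := IsLocallyNoetherian.component_noetherian ⟨U, hU⟩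
    exact noetherianSpace_of_isAffineOpen U hU
  refine ⟨(U : Set X), U.isOpen.mem_nhds hxU, ?_⟩
  exact Groth.Agent.H9.finite_irreducibleComponents_meeting (U : Set X) U.isOpen

theorem isClosed_sUnion_irreducibleComponents (X : Scheme.{u}) [IsLocallyNoetherian X]
    (P : Set X → Prop) :
    IsClosed (⋃₀ {Z | Z ∈ irreducibleComponents (X : Type u) ∧ P Z}) := by
  have h1 := locallyFinite_irreducibleComponents X
  have h2 : LocallyFinite (fun T : {T : irreducibleComponents (X : Type u) // P T.1} =>
      ((T.1 : Set X))) := h1.comp_injective Subtype.val_injective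
  have h3 := h2.isClosed_iUnion (fun T => isClosed_of_mem_irreducibleComponents _ T.1.2)
  convert h3 using 1
  ext x
  simp only [Set.mem_sUnion, Set.mem_ofPred_eq, Set.mem_iUnion]
  constructor
  · rintro ⟨Z, ⟨hZ, hP⟩, hx⟩
    exact ⟨⟨⟨Z, hZ⟩, hP⟩, hx⟩
  · rintro ⟨⟨⟨Z, hZ⟩, hP⟩, hx⟩
    exact ⟨Z, ⟨hZ, hP⟩, hx⟩

/-! ### the reduced subscheme -/

theorem isReduced_nilradical_subscheme (X : Scheme.{u}) : IsReduced X.nilradical.subscheme := by
  have (U : X.affineOpens) : IsReduced (X.nilradical.subschemeCover.openCover.X U) := by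
    show IsReduced (Spec (CommRingCat.of (Γ(X, U) ⧸ X.nilradical.ideal U)))
    have : _root_.IsReduced (Γ(X, U) ⧸ X.nilradical.ideal U) := by
      rw [← Ideal.isRadical_iff_quotient_reduced]
      show (Ideal.radical _).IsRadical
      exact Ideal.radical_isRadical _
    infer_instance
  exact IsReduced.of_openCover _ X.nilradical.subschemeCover.openCover

theorem surjective_nilradical_subschemeι (X : Scheme.{u}) :
    Function.Surjective X.nilradical.subschemeι := by
  rw [← Set.range_eq_univ, Scheme.IdealSheafData.range_subschemeι]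
  rfl

/-! ### flatness over a Dedekind base, pointwise version -/

section main
variable {X Y : Scheme.{u}} (f : X ⟶ Y) [IsIntegral Y]

theorem eq_genericPoint_of_dense_image_closure (x : X) (hd : Dense (f.base '' closure {x})) :
    f x = genericPoint Y := by
  have hsub : f.base '' closure {x} ⊆ closure {f x} := by
    refine (image_closure_subset_closure_image f.continuous).trans ?_
    rw [Set.image_singleton]
  have hgen : IsGenericPoint (f x) (Set.univ : Set Y) := by
    rw [isGenericPoint_def, ← Set.univ_subset_iff, ← hd.closure_eq]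
    exact closure_minimal hsub isClosed_closure
  exact hgen.eq (genericPoint_spec Y)

/-- flatness over a Dedekind scheme for a reduced source: every maximal point maps to the
generic point. -/
theorem flat_of_generic_points (hreg : ∀ y : Y, IsRegularLocalRing (Y.presheaf.stalk y))
    (hdim : topologicalKrullDim Y ≤ 1) [IsReduced X]
    (H : ∀ x₂ : X, closure {x₂} ∈ irreducibleComponents (X : Type u) → f x₂ = genericPoint Y) :
    Flat f := by
  apply Flat.of_stalkMap
  intro x
  by_cases hy : f x = genericPoint Y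
  · exact flat_stalkMap_of_isField f x (isField_stalk_of_eq_genericPoint (f x) hy)
  · haveI := isDiscreteValuationRing_stalk hreg hdim (f x) hy
    obtain ⟨π, hπ⟩ := IsDiscreteValuationRing.exists_irreducible (Y.presheaf.stalk (f x))
    apply flat_stalkMap_of_regular f x π hπ
    intro a ha
    by_contra ha0
    have hnil : a ∉ nilradical (X.presheaf.stalk x) := by
      rw [nilradical_eq_zero, Ideal.zero_eq_bot, Ideal.mem_bot]
      exact ha0
    rw [nilradical_eq_sInf, Ideal.mem_sInf] at hnil
    push Not at hnil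
    obtain ⟨𝔮, h𝔮, ha𝔮⟩ := hnil
    haveI : 𝔮.IsPrime := h𝔮
    obtain ⟨x', h, hgen⟩ := exists_genPrime_eq x 𝔮
    obtain ⟨x₂, hx₂, hsp⟩ := Groth.Agent.H20.exists_generic_specializes x'
    have h₂ : x₂ ⤳ x := hsp.trans h
    have ha₂ : a ∉ genPrime h₂ := by
      intro hmem
      have h1 : ¬ IsUnit ((X.presheaf.stalkSpecializes h₂).hom a) := (mem_genPrime_iff h₂ a).mp hmem
      have h2 : IsUnit ((X.presheaf.stalkSpecializes h).hom a) := by
        by_contra hnu
        exact ha𝔮 (hgen ▸ (mem_genPrime_iff h a).mpr hnu)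
      apply h1
      have h3 : X.presheaf.stalkSpecializes h ≫ X.presheaf.stalkSpecializes hsp =
          X.presheaf.stalkSpecializes h₂ := TopCat.Presheaf.stalkSpecializes_comp _ hsp h
      rw [← h3]
      exact h2.map (X.presheaf.stalkSpecializes hsp).hom
    have hπ₂ : (f.stalkMap x).hom π ∈ genPrime h₂ := by
      have h0 : (f.stalkMap x).hom π * a ∈ genPrime h₂ := by rw [ha]; exact Submodule.zero_mem _
      exact ((inferInstance : (genPrime h₂).IsPrime).mem_or_mem h0).resolve_right ha₂
    have hnu : ¬ IsUnit ((X.presheaf.stalkSpecializes h₂).hom ((f.stalkMap x).hom π)) :=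
      (mem_genPrime_iff h₂ _).mp hπ₂
    have hnu' := not_isUnit_stalkSpecializes_of_stalkMap f h₂ π hnu
    have hη : f x₂ = genericPoint Y := H x₂ hx₂
    exact hnu' (isUnit_stalkSpecializes_genericPoint _ hη π hπ.ne_zero)

end main

theorem isIntegral_of_regular {Y : Scheme.{u}} [IrreducibleSpace Y]
    (hreg : ∀ y : Y, IsRegularLocalRing (Y.presheaf.stalk y)) : IsIntegral Y := by
  haveI : ∀ y : Y, _root_.IsReduced (Y.presheaf.stalk y) := fun y => by
    haveI := hreg y
    haveI := Groth.Agent.Lead.RLR.isDomain (Y.presheaf.stalk y)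
    infer_instance
  haveI : IsReduced Y := isReduced_of_isReduced_stalk Y
  exact isIntegral_of_irreducibleSpace_of_isReduced Y

theorem topologicalKrullDim_le_one (Y : Scheme.{u})
    (h : ∀ y : Y, ringKrullDim (Y.presheaf.stalk y) ≤ 1) : topologicalKrullDim Y ≤ 1 := by
  rw [Groth.Agent.H24.topologicalKrullDim_eq_krullDim_specializationOrder Y,
    Order.krullDim_eq_iSup_coheight]
  apply iSup_le
  intro y
  have := h y
  rw [ringKrullDim_stalk_eq_coheight] at this
  exact this

/-- EGA IV 14.x: a neighbourhood of the fibre on which `f` is universally open, over a Dedekind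
base. -/
theorem exists_universallyOpen_nhd {X Y : Scheme.{u}} [IsLocallyNoetherian Y] [IrreducibleSpace Y]
    (hY : ∀ y : Y, IsRegularLocalRing (Y.presheaf.stalk y) ∧ ringKrullDim (Y.presheaf.stalk y) ≤ 1)
    (f : X ⟶ Y) [LocallyOfFiniteType f] (y : Y)
    (h : ∀ Z ∈ irreducibleComponents (X : Type u),
      (Z ∩ f.base ⁻¹' {y}).Nonempty → Dense (f.base '' Z)) :
    ∃ U : X.Opens, f.base ⁻¹' {y} ⊆ (U : Set X) ∧ UniversallyOpen (U.ι ≫ f) := by
  haveI : IsIntegral Y := isIntegral_of_regular (fun y => (hY y).1)
  have hdim := topologicalKrullDim_le_one Y (fun y => (hY y).2)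
  haveI : IsLocallyNoetherian X := LocallyOfFiniteType.isLocallyNoetherian f
  let B : Set X := ⋃₀ {Z | Z ∈ irreducibleComponents (X : Type u) ∧ ¬ Dense (f.base '' Z)}
  have hB : IsClosed B := isClosed_sUnion_irreducibleComponents X _
  let U : X.Opens := ⟨Bᶜ, hB.isOpen_compl⟩
  refine ⟨U, ?_, ?_⟩
  · intro x hx hxB
    obtain ⟨Z, ⟨hZ, hnd⟩, hxZ⟩ := hxB
    exact hnd (h Z hZ ⟨x, hxZ, hx⟩)
  · let g := (U : Scheme.{u}).nilradical.subschemeι
    haveI : IsReduced (U : Scheme.{u}).nilradical.subscheme := isReduced_nilradical_subscheme _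
    haveI : Surjective g := ⟨surjective_nilradical_subschemeι _⟩
    have hj : Topology.IsOpenEmbedding (g ≫ U.ι) := by
      refine ⟨(g ≫ U.ι).isEmbedding, ?_⟩
      have : Set.range (g ≫ U.ι) = (U : Set X) := by
        rw [Scheme.Hom.comp_base, TopCat.coe_comp, Set.range_comp,
          Set.range_eq_univ.mpr (surjective_nilradical_subschemeι _), Set.image_univ]
        exact Scheme.Opens.range_ι U
      rw [this]
      exact U.isOpen
    haveI : Flat (g ≫ U.ι ≫ f) := by
      apply flat_of_generic_points _ (fun y => (hY y).1) hdim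
      intro ξ hξ
      have h1 := closure_mem_irreducibleComponents_of_isOpenEmbedding hj ξ hξ
      have hd : Dense (f.base '' closure {(g ≫ U.ι) ξ}) := by
        by_contra hnd
        have hmemB : (g ≫ U.ι) ξ ∈ B := ⟨_, ⟨h1, hnd⟩, subset_closure rfl⟩
        have hU : (g ≫ U.ι) ξ ∈ (U : Set X) := (g ξ).2
        exact hU hmemB
      exact eq_genericPoint_of_dense_image_closure f _ hd
    exact universallyOpen_of_comp_surjective g (U.ι ≫ f)

end Groth.Agent.H54.UOD
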