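import Mathlib
import Groth.Prelude.Def_ProjUP
import Groth.Agent.H18.TwistAmple2

set_option autoImplicit false
universe u
open CategoryTheory CategoryTheory.Limits AlgebraicGeometry TopologicalSpace Opposite

namespace Groth.Agent.H54.PB

open Groth.Agent.H18

variable {X Y : Scheme.{u}}

/-- module morphisms commute with restriction -/
theorem hom_app_mres {M N : X.Modules} (φ : M ⟶ N) {U V : X.Opens} (e : V ≤ U) (x : Γ(M, U)) :
    φ.app V (mres M e x) = mres N e (φ.app U x) :=
  congr($((Scheme.Modules.Hom.mapPresheaf φ).naturality (homOfLE e).op) x)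

/-- evaluation of a morphism `O_X ⟶ N` at the global section `1`. -/
noncomputable def evOne (N : X.Modules) (χ : Coh.structureModule X ⟶ N) : Γ(N, (⊤ : X.Opens)) :=
  χ.app ⊤ (1 : Γ(X, ⊤))

theorem evOne_sectionHom (N : X.Modules) (σ : Γ(N, (⊤ : X.Opens))) :
    evOne N (sectionHom N σ) = σ := by
  unfold evOne
  rw [sectionHom_app_one]
  exact mres_self N _ σ

theorem evOne_injective (N : X.Modules) : Function.Injective (evOne N) := by
  intro χ χ' h
  apply (SheafOfModules.unitHomEquiv (R := X.ringCatSheaf) N).injective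
  apply Subtype.ext
  funext V
  rw [SheafOfModules.unitHomEquiv_apply_coe, SheafOfModules.unitHomEquiv_apply_coe]
  have h1 : ∀ ψ : Coh.structureModule X ⟶ N, ψ.app V.unop (1 : Γ(X, V.unop)) =
      mres N (le_top : V.unop ≤ ⊤) (evOne N ψ) := by
    intro ψ
    unfold evOne
    rw [← hom_app_mres]
    congr 1
    exact (map_one (X.presheaf.map (homOfLE (le_top : V.unop ≤ ⊤)).op).hom).symm
  exact (h1 χ).trans ((congrArg _ h).trans (h1 χ').symm)

theorem evOne_bijective (N : X.Modules) : Function.Bijective (evOne N) :=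
  ⟨evOne_injective N, fun σ => ⟨sectionHom N σ, evOne_sectionHom N σ⟩⟩

theorem evOne_comp {N N' : X.Modules} (χ : Coh.structureModule X ⟶ N) (p : N ⟶ N') :
    evOne N' (χ ≫ p) = p.app ⊤ (evOne N χ) := rfl

theorem sectionHom_comp {N N' : X.Modules} (σ : Γ(N, (⊤ : X.Opens))) (p : N ⟶ N') :
    sectionHom N σ ≫ p = sectionHom N' (p.app ⊤ σ) := by
  apply evOne_injective
  rw [evOne_comp, evOne_sectionHom, evOne_sectionHom]

section pull
variable (f : X ⟶ Y)

/-- pullback of a section over an open -/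
noncomputable def pullSect (M : Y.Modules) (V : Y.Opens) (t : Γ(M, V)) :
    Γ((Scheme.Modules.pullback f).obj M, f ⁻¹ᵁ V) :=
  ((Scheme.Modules.pullbackPushforwardAdjunction f).unit.app M).app V t

theorem pullSec_eq (M : Y.Modules) (t : ProjUP.Γm M) :
    ProjUP.pullSec f M t = pullSect f M ⊤ t := rfl

theorem pullSect_naturality {M M' : Y.Modules} (φ : M ⟶ M') (V : Y.Opens) (t : Γ(M, V)) :
    ((Scheme.Modules.pullback f).map φ).app (f ⁻¹ᵁ V) (pullSect f M V t) =
      pullSect f M' V (φ.app V t) := by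
  have h := (Scheme.Modules.pullbackPushforwardAdjunction f).unit.naturality φ
  have h2 := congr(($h).app V t)
  exact h2.symm

/-- the canonical map `O_X ⟶ f^* O_Y` -/
noncomputable def unitMap :
    Coh.structureModule X ⟶ (Scheme.Modules.pullback f).obj (Coh.structureModule Y) :=
  sectionHom _ (pullSect f (Coh.structureModule Y) ⊤ (1 : Γ(Y, ⊤)))

theorem unitMap_comp_bijective (N : X.Modules) :
    Function.Bijective (fun ψ : (Scheme.Modules.pullback f).obj (Coh.structureModule Y) ⟶ N =>
      unitMap f ≫ ψ) := by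
  have h1 : (evOne N) ∘ (fun ψ : (Scheme.Modules.pullback f).obj (Coh.structureModule Y) ⟶ N =>
      unitMap f ≫ ψ) = (evOne ((Scheme.Modules.pushforward f).obj N)) ∘
        ((Scheme.Modules.pullbackPushforwardAdjunction f).homEquiv _ _) := by
    funext ψ
    simp only [Function.comp_apply]
    rw [evOne_comp]
    unfold unitMap
    rw [evOne_sectionHom, Adjunction.homEquiv_unit, evOne_comp]
    rfl
  have h2 : Function.Bijective ((evOne N) ∘
      (fun ψ : (Scheme.Modules.pullback f).obj (Coh.structureModule Y) ⟶ N => unitMap f ≫ ψ)) := by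
    rw [h1]
    exact (evOne_bijective _).comp (Equiv.bijective _)
  exact (Function.Bijective.of_comp_iff' (evOne_bijective N) _).mp h2

instance isIso_unitMap : IsIso (unitMap f) := by
  rw [isIso_iff_coyoneda_map_bijective]
  exact unitMap_comp_bijective f

/-- the pullback of the morphism attached to a section is the morphism attached to the pulled-back
section. -/
theorem unitMap_comp_pullback_sectionHom (M : Y.Modules) (e : Γ(M, (⊤ : Y.Opens))) :
    unitMap f ≫ (Scheme.Modules.pullback f).map (sectionHom M e) =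
      sectionHom ((Scheme.Modules.pullback f).obj M) (pullSect f M ⊤ e) := by
  unfold unitMap
  rw [sectionHom_comp]
  congr 1
  have := pullSect_naturality f (sectionHom M e) ⊤ (1 : Γ(Y, ⊤))
  refine this.trans ?_
  congr 1
  exact evOne_sectionHom M e

end pull


section restrictPullback



/-- restriction to `f⁻¹ V` after pullback along `f` is pullback along `f ∣_ V` after restriction
to `V`. -/
noncomputable def pullbackRestrictIso (f : X ⟶ Y) (V : Y.Opens) :
    Scheme.Modules.pullback f ⋙ Scheme.Modules.restrictFunctor (f ⁻¹ᵁ V).ι ≅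
      Scheme.Modules.restrictFunctor V.ι ⋙ Scheme.Modules.pullback (f ∣_ V) :=
  Functor.isoWhiskerLeft _ (Scheme.Modules.restrictFunctorIsoPullback (f ⁻¹ᵁ V).ι) ≪≫
    Scheme.Modules.pullbackComp (f ⁻¹ᵁ V).ι f ≪≫
    Scheme.Modules.pullbackCongr (morphismRestrict_ι f V).symm ≪≫
    (Scheme.Modules.pullbackComp (f ∣_ V) V.ι).symm ≪≫
    Functor.isoWhiskerRight (Scheme.Modules.restrictFunctorIsoPullback V.ι).symm _

theorem isIso_restrict_pullback_map (f : X ⟶ Y) (V : Y.Opens) {M M' : Y.Modules} (σ : M ⟶ M')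
    (h : IsIso ((Scheme.Modules.restrictFunctor V.ι).map σ)) :
    IsIso ((Scheme.Modules.restrictFunctor (f ⁻¹ᵁ V).ι).map
      ((Scheme.Modules.pullback f).map σ)) := by
  have h1 : IsIso ((Scheme.Modules.restrictFunctor V.ι ⋙ Scheme.Modules.pullback (f ∣_ V)).map σ) := by
    rw [Functor.comp_map]
    infer_instance
  have h2 := (NatIso.isIso_map_iff (pullbackRestrictIso f V) σ).mpr h1
  rwa [Functor.comp_map] at h2


end restrictPullback

section stalkBasis




/-- If the morphism `O_X ⟶ L` attached to a global section `s` restricts to an isomorphism over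
`U`, then on every open `W ≤ U` the sections of `L` are freely generated by `s`. -/
theorem smul_mres_bijective (L : X.Modules) (s : Γ(L, (⊤ : X.Opens))) (U : X.Opens)
    (h : IsIso ((Scheme.Modules.restrictFunctor U.ι).map (sectionHom L s))) (W : X.Opens)
    (hW : W ≤ U) :
    Function.Bijective (fun r : Γ(X, W) => r • (mres L (le_top : W ≤ ⊤) s : Γ(L, W))) := by
  have hW' : U.ι ''ᵁ (U.ι ⁻¹ᵁ W) = W := by
    rw [Scheme.Hom.image_preimage_eq_opensRange_inf, Scheme.Opens.opensRange_ι]
    exact inf_eq_right.mpr hW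
  generalize U.ι ⁻¹ᵁ W = W' at hW'
  subst hW'
  rw [Scheme.Modules.Hom.isIso_iff_isIso_app] at h
  have h1 := h W'
  rw [ConcreteCategory.isIso_iff_bijective] at h1
  have hfun : (fun r : Γ(X, U.ι ''ᵁ W') => r • (mres L (le_top : U.ι ''ᵁ W' ≤ ⊤) s : Γ(L, U.ι ''ᵁ W'))) =
      fun r : Γ(X, U.ι ''ᵁ W') => (sectionHom L s).app (U.ι ''ᵁ W') r :=
    funext (fun r => (sectionHom_app L s _ r).symm)
  rw [hfun]
  exact h1

theorem bijective_smul_germ (L : X.Modules) (s : Γ(L, (⊤ : X.Opens))) (U : X.Opens)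
    (h : IsIso ((Scheme.Modules.restrictFunctor U.ι).map (sectionHom L s))) (x : X) (hx : x ∈ U) :
    Function.Bijective (fun a : X.presheaf.stalk x =>
      a • (L.presheaf.germ ⊤ x trivial s : L.presheaf.stalk x)) := by
  have hgerm : ∀ (W : X.Opens) (hxW : x ∈ W),
      L.presheaf.germ W x hxW (mres L (le_top : W ≤ ⊤) s) = L.presheaf.germ ⊤ x trivial s :=
    fun W hxW => TopCat.Presheaf.germ_res_apply L.presheaf (homOfLE (le_top : W ≤ ⊤)) x hxW s
  constructor
  · -- injective
    intro a a' haa'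
    have h0 : (a - a') • (L.presheaf.germ ⊤ x trivial s : L.presheaf.stalk x) = 0 := by
      rw [sub_smul]
      exact sub_eq_zero.mpr haa'
    suffices hs : a - a' = 0 from sub_eq_zero.mp hs
    generalize a - a' = b at h0
    obtain ⟨W, hxW, r, rfl⟩ := TopCat.Presheaf.exists_germ_eq X.presheaf b
    -- shrink into U
    have hxW1 : x ∈ W ⊓ U := ⟨hxW, hx⟩
    have hr1 : X.presheaf.germ W x hxW r =
        X.presheaf.germ (W ⊓ U) x hxW1 (X.presheaf.map (homOfLE (inf_le_left : W ⊓ U ≤ W)).op r) :=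
      (TopCat.Presheaf.germ_res_apply X.presheaf (homOfLE (inf_le_left : W ⊓ U ≤ W)) x hxW1 r).symm
    rw [hr1] at h0 ⊢
    generalize X.presheaf.map (homOfLE (inf_le_left : W ⊓ U ≤ W)).op r = r1 at h0 ⊢
    rw [← hgerm (W ⊓ U) hxW1, ← germ_smul'] at h0
    have h00 : L.presheaf.germ (W ⊓ U) x hxW1 (r1 • mres L (le_top : W ⊓ U ≤ ⊤) s) =
        L.presheaf.germ (W ⊓ U) x hxW1 0 := by
      rw [h0, map_zero]
    obtain ⟨W2, hxW2, i1, i2, he⟩ := TopCat.Presheaf.germ_eq L.presheaf x hxW1 hxW1 _ _ h00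
    rw [map_zero] at he
    have he' : mres L i1.le (r1 • mres L (le_top : W ⊓ U ≤ ⊤) s) = 0 := he
    rw [mres_smul, mres_mres] at he'
    have hinj := (smul_mres_bijective L s U h W2 (i1.le.trans inf_le_right)).1
    have hz : X.presheaf.map (homOfLE i1.le).op r1 = 0 := by
      apply hinj
      simp only [zero_smul]
      exact he'
    rw [← TopCat.Presheaf.germ_res_apply X.presheaf (homOfLE i1.le) x hxW2 r1, hz, map_zero]
  · -- surjective
    intro m
    obtain ⟨W, hxW, t, rfl⟩ := TopCat.Presheaf.exists_germ_eq L.presheaf m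
    have hxW1 : x ∈ W ⊓ U := ⟨hxW, hx⟩
    obtain ⟨r, hr⟩ := (smul_mres_bijective L s U h (W ⊓ U) inf_le_right).2
      (mres L (inf_le_left : W ⊓ U ≤ W) t)
    refine ⟨X.presheaf.germ (W ⊓ U) x hxW1 r, ?_⟩
    simp only
    rw [← hgerm (W ⊓ U) hxW1, ← germ_smul']
    have hr' : r • mres L (le_top : W ⊓ U ≤ ⊤) s = mres L (inf_le_left : W ⊓ U ≤ W) t := hr
    rw [hr']
    exact TopCat.Presheaf.germ_res_apply L.presheaf (homOfLE (inf_le_left : W ⊓ U ≤ W)) x hxW1 t


end stalkBasis

section combine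
variable (f : X ⟶ Y)

/-- A global section of `M` which is a basis of `M` over `V` pulls back to a basis of `f^* M` over
`f⁻¹ V`. -/
theorem isIso_restrict_sectionHom_pullSect (M : Y.Modules) (e : Γ(M, (⊤ : Y.Opens))) (V : Y.Opens)
    (h : IsIso ((Scheme.Modules.restrictFunctor V.ι).map (sectionHom M e))) :
    IsIso ((Scheme.Modules.restrictFunctor (f ⁻¹ᵁ V).ι).map
      (sectionHom ((Scheme.Modules.pullback f).obj M) (pullSect f M ⊤ e))) := by
  rw [← unitMap_comp_pullback_sectionHom, Functor.map_comp]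
  have := isIso_restrict_pullback_map f V (sectionHom M e) h
  infer_instance

/-- the scalar action on sections of a pushforward -/
theorem pushforward_smul (N : X.Modules) (V : Y.Opens) (r : Γ(Y, V))
    (s : Γ((Scheme.Modules.pushforward f).obj N, V)) :
    r • s = ((f.app V).hom r • (show Γ(N, f ⁻¹ᵁ V) from s) : Γ(N, f ⁻¹ᵁ V)) := rfl

theorem pullSect_mres (M : Y.Modules) {V V' : Y.Opens} (h : V' ≤ V) (t : Γ(M, V)) :
    pullSect f M V' (mres M h t) =
      mres ((Scheme.Modules.pullback f).obj M) (f.preimage_mono h) (pullSect f M V t) :=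
  hom_app_mres ((Scheme.Modules.pullbackPushforwardAdjunction f).unit.app M) h t

theorem pullSect_smul (M : Y.Modules) (V : Y.Opens) (r : Γ(Y, V)) (t : Γ(M, V)) :
    pullSect f M V (r • t) = (f.app V).hom r • pullSect f M V t :=
  Scheme.Modules.Hom.app_smul ((Scheme.Modules.pullbackPushforwardAdjunction f).unit.app M) r t

theorem pullSect_add (M : Y.Modules) (V : Y.Opens) (t t' : Γ(M, V)) :
    pullSect f M V (t + t') = pullSect f M V t + pullSect f M V t' :=
  map_add (((Scheme.Modules.pullbackPushforwardAdjunction f).unit.app M).app V).hom t t'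

/-- germs of pulled-back sections in terms of a local basis. -/
theorem germ_pullSect_eq (M : Y.Modules) (e t : Γ(M, (⊤ : Y.Opens))) (V : Y.Opens) (r : Γ(Y, V))
    (hr : mres M (le_top : V ≤ ⊤) t = r • mres M (le_top : V ≤ ⊤) e) (x : X) (hx : f x ∈ V) :
    ((Scheme.Modules.pullback f).obj M).presheaf.germ ⊤ x trivial (pullSect f M ⊤ t) =
      (f.stalkMap x).hom (Y.presheaf.germ V (f x) hx r) •
        ((Scheme.Modules.pullback f).obj M).presheaf.germ ⊤ x trivial (pullSect f M ⊤ e) := by
  have hx' : x ∈ f ⁻¹ᵁ V := hx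
  have h1 : ∀ s : Γ((Scheme.Modules.pullback f).obj M, (⊤ : X.Opens)),
      ((Scheme.Modules.pullback f).obj M).presheaf.germ ⊤ x trivial s =
      ((Scheme.Modules.pullback f).obj M).presheaf.germ (f ⁻¹ᵁ V) x hx'
        (mres ((Scheme.Modules.pullback f).obj M) (le_top : f ⁻¹ᵁ V ≤ ⊤) s) := fun s =>
    (TopCat.Presheaf.germ_res_apply ((Scheme.Modules.pullback f).obj M).presheaf
      (homOfLE (le_top : f ⁻¹ᵁ V ≤ ⊤)) x hx' s).symm
  rw [h1 (pullSect f M ⊤ t), h1 (pullSect f M ⊤ e)]
  have h2 : mres ((Scheme.Modules.pullback f).obj M) (le_top : f ⁻¹ᵁ V ≤ ⊤) (pullSect f M ⊤ t) =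
      (f.app V).hom r •
        mres ((Scheme.Modules.pullback f).obj M) (le_top : f ⁻¹ᵁ V ≤ ⊤) (pullSect f M ⊤ e) := by
    have := pullSect_mres f M (le_top : V ≤ ⊤) t
    rw [hr, pullSect_smul, pullSect_mres] at this
    exact this.symm
  rw [h2, germ_smul']
  congr 1
  exact (Scheme.Hom.germ_stalkMap_apply f V x hx r).symm

end combine

end Groth.Agent.H54.PB
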