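import Mathlib
import Groth.Agent.H54.Dim

/-!
# Dimension theory of finitely generated domains over a field: saturated chains
-/

set_option autoImplicit false
universe u

namespace Groth.Agent.H54

open Polynomial in
/-- Every maximal ideal of `k[x₁, …, xₙ]` has height `n`. -/
theorem height_of_isMaximal_mvPolynomial (k : Type u) [Field k] (n : ℕ)
    (M : Ideal (MvPolynomial (Fin n) k)) [hM : M.IsMaximal] : M.height = n := by
  induction n with
  | zero =>
    have hfield : IsField (MvPolynomial (Fin 0) k) :=
      (MvPolynomial.isEmptyAlgEquiv k (Fin 0)).toRingEquiv.toMulEquiv.isField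
        (Field.toIsField k)
    have hbot : M = ⊥ := by
      letI := hfield.toField
      exact (Ideal.eq_bot_or_top M).resolve_right hM.ne_top
    subst hbot
    simp
  | succ n ih =>
    let R := MvPolynomial (Fin n) k
    let e : MvPolynomial (Fin (n + 1)) k ≃+* R[X] := (MvPolynomial.finSuccEquiv k n).toRingEquiv
    let M' : Ideal R[X] := M.map e
    have hM' : M'.IsMaximal := Ideal.map_isMaximal_of_equiv e
    let p : Ideal R := M'.comap (C : R →+* R[X])
    have hp : p.IsMaximal := Polynomial.isMaximal_comap_C_of_isJacobsonRing M'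
    have hlies : M'.LiesOver p := ⟨rfl⟩
    have h1 : M'.height = p.height + 1 := Polynomial.height_eq_height_add_one p M'
    have h2 : M'.height = M.height := RingEquiv.height_map e M
    rw [← h2, h1, ih p]
    norm_cast

/-- For a nonzero nonunit `f` of `k[x₁, …, xₙ]`, `dim k[x]/(f) + 1 = n`. -/
theorem ringKrullDim_quotient_span_singleton_mvPolynomial (k : Type u) [Field k] (n : ℕ)
    (f : MvPolynomial (Fin n) k) (hf0 : f ≠ 0) (hfu : ¬ IsUnit f) :
    ringKrullDim (MvPolynomial (Fin n) k ⧸ Ideal.span {f}) + 1 = (n : WithBot ℕ∞) := by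
  apply le_antisymm
  · have := ringKrullDim_quotient_succ_le_of_nonZeroDivisor
      (mem_nonZeroDivisors_of_ne_zero hf0)
    rwa [ringKrullDim_mvPolynomial_fin_field] at this
  · obtain ⟨M, hM, hfM⟩ := Ideal.exists_le_maximal (Ideal.span {f})
      (by rwa [Ne, Ideal.span_singleton_eq_top])
    have hmem : f ∈ M := hfM (Ideal.mem_span_singleton_self f)
    have h1 := Ideal.height_le_ringKrullDim_quotient_add_one hmem
    rwa [height_of_isMaximal_mvPolynomial k n M] at h1

/-- Main lemma: for a height one prime `p` of a finitely generated domain `A` over a field,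
`dim A/p + 1 = dim A`. -/
theorem ringKrullDim_quotient_add_one_of_height_eq_one (k A : Type u) [Field k] [CommRing A]
    [IsDomain A] [Algebra k A] [Algebra.FiniteType k A] (p : Ideal A) [hpp : p.IsPrime]
    (hp : p.height = 1) :
    ringKrullDim (A ⧸ p) + 1 = ringKrullDim A := by
  obtain ⟨s, g, hginj, hgfin⟩ := exists_finite_inj_algHom_of_fg k A
  let P := MvPolynomial (Fin s) k
  letI : Algebra P A := g.toRingHom.toAlgebra
  have hfinPA : Module.Finite P A := hgfin
  have hint : Algebra.IsIntegral P A := inferInstance
  have hinj' : Function.Injective (algebraMap P A) := hginj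
  have hfaith : FaithfulSMul P A := (faithfulSMul_iff_algebraMap_injective P A).mpr hginj
  have hnoethA : IsNoetherianRing A := Algebra.FiniteType.isNoetherianRing k A
  have hdimA : ringKrullDim A = (s : WithBot ℕ∞) := by
    rw [← ringKrullDim_eq_of_isIntegral_of_injective hinj', ringKrullDim_mvPolynomial_fin_field]
  let q : Ideal P := p.comap (algebraMap P A)
  have hqprime : q.IsPrime := Ideal.comap_isPrime _ p
  have hlies : p.LiesOver q := ⟨rfl⟩
  have hpbot : p ≠ ⊥ := Ideal.ne_bot_of_height_eq_one hp
  have hqbot : q ≠ ⊥ := by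
    intro h
    exact hpbot (Ideal.eq_bot_of_comap_eq_bot h)
  have hq1 : q.height = 1 := by
    have h := Ideal.height_eq_height_add_of_liesOver_of_hasGoingDown q p
    rw [hp] at h
    apply le_antisymm
    · rw [h]; exact le_self_add
    · rw [Order.one_le_iff_pos, pos_iff_ne_zero]
      intro h0
      rw [Ideal.height_eq_zero_iff_eq_bot] at h0
      exact hqbot h0
  obtain ⟨f, hf⟩ := UniqueFactorizationMonoid.isPrincipal_of_height_eq_one hq1
  have hf' : q = Ideal.span {f} := hf
  have hf0 : f ≠ 0 := by
    rintro rfl
    apply hqbot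
    rw [hf']; simp
  have hfu : ¬ IsUnit f := by
    intro hu
    apply hqprime.ne_top
    rw [hf', Ideal.span_singleton_eq_top]; exact hu
  have hdimq : ringKrullDim (P ⧸ q) + 1 = (s : WithBot ℕ∞) := by
    rw [hf']
    exact ringKrullDim_quotient_span_singleton_mvPolynomial k s f hf0 hfu
  have hq_eq : ringKrullDim (P ⧸ q) = ringKrullDim (A ⧸ p) :=
    ringKrullDim_eq_of_isIntegral_of_injective
      (FaithfulSMul.algebraMap_injective (P ⧸ q) (A ⧸ p))
  rw [← hq_eq, hdimq, hdimA]

/-- Saturated chains of primes from `⊥` to a maximal ideal in a finitely generated domain over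
a field all have length `dim A`. -/
theorem length_eq_ringKrullDim_of_saturated (k : Type u) [Field k] :
    ∀ (l : ℕ) (A : Type u) [CommRing A] [IsDomain A] [Algebra k A] [Algebra.FiniteType k A]
      (c : LTSeries (PrimeSpectrum A)), c.length = l → c.head.asIdeal = ⊥ →
      c.last.asIdeal.IsMaximal → (∀ i : Fin c.length, c i.castSucc ⋖ c i.succ) →
      (l : WithBot ℕ∞) = ringKrullDim A := by
  intro l
  induction l with
  | zero =>
    intro A _ _ _ _ c hlen h0 hmax _
    have hhl : c.head = c.last := by
      simp only [RelSeries.head, RelSeries.last]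
      congr 1
      ext
      simp [hlen]
    rw [← hhl, h0] at hmax
    have hfield : IsField A := Ring.isField_iff_maximal_bot.mpr hmax
    rw [ringKrullDim_eq_zero_of_isField hfield]
    rfl
  | succ l ih =>
    intro A _ _ _ _ c hlen h0 hmax hsat
    have hlen0 : c.length ≠ 0 := by omega
    -- the first nonzero prime
    let p₁ : PrimeSpectrum A := c 1
    have hcov : c.head ⋖ p₁ := by
      have := hsat ⟨0, by omega⟩
      have e1 : (⟨0, by omega⟩ : Fin c.length).castSucc = 0 := by ext; simp
      have e2 : (⟨0, by omega⟩ : Fin c.length).succ = 1 := by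
        ext; simp [Nat.mod_eq_of_lt (show 1 < c.length + 1 by omega)]
      rw [e1, e2] at this
      exact this
    have hp₁bot : p₁.asIdeal ≠ ⊥ := by
      intro h
      have : c.head = p₁ := PrimeSpectrum.ext (h0.trans h.symm)
      exact hcov.lt.ne this
    have hheight : p₁.asIdeal.height = 1 := by
      apply le_antisymm
      · show p₁.asIdeal.height ≤ ((1 : ℕ) : ℕ∞)
        rw [Ideal.height_le_iff]
        intro q hq hqp
        have hq' : (⟨q, hq⟩ : PrimeSpectrum A) < p₁ := hqp
        have hle : c.head ≤ ⟨q, hq⟩ := by
          show c.head.asIdeal ≤ q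
          rw [h0]; exact bot_le
        have : c.head = ⟨q, hq⟩ := by
          by_contra hne
          exact hcov.2 (lt_of_le_of_ne hle hne) hq'
        have hqbot : q = ⊥ := by rw [← h0, this]
        rw [hqbot, Ideal.height_bot]
        exact_mod_cast zero_lt_one
      · rw [Order.one_le_iff_pos, pos_iff_ne_zero, Ne, Ideal.height_eq_zero_iff_eq_bot]
        exact hp₁bot
    -- pass to the quotient
    let A' := A ⧸ p₁.asIdeal
    let e := p₁.asIdeal.primeSpectrumQuotientOrderIsoZeroLocus
    let t := c.tail hlen0
    have htlen : t.length = l := by simp [t, hlen]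
    have hthead : t.head = p₁ := RelSeries.head_tail c hlen0
    have htlast : t.last = c.last := RelSeries.last_tail c hlen0
    have htmem : ∀ i, t i ∈ PrimeSpectrum.zeroLocus (p₁.asIdeal : Set A) := by
      intro i
      rw [PrimeSpectrum.mem_zeroLocus, SetLike.coe_subset_coe]
      have : t.head ≤ t i := LTSeries.monotone t (Fin.zero_le i)
      rw [hthead] at this
      exact this
    let d : LTSeries (PrimeSpectrum.zeroLocus (p₁.asIdeal : Set A)) :=
      ⟨t.length, fun i => ⟨t i, htmem i⟩, fun i => t.step i⟩
    let c' : LTSeries (PrimeSpectrum A') := d.map e.symm e.symm.strictMono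
    have hc'len : c'.length = l := htlen
    have hc'comap : ∀ i, (c' i).asIdeal.comap (Ideal.Quotient.mk p₁.asIdeal) = (t i).asIdeal := by
      intro i
      have : e (c' i) = ⟨t i, htmem i⟩ := e.apply_symm_apply _
      exact congrArg (fun x => x.1.asIdeal) this
    have hc'head : c'.head.asIdeal = ⊥ := by
      apply Ideal.comap_injective_of_surjective _ Ideal.Quotient.mk_surjective
      have := hc'comap 0
      change _ = t.head.asIdeal at this
      rw [hthead] at this
      change Ideal.comap _ (c' 0).asIdeal = _
      rw [this, ← RingHom.ker_eq_comap_bot, Ideal.mk_ker]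
    have hc'last : c'.last.asIdeal.IsMaximal := by
      have h1 := hc'comap (Fin.last _)
      change Ideal.comap _ c'.last.asIdeal = t.last.asIdeal at h1
      rw [htlast] at h1
      have h2 : c'.last.asIdeal = Ideal.map (Ideal.Quotient.mk p₁.asIdeal) c.last.asIdeal := by
        rw [← h1]
        exact (Ideal.map_comap_of_surjective _ Ideal.Quotient.mk_surjective _).symm
      rw [h2]
      refine Ideal.IsMaximal.map_of_surjective_of_ker_le Ideal.Quotient.mk_surjective ?_
      rw [Ideal.mk_ker, ← htlast, ← hthead]
      exact LTSeries.monotone t (Fin.zero_le _)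
    have hc'sat : ∀ i : Fin c'.length, c' i.castSucc ⋖ c' i.succ := by
      intro i
      show e.symm (d i.castSucc) ⋖ e.symm (d i.succ)
      rw [apply_covBy_apply_iff e.symm]
      -- covering in the subtype
      have hti : t i.castSucc ⋖ t i.succ := by
        have := hsat ⟨i.1 + 1, by have := i.2; simp [c', d, t] at this; omega⟩
        convert this using 1 <;> (apply congrArg c; ext; simp [t])
      refine ⟨t.step i, ?_⟩
      intro z hz1 hz2
      exact hti.2 (show t i.castSucc < z.1 from hz1) (show z.1 < t i.succ from hz2)
    have hIH := ih A' c' hc'len hc'head hc'last hc'sat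
    have hML := ringKrullDim_quotient_add_one_of_height_eq_one k A p₁.asIdeal hheight
    rw [← hML, ← hIH]
    norm_cast

end Groth.Agent.H54
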