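import Mathlib
import Groth.Agent.H54.Dim
import Groth.Prelude.Def_CohB1

/-!
# Dimension of projective space via chains of homogeneous primes
-/

set_option autoImplicit false
universe u
open AlgebraicGeometry TopologicalSpace

namespace Groth.Agent.H54


section
variable {A σ : Type*} [CommRing A] [SetLike σ A] [AddSubgroupClass σ A] (𝒜 : ℕ → σ) [GradedRing 𝒜]

attribute [local instance] specializationOrder in
/-- The order iso between points of the projective spectrum and irreducible closed subsets. -/
noncomputable def projPointsEquivIrreducibleCloseds :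
    ProjectiveSpectrum 𝒜 ≃o (IrreducibleCloseds (Proj 𝒜))ᵒᵈ where
  __ := (irreducibleSetEquivPoints (α := Proj 𝒜)).toEquiv.symm.trans OrderDual.toDual
  map_rel_iff' {p q} :=
    (RelIso.symm (irreducibleSetEquivPoints (α := Proj 𝒜))).map_rel_iff.trans
      ((specializes_iff_mem_closure (x := p) (y := q)).trans
        (ProjectiveSpectrum.le_iff_mem_closure 𝒜 p q).symm)

theorem topologicalKrullDim_proj :
    topologicalKrullDim (Proj 𝒜) = Order.krullDim (ProjectiveSpectrum 𝒜) :=
  Order.krullDim_orderDual.symm.trans <| Order.krullDim_eq_of_orderIso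
    (projPointsEquivIrreducibleCloseds 𝒜).symm

end



section
variable (k : Type u) [Field k] (n : ℕ)

local notation "𝒜" => CohB1.polyGrading n k

/-- The irrelevant ideal of a polynomial ring is prime. -/
theorem irrelevant_isPrime :
    (HomogeneousIdeal.irrelevant 𝒜).toIdeal.IsPrime := by
  rw [HomogeneousIdeal.toIdeal_irrelevant]
  exact RingHom.ker_isPrime _

/-- A relevant homogeneous prime of a polynomial ring over a field is strictly contained in the
irrelevant ideal. -/
theorem toIdeal_lt_irrelevant (x : ProjectiveSpectrum 𝒜) :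
    x.asHomogeneousIdeal.toIdeal < (HomogeneousIdeal.irrelevant 𝒜).toIdeal := by
  refine lt_of_le_of_ne ?_ ?_
  · intro f hf
    change f ∈ HomogeneousIdeal.irrelevant 𝒜
    rw [HomogeneousIdeal.mem_irrelevant_iff]
    have h0 : GradedRing.proj 𝒜 0 f ∈ x.asHomogeneousIdeal.toIdeal :=
      x.asHomogeneousIdeal.isHomogeneous 0 hf
    have hmem : GradedRing.proj 𝒜 0 f ∈ 𝒜 0 := by
      rw [GradedRing.proj_apply]
      exact SetLike.coe_mem _
    rw [MvPolynomial.mem_homogeneousSubmodule, ← MvPolynomial.totalDegree_zero_iff_isHomogeneous,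
      MvPolynomial.totalDegree_eq_zero_iff_eq_C] at hmem
    by_contra hne
    have hc : (GradedRing.proj 𝒜 0 f).coeff 0 ≠ 0 := by
      intro h
      rw [h, map_zero] at hmem
      exact hne hmem
    have hunit : IsUnit (GradedRing.proj 𝒜 0 f) := by
      rw [hmem]
      exact (IsUnit.mk0 _ hc).map MvPolynomial.C
    exact x.isPrime.ne_top (Ideal.eq_top_of_isUnit_mem _ h0 hunit)
  · intro h
    apply x.not_irrelevant_le
    intro f hf
    change f ∈ x.asHomogeneousIdeal.toIdeal
    rw [h]
    exact hf

/-- map to the prime spectrum -/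
noncomputable def projToSpec (x : ProjectiveSpectrum 𝒜) : PrimeSpectrum (MvPolynomial (Fin (n + 1)) k) :=
  ⟨x.asHomogeneousIdeal.toIdeal, x.isPrime⟩

theorem projToSpec_strictMono : StrictMono (projToSpec k n) := by
  intro x y hxy
  exact hxy

theorem krullDim_projectiveSpectrum_le :
    Order.krullDim (ProjectiveSpectrum 𝒜) ≤ (n : WithBot ℕ∞) := by
  unfold Order.krullDim
  apply iSup_le
  intro p
  have hprime := irrelevant_isPrime k n
  let top : PrimeSpectrum (MvPolynomial (Fin (n + 1)) k) :=
    ⟨(HomogeneousIdeal.irrelevant 𝒜).toIdeal, irrelevant_isPrime k n⟩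
  let q : LTSeries (PrimeSpectrum (MvPolynomial (Fin (n + 1)) k)) :=
    (p.map (projToSpec k n) (projToSpec_strictMono k n)).snoc top (by
      rw [LTSeries.last_map]
      exact toIdeal_lt_irrelevant k n p.last)
  have hq : q.length = p.length + 1 := by simp [q]
  have h1 : (q.length : WithBot ℕ∞) ≤ ringKrullDim (MvPolynomial (Fin (n + 1)) k) :=
    Order.LTSeries.length_le_krullDim q
  rw [ringKrullDim_mvPolynomial_fin_field k (n + 1), hq] at h1
  have h2 : p.length + 1 ≤ n + 1 := by exact_mod_cast h1
  have h3 : p.length ≤ n := by omega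
  exact_mod_cast h3

end



section spanX

variable {σ : Type*} (k : Type*) [CommRing k] (S : Set σ)

/-- The ideal generated by a set of variables is the kernel of the map killing them. -/
theorem span_X_image_eq_ker_killCompl :
    Ideal.span (MvPolynomial.X '' S : Set (MvPolynomial σ k)) =
      RingHom.ker (MvPolynomial.killCompl (R := k)
        (Subtype.val_injective : Function.Injective (Subtype.val : {j // j ∉ S} → σ))).toRingHom := by
  classical
  apply le_antisymm
  · rw [Ideal.span_le]
    rintro _ ⟨j, hj, rfl⟩
    change MvPolynomial.killCompl _ (MvPolynomial.X j) = 0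
    rw [MvPolynomial.killCompl, MvPolynomial.aeval_X, dif_neg]
    rintro ⟨⟨j', hj'⟩, rfl⟩
    exact hj' hj
  · intro g hg
    have hg' : MvPolynomial.killCompl (R := k)
        (Subtype.val_injective : Function.Injective (Subtype.val : {j // j ∉ S} → σ)) g = 0 := hg
    rw [MvPolynomial.mem_ideal_span_X_image]
    intro m hm
    by_contra hcon
    push Not at hcon
    have hsub : (m.support : Set σ) ⊆ Set.range (Subtype.val : {j // j ∉ S} → σ) := by
      intro j hj
      have hj' : m j ≠ 0 := Finsupp.mem_support_iff.mp hj
      exact ⟨⟨j, fun hjS => hj' (hcon j hjS)⟩, rfl⟩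
    have hm' := Finsupp.mapDomain_comapDomain (Subtype.val : {j // j ∉ S} → σ)
      Subtype.val_injective m hsub
    have h0 : g.coeff m = 0 := by
      rw [← hm', ← MvPolynomial.coeff_killCompl Subtype.val_injective, hg', MvPolynomial.coeff_zero]
    exact (MvPolynomial.mem_support_iff.mp hm) h0

theorem span_X_image_isPrime [IsDomain k] :
    (Ideal.span (MvPolynomial.X '' S : Set (MvPolynomial σ k))).IsPrime := by
  rw [span_X_image_eq_ker_killCompl]
  exact RingHom.ker_isPrime _

theorem X_mem_span_X_image_iff [Nontrivial k] (j : σ) :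
    (MvPolynomial.X j : MvPolynomial σ k) ∈ Ideal.span (MvPolynomial.X '' S) ↔ j ∈ S := by
  classical
  constructor
  · intro h
    rw [MvPolynomial.mem_ideal_span_X_image] at h
    obtain ⟨i, hi, hne⟩ := h (Finsupp.single j 1) (by
      rw [MvPolynomial.mem_support_iff, MvPolynomial.coeff_X, if_pos rfl]
      exact (one_ne_zero : (1 : k) ≠ 0))
    rw [Finsupp.single_apply] at hne
    split_ifs at hne with hji
    · rwa [hji]
    · exact absurd rfl hne
  · intro h
    exact Ideal.subset_span ⟨j, h, rfl⟩

end spanX

end Groth.Agent.H54
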