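import Mathlib
import Groth.Agent.H54.ProjDim

set_option autoImplicit false
universe u
open AlgebraicGeometry TopologicalSpace

namespace Groth.Agent.H54

section chain
variable (k : Type u) [Field k] (n : ℕ)

local notation "𝒜" => CohB1.polyGrading n k

/-- The point `V₊(X_0, …, X_{i-1})` of projective space. -/
noncomputable def chainPoint (i : Fin (n + 1)) : ProjectiveSpectrum 𝒜 where
  asHomogeneousIdeal :=
    ⟨Ideal.span (MvPolynomial.X '' {j : Fin (n + 1) | j.val < i.val}),
      Ideal.homogeneous_span 𝒜 _ (by
        rintro _ ⟨j, -, rfl⟩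
        exact ⟨1, MvPolynomial.isHomogeneous_X _ _⟩)⟩
  isPrime := span_X_image_isPrime k _
  not_irrelevant_le := by
    intro h
    have hX : (MvPolynomial.X (Fin.last n) : MvPolynomial (Fin (n + 1)) k) ∈
        HomogeneousIdeal.irrelevant 𝒜 :=
      HomogeneousIdeal.mem_irrelevant_of_mem _ zero_lt_one (MvPolynomial.isHomogeneous_X _ _)
    have h2 : (MvPolynomial.X (Fin.last n) : MvPolynomial (Fin (n + 1)) k) ∈
        Ideal.span (MvPolynomial.X '' {j : Fin (n + 1) | j.val < i.val}) := h hX
    rw [X_mem_span_X_image_iff] at h2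
    have : (Fin.last n).val < i.val := h2
    have hi := i.isLt
    simp only [Fin.val_last] at this
    omega

theorem chainPoint_strictMono : StrictMono (chainPoint k n) := by
  intro i i' hii'
  change (chainPoint k n i).asHomogeneousIdeal.toIdeal < (chainPoint k n i').asHomogeneousIdeal.toIdeal
  change Ideal.span (MvPolynomial.X '' {j : Fin (n + 1) | j.val < i.val}) <
    Ideal.span (MvPolynomial.X '' {j : Fin (n + 1) | j.val < i'.val})
  rw [SetLike.lt_iff_le_and_exists]
  refine ⟨Ideal.span_mono (Set.image_mono fun j hj => lt_trans hj hii'), MvPolynomial.X i, ?_, ?_⟩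
  · rw [X_mem_span_X_image_iff]
    exact hii'
  · rw [X_mem_span_X_image_iff]
    exact lt_irrefl i.val

theorem le_krullDim_projectiveSpectrum :
    (n : WithBot ℕ∞) ≤ Order.krullDim (ProjectiveSpectrum 𝒜) := by
  let p : LTSeries (ProjectiveSpectrum 𝒜) :=
    { length := n
      toFun := chainPoint k n
      step := fun i => chainPoint_strictMono k n (Fin.castSucc_lt_succ) }
  exact Order.LTSeries.length_le_krullDim p

theorem topologicalKrullDim_projSpace :
    topologicalKrullDim ↥(CohB1.ProjSpace n k) = (n : WithBot ℕ∞) := by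
  unfold CohB1.ProjSpace
  rw [topologicalKrullDim_proj]
  exact le_antisymm (krullDim_projectiveSpectrum_le k n) (le_krullDim_projectiveSpectrum k n)

end chain

end Groth.Agent.H54
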