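import Mathlib
import Groth.Agent.H54.Catenary
import Groth.Agent.H54.ProjDim2

/-!
# Projective dimension theory over a field: algebraic part
-/

set_option autoImplicit false
universe u
open AlgebraicGeometry TopologicalSpace

namespace Groth.Agent.H54


section graded
variable {ι σ A : Type*} [CommRing A] [AddCommMonoid ι] [LinearOrder ι]
  [IsOrderedCancelAddMonoid ι]
  [SetLike σ A] [AddSubmonoidClass σ A] (𝒜 : ι → σ) [GradedRing 𝒜]

/-- Minimal primes over a homogeneous ideal are homogeneous. -/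
theorem isHomogeneous_of_mem_minimalPrimes {I P : Ideal A} (hI : I.IsHomogeneous 𝒜)
    (hP : P ∈ I.minimalPrimes) : P.IsHomogeneous 𝒜 := by
  have hPprime : P.IsPrime := hP.1.1
  have hcore : (P.homogeneousCore 𝒜).toIdeal.IsPrime := hPprime.homogeneousCore
  have hIle : I ≤ (P.homogeneousCore 𝒜).toIdeal := by
    rw [← hI.toIdeal_homogeneousCore_eq_self]
    exact Ideal.homogeneousCore_mono 𝒜 hP.1.2
  have hle : P ≤ (P.homogeneousCore 𝒜).toIdeal :=
    hP.2 ⟨hcore, hIle⟩ (Ideal.toIdeal_homogeneousCore_le 𝒜 P)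
  rw [Ideal.IsHomogeneous.iff_eq]
  exact le_antisymm (Ideal.toIdeal_homogeneousCore_le 𝒜 P) hle

end graded

section dimdrop

/-- Cutting a finitely generated algebra over a field by one more equation outside the prime `p`
drops the dimension of the quotient by exactly one along each minimal prime. -/
theorem ringKrullDim_quotient_add_one_of_mem_minimalPrimes (k A : Type u) [Field k] [CommRing A]
    [Algebra k A] [Algebra.FiniteType k A] (p : Ideal A) [hp : p.IsPrime] (a : A) (ha : a ∉ p)
    (P : Ideal A) (hP : P ∈ (p ⊔ Ideal.span {a}).minimalPrimes) :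
    ringKrullDim (A ⧸ P) + 1 = ringKrullDim (A ⧸ p) := by
  have hnoeth : IsNoetherianRing A := Algebra.FiniteType.isNoetherianRing k A
  have hPprime : P.IsPrime := hP.1.1
  have hpP : p ≤ P := le_sup_left.trans hP.1.2
  have haP : a ∈ P := hP.1.2 (Ideal.mem_sup_right (Ideal.mem_span_singleton_self a))
  set Q : Ideal (A ⧸ p) := P.map (Ideal.Quotient.mk p) with hQ
  have hQprime : Q.IsPrime :=
    Ideal.map_isPrime_of_surjective Ideal.Quotient.mk_surjective (by rwa [Ideal.mk_ker])
  have hQle : Q.height ≤ 1 := Ideal.map_height_le_one_of_mem_minimalPrimes hP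
  have hQne : Q.height ≠ 0 := by
    rw [Ne, Ideal.height_eq_zero_iff_eq_bot]
    intro hbot
    have : Ideal.Quotient.mk p a ∈ Q := Ideal.mem_map_of_mem _ haP
    rw [hbot, Ideal.mem_bot, Ideal.Quotient.eq_zero_iff_mem] at this
    exact ha this
  have hQone : Q.height = 1 := le_antisymm hQle (Order.one_le_iff_pos.mpr (pos_iff_ne_zero.mpr hQne))
  have h1 := ringKrullDim_quotient_add_one_of_height_eq_one k (A ⧸ p) Q hQone
  rw [← h1]
  congr 1
  exact (ringKrullDim_eq_of_ringEquiv (DoubleQuot.quotQuotEquivQuotOfLE hpP)).symm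

end dimdrop



section poly
variable (k : Type u) [Field k] (n : ℕ)

local notation "𝒜" => CohB1.polyGrading n k
local notation "A" => MvPolynomial (Fin (n + 1)) k
local notation "m₊" => HomogeneousIdeal.toIdeal (HomogeneousIdeal.irrelevant (CohB1.polyGrading n k))

/-- The degree zero component of a polynomial is a constant. -/
theorem proj_zero_eq_C (f : A) :
    GradedRing.proj 𝒜 0 f = MvPolynomial.C ((GradedRing.proj 𝒜 0 f).coeff 0) := by
  have hmem : GradedRing.proj 𝒜 0 f ∈ 𝒜 0 := by
    rw [GradedRing.proj_apply]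
    exact SetLike.coe_mem _
  rw [MvPolynomial.mem_homogeneousSubmodule, ← MvPolynomial.totalDegree_zero_iff_isHomogeneous,
    MvPolynomial.totalDegree_eq_zero_iff_eq_C] at hmem
  exact hmem

/-- A proper homogeneous ideal of the polynomial ring is contained in the irrelevant ideal. -/
theorem le_irrelevant_of_isHomogeneous {I : Ideal A} (hI : I.IsHomogeneous 𝒜) (hne : I ≠ ⊤) :
    I ≤ m₊ := by
  intro f hf
  change f ∈ HomogeneousIdeal.irrelevant 𝒜
  rw [HomogeneousIdeal.mem_irrelevant_iff]
  have h0 : GradedRing.proj 𝒜 0 f ∈ I := hI 0 hf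
  by_contra hne0
  have hc : (GradedRing.proj 𝒜 0 f).coeff 0 ≠ 0 := by
    intro h
    apply hne0
    rw [proj_zero_eq_C, h, map_zero]
  have hunit : IsUnit (GradedRing.proj 𝒜 0 f) := by
    rw [proj_zero_eq_C]
    exact (IsUnit.mk0 _ hc).map MvPolynomial.C
  exact hne (Ideal.eq_top_of_isUnit_mem _ h0 hunit)

theorem irrelevant_isMaximal : (m₊).IsMaximal := by
  have hprime := irrelevant_isPrime k n
  rw [Ideal.isMaximal_iff]
  refine ⟨fun h => hprime.ne_top ((Ideal.eq_top_iff_one _).mpr h), ?_⟩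
  intro J x hJ hx hxJ
  have hx0 : GradedRing.proj 𝒜 0 x ≠ 0 := fun h => hx ((HomogeneousIdeal.mem_irrelevant_iff 𝒜 x).mpr h)
  have hsub : x - GradedRing.proj 𝒜 0 x ∈ m₊ := by
    change _ ∈ HomogeneousIdeal.irrelevant 𝒜
    rw [HomogeneousIdeal.mem_irrelevant_iff, map_sub, sub_eq_zero]
    have hmem : GradedRing.proj 𝒜 0 x ∈ 𝒜 0 := by
      rw [GradedRing.proj_apply]
      exact SetLike.coe_mem _
    conv_rhs => rw [GradedRing.proj_apply, DirectSum.decompose_of_mem_same 𝒜 hmem]
  have hproj : GradedRing.proj 𝒜 0 x ∈ J := by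
    have : GradedRing.proj 𝒜 0 x = x - (x - GradedRing.proj 𝒜 0 x) := by ring
    rw [this]
    exact J.sub_mem hxJ (hJ hsub)
  have hc : (GradedRing.proj 𝒜 0 x).coeff 0 ≠ 0 := by
    intro h
    apply hx0
    rw [proj_zero_eq_C, h, map_zero]
  have hunit : IsUnit (GradedRing.proj 𝒜 0 x) := by
    rw [proj_zero_eq_C]
    exact (IsUnit.mk0 _ hc).map MvPolynomial.C
  exact (Ideal.eq_top_iff_one _).mp (Ideal.eq_top_of_isUnit_mem _ hproj hunit)

theorem ringKrullDim_quotient_irrelevant : ringKrullDim (A ⧸ m₊) = 0 := by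
  have := irrelevant_isMaximal k n
  let := Ideal.Quotient.field (m₊)
  exact ringKrullDim_eq_zero_of_field _

/-- A homogeneous ideal strictly inside the irrelevant ideal misses a homogeneous element of it. -/
theorem exists_homogeneous_mem_irrelevant_notMem {p : Ideal A} (hp : p < m₊) :
    ∃ (a : A) (d : ℕ), a ∈ 𝒜 d ∧ a ∈ m₊ ∧ a ∉ p := by
  classical
  obtain ⟨g, hg, hgp⟩ := SetLike.exists_of_lt hp
  by_contra hcon
  push Not at hcon
  apply hgp
  rw [← DirectSum.sum_support_decompose 𝒜 g]
  refine Ideal.sum_mem _ fun i _ => ?_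
  apply hcon _ i (SetLike.coe_mem _)
  exact (HomogeneousIdeal.irrelevant 𝒜).isHomogeneous i hg

end poly

end Groth.Agent.H54
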