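import Mathlib
import Groth.Agent.H54.ProjDimTheory1

set_option autoImplicit false
universe u
open AlgebraicGeometry TopologicalSpace

namespace Groth.Agent.H54

theorem withBot_enat_add_one_cancel {x : WithBot ℕ∞} {m : ℕ}
    (h : x + 1 = ((m + 1 : ℕ) : WithBot ℕ∞)) : x = (m : WithBot ℕ∞) := by
  induction x using WithBot.recBotCoe with
  | bot =>
    rw [WithBot.bot_add] at h
    exact absurd h.symm (WithBot.natCast_ne_bot _)
  | coe y =>
    induction y using ENat.recTopCoe with
    | top =>
      exfalso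
      have h' : ((⊤ : ℕ∞) : WithBot ℕ∞) + 1 = (((m + 1 : ℕ) : ℕ∞) : WithBot ℕ∞) := h
      have : ((⊤ : ℕ∞) + 1 : ℕ∞) = ((m + 1 : ℕ) : ℕ∞) := by exact_mod_cast h'
      rw [top_add] at this
      exact ENat.top_ne_natCast (m + 1) this
    | coe a =>
      have h' : (((a : ℕ∞) : WithBot ℕ∞)) + 1 = (((m + 1 : ℕ) : ℕ∞) : WithBot ℕ∞) := h
      have : a + 1 = m + 1 := by exact_mod_cast h'
      have : a = m := by omega
      subst this
      rfl

section poly
variable (k : Type u) [Field k] (n : ℕ)

local notation "𝒜" => CohB1.polyGrading n k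
local notation "A" => MvPolynomial (Fin (n + 1)) k
local notation "m₊" => HomogeneousIdeal.toIdeal (HomogeneousIdeal.irrelevant (CohB1.polyGrading n k))

/-- A homogeneous prime different from the irrelevant ideal, as a point of projective space. -/
noncomputable def pointOfPrime (p : Ideal A) (hp : p.IsPrime) (hph : p.IsHomogeneous 𝒜)
    (hne : p ≠ m₊) : ProjectiveSpectrum 𝒜 where
  asHomogeneousIdeal := ⟨p, hph⟩
  isPrime := hp
  not_irrelevant_le := by
    intro h
    apply hne
    exact le_antisymm (le_irrelevant_of_isHomogeneous k n hph hp.ne_top) h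

theorem pointOfPrime_toIdeal (p : Ideal A) (hp : p.IsPrime) (hph : p.IsHomogeneous 𝒜)
    (hne : p ≠ m₊) : (pointOfPrime k n p hp hph hne).asHomogeneousIdeal.toIdeal = p := by
  let _ := hp
  let _ := hph
  rfl

theorem ne_irrelevant_of_ringKrullDim_quotient {p : Ideal A} {d : ℕ}
    (hdim : ringKrullDim (A ⧸ p) = ((d + 1 : ℕ) : WithBot ℕ∞)) : p ≠ m₊ := by
  intro h
  rw [h, ringKrullDim_quotient_irrelevant] at hdim
  have : (0 : ℕ) = d + 1 := by exact_mod_cast hdim
  omega

/-- Existence of long chains of relevant homogeneous primes above a homogeneous prime. -/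
theorem exists_ltSeries_of_ringKrullDim_quotient (d : ℕ) :
    ∀ (p : Ideal A) (hp : p.IsPrime) (hph : p.IsHomogeneous 𝒜),
      ringKrullDim (A ⧸ p) = ((d + 1 : ℕ) : WithBot ℕ∞) →
      ∃ c : LTSeries (ProjectiveSpectrum 𝒜), c.length = d ∧
        c.head.asHomogeneousIdeal.toIdeal = p := by
  induction d with
  | zero =>
    intro p hp hph hdim
    have hne := ne_irrelevant_of_ringKrullDim_quotient k n hdim
    exact ⟨RelSeries.singleton _ (pointOfPrime k n p hp hph hne), rfl, rfl⟩
  | succ d ih =>
    intro p hp hph hdim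
    have hne := ne_irrelevant_of_ringKrullDim_quotient k n hdim
    have hle : p ≤ m₊ := le_irrelevant_of_isHomogeneous k n hph hp.ne_top
    have hlt : p < m₊ := lt_of_le_of_ne hle hne
    obtain ⟨a, e, hae, ham, hap⟩ := exists_homogeneous_mem_irrelevant_notMem k n hlt
    have hprime := irrelevant_isPrime k n
    have hIle : p ⊔ Ideal.span {a} ≤ m₊ :=
      sup_le hle ((Ideal.span_singleton_le_iff_mem _).mpr ham)
    obtain ⟨P', hP', hP'le⟩ := Ideal.exists_minimalPrimes_le hIle
    have hIhom : (p ⊔ Ideal.span {a}).IsHomogeneous 𝒜 :=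
      hph.sup (Ideal.homogeneous_span 𝒜 {a} (by
        rintro _ rfl
        exact ⟨e, hae⟩))
    have hP'hom : P'.IsHomogeneous 𝒜 := isHomogeneous_of_mem_minimalPrimes 𝒜 hIhom hP'
    have hP'prime : P'.IsPrime := hP'.1.1
    have hdrop := ringKrullDim_quotient_add_one_of_mem_minimalPrimes k A p a hap P' hP'
    rw [hdim] at hdrop
    have hdim' : ringKrullDim (A ⧸ P') = ((d + 1 : ℕ) : WithBot ℕ∞) :=
      withBot_enat_add_one_cancel hdrop
    obtain ⟨c', hc'len, hc'head⟩ := ih P' hP'prime hP'hom hdim'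
    have hpP' : p < P' := by
      rw [SetLike.lt_iff_le_and_exists]
      exact ⟨le_sup_left.trans hP'.1.2, a,
        hP'.1.2 (Ideal.mem_sup_right (Ideal.mem_span_singleton_self a)), hap⟩
    have hlt' : pointOfPrime k n p hp hph hne < c'.head := by
      change (pointOfPrime k n p hp hph hne).asHomogeneousIdeal.toIdeal <
        c'.head.asHomogeneousIdeal.toIdeal
      rw [hc'head]
      exact hpP'
    refine ⟨c'.cons (pointOfPrime k n p hp hph hne) hlt', ?_, ?_⟩
    · simp [hc'len]
    · simp [pointOfPrime_toIdeal]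

end poly

end Groth.Agent.H54
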