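import Mathlib
import Groth.Agent.H54.ProjDimTheory2

set_option autoImplicit false
universe u
open AlgebraicGeometry TopologicalSpace

namespace Groth.Agent.H54

section top
variable {A σ : Type*} [CommRing A] [SetLike σ A] [AddSubgroupClass σ A] (𝒜 : ℕ → σ) [GradedRing 𝒜]

instance : QuasiSober (ProjectiveSpectrum 𝒜) := inferInstanceAs (QuasiSober (Proj 𝒜))
instance : T0Space (ProjectiveSpectrum 𝒜) := inferInstanceAs (T0Space (Proj 𝒜))

attribute [local instance] specializationOrder in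
/-- Points of a closed subset of the projective spectrum correspond to its irreducible closed
subsets (order reversing). -/
noncomputable def closedPointsEquivIrreducibleCloseds (Z : Set (ProjectiveSpectrum 𝒜))
    (hZ : IsClosed Z) : ↥Z ≃o (IrreducibleCloseds ↥Z)ᵒᵈ :=
  haveI : QuasiSober ↥Z := hZ.isClosedEmbedding_subtypeVal.quasiSober
  { (irreducibleSetEquivPoints (α := ↥Z)).toEquiv.symm.trans OrderDual.toDual with
    map_rel_iff' := fun {p q} =>
      (RelIso.symm (irreducibleSetEquivPoints (α := ↥Z))).map_rel_iff.trans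
        ((subtype_specializes_iff p q).trans
          ((specializes_iff_mem_closure (x := p.1) (y := q.1)).trans
            (ProjectiveSpectrum.le_iff_mem_closure 𝒜 p.1 q.1).symm)) }

theorem topologicalKrullDim_closed (Z : Set (ProjectiveSpectrum 𝒜)) (hZ : IsClosed Z) :
    topologicalKrullDim ↥Z = Order.krullDim ↥Z :=
  Order.krullDim_orderDual.symm.trans <| Order.krullDim_eq_of_orderIso
    (closedPointsEquivIrreducibleCloseds 𝒜 Z hZ).symm

end top

theorem exists_nat_eq {x : WithBot ℕ∞} {N : ℕ} (h0 : 0 ≤ x) (h2 : x ≤ (N : WithBot ℕ∞)) :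
    ∃ l : ℕ, x = (l : WithBot ℕ∞) := by
  induction x using WithBot.recBotCoe with
  | bot => simp at h0
  | coe y =>
    induction y using ENat.recTopCoe with
    | top =>
      exfalso
      have : ((⊤ : ℕ∞) : WithBot ℕ∞) ≤ ((N : ℕ∞) : WithBot ℕ∞) := h2
      have h3 : (⊤ : ℕ∞) ≤ (N : ℕ∞) := by exact_mod_cast this
      exact ENat.top_ne_natCast N (top_le_iff.mp h3).symm
    | coe a => exact ⟨a, rfl⟩

section poly
variable (k : Type u) [Field k] (n : ℕ)

local notation "𝒜" => CohB1.polyGrading n k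
local notation "A" => MvPolynomial (Fin (n + 1)) k
local notation "m₊" => HomogeneousIdeal.toIdeal (HomogeneousIdeal.irrelevant (CohB1.polyGrading n k))

/-- the map from a zero locus in projective space to the zero locus in the affine cone -/
noncomputable def coneMap (s : Set A) (x : ↥(ProjectiveSpectrum.zeroLocus 𝒜 s)) :
    ↥(PrimeSpectrum.zeroLocus s) :=
  ⟨⟨x.1.asHomogeneousIdeal.toIdeal, x.1.isPrime⟩, x.2⟩

theorem coneMap_strictMono (s : Set A) : StrictMono (coneMap k n s) := fun _ _ h => h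

theorem krullDim_zeroLocus_le (s : Set A) :
    Order.krullDim ↥(ProjectiveSpectrum.zeroLocus 𝒜 s) ≤ (n : WithBot ℕ∞) :=
  le_trans (Order.krullDim_le_of_strictMono Subtype.val (fun _ _ h => h))
    (krullDim_projectiveSpectrum_le k n)

theorem krullDim_zeroLocus_add_one_le (p : Ideal A) (hp : p ≤ m₊) :
    Order.krullDim ↥(ProjectiveSpectrum.zeroLocus 𝒜 (p : Set A)) + 1 ≤ ringKrullDim (A ⧸ p) := by
  rw [ringKrullDim_quotient]
  by_cases hemp : IsEmpty ↥(ProjectiveSpectrum.zeroLocus 𝒜 (p : Set A))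
  · rw [Order.krullDim_eq_bot, WithBot.bot_add]
    exact bot_le
  rw [not_isEmpty_iff] at hemp
  obtain ⟨l, hl⟩ := exists_nat_eq (Order.krullDim_nonneg) (krullDim_zeroLocus_le k n (p : Set A))
  obtain ⟨c, hc⟩ := (Order.le_krullDim_iff (n := l)).mp hl.ge
  rw [hl]
  let top : ↥(PrimeSpectrum.zeroLocus (p : Set A)) := ⟨⟨m₊, irrelevant_isPrime k n⟩, hp⟩
  let q : LTSeries ↥(PrimeSpectrum.zeroLocus (p : Set A)) :=
    (c.map (coneMap k n (p : Set A)) (coneMap_strictMono k n _)).snoc top (by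
      rw [LTSeries.last_map]
      exact toIdeal_lt_irrelevant k n c.last.1)
  have hq : q.length = l + 1 := by simp [q, hc]
  have h1 : (q.length : WithBot ℕ∞) ≤ Order.krullDim ↥(PrimeSpectrum.zeroLocus (p : Set A)) :=
    Order.LTSeries.length_le_krullDim q
  rw [hq] at h1
  exact_mod_cast h1

/-- **Dimension of the affine cone**: for a relevant homogeneous prime `p` of `k[X₀,…,Xₙ]`,
`dim V₊(p) + 1 = dim A/p`. -/
theorem krullDim_zeroLocus_add_one_eq (p : Ideal A) (hp : p.IsPrime) (hph : p.IsHomogeneous 𝒜)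
    (hne : p ≠ m₊) :
    Order.krullDim ↥(ProjectiveSpectrum.zeroLocus 𝒜 (p : Set A)) + 1 = ringKrullDim (A ⧸ p) := by
  have hle : p ≤ m₊ := le_irrelevant_of_isHomogeneous k n hph hp.ne_top
  apply le_antisymm (krullDim_zeroLocus_add_one_le k n p hle)
  -- the point `p`
  let x₀ : ↥(ProjectiveSpectrum.zeroLocus 𝒜 (p : Set A)) :=
    ⟨pointOfPrime k n p hp hph hne, fun a ha => ha⟩
  have hnonempty : Nonempty ↥(ProjectiveSpectrum.zeroLocus 𝒜 (p : Set A)) := ⟨x₀⟩
  have h1 : (1 : WithBot ℕ∞) ≤ ringKrullDim (A ⧸ p) := by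
    refine le_trans ?_ (krullDim_zeroLocus_add_one_le k n p hle)
    have h0 : (0 : WithBot ℕ∞) ≤ Order.krullDim ↥(ProjectiveSpectrum.zeroLocus 𝒜 (p : Set A)) :=
      Order.krullDim_nonneg
    calc (1 : WithBot ℕ∞) = 0 + 1 := by simp
      _ ≤ _ := by gcongr
  have h2 : ringKrullDim (A ⧸ p) ≤ ((n + 1 : ℕ) : WithBot ℕ∞) := by
    rw [← ringKrullDim_mvPolynomial_fin_field k (n + 1)]
    exact ringKrullDim_quotient_le p
  obtain ⟨D, hD⟩ := exists_nat_eq (le_trans zero_le_one h1) h2
  have hD1 : 1 ≤ D := by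
    rw [hD] at h1
    exact_mod_cast h1
  obtain ⟨d, rfl⟩ : ∃ d, D = d + 1 := ⟨D - 1, by omega⟩
  obtain ⟨c, hclen, hchead⟩ := exists_ltSeries_of_ringKrullDim_quotient k n d p hp hph hD
  -- lift the chain to the zero locus
  have hmem : ∀ i, c i ∈ ProjectiveSpectrum.zeroLocus 𝒜 (p : Set A) := by
    intro i
    have hle' : c.head ≤ c i := LTSeries.head_le c i
    intro a ha
    have : a ∈ c.head.asHomogeneousIdeal.toIdeal := by rw [hchead]; exact ha
    exact hle' this
  let c' : LTSeries ↥(ProjectiveSpectrum.zeroLocus 𝒜 (p : Set A)) :=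
    { length := c.length
      toFun := fun i => ⟨c i, hmem i⟩
      step := fun i => c.step i }
  have h3 : (c'.length : WithBot ℕ∞) ≤
      Order.krullDim ↥(ProjectiveSpectrum.zeroLocus 𝒜 (p : Set A)) :=
    Order.LTSeries.length_le_krullDim c'
  have hc' : c'.length = d := hclen
  rw [hD]
  rw [hc'] at h3
  calc ((d + 1 : ℕ) : WithBot ℕ∞) = (d : WithBot ℕ∞) + 1 := by push_cast; rfl
    _ ≤ _ := by gcongr

/-- `S19926`: `dim A/p = dim V₊(p) + 1` topologically. -/
theorem ringKrullDim_quotient_eq_topologicalKrullDim_add_one (p : Ideal A) (hp : p.IsPrime)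
    (hph : p.IsHomogeneous 𝒜) (hrel : ¬ m₊ ≤ p) :
    ringKrullDim (A ⧸ p) =
      topologicalKrullDim ↥(ProjectiveSpectrum.zeroLocus 𝒜 (p : Set A)) + 1 := by
  rw [topologicalKrullDim_closed 𝒜 _ (ProjectiveSpectrum.isClosed_zeroLocus 𝒜 _)]
  exact (krullDim_zeroLocus_add_one_eq k n p hp hph (fun h => hrel h.ge)).symm

end poly

end Groth.Agent.H54
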