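import Mathlib
import Groth.Agent.H54.ProjDimTheory3

set_option autoImplicit false
universe u
open AlgebraicGeometry TopologicalSpace

namespace Groth.Agent.H54

section top
variable {A σ : Type*} [CommRing A] [SetLike σ A] [AddSubgroupClass σ A] (𝒜 : ℕ → σ) [GradedRing 𝒜]

/-- The generic point of an irreducible closed subset of the projective spectrum. -/
noncomputable def genericPointOf (Z : IrreducibleCloseds (ProjectiveSpectrum 𝒜)) :
    ProjectiveSpectrum 𝒜 :=
  (projPointsEquivIrreducibleCloseds 𝒜).symm (OrderDual.toDual Z)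

theorem closure_genericPointOf (Z : IrreducibleCloseds (ProjectiveSpectrum 𝒜)) :
    closure {genericPointOf 𝒜 Z} = (Z : Set (ProjectiveSpectrum 𝒜)) := by
  have h : projPointsEquivIrreducibleCloseds 𝒜 (genericPointOf 𝒜 Z) = OrderDual.toDual Z :=
    (projPointsEquivIrreducibleCloseds 𝒜).apply_symm_apply _
  have h2 := congrArg (fun W => (OrderDual.ofDual W : IrreducibleCloseds (Proj 𝒜)).carrier) h
  exact h2

theorem coheight_eq_height_genericPointOf (Z : IrreducibleCloseds (ProjectiveSpectrum 𝒜)) :
    Order.coheight Z = Order.height (genericPointOf 𝒜 Z) := by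
  have h : projPointsEquivIrreducibleCloseds 𝒜 (genericPointOf 𝒜 Z) = OrderDual.toDual Z :=
    (projPointsEquivIrreducibleCloseds 𝒜).apply_symm_apply _
  rw [← Order.height_orderIso (projPointsEquivIrreducibleCloseds 𝒜), h]
  rfl

theorem closure_singleton_eq_zeroLocus (x : ProjectiveSpectrum 𝒜) :
    closure {x} = ProjectiveSpectrum.zeroLocus 𝒜 (x.asHomogeneousIdeal : Set A) := by
  rw [← ProjectiveSpectrum.zeroLocus_vanishingIdeal_eq_closure,
    ProjectiveSpectrum.vanishingIdeal_singleton]

end top

section poly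
variable (k : Type u) [Field k] (n : ℕ)

local notation "𝒜" => CohB1.polyGrading n k
local notation "A" => MvPolynomial (Fin (n + 1)) k
local notation "m₊" => HomogeneousIdeal.toIdeal (HomogeneousIdeal.irrelevant (CohB1.polyGrading n k))

/-- A generator of a nonzero principal homogeneous ideal is homogeneous. -/
theorem isHomogeneous_of_span_singleton_isHomogeneous {x : A} (hx : x ≠ 0)
    (h : (Ideal.span {x}).IsHomogeneous 𝒜) : x.IsHomogeneous x.totalDegree := by
  classical
  set D := x.totalDegree with hD
  set xD := MvPolynomial.homogeneousComponent D x with hxD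
  have hxDhom : xD.IsHomogeneous D := MvPolynomial.homogeneousComponent_isHomogeneous D x
  have hxD0 : xD ≠ 0 := by
    have hsupp : x.support.Nonempty := by
      rw [Finset.nonempty_iff_ne_empty, Ne, MvPolynomial.support_eq_empty]
      exact hx
    obtain ⟨d, hd, hdeg⟩ := Finset.exists_mem_eq_sup x.support hsupp (fun s => s.sum fun _ e => e)
    intro h0
    have hc : MvPolynomial.coeff d xD = MvPolynomial.coeff d x := by
      rw [hxD, MvPolynomial.coeff_homogeneousComponent, if_pos]
      rw [hD, MvPolynomial.totalDegree, hdeg]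
      rfl
    rw [h0, MvPolynomial.coeff_zero] at hc
    exact (MvPolynomial.mem_support_iff.mp hd) hc.symm
  have hmem : xD ∈ Ideal.span {x} :=
    MvPolynomial.homogeneousComponent_mem_of_mem h (Ideal.mem_span_singleton_self x) D
  obtain ⟨a, ha⟩ := Ideal.mem_span_singleton'.mp hmem
  have ha0 : a ≠ 0 := by
    rintro rfl
    rw [zero_mul] at ha
    exact hxD0 ha.symm
  have hdeg : xD.totalDegree = a.totalDegree + x.totalDegree := by
    rw [← ha, MvPolynomial.totalDegree_mul_of_isDomain ha0 hx]
  rw [hxDhom.totalDegree hxD0] at hdeg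
  have ha_deg : a.totalDegree = 0 := by omega
  rw [MvPolynomial.totalDegree_eq_zero_iff_eq_C] at ha_deg
  have hc0 : a.coeff 0 ≠ 0 := by
    intro h0
    apply ha0
    rw [ha_deg, h0, map_zero]
  have hx_eq : x = MvPolynomial.C (a.coeff 0)⁻¹ * xD := by
    rw [← ha, ← mul_assoc]
    nth_rw 2 [ha_deg]
    rw [← map_mul, inv_mul_cancel₀ hc0, map_one, one_mul]
  rw [hx_eq]
  exact hxDhom.C_mul _

/-- the zero ideal as a point of projective space -/
noncomputable def botPoint : ProjectiveSpectrum 𝒜 :=
  pointOfPrime k n ⊥ Ideal.isPrime_bot (Ideal.IsHomogeneous.bot 𝒜) (by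
    intro h
    have hX : (MvPolynomial.X 0 : A) ∈ m₊ :=
      HomogeneousIdeal.mem_irrelevant_of_mem _ zero_lt_one (MvPolynomial.isHomogeneous_X _ _)
    rw [← h, Ideal.mem_bot] at hX
    exact MvPolynomial.X_ne_zero _ hX)

theorem botPoint_toIdeal : (botPoint k n).asHomogeneousIdeal.toIdeal = ⊥ := rfl

theorem botPoint_le (x : ProjectiveSpectrum 𝒜) : botPoint k n ≤ x := by
  change (botPoint k n).asHomogeneousIdeal.toIdeal ≤ x.asHomogeneousIdeal.toIdeal
  rw [botPoint_toIdeal]
  exact bot_le

end poly

end Groth.Agent.H54
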