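import Mathlib
import Groth.Agent.H54.ProjDimTheory4

set_option autoImplicit false
universe u
open AlgebraicGeometry TopologicalSpace

namespace Groth.Agent.H54

section poly
variable (k : Type u) [Field k] (n : ℕ)

local notation "𝒜" => CohB1.polyGrading n k
local notation "A" => MvPolynomial (Fin (n + 1)) k
local notation "m₊" => HomogeneousIdeal.toIdeal (HomogeneousIdeal.irrelevant (CohB1.polyGrading n k))

/-- height in the projective spectrum is bounded by the ideal height -/
theorem height_le_ideal_height (x : ProjectiveSpectrum 𝒜) :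
    Order.height x ≤ x.asHomogeneousIdeal.toIdeal.height := by
  have h := Order.height_le_height_apply_of_strictMono (projToSpec k n) (projToSpec_strictMono k n) x
  rwa [← PrimeSpectrum.height_eq_orderHeight] at h

/-- A point of height one in projective space is `V₊` of an irreducible homogeneous polynomial. -/
theorem exists_irreducible_of_height_eq_one (x : ProjectiveSpectrum 𝒜) (hx : Order.height x = 1) :
    ∃ (d : ℕ) (f : A), f.IsHomogeneous d ∧ Irreducible f ∧
      x.asHomogeneousIdeal.toIdeal = Ideal.span {f} := by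
  classical
  set Q := x.asHomogeneousIdeal.toIdeal with hQ
  have hQhom : Q.IsHomogeneous 𝒜 := x.asHomogeneousIdeal.isHomogeneous
  have hQprime : Q.IsPrime := x.isPrime
  -- `Q ≠ ⊥`
  have hQne : Q ≠ ⊥ := by
    intro hbot
    have hmin : IsMin x := by
      intro y hy
      change y.asHomogeneousIdeal.toIdeal ≤ Q at hy
      rw [hbot, le_bot_iff] at hy
      change Q ≤ y.asHomogeneousIdeal.toIdeal
      rw [hbot]
      exact bot_le
    rw [← Order.height_eq_zero] at hmin
    rw [hmin] at hx
    exact zero_ne_one hx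
  -- a nonzero homogeneous element
  obtain ⟨g, e, hge, hgQ, hg0⟩ : ∃ (g : A) (e : ℕ), g ∈ 𝒜 e ∧ g ∈ Q ∧ g ≠ 0 := by
    obtain ⟨g', hg'Q, hg'0⟩ := Submodule.exists_mem_ne_zero_of_ne_bot hQne
    by_contra hcon
    push Not at hcon
    apply hg'0
    rw [← DirectSum.sum_support_decompose 𝒜 g']
    refine Finset.sum_eq_zero fun i _ => ?_
    exact hcon _ i (SetLike.coe_mem _) (hQhom i hg'Q)
  obtain ⟨P₁, hP₁, hP₁Q⟩ := Ideal.exists_minimalPrimes_le
    ((Ideal.span_singleton_le_iff_mem Q).mpr hgQ)
  have hP₁prime : P₁.IsPrime := hP₁.1.1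
  have hP₁hom : P₁.IsHomogeneous 𝒜 :=
    isHomogeneous_of_mem_minimalPrimes 𝒜 (Ideal.homogeneous_span 𝒜 {g} (by
      rintro _ rfl
      exact ⟨e, hge⟩)) hP₁
  have hgP₁ : g ∈ P₁ := hP₁.1.2 (Ideal.mem_span_singleton_self g)
  have hP₁ne : P₁ ≠ m₊ := by
    intro h
    apply x.not_irrelevant_le
    intro a ha
    exact hP₁Q (h ▸ ha)
  let p₁ := pointOfPrime k n P₁ hP₁prime hP₁hom hP₁ne
  have hp₁x : p₁ ≤ x := hP₁Q
  have hbot_lt : botPoint k n < p₁ := by
    change (⊥ : Ideal A) < P₁
    rw [bot_lt_iff_ne_bot]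
    intro h
    rw [h, Ideal.mem_bot] at hgP₁
    exact hg0 hgP₁
  -- `p₁ = x`
  have hp₁eq : p₁ = x := by
    by_contra hne
    have hlt : p₁ < x := lt_of_le_of_ne hp₁x hne
    let c : LTSeries (ProjectiveSpectrum 𝒜) :=
      ((RelSeries.singleton _ (botPoint k n)).snoc p₁ hbot_lt).snoc x (by simpa using hlt)
    have hc : (c.length : ℕ∞) ≤ Order.height x := Order.length_le_height (by simp [c])
    have : c.length = 2 := by simp [c]
    rw [this, hx] at hc
    norm_num at hc
  have hP₁Q' : P₁ = Q := by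
    have := congrArg (fun y : ProjectiveSpectrum 𝒜 => y.asHomogeneousIdeal.toIdeal) hp₁eq
    exact this
  -- height of `P₁` is one
  have hht : P₁.height = 1 := by
    apply le_antisymm (Ideal.height_le_one_of_isPrincipal_of_mem_minimalPrimes _ P₁ hP₁)
    rw [Order.one_le_iff_pos, pos_iff_ne_zero, Ne, Ideal.height_eq_zero_iff_eq_bot]
    intro h
    rw [h, Ideal.mem_bot] at hgP₁
    exact hg0 hgP₁
  obtain ⟨f, hfP₁, hfprime⟩ := Ideal.IsPrime.exists_mem_prime_of_ne_bot hP₁prime
    (P₁.ne_bot_of_height_eq_one hht)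
  have hP₁span : P₁ = Ideal.span {f} := P₁.eq_span_singleton_of_height_eq_one hht hfP₁ hfprime
  have hfhom : f.IsHomogeneous f.totalDegree :=
    isHomogeneous_of_span_singleton_isHomogeneous k n hfprime.ne_zero (hP₁span ▸ hP₁hom)
  exact ⟨f.totalDegree, f, hfhom, hfprime.irreducible, hP₁Q' ▸ hP₁span⟩

/-- `V₊` of an irreducible homogeneous polynomial has codimension one. -/
theorem coheight_eq_one_of_irreducible (Z : IrreducibleCloseds (ProjectiveSpectrum 𝒜))
    (d : ℕ) (f : A) (hf : f.IsHomogeneous d) (hirr : Irreducible f)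
    (hZ : (Z : Set (ProjectiveSpectrum 𝒜)) = ProjectiveSpectrum.zeroLocus 𝒜 ({f} : Set A)) :
    Order.coheight Z = 1 := by
  classical
  rw [coheight_eq_height_genericPointOf]
  set q := genericPointOf 𝒜 Z with hq
  have hcl : closure {q} = ProjectiveSpectrum.zeroLocus 𝒜 ({f} : Set A) :=
    (closure_genericPointOf 𝒜 Z).trans hZ
  have hqmem : q ∈ ProjectiveSpectrum.zeroLocus 𝒜 ({f} : Set A) := hcl ▸ subset_closure rfl
  have hfQ : f ∈ q.asHomogeneousIdeal.toIdeal := hqmem rfl
  have hfprime : Prime f := UniqueFactorizationMonoid.irreducible_iff_prime.mp hirr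
  have hspanprime : (Ideal.span {f}).IsPrime :=
    (Ideal.span_singleton_prime hfprime.ne_zero).mpr hfprime
  have hspanhom : (Ideal.span {f}).IsHomogeneous 𝒜 :=
    Ideal.homogeneous_span 𝒜 {f} (by
      rintro _ rfl
      exact ⟨d, hf⟩)
  have hspanle : Ideal.span {f} ≤ q.asHomogeneousIdeal.toIdeal :=
    (Ideal.span_singleton_le_iff_mem _).mpr hfQ
  have hne : Ideal.span {f} ≠ m₊ := by
    intro h
    apply q.not_irrelevant_le
    intro a ha
    exact hspanle (h ▸ ha)
  let xf := pointOfPrime k n (Ideal.span {f}) hspanprime hspanhom hne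
  have hxfmem : xf ∈ ProjectiveSpectrum.zeroLocus 𝒜 ({f} : Set A) := by
    intro a ha
    rw [Set.mem_singleton_iff] at ha
    subst ha
    exact Ideal.mem_span_singleton_self a
  rw [← hcl, ← ProjectiveSpectrum.le_iff_mem_closure] at hxfmem
  have hqxf : q = xf := le_antisymm hxfmem hspanle
  have hQ : q.asHomogeneousIdeal.toIdeal = Ideal.span {f} := by rw [hqxf]; rfl
  apply le_antisymm
  · refine le_trans (height_le_ideal_height k n q) ?_
    rw [hQ]
    exact Ideal.height_span_singleton_le_one hirr.not_isUnit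
  · have hbot_lt : botPoint k n < q := by
      change (⊥ : Ideal A) < q.asHomogeneousIdeal.toIdeal
      rw [hQ, bot_lt_iff_ne_bot, Ne, Ideal.span_singleton_eq_bot]
      exact hfprime.ne_zero
    let c : LTSeries (ProjectiveSpectrum 𝒜) :=
      (RelSeries.singleton _ (botPoint k n)).snoc q hbot_lt
    have hc : (c.length : ℕ∞) ≤ Order.height q := Order.length_le_height (by simp [c])
    have : c.length = 1 := by simp [c]
    rw [this] at hc
    exact_mod_cast hc

/-- `S10821`. -/
theorem coheight_eq_one_iff (Z : IrreducibleCloseds (ProjectiveSpectrum 𝒜)) :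
    Order.coheight Z = 1 ↔
      ∃ (d : ℕ) (f : A), f.IsHomogeneous d ∧ Irreducible f ∧
        (Z : Set (ProjectiveSpectrum 𝒜)) = ProjectiveSpectrum.zeroLocus 𝒜 ({f} : Set A) := by
  constructor
  · intro h
    rw [coheight_eq_height_genericPointOf] at h
    obtain ⟨d, f, hf, hirr, hQ⟩ := exists_irreducible_of_height_eq_one k n _ h
    refine ⟨d, f, hf, hirr, ?_⟩
    rw [← closure_genericPointOf 𝒜 Z, closure_singleton_eq_zeroLocus,
      ← ProjectiveSpectrum.zeroLocus_span 𝒜 ({f} : Set A), ← hQ]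
    rfl
  · rintro ⟨d, f, hf, hirr, hZ⟩
    exact coheight_eq_one_of_irreducible k n Z d f hf hirr hZ

end poly

end Groth.Agent.H54
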