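import Mathlib
import Groth.Agent.H54.ProjDimTheory5

set_option autoImplicit false
universe u
open AlgebraicGeometry TopologicalSpace

namespace Groth.Agent.H54

section gentop

/-- Irreducible components of a closed subspace of a quasi-sober space have generic points which
are minimal (w.r.t. specialization) in the subspace. -/
theorem exists_generic_of_mem_irreducibleComponents {T : Type*} [TopologicalSpace T] [QuasiSober T]
    (Z : Set T) (hZ : IsClosed Z) (C : Set ↥Z) (hC : C ∈ irreducibleComponents ↥Z) :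
    ∃ c : T, c ∈ Z ∧ Subtype.val '' C = closure {c} ∧
      ∀ z ∈ Z, c ∈ closure {z} → z ∈ closure {c} := by
  have hCcl : IsClosed C := isClosed_of_mem_irreducibleComponents C hC
  have hCirr : IsIrreducible C := hC.1
  have himg_irr : IsIrreducible (Subtype.val '' C) := hCirr.image _ continuous_subtype_val.continuousOn
  have himg_cl : IsClosed (Subtype.val '' C) := hZ.isClosedEmbedding_subtypeVal.isClosedMap _ hCcl
  obtain ⟨c, hc⟩ := QuasiSober.sober himg_irr himg_cl
  have hcl : closure {c} = Subtype.val '' C := hc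
  have hcmem : c ∈ Subtype.val '' C := by
    rw [← hcl]; exact subset_closure rfl
  have hcZ : c ∈ Z := by
    obtain ⟨y, -, rfl⟩ := hcmem
    exact y.2
  refine ⟨c, hcZ, hcl.symm, ?_⟩
  intro z hz hcz
  set D : Set ↥Z := closure {⟨z, hz⟩} with hD
  have hDirr : IsIrreducible D := isIrreducible_singleton.closure
  have hCD : C ⊆ D := by
    intro y hy
    rw [hD, closure_subtype, Set.image_singleton]
    have h1 : y.1 ∈ closure {c} := by
      rw [hcl]; exact ⟨y, hy, rfl⟩
    exact (closure_minimal (Set.singleton_subset_iff.mpr hcz) isClosed_closure) h1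
  have hDC : D ⊆ C := hC.2 hDirr hCD
  have hzC : (⟨z, hz⟩ : ↥Z) ∈ C := hDC (subset_closure rfl)
  rw [hcl]
  exact ⟨⟨z, hz⟩, hzC, rfl⟩

theorem topologicalKrullDim_image_val {T : Type*} [TopologicalSpace T] (Z : Set T) (C : Set ↥Z) :
    topologicalKrullDim ↥C = topologicalKrullDim ↥(Subtype.val '' C) :=
  IsHomeomorph.topologicalKrullDim_eq _
    (Topology.IsEmbedding.subtypeVal.homeomorphImage C).isHomeomorph

end gentop

section poly
variable (k : Type u) [Field k] (n : ℕ)

local notation "𝒜" => CohB1.polyGrading n k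
local notation "A" => MvPolynomial (Fin (n + 1)) k
local notation "m₊" => HomogeneousIdeal.toIdeal (HomogeneousIdeal.irrelevant (CohB1.polyGrading n k))

theorem topologicalKrullDim_zeroLocus_le (s : Set A) :
    topologicalKrullDim ↥(ProjectiveSpectrum.zeroLocus 𝒜 s) ≤ (n : WithBot ℕ∞) := by
  rw [topologicalKrullDim_closed 𝒜 _ (ProjectiveSpectrum.isClosed_zeroLocus 𝒜 _)]
  exact krullDim_zeroLocus_le k n s

/-- Hypersurface sections of irreducible closed subsets of projective space. -/
theorem hypersurface_section (d : ℕ)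
    (X : Set (ProjectiveSpectrum 𝒜)) (hXc : IsClosed X) (hXi : IsIrreducible X)
    (hXd : 0 < topologicalKrullDim ↥X)
    (f : A) (hf : f.IsHomogeneous d)
    (hV : (ProjectiveSpectrum.zeroLocus 𝒜 ({f} : Set A)).Nonempty)
    (hX : ¬ X ⊆ ProjectiveSpectrum.zeroLocus 𝒜 ({f} : Set A)) :
    (X ∩ ProjectiveSpectrum.zeroLocus 𝒜 ({f} : Set A)).Nonempty ∧
      ∀ C ∈ irreducibleComponents ↥(X ∩ ProjectiveSpectrum.zeroLocus 𝒜 ({f} : Set A)),
        topologicalKrullDim ↥C + 1 = topologicalKrullDim ↥X := by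
  classical
  -- generic point
  set ZX : IrreducibleCloseds (ProjectiveSpectrum 𝒜) := ⟨X, hXi, hXc⟩ with hZX
  set x := genericPointOf 𝒜 ZX with hx
  have hclx : closure {x} = X := closure_genericPointOf 𝒜 ZX
  set p := x.asHomogeneousIdeal.toIdeal with hp
  have hpprime : p.IsPrime := x.isPrime
  have hphom : p.IsHomogeneous 𝒜 := x.asHomogeneousIdeal.isHomogeneous
  have hprel : ¬ m₊ ≤ p := x.not_irrelevant_le
  have hXeq : X = ProjectiveSpectrum.zeroLocus 𝒜 (p : Set A) := by
    rw [← hclx, closure_singleton_eq_zeroLocus]; rfl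
  have hfp : f ∉ p := by
    intro hfp
    apply hX
    rw [hXeq]
    apply ProjectiveSpectrum.zeroLocus_anti_mono
    intro g hg
    rw [Set.mem_singleton_iff] at hg
    rw [hg]; exact hfp
  have hfm : f ∈ m₊ := by
    obtain ⟨y, hy⟩ := hV
    have h1 : f ∈ y.asHomogeneousIdeal.toIdeal := hy (Set.mem_singleton f)
    exact le_irrelevant_of_isHomogeneous k n y.asHomogeneousIdeal.isHomogeneous y.isPrime.ne_top h1
  have hfhom : (Ideal.span ({f} : Set A)).IsHomogeneous 𝒜 := by
    apply Ideal.homogeneous_span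
    intro g hg
    rw [Set.mem_singleton_iff] at hg
    rw [hg]
    exact ⟨d, (MvPolynomial.mem_homogeneousSubmodule d f).mpr hf⟩
  set J := p ⊔ Ideal.span ({f} : Set A) with hJ
  have hJhom : J.IsHomogeneous 𝒜 := hphom.sup hfhom
  have hpm : p ≤ m₊ := le_irrelevant_of_isHomogeneous k n hphom hpprime.ne_top
  have hJm : J ≤ m₊ := sup_le hpm ((Ideal.span_singleton_le_iff_mem _).mpr hfm)
  have hmem_iff : ∀ y : ProjectiveSpectrum 𝒜,
      y ∈ X ∩ ProjectiveSpectrum.zeroLocus 𝒜 ({f} : Set A) ↔ J ≤ y.asHomogeneousIdeal.toIdeal := by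
    intro y
    rw [hXeq, ← ProjectiveSpectrum.zeroLocus_span 𝒜 ({f} : Set A),
      ← ProjectiveSpectrum.zeroLocus_sup_ideal]
    rfl
  -- dimension of X as a natural number
  have hdimX : ringKrullDim (A ⧸ p) = topologicalKrullDim ↥X + 1 := by
    rw [hXeq]
    exact ringKrullDim_quotient_eq_topologicalKrullDim_add_one k n p hpprime hphom hprel
  obtain ⟨l, hl⟩ : ∃ l : ℕ, topologicalKrullDim ↥X = (l : WithBot ℕ∞) := by
    apply exists_nat_eq (N := n) hXd.le
    rw [hXeq]
    exact topologicalKrullDim_zeroLocus_le k n _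
  have hlpos : 0 < l := by
    rw [hl] at hXd
    exact_mod_cast hXd
  obtain ⟨l', rfl⟩ : ∃ l', l = l' + 1 := ⟨l - 1, by omega⟩
  -- key claim about minimal primes
  have key : ∀ Q ∈ J.minimalPrimes, Q.IsHomogeneous 𝒜 ∧ Q ≠ m₊ ∧
      ringKrullDim (A ⧸ Q) = ((l' + 1 : ℕ) : WithBot ℕ∞) := by
    intro Q hQ
    have h1 := ringKrullDim_quotient_add_one_of_mem_minimalPrimes k A p f hfp Q hQ
    rw [hdimX, hl] at h1
    have h2 : ringKrullDim (A ⧸ Q) = ((l' + 1 : ℕ) : WithBot ℕ∞) := by
      apply withBot_enat_add_one_cancel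
      rw [h1]; push_cast; rfl
    exact ⟨isHomogeneous_of_mem_minimalPrimes 𝒜 hJhom hQ,
      ne_irrelevant_of_ringKrullDim_quotient k n h2, h2⟩
  constructor
  · have := irrelevant_isPrime k n
    obtain ⟨Q, hQ, -⟩ := Ideal.exists_minimalPrimes_le (I := J) (J := m₊) hJm
    obtain ⟨hQh, hQne, -⟩ := key Q hQ
    refine ⟨pointOfPrime k n Q hQ.1.1 hQh hQne, ?_⟩
    rw [hmem_iff, pointOfPrime_toIdeal]
    exact hQ.1.2
  · intro C hC
    have hZcl : IsClosed (X ∩ ProjectiveSpectrum.zeroLocus 𝒜 ({f} : Set A)) :=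
      hXc.inter (ProjectiveSpectrum.isClosed_zeroLocus 𝒜 _)
    obtain ⟨c, hcZ, hcC, hcmin⟩ := exists_generic_of_mem_irreducibleComponents _ hZcl C hC
    have hJc : J ≤ c.asHomogeneousIdeal.toIdeal := (hmem_iff c).mp hcZ
    have : c.asHomogeneousIdeal.toIdeal.IsPrime := c.isPrime
    obtain ⟨Q, hQ, hQc⟩ := Ideal.exists_minimalPrimes_le hJc
    obtain ⟨hQh, hQne, hQdim⟩ := key Q hQ
    set z := pointOfPrime k n Q hQ.1.1 hQh hQne with hz
    have hzZ : z ∈ X ∩ ProjectiveSpectrum.zeroLocus 𝒜 ({f} : Set A) := by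
      rw [hmem_iff, pointOfPrime_toIdeal]
      exact hQ.1.2
    have hzc : z ≤ c := by
      change z.asHomogeneousIdeal.toIdeal ≤ c.asHomogeneousIdeal.toIdeal
      rw [pointOfPrime_toIdeal]; exact hQc
    have hcz : c ≤ z := by
      rw [ProjectiveSpectrum.le_iff_mem_closure]
      apply hcmin z hzZ
      rw [← ProjectiveSpectrum.le_iff_mem_closure]
      exact hzc
    have hcz_eq : c = z := le_antisymm hcz hzc
    have himg : Subtype.val '' C = ProjectiveSpectrum.zeroLocus 𝒜 (Q : Set A) := by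
      rw [hcC, hcz_eq, closure_singleton_eq_zeroLocus]
      rfl
    rw [topologicalKrullDim_image_val, himg, hl]
    have h3 := ringKrullDim_quotient_eq_topologicalKrullDim_add_one k n Q hQ.1.1 hQh
      (fun h => hQne (le_antisymm (le_irrelevant_of_isHomogeneous k n hQh hQ.1.1.ne_top) h))
    rw [← h3, hQdim]

end poly

end Groth.Agent.H54
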