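import Mathlib
import Groth.Agent.H54.ProjDimTheory6

set_option autoImplicit false
universe u
open AlgebraicGeometry TopologicalSpace

namespace Groth.Agent.H54

/-- Krull's height theorem in dimension form for finitely generated algebras over a field. -/
theorem ringKrullDim_quotient_le_add_card (k A : Type u) [Field k] [CommRing A] [Algebra k A]
    [Algebra.FiniteType k A] (p : Ideal A) [hp : p.IsPrime] (s : Finset A) :
    ∀ Q ∈ (p ⊔ Ideal.span (s : Set A)).minimalPrimes,
      ringKrullDim (A ⧸ p) ≤ ringKrullDim (A ⧸ Q) + (s.card : WithBot ℕ∞) := by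
  classical
  induction s using Finset.induction_on with
  | empty =>
    intro Q hQ
    rw [Finset.coe_empty, Ideal.span_empty, sup_bot_eq, Ideal.minimalPrimes_eq_subsingleton_self,
      Set.mem_singleton_iff] at hQ
    rw [hQ]
    simp
  | insert a s has ih =>
    intro Q hQ
    have hQprime : Q.IsPrime := hQ.1.1
    have hle : p ⊔ Ideal.span ((insert a s : Finset A) : Set A) ≤ Q := hQ.1.2
    have hspan : Ideal.span ((insert a s : Finset A) : Set A) =
        Ideal.span {a} ⊔ Ideal.span (s : Set A) := by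
      rw [Finset.coe_insert, Ideal.span_insert]
    have hI : p ⊔ Ideal.span (s : Set A) ≤ Q := by
      refine le_trans ?_ hle
      rw [hspan]
      exact sup_le_sup_left le_sup_right _
    have haQ : a ∈ Q := by
      apply hle
      apply Ideal.mem_sup_right
      apply Ideal.subset_span
      simp
    obtain ⟨Q', hQ', hQ'Q⟩ := Ideal.exists_minimalPrimes_le hI
    have hQ'prime : Q'.IsPrime := hQ'.1.1
    have ih' := ih Q' hQ'
    have hQmin : Q ∈ (Q' ⊔ Ideal.span {a}).minimalPrimes := by
      refine ⟨⟨hQprime, sup_le hQ'Q ((Ideal.span_singleton_le_iff_mem _).mpr haQ)⟩, ?_⟩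
      intro R hR hRQ
      apply hQ.2 ⟨hR.1, ?_⟩ hRQ
      rw [hspan]
      have h1 : p ≤ R := le_trans (le_trans le_sup_left hQ'.1.2) (le_trans le_sup_left hR.2)
      have h2 : Ideal.span (s : Set A) ≤ R :=
        le_trans (le_trans le_sup_right hQ'.1.2) (le_trans le_sup_left hR.2)
      have h3 : Ideal.span {a} ≤ R := le_trans le_sup_right hR.2
      exact sup_le h1 (sup_le h3 h2)
    rw [Finset.card_insert_of_notMem has]
    by_cases ha : a ∈ Q'
    · have hQ'a : Q' ⊔ Ideal.span {a} = Q' := by
        rw [sup_eq_left]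
        exact (Ideal.span_singleton_le_iff_mem _).mpr ha
      rw [hQ'a, Ideal.minimalPrimes_eq_subsingleton_self, Set.mem_singleton_iff] at hQmin
      rw [hQmin]
      refine le_trans ih' ?_
      gcongr
      exact le_self_add
    · have h1 := ringKrullDim_quotient_add_one_of_mem_minimalPrimes k A Q' a ha Q hQmin
      refine le_trans ih' ?_
      rw [← h1]
      push_cast
      rw [add_assoc, add_comm 1]

theorem withBot_enat_le_of_add_one_le_add_one {x y : WithBot ℕ∞} (h : x + 1 ≤ y + 1) : x ≤ y := by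
  induction x using WithBot.recBotCoe with
  | bot => exact bot_le
  | coe x =>
    induction y using WithBot.recBotCoe with
    | bot =>
      rw [WithBot.bot_add] at h
      exact absurd h (by simp [← WithBot.coe_one, ← WithBot.coe_add])
    | coe y =>
      rw [← WithBot.coe_one, ← WithBot.coe_add, ← WithBot.coe_add, WithBot.coe_le_coe] at h
      rw [WithBot.coe_le_coe]
      exact (ENat.add_le_add_iff_right ENat.one_ne_top).mp h


section poly
variable (k : Type u) [Field k] (n : ℕ)

local notation "𝒜" => CohB1.polyGrading n k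
local notation "A" => MvPolynomial (Fin (n + 1)) k
local notation "m₊" => HomogeneousIdeal.toIdeal (HomogeneousIdeal.irrelevant (CohB1.polyGrading n k))

/-- Intersections with `r` hypersurfaces in projective space. -/
theorem hypersurfaces_section (r : ℕ)
    (X : Set (ProjectiveSpectrum 𝒜)) (hXc : IsClosed X) (hXi : IsIrreducible X)
    (f : Fin r → A) (d : Fin r → ℕ)
    (hf : ∀ i, (f i).IsHomogeneous (d i)) (hd : ∀ i, 0 < d i) :
    (∀ C ∈ irreducibleComponents ↥(X ∩ ProjectiveSpectrum.zeroLocus 𝒜 (Set.range f)),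
        topologicalKrullDim ↥X ≤ topologicalKrullDim ↥C + (r : WithBot ℕ∞)) ∧
      ((r : WithBot ℕ∞) ≤ topologicalKrullDim ↥X →
        (X ∩ ProjectiveSpectrum.zeroLocus 𝒜 (Set.range f)).Nonempty) := by
  classical
  -- generic point
  set ZX : IrreducibleCloseds (ProjectiveSpectrum 𝒜) := ⟨X, hXi, hXc⟩ with hZX
  set x := genericPointOf 𝒜 ZX with hx
  have hclx : closure {x} = X := closure_genericPointOf 𝒜 ZX
  set p := x.asHomogeneousIdeal.toIdeal with hp
  have hpprime : p.IsPrime := x.isPrime
  have hphom : p.IsHomogeneous 𝒜 := x.asHomogeneousIdeal.isHomogeneous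
  have hprel : ¬ m₊ ≤ p := x.not_irrelevant_le
  have hXeq : X = ProjectiveSpectrum.zeroLocus 𝒜 (p : Set A) := by
    rw [← hclx, closure_singleton_eq_zeroLocus]; rfl
  have hfm : ∀ i, f i ∈ m₊ := fun i =>
    HomogeneousIdeal.mem_irrelevant_of_mem _ (hd i)
      ((MvPolynomial.mem_homogeneousSubmodule (d i) (f i)).mpr (hf i))
  have hfhom : (Ideal.span (Set.range f)).IsHomogeneous 𝒜 := by
    apply Ideal.homogeneous_span
    rintro g ⟨i, rfl⟩
    exact ⟨d i, (MvPolynomial.mem_homogeneousSubmodule (d i) (f i)).mpr (hf i)⟩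
  set s : Finset A := Finset.univ.image f with hs
  have hscoe : (s : Set A) = Set.range f := by
    rw [hs, Finset.coe_image, Finset.coe_univ, Set.image_univ]
  have hscard : (s.card : WithBot ℕ∞) ≤ (r : WithBot ℕ∞) := by
    have : s.card ≤ r := by
      refine le_trans Finset.card_image_le ?_
      simp
    exact_mod_cast this
  set J := p ⊔ Ideal.span (Set.range f) with hJ
  have hJhom : J.IsHomogeneous 𝒜 := hphom.sup hfhom
  have hpm : p ≤ m₊ := le_irrelevant_of_isHomogeneous k n hphom hpprime.ne_top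
  have hJm : J ≤ m₊ := by
    refine sup_le hpm ?_
    rw [Ideal.span_le]
    rintro g ⟨i, rfl⟩
    exact hfm i
  have hmem_iff : ∀ y : ProjectiveSpectrum 𝒜,
      y ∈ X ∩ ProjectiveSpectrum.zeroLocus 𝒜 (Set.range f) ↔ J ≤ y.asHomogeneousIdeal.toIdeal := by
    intro y
    rw [hXeq, ← ProjectiveSpectrum.zeroLocus_span 𝒜 (Set.range f),
      ← ProjectiveSpectrum.zeroLocus_sup_ideal]
    rfl
  have hdimX : ringKrullDim (A ⧸ p) = topologicalKrullDim ↥X + 1 := by
    rw [hXeq]
    exact ringKrullDim_quotient_eq_topologicalKrullDim_add_one k n p hpprime hphom hprel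
  -- key inequality
  have key : ∀ Q ∈ J.minimalPrimes,
      topologicalKrullDim ↥X + 1 ≤ ringKrullDim (A ⧸ Q) + (r : WithBot ℕ∞) := by
    intro Q hQ
    rw [← hdimX]
    have hQ' : Q ∈ (p ⊔ Ideal.span (s : Set A)).minimalPrimes := by rw [hscoe]; exact hQ
    refine le_trans (ringKrullDim_quotient_le_add_card k A p s Q hQ') ?_
    gcongr
  constructor
  · intro C hC
    have hZcl : IsClosed (X ∩ ProjectiveSpectrum.zeroLocus 𝒜 (Set.range f)) :=
      hXc.inter (ProjectiveSpectrum.isClosed_zeroLocus 𝒜 _)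
    obtain ⟨c, hcZ, hcC, hcmin⟩ := exists_generic_of_mem_irreducibleComponents _ hZcl C hC
    have hJc : J ≤ c.asHomogeneousIdeal.toIdeal := (hmem_iff c).mp hcZ
    have : c.asHomogeneousIdeal.toIdeal.IsPrime := c.isPrime
    obtain ⟨Q, hQ, hQc⟩ := Ideal.exists_minimalPrimes_le hJc
    have hQh : Q.IsHomogeneous 𝒜 := isHomogeneous_of_mem_minimalPrimes 𝒜 hJhom hQ
    have hQne : Q ≠ m₊ := by
      intro h
      apply c.not_irrelevant_le
      change m₊ ≤ c.asHomogeneousIdeal.toIdeal
      rw [← h]; exact hQc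
    set z := pointOfPrime k n Q hQ.1.1 hQh hQne with hz
    have hzZ : z ∈ X ∩ ProjectiveSpectrum.zeroLocus 𝒜 (Set.range f) := by
      rw [hmem_iff, pointOfPrime_toIdeal]
      exact hQ.1.2
    have hzc : z ≤ c := by
      change z.asHomogeneousIdeal.toIdeal ≤ c.asHomogeneousIdeal.toIdeal
      rw [pointOfPrime_toIdeal]; exact hQc
    have hcz : c ≤ z := by
      rw [ProjectiveSpectrum.le_iff_mem_closure]
      apply hcmin z hzZ
      rw [← ProjectiveSpectrum.le_iff_mem_closure]
      exact hzc
    have hcz_eq : c = z := le_antisymm hcz hzc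
    have himg : Subtype.val '' C = ProjectiveSpectrum.zeroLocus 𝒜 (Q : Set A) := by
      rw [hcC, hcz_eq, closure_singleton_eq_zeroLocus]
      rfl
    rw [topologicalKrullDim_image_val, himg]
    have h3 := ringKrullDim_quotient_eq_topologicalKrullDim_add_one k n Q hQ.1.1 hQh
      (fun h => hQne (le_antisymm (le_irrelevant_of_isHomogeneous k n hQh hQ.1.1.ne_top) h))
    have h4 := key Q hQ
    rw [h3, add_assoc, add_comm 1, ← add_assoc] at h4
    exact withBot_enat_le_of_add_one_le_add_one h4
  · intro hr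
    have := irrelevant_isPrime k n
    obtain ⟨Q, hQ, -⟩ := Ideal.exists_minimalPrimes_le (I := J) (J := m₊) hJm
    have hQh : Q.IsHomogeneous 𝒜 := isHomogeneous_of_mem_minimalPrimes 𝒜 hJhom hQ
    have hQne : Q ≠ m₊ := by
      intro h
      have h4 := key Q hQ
      rw [h, ringKrullDim_quotient_irrelevant, zero_add] at h4
      have h5 : (r : WithBot ℕ∞) + 1 ≤ (r : WithBot ℕ∞) := le_trans (by gcongr) h4
      have h6 : r + 1 ≤ r := by exact_mod_cast h5
      omega
    refine ⟨pointOfPrime k n Q hQ.1.1 hQh hQne, ?_⟩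
    rw [hmem_iff, pointOfPrime_toIdeal]
    exact hQ.1.2

end poly

end Groth.Agent.H54
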