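import Mathlib
import Groth.Agent.H54.ProjDimTheory7

set_option autoImplicit false
universe u
open AlgebraicGeometry TopologicalSpace

namespace Groth.Agent.H54

/-- Strict monotonicity of the dimension of quotients by primes. -/
theorem ringKrullDim_quotient_add_one_le_of_lt {R : Type*} [CommRing R] {P P' : Ideal R}
    [hP : P.IsPrime] (hlt : P < P') : ringKrullDim (R ⧸ P') + 1 ≤ ringKrullDim (R ⧸ P) := by
  rw [ringKrullDim_quotient, ringKrullDim_quotient]
  by_cases hemp : IsEmpty ↥(PrimeSpectrum.zeroLocus (P' : Set R))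
  · rw [Order.krullDim_eq_bot, WithBot.bot_add]; exact bot_le
  rw [not_isEmpty_iff] at hemp
  rw [← Order.krullDim_withBot]
  let f : WithBot ↥(PrimeSpectrum.zeroLocus (P' : Set R)) → ↥(PrimeSpectrum.zeroLocus (P : Set R)) :=
    fun x => x.recBotCoe ⟨⟨P, hP⟩, fun a ha => ha⟩ (fun q => ⟨q.1, fun a ha => q.2 (hlt.le ha)⟩)
  apply Order.krullDim_le_of_strictMono f
  intro x y hxy
  induction x using WithBot.recBotCoe with
  | bot =>
    induction y using WithBot.recBotCoe with
    | bot => exact absurd hxy (lt_irrefl _)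
    | coe y =>
      change P < y.1.asIdeal
      exact lt_of_lt_of_le hlt y.2
  | coe x =>
    induction y using WithBot.recBotCoe with
    | bot => exact absurd hxy (WithBot.not_lt_bot _)
    | coe y =>
      have h : x < y := WithBot.coe_lt_coe.mp hxy
      exact h

section poly
variable (k : Type u) [Field k] (n : ℕ)

local notation "𝒜" => CohB1.polyGrading n k
local notation "A" => MvPolynomial (Fin (n + 1)) k
local notation "m₊" => HomogeneousIdeal.toIdeal (HomogeneousIdeal.irrelevant (CohB1.polyGrading n k))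

theorem irrelevant_le_of_forall_X_mem {Q : Ideal A} (h : ∀ j, (MvPolynomial.X j : A) ∈ Q) :
    m₊ ≤ Q := by
  classical
  rw [HomogeneousIdeal.irrelevant_eq_span, Ideal.span_le]
  intro g hg
  simp only [Set.mem_iUnion] at hg
  obtain ⟨i, hi, hgi⟩ := hg
  have hspan : Ideal.span (MvPolynomial.X '' (Set.univ : Set (Fin (n + 1)))) ≤ Q := by
    rw [Ideal.span_le]
    rintro _ ⟨j, -, rfl⟩
    exact h j
  apply hspan
  rw [MvPolynomial.mem_ideal_span_X_image]
  intro m hm
  have hgi' : g.IsHomogeneous i := (MvPolynomial.mem_homogeneousSubmodule i g).mp hgi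
  have hdeg := hgi' (MvPolynomial.mem_support_iff.mp hm)
  by_contra hcon
  push Not at hcon
  have hm0 : m = 0 := by
    ext j
    exact hcon j (Set.mem_univ j)
  rw [hm0] at hdeg
  simp at hdeg
  omega

/-- One step: a linear form dropping the dimension. -/
theorem exists_linear_form_dim_drop [Infinite k] (J : Ideal A) (hJ : J.IsHomogeneous 𝒜) (e : ℕ)
    (hinv : ∀ P : Ideal A, P.IsPrime → J ≤ P →
      ringKrullDim (A ⧸ P) ≤ ((e + 1 : ℕ) : WithBot ℕ∞)) :
    ∃ h : A, h.IsHomogeneous 1 ∧
      ∀ P : Ideal A, P.IsPrime → J ⊔ Ideal.span {h} ≤ P →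
        ringKrullDim (A ⧸ P) ≤ (e : WithBot ℕ∞) := by
  classical
  have hfin : J.minimalPrimes.Finite := Ideal.finite_minimalPrimes_of_isNoetherianRing A J
  let S' : Set (Ideal A) := {Q | Q ∈ J.minimalPrimes ∧ Q ≠ m₊}
  have hS'fin : S'.Finite := hfin.subset (fun Q hQ => hQ.1)
  let V : Submodule k A := 𝒜 1
  let W : S' → Subspace k V := fun Q => Submodule.comap V.subtype (Q.1.restrictScalars k)
  have hWne : ∀ Q : S', W Q ≠ ⊤ := by
    intro Q hQtop
    apply Q.2.2
    have hQprime : Q.1.IsPrime := Q.2.1.1.1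
    have hQhom : Q.1.IsHomogeneous 𝒜 := isHomogeneous_of_mem_minimalPrimes 𝒜 hJ Q.2.1
    apply le_antisymm (le_irrelevant_of_isHomogeneous k n hQhom hQprime.ne_top)
    apply irrelevant_le_of_forall_X_mem
    intro j
    have hXV : (MvPolynomial.X j : A) ∈ V :=
      (MvPolynomial.mem_homogeneousSubmodule 1 _).mpr (MvPolynomial.isHomogeneous_X k j)
    have : (⟨MvPolynomial.X j, hXV⟩ : V) ∈ W Q := by rw [hQtop]; trivial
    exact this
  have : Finite S' := hS'fin.to_subtype
  obtain ⟨h, hh⟩ : ∃ h : V, ∀ Q : S', h ∉ W Q := by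
    by_contra hcon
    push Not at hcon
    have hcov : ⋃ Q : S', (W Q : Set V) = Set.univ := by
      ext h
      simp only [Set.mem_iUnion, Set.mem_univ, iff_true]
      exact hcon h
    obtain ⟨Q, hQ⟩ := Subspace.exists_eq_top_of_iUnion_eq_univ hcov
    exact hWne Q hQ
  refine ⟨h.1, (MvPolynomial.mem_homogeneousSubmodule 1 _).mp h.2, ?_⟩
  intro P hP hle
  have hJP : J ≤ P := le_trans le_sup_left hle
  have hhP : h.1 ∈ P := hle (Ideal.mem_sup_right (Ideal.mem_span_singleton_self _))
  obtain ⟨Q, hQ, hQP⟩ := Ideal.exists_minimalPrimes_le hJP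
  by_cases hQm : Q = m₊
  · have hmax := irrelevant_isMaximal k n
    have hPeq : P = m₊ := (hmax.eq_of_le hP.ne_top (hQm ▸ hQP)).symm
    rw [hPeq, ringKrullDim_quotient_irrelevant]
    exact_mod_cast Nat.zero_le e
  · have hhQ : h.1 ∉ Q := fun hmem => hh ⟨Q, hQ, hQm⟩ hmem
    have hQprime : Q.IsPrime := hQ.1.1
    have hlt : Q < P := lt_of_le_of_ne hQP (fun heq => hhQ (heq ▸ hhP))
    have h1 := ringKrullDim_quotient_add_one_le_of_lt hlt
    have h2 := hinv Q hQprime hQ.1.2
    apply withBot_enat_le_of_add_one_le_add_one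
    refine le_trans h1 (le_trans h2 ?_)
    push_cast
    exact le_refl _

/-- Iterating the previous step. -/
theorem exists_linear_forms [Infinite k] : ∀ (e : ℕ) (J : Ideal A), J.IsHomogeneous 𝒜 →
    (∀ P : Ideal A, P.IsPrime → J ≤ P → ringKrullDim (A ⧸ P) ≤ (e : WithBot ℕ∞)) →
    ∃ h : Fin e → A, (∀ i, (h i).IsHomogeneous 1) ∧
      ∀ P : Ideal A, P.IsPrime → J ⊔ Ideal.span (Set.range h) ≤ P →
        ringKrullDim (A ⧸ P) ≤ 0 := by
  intro e
  induction e with
  | zero =>
    intro J hJ hinv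
    refine ⟨Fin.elim0, fun i => i.elim0, ?_⟩
    intro P hP hle
    have := hinv P hP (le_trans le_sup_left hle)
    simpa using this
  | succ e ih =>
    intro J hJ hinv
    obtain ⟨h₀, hh₀, hinv'⟩ := exists_linear_form_dim_drop k n J hJ e hinv
    have hJ' : (J ⊔ Ideal.span {h₀}).IsHomogeneous 𝒜 :=
      hJ.sup (Ideal.homogeneous_span 𝒜 _ (by
        rintro _ rfl
        exact ⟨1, (MvPolynomial.mem_homogeneousSubmodule 1 _).mpr hh₀⟩))
    obtain ⟨h', hh', hfin⟩ := ih _ hJ' hinv'
    refine ⟨Fin.cons h₀ h', ?_, ?_⟩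
    · intro i
      refine Fin.cases ?_ ?_ i
      · simpa using hh₀
      · intro j
        simpa using hh' j
    · intro P hP hle
      apply hfin P hP
      refine le_trans ?_ hle
      rw [Fin.range_cons, Ideal.span_insert, sup_assoc]

/-- If all primes over a homogeneous ideal have dimension zero, the ideal contains a power of the
irrelevant ideal. -/
theorem exists_pow_le_of_dim_zero (J : Ideal A) (hJ : J.IsHomogeneous 𝒜)
    (hinv : ∀ P : Ideal A, P.IsPrime → J ≤ P → ringKrullDim (A ⧸ P) ≤ 0) :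
    ∃ N : ℕ, (Ideal.span (Set.range (MvPolynomial.X : Fin (n + 1) → A))) ^ N ≤ J := by
  apply Ideal.exists_pow_le_of_le_radical_of_fg
  · rw [← Ideal.sInf_minimalPrimes, Ideal.span_le]
    rintro _ ⟨j, rfl⟩
    rw [SetLike.mem_coe, Ideal.mem_sInf]
    intro Q hQ
    have hQprime : Q.IsPrime := hQ.1.1
    have hQhom := isHomogeneous_of_mem_minimalPrimes 𝒜 hJ hQ
    have hQle := le_irrelevant_of_isHomogeneous k n hQhom hQprime.ne_top
    have hQeq : Q = m₊ := by
      by_contra hne
      have hlt : Q < m₊ := lt_of_le_of_ne hQle hne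
      have h1 := ringKrullDim_quotient_add_one_le_of_lt hlt
      rw [ringKrullDim_quotient_irrelevant, zero_add] at h1
      have h2 := hinv Q hQprime hQ.1.2
      have : (1 : WithBot ℕ∞) ≤ 0 := le_trans h1 h2
      exact absurd this (by norm_num)
    rw [hQeq]
    exact HomogeneousIdeal.mem_irrelevant_of_mem _ zero_lt_one
      ((MvPolynomial.mem_homogeneousSubmodule 1 _).mpr (MvPolynomial.isHomogeneous_X k j))
  · exact Submodule.fg_span (Set.finite_range _)

/-- Existence of `r + 1` linear forms whose common zero locus misses a projective variety of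
dimension `r`. -/
theorem exists_linear_forms_missing [Infinite k] (r : ℕ) (I : Ideal A) (hIh : I.IsHomogeneous 𝒜)
    [I.IsPrime] (hdim : ringKrullDim (A ⧸ I) = (r : WithBot ℕ∞) + 1) :
    ∃ h : Fin (r + 1) → A, (∀ i, (h i).IsHomogeneous 1) ∧
      ∃ N : ℕ, (Ideal.span (Set.range (MvPolynomial.X : Fin (n + 1) → A))) ^ N ≤
        I ⊔ Ideal.span (Set.range h) := by
  have hinv : ∀ P : Ideal A, P.IsPrime → I ≤ P →
      ringKrullDim (A ⧸ P) ≤ ((r + 1 : ℕ) : WithBot ℕ∞) := by
    intro P _ hIP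
    have := ringKrullDim_le_of_surjective (Ideal.Quotient.factor hIP)
      (Ideal.Quotient.factor_surjective hIP)
    rw [hdim] at this
    refine le_trans this ?_
    push_cast
    exact le_refl _
  obtain ⟨h, hh, hfin⟩ := exists_linear_forms k n (r + 1) I hIh hinv
  refine ⟨h, hh, ?_⟩
  apply exists_pow_le_of_dim_zero k n _ _ hfin
  refine hIh.sup (Ideal.homogeneous_span 𝒜 _ ?_)
  rintro _ ⟨i, rfl⟩
  exact ⟨1, (MvPolynomial.mem_homogeneousSubmodule 1 _).mpr (hh i)⟩

end poly

end Groth.Agent.H54
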