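import Mathlib
import Groth.Prelude.Def_ProjUP
import Groth.Agent.H54.LinearForms

set_option autoImplicit false
universe u
open CategoryTheory CategoryTheory.Limits AlgebraicGeometry TopologicalSpace Opposite
open HomogeneousLocalization

namespace Groth.Agent.H54.PL

section alg
variable (k : Type u) [Field k] (n : ℕ)

local notation "𝒜" => CohB1.polyGrading n k
local notation "S" => MvPolynomial (Fin (n + 1)) k

/-- the linear form with coefficients `c` -/
noncomputable def lin (c : Fin (n + 1) → k) : S := ∑ j, MvPolynomial.C (c j) * MvPolynomial.X j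

theorem X_mem (j : Fin (n + 1)) : (MvPolynomial.X j : S) ∈ 𝒜 1 :=
  (MvPolynomial.mem_homogeneousSubmodule 1 _).mpr (MvPolynomial.isHomogeneous_X k j)

theorem C_mem (a : k) : (MvPolynomial.C a : S) ∈ 𝒜 0 :=
  (MvPolynomial.mem_homogeneousSubmodule 0 _).mpr (MvPolynomial.isHomogeneous_C _ a)

theorem lin_mem (c : Fin (n + 1) → k) : lin k n c ∈ 𝒜 1 := by
  unfold lin
  apply Submodule.sum_mem
  intro j _
  have := SetLike.mul_mem_graded (C_mem k n (c j)) (X_mem k n j)
  rwa [zero_add] at this

/-- constants in a homogeneous localization -/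
noncomputable def cst (x : Submonoid S) : k →+* HomogeneousLocalization 𝒜 x :=
  (fromZeroRingHom 𝒜 x).comp (algebraMap k (𝒜 0))

theorem val_cst (x : Submonoid S) (a : k) :
    (cst k n x a).val = Localization.mk (MvPolynomial.C a) 1 := by
  unfold cst
  rw [RingHom.comp_apply]
  unfold fromZeroRingHom
  simp only [RingHom.coe_mk, MonoidHom.coe_mk, OneHom.coe_mk, val_mk]
  rfl

variable (i : Fin (n + 1))

/-- the coordinate functions `X j / X i` on the chart `D₊(X i)` -/
noncomputable def xc (j : Fin (n + 1)) : Away 𝒜 (MvPolynomial.X i : S) :=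
  HomogeneousLocalization.mk ⟨1, ⟨MvPolynomial.X j, X_mem k n j⟩, ⟨MvPolynomial.X i, X_mem k n i⟩,
    Submonoid.mem_powers _⟩

theorem val_xc (j : Fin (n + 1)) :
    (xc k n i j).val = Localization.mk (MvPolynomial.X j) ⟨MvPolynomial.X i, Submonoid.mem_powers _⟩ := rfl

/-- the element `X i ^ d` of the submonoid of powers -/
noncomputable def powX (d : ℕ) : Submonoid.powers (MvPolynomial.X i : S) :=
  ⟨MvPolynomial.X i ^ d, d, rfl⟩

theorem coe_powX (d : ℕ) : ((powX k n i d : Submonoid.powers (MvPolynomial.X i : S)) : S) =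
    MvPolynomial.X i ^ d := rfl

/-- dehomogenization -/
noncomputable def θ : S →+* Away 𝒜 (MvPolynomial.X i : S) :=
  MvPolynomial.eval₂Hom (cst k n _) (xc k n i)

theorem θ_X (j : Fin (n + 1)) : θ k n i (MvPolynomial.X j) = xc k n i j := by
  unfold θ; simp

theorem θ_C (a : k) : θ k n i (MvPolynomial.C a) = cst k n _ a := by
  unfold θ; simp

theorem loc_mk_prod {R : Type*} [CommRing R] {M : Submonoid R} {ι : Type*} (s : Finset ι)
    (a : ι → R) (b : ι → M) :
    ∏ j ∈ s, Localization.mk (a j) (b j) = Localization.mk (∏ j ∈ s, a j) (∏ j ∈ s, b j) := by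
  classical
  induction s using Finset.induction_on with
  | empty => simp [Localization.mk_one]
  | insert j s hj ih =>
    rw [Finset.prod_insert hj, Finset.prod_insert hj, Finset.prod_insert hj, ih, Localization.mk_mul]

theorem val_θ_of_mem (d : ℕ) (g : S) (hg : g ∈ 𝒜 d) :
    (θ k n i g).val = Localization.mk g (powX k n i d) := by
  have hg' : g.IsHomogeneous d := (MvPolynomial.mem_homogeneousSubmodule d _).mp hg
  unfold θ
  rw [MvPolynomial.coe_eval₂Hom, MvPolynomial.eval₂_eq']
  rw [← HomogeneousLocalization.algebraMap_apply, map_sum]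
  have hterm : ∀ α ∈ g.support,
      algebraMap (Away 𝒜 (MvPolynomial.X i : S)) (Localization (Submonoid.powers (MvPolynomial.X i : S)))
        (cst k n _ (g.coeff α) * ∏ j, xc k n i j ^ α j) =
      Localization.mk (MvPolynomial.monomial α (g.coeff α)) (powX k n i d) := by
    intro α hα
    have hdeg : α.degree = d := by
      by_contra hne
      exact (MvPolynomial.mem_support_iff.mp hα) (hg'.coeff_eq_zero hne)
    rw [map_mul, map_prod, HomogeneousLocalization.algebraMap_apply, val_cst]
    simp only [map_pow, HomogeneousLocalization.algebraMap_apply, val_xc, Localization.mk_pow]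
    rw [loc_mk_prod, Localization.mk_mul, MvPolynomial.monomial_eq, Finsupp.prod_fintype _ _ (by simp)]
    congr 1
    apply Subtype.ext
    rw [one_mul, Submonoid.coe_finsetProd, coe_powX]
    simp only [SubmonoidClass.coe_pow]
    rw [Finset.prod_pow_eq_pow_sum]
    congr 1
    rw [← hdeg, Finsupp.degree_eq_sum]
  rw [Finset.sum_congr rfl hterm, ← Localization.mk_sum]
  congr 1
  exact (MvPolynomial.support_sum_monomial_coeff g)

end alg

end Groth.Agent.H54.PL

namespace Groth.Agent.H54.PL

section alg2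
variable (k : Type u) [Field k] (n : ℕ)

local notation "𝒜" => CohB1.polyGrading n k
local notation "S" => MvPolynomial (Fin (n + 1)) k

variable (i : Fin (n + 1))

theorem θ_eq_mk (d : ℕ) (g : S) (hg : g ∈ 𝒜 d) :
    θ k n i g = HomogeneousLocalization.mk ⟨d, ⟨g, hg⟩,
      ⟨MvPolynomial.X i ^ d, by
        have := SetLike.pow_mem_graded d (X_mem k n i)
        rwa [smul_eq_mul, mul_one] at this⟩, (powX k n i d).2⟩ := by
  apply val_injective
  rw [val_θ_of_mem k n i d g hg, val_mk]
  rfl

theorem θ_surjective : Function.Surjective (θ k n i) := by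
  intro z
  obtain ⟨d, g, hg, rfl⟩ := Away.mk_surjective 𝒜 (X_mem k n i) z
  refine ⟨g, ?_⟩
  apply val_injective
  rw [val_θ_of_mem k n i (d • 1) g hg, Away.val_mk]
  congr 1
  apply Subtype.ext
  rw [coe_powX, smul_eq_mul, mul_one]

/-- the point of the affine chart corresponding to `y` -/
noncomputable def pt (y : ProjectiveSpectrum 𝒜)
    (hi : (MvPolynomial.X i : S) ∉ y.asHomogeneousIdeal) :
    PrimeSpectrum (Away 𝒜 (MvPolynomial.X i : S)) :=
  ProjIsoSpecTopComponent.ToSpec.toFun (MvPolynomial.X i : S)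
    (⟨y, hi⟩ : ProjectiveSpectrum.basicOpen 𝒜 (MvPolynomial.X i : S))

theorem θ_mem_pt_iff (y : ProjectiveSpectrum 𝒜)
    (hi : (MvPolynomial.X i : S) ∉ y.asHomogeneousIdeal) (d : ℕ) (g : S) (hg : g ∈ 𝒜 d) :
    θ k n i g ∈ (pt k n i y hi).asIdeal ↔ g ∈ y.asHomogeneousIdeal := by
  rw [θ_eq_mk k n i d g hg]
  exact ProjIsoSpecTopComponent.ToSpec.mk_mem_carrier
    (⟨y, hi⟩ : ProjectiveSpectrum.basicOpen 𝒜 (MvPolynomial.X i : S)) _


theorem isMaximal_pt (y : ProjectiveSpectrum 𝒜)
    (hi : (MvPolynomial.X i : S) ∉ y.asHomogeneousIdeal)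
    (hy : IsClosed ({y} : Set (ProjectiveSpectrum 𝒜))) : (pt k n i y hi).asIdeal.IsMaximal := by
  rw [← PrimeSpectrum.isClosed_singleton_iff_isMaximal]
  let e := TopCat.homeoOfIso (projIsoSpecTopComponent (X_mem k n i) (by norm_num : 0 < 1))
  have h1 : IsClosed ({⟨y, hi⟩} : Set (ProjectiveSpectrum.basicOpen 𝒜 (MvPolynomial.X i : S))) := by
    have : ({⟨y, hi⟩} : Set (ProjectiveSpectrum.basicOpen 𝒜 (MvPolynomial.X i : S))) =
        Subtype.val ⁻¹' {y} := by
      ext z
      simp [Subtype.ext_iff]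
    rw [this]
    exact hy.preimage continuous_subtype_val
  have h2 := e.isClosedMap _ h1
  have h3 : IsClosed (⇑e '' {⟨y, hi⟩}) = IsClosed {pt k n i y hi} :=
    congrArg IsClosed Set.image_singleton
  exact h3 ▸ h2

theorem xc_self : xc k n i i = 1 := by
  apply val_injective
  rw [val_xc, val_one]
  exact Localization.mk_self (⟨MvPolynomial.X i, Submonoid.mem_powers _⟩ :
    Submonoid.powers (MvPolynomial.X i : S))

/-- a closed point of the chart `D₊(X i)` of projective space over an algebraically closed field is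
a rational point. -/
theorem exists_point [IsAlgClosed k] (y : ProjectiveSpectrum 𝒜)
    (hi : (MvPolynomial.X i : S) ∉ y.asHomogeneousIdeal)
    (hy : IsClosed ({y} : Set (ProjectiveSpectrum 𝒜))) :
    ∃ a : Fin (n + 1) → k, a i = 1 ∧
      ∀ g : S, θ k n i g ∈ (pt k n i y hi).asIdeal ↔ MvPolynomial.eval a g = 0 := by
  have hmax := isMaximal_pt k n i y hi hy
  have hmax' : ((pt k n i y hi).asIdeal.comap (θ k n i)).IsMaximal :=
    Ideal.comap_isMaximal_of_surjective _ (θ_surjective k n i)
  obtain ⟨a, ha⟩ := (MvPolynomial.isMaximal_iff_eq_vanishingIdeal_singleton).mp hmax'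
  have hiff : ∀ g : S, θ k n i g ∈ (pt k n i y hi).asIdeal ↔ MvPolynomial.eval a g = 0 := by
    intro g
    rw [← Ideal.mem_comap, ha, MvPolynomial.mem_vanishingIdeal_singleton_iff,
      MvPolynomial.aeval_eq_eval]
  refine ⟨a, ?_, hiff⟩
  have h1 : θ k n i (MvPolynomial.X i - 1) ∈ (pt k n i y hi).asIdeal := by
    rw [map_sub, map_one, θ_X, xc_self, sub_self]
    exact zero_mem _
  have h2 := (hiff _).mp h1
  rw [map_sub, map_one, MvPolynomial.eval_X] at h2
  exact sub_eq_zero.mp h2

/-- a polynomial is congruent to its value at `a` modulo the ideal of the point `a`. -/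
theorem sub_C_eval_mem (a : Fin (n + 1) → k) (g : S) :
    g - MvPolynomial.C (MvPolynomial.eval a g) ∈
      Ideal.span (Set.range fun j => (MvPolynomial.X j - MvPolynomial.C (a j) : S)) := by
  set J := Ideal.span (Set.range fun j => (MvPolynomial.X j - MvPolynomial.C (a j) : S)) with hJ
  have h : (Ideal.Quotient.mkₐ k J) =
      (Ideal.Quotient.mkₐ k J).comp ((Algebra.ofId k S).comp (MvPolynomial.aeval a)) := by
    apply MvPolynomial.algHom_ext
    intro j
    simp only [AlgHom.comp_apply, MvPolynomial.aeval_X, Ideal.Quotient.mkₐ_eq_mk]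
    rw [Ideal.Quotient.eq]
    exact Ideal.subset_span ⟨j, rfl⟩
  have h2 := congrArg (fun φ => φ g) h
  simp only [AlgHom.comp_apply, Ideal.Quotient.mkₐ_eq_mk] at h2
  rw [Ideal.Quotient.eq] at h2
  convert h2 using 2
  rw [MvPolynomial.aeval_eq_eval]
  rfl


/-- the ideal of a closed point of the chart is generated by the `X j / X i - a j`. -/
theorem pt_asIdeal_eq [IsAlgClosed k] (y : ProjectiveSpectrum 𝒜)
    (hi : (MvPolynomial.X i : S) ∉ y.asHomogeneousIdeal) (a : Fin (n + 1) → k)
    (ha : ∀ g : S, θ k n i g ∈ (pt k n i y hi).asIdeal ↔ MvPolynomial.eval a g = 0) :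
    (pt k n i y hi).asIdeal =
      Ideal.span (Set.range fun j => θ k n i (MvPolynomial.X j - MvPolynomial.C (a j))) := by
  apply le_antisymm
  · intro z hz
    obtain ⟨g, rfl⟩ := θ_surjective k n i z
    have h0 := (ha g).mp hz
    have h1 := sub_C_eval_mem k n a g
    rw [h0, map_zero, sub_zero] at h1
    have h2 := Ideal.mem_map_of_mem (θ k n i) h1
    rw [Ideal.map_span, ← Set.range_comp] at h2
    exact h2
  · rw [Ideal.span_le]
    rintro _ ⟨j, rfl⟩
    rw [SetLike.mem_coe, ha]
    simp

/-- the coefficient vector of `X j - a j X i` -/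
noncomputable def cvec (a : Fin (n + 1) → k) (j : Fin (n + 1)) : Fin (n + 1) → k :=
  Pi.single j 1 - a j • Pi.single i 1

theorem lin_cvec (a : Fin (n + 1) → k) (j : Fin (n + 1)) :
    lin k n (cvec k n i a j) = MvPolynomial.X j - MvPolynomial.C (a j) * MvPolynomial.X i := by
  classical
  unfold lin cvec
  simp only [Pi.sub_apply, Pi.smul_apply, smul_eq_mul, map_sub, map_mul, sub_mul,
    Finset.sum_sub_distrib]
  congr 1
  · rw [Finset.sum_eq_single j]
    · simp
    · intro b _ hb
      rw [Pi.single_apply, if_neg hb, map_zero, zero_mul]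
    · intro h; exact absurd (Finset.mem_univ j) h
  · rw [Finset.sum_eq_single i]
    · simp
    · intro b _ hb
      rw [Pi.single_apply, if_neg hb, map_zero, mul_zero, zero_mul]
    · intro h; exact absurd (Finset.mem_univ i) h

theorem eval_lin (a c : Fin (n + 1) → k) : MvPolynomial.eval a (lin k n c) = ∑ j, c j * a j := by
  unfold lin
  simp

end alg2

section atprime
variable (k : Type u) [Field k] (n : ℕ)

local notation "𝒜" => CohB1.polyGrading n k
local notation "S" => MvPolynomial (Fin (n + 1)) k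

variable (i : Fin (n + 1))

/-- the element `lin c / X i` of the local ring at `y` -/
noncomputable def bb (y : ProjectiveSpectrum 𝒜)
    (hi : (MvPolynomial.X i : S) ∉ y.asHomogeneousIdeal) (c : Fin (n + 1) → k) :
    AtPrime 𝒜 y.asHomogeneousIdeal.toIdeal :=
  HomogeneousLocalization.mk ⟨1, ⟨lin k n c, lin_mem k n c⟩, ⟨MvPolynomial.X i, X_mem k n i⟩, hi⟩

theorem val_bb (y : ProjectiveSpectrum 𝒜)
    (hi : (MvPolynomial.X i : S) ∉ y.asHomogeneousIdeal) (c : Fin (n + 1) → k) :
    (bb k n i y hi c).val = Localization.mk (lin k n c) ⟨MvPolynomial.X i, hi⟩ := rfl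

theorem bb_mem_maximalIdeal_iff (y : ProjectiveSpectrum 𝒜)
    (hi : (MvPolynomial.X i : S) ∉ y.asHomogeneousIdeal) (c : Fin (n + 1) → k) :
    bb k n i y hi c ∈ IsLocalRing.maximalIdeal (AtPrime 𝒜 y.asHomogeneousIdeal.toIdeal) ↔
      lin k n c ∈ y.asHomogeneousIdeal := by
  rw [IsLocalRing.mem_maximalIdeal, mem_nonunits_iff, ← HomogeneousLocalization.isUnit_iff_isUnit_val,
    val_bb, Localization.mk_eq_mk', IsLocalization.AtPrime.isUnit_mk'_iff]
  exact not_not


theorem θ_lin (a : Fin (n + 1) → k) (j : Fin (n + 1)) :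
    θ k n i (lin k n (cvec k n i a j)) = θ k n i (MvPolynomial.X j - MvPolynomial.C (a j)) := by
  rw [lin_cvec, map_sub, map_sub, map_mul, θ_X, θ_X, xc_self, mul_one]

theorem mapId_θ_lin (y : ProjectiveSpectrum 𝒜)
    (hi : (MvPolynomial.X i : S) ∉ y.asHomogeneousIdeal) (c : Fin (n + 1) → k) :
    mapId 𝒜 (Submonoid.powers_le.mpr hi : Submonoid.powers (MvPolynomial.X i : S) ≤
      y.asHomogeneousIdeal.toIdeal.primeCompl) (θ k n i (lin k n c)) = bb k n i y hi c := by
  rw [θ_eq_mk k n i 1 (lin k n c) (lin_mem k n c), map_mk]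
  apply val_injective
  rw [val_mk, val_bb]
  congr 1
  apply Subtype.ext
  exact pow_one _

/-- the maximal ideal of the local ring of projective space at a closed point is generated by the
linear forms vanishing at the point. -/
theorem maximalIdeal_le_span [IsAlgClosed k] (y : ProjectiveSpectrum 𝒜)
    (hi : (MvPolynomial.X i : S) ∉ y.asHomogeneousIdeal)
    (hy : IsClosed ({y} : Set (ProjectiveSpectrum 𝒜))) :
    IsLocalRing.maximalIdeal (AtPrime 𝒜 y.asHomogeneousIdeal.toIdeal) ≤
      Ideal.span {z | ∃ c, z = bb k n i y hi c ∧ lin k n c ∈ y.asHomogeneousIdeal} := by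
  obtain ⟨a, hai, ha⟩ := exists_point k n i y hi hy
  have hpt := pt_asIdeal_eq k n i y hi a ha
  let x : ProjectiveSpectrum.basicOpen 𝒜 (MvPolynomial.X i : S) := ⟨y, hi⟩
  letI : Algebra (Away 𝒜 (MvPolynomial.X i : S)) (AtPrime 𝒜 y.asHomogeneousIdeal.toIdeal) :=
    (mapId 𝒜 (Submonoid.powers_le.mpr hi)).toAlgebra
  have hloc := ProjectiveSpectrum.Proj.isLocalization_atPrime 𝒜 (MvPolynomial.X i : S) x
    (X_mem k n i) (by norm_num : 0 < 1)
  have hq : ((ProjectiveSpectrum.Proj.toSpec 𝒜 (MvPolynomial.X i : S)).base x) = pt k n i y hi :=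
    ProjectiveSpectrum.Proj.toSpec_base_apply_eq 𝒜 x
  rw [hq] at hloc
  haveI : IsLocalization.AtPrime (AtPrime 𝒜 y.asHomogeneousIdeal.toIdeal) (pt k n i y hi).asIdeal :=
    hloc
  rw [← IsLocalization.AtPrime.map_eq_maximalIdeal (pt k n i y hi).asIdeal
    (AtPrime 𝒜 y.asHomogeneousIdeal.toIdeal), hpt, Ideal.map_span, Ideal.span_le]
  rintro _ ⟨_, ⟨j, rfl⟩, rfl⟩
  apply Ideal.subset_span
  refine ⟨cvec k n i a j, ?_, ?_⟩
  · show (algebraMap (Away 𝒜 (MvPolynomial.X i : S)) (AtPrime 𝒜 y.asHomogeneousIdeal.toIdeal))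
      (θ k n i (MvPolynomial.X j - MvPolynomial.C (a j))) = _
    rw [← θ_lin k n i a j]
    exact mapId_θ_lin k n i y hi _
  · rw [← θ_mem_pt_iff k n i y hi 1 _ (lin_mem k n _), ha, eval_lin]
    classical
    unfold cvec
    simp only [Pi.sub_apply, Pi.smul_apply, smul_eq_mul, sub_mul, Finset.sum_sub_distrib]
    rw [Finset.sum_eq_single j, Finset.sum_eq_single i]
    · simp [hai]
    · intro b _ hb
      rw [Pi.single_apply, if_neg hb, mul_zero, zero_mul]
    · intro h; exact absurd (Finset.mem_univ i) h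
    · intro b _ hb
      rw [Pi.single_apply, if_neg hb, zero_mul]
    · intro h; exact absurd (Finset.mem_univ j) h


theorem exists_X_notMem (y : ProjectiveSpectrum 𝒜) :
    ∃ i : Fin (n + 1), (MvPolynomial.X i : S) ∉ y.asHomogeneousIdeal := by
  by_contra hcon
  push Not at hcon
  exact y.not_irrelevant_le (Groth.Agent.H54.irrelevant_le_of_forall_X_mem k n hcon)

/-- linear forms separate closed points of projective space over an algebraically closed field. -/
theorem exists_lin_mem_notMem [IsAlgClosed k] (y y' : ProjectiveSpectrum 𝒜)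
    (hy : IsClosed ({y} : Set (ProjectiveSpectrum 𝒜))) (hne : y ≠ y') :
    ∃ c, lin k n c ∈ y.asHomogeneousIdeal ∧ lin k n c ∉ y'.asHomogeneousIdeal := by
  obtain ⟨i, hi⟩ := exists_X_notMem k n y
  obtain ⟨a, hai, ha⟩ := exists_point k n i y hi hy
  have hpt := pt_asIdeal_eq k n i y hi a ha
  have hmax := isMaximal_pt k n i y hi hy
  by_contra hcon
  push Not at hcon
  have hmem : ∀ j, lin k n (cvec k n i a j) ∈ y.asHomogeneousIdeal := by
    intro j
    rw [← θ_mem_pt_iff k n i y hi 1 _ (lin_mem k n _), θ_lin, hpt]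
    exact Ideal.subset_span ⟨j, rfl⟩
  have hmem' : ∀ j, lin k n (cvec k n i a j) ∈ y'.asHomogeneousIdeal := fun j => hcon _ (hmem j)
  have hi' : (MvPolynomial.X i : S) ∉ y'.asHomogeneousIdeal := by
    intro hXi
    apply y'.not_irrelevant_le
    apply Groth.Agent.H54.irrelevant_le_of_forall_X_mem k n
    intro j
    have h1 := hmem' j
    rw [lin_cvec] at h1
    have h2 : (MvPolynomial.X j : S) = (MvPolynomial.X j - MvPolynomial.C (a j) * MvPolynomial.X i) +
        MvPolynomial.C (a j) * MvPolynomial.X i := by ring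
    rw [h2]
    exact Ideal.add_mem _ h1 (Ideal.mul_mem_left _ _ hXi)
  have hle : (pt k n i y hi).asIdeal ≤ (pt k n i y' hi').asIdeal := by
    rw [hpt, Ideal.span_le]
    rintro _ ⟨j, rfl⟩
    show θ k n i (MvPolynomial.X j - MvPolynomial.C (a j)) ∈ (pt k n i y' hi').asIdeal
    rw [← θ_lin, θ_mem_pt_iff k n i y' hi' 1 _ (lin_mem k n _)]
    exact hmem' j
  have heq : (pt k n i y hi).asIdeal = (pt k n i y' hi').asIdeal :=
    hmax.eq_of_le (pt k n i y' hi').isPrime.ne_top hle
  have heq' : pt k n i y hi = pt k n i y' hi' := PrimeSpectrum.ext heq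
  have := ProjIsoSpecTopComponent.toSpec_injective 𝒜 (X_mem k n i) (by norm_num : 0 < 1) heq'
  exact hne (congrArg Subtype.val this)

end atprime

end Groth.Agent.H54.PL
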