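import Mathlib
import Groth.Prelude.Def_MeroDiv
import Groth.Agent.H8.MeroK
import Groth.Agent.H18.STL.Basic

set_option autoImplicit false
universe u
open CategoryTheory CategoryTheory.Limits AlgebraicGeometry TopologicalSpace Opposite

namespace Groth.Agent.H54.MeroSec

open Mero Groth.Agent.H8 Groth.Agent.H18

variable {X : Scheme.{u}}

theorem mk_eq_algebraMap_iff {x : X} (m : X.presheaf.stalk x) (b : regStalk X x)
    (a : X.presheaf.stalk x) :
    (LocalizedModule.mk m b : KStalk X x) = algebraMap (X.presheaf.stalk x) (KStalk X x) a ↔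
      m = a * b := by
  change Localization.mk m b = _ ↔ _
  rw [Localization.mk_eq_mk', IsLocalization.mk'_eq_iff_eq_mul, ← map_mul]
  exact (algebraMap_KStalk_injective x).eq_iff

/-- a section of `K_X` all of whose values are regular is a function -/
theorem exists_toK_eq_of_forall_mem_range {V : X.Opens} (s : Γ(kmod X, V))
    (h : ∀ y : V, s.1 y ∈ (algebraMap (X.presheaf.stalk y.1) (KStalk X y.1)).range) :
    ∃ r : Γ(X, V), toK X V r = s := by
  choose a ha using h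
  have hloc : ∀ y₀ : V, ∃ (W : X.Opens) (hW : W ≤ V) (_ : y₀.1 ∈ W) (a' : Γ(X, W)),
      ∀ y : W, X.presheaf.germ W y.1 y.2 a' = a ⟨y.1, hW y.2⟩ := by
    intro y₀
    obtain ⟨W, hy₀W, i, m, b, hmb⟩ := s.2 y₀
    obtain ⟨W₁, hy₀W₁, a₁, ha₁⟩ := X.presheaf.exists_germ_eq (a y₀)
    have hkey : ∀ y : W, X.presheaf.germ W y.1 y.2 m =
        a ⟨y.1, i.le y.2⟩ * X.presheaf.germ W y.1 y.2 b.1 := by
      intro y
      have h1 := hmb y
      have h2 : s.1 (i y) = algebraMap _ _ (a ⟨y.1, i.le y.2⟩) := (ha ⟨y.1, i.le y.2⟩).symm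
      have h3 := h1.symm.trans h2
      exact (mk_eq_algebraMap_iff _ (regGerm y b) _).mp h3
    let W₂ : X.Opens := W ⊓ W₁
    have hy₀W₂ : y₀.1 ∈ W₂ := ⟨hy₀W, hy₀W₁⟩
    have hgerm : X.presheaf.germ W₂ y₀.1 hy₀W₂ (X.presheaf.map (homOfLE (inf_le_left : W₂ ≤ W)).op m) =
        X.presheaf.germ W₂ y₀.1 hy₀W₂
          (X.presheaf.map (homOfLE (inf_le_right : W₂ ≤ W₁)).op a₁ *
            X.presheaf.map (homOfLE (inf_le_left : W₂ ≤ W)).op b.1) := by
      rw [map_mul, TopCat.Presheaf.germ_res_apply, TopCat.Presheaf.germ_res_apply,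
        TopCat.Presheaf.germ_res_apply, ha₁]
      exact hkey ⟨y₀.1, hy₀W⟩
    obtain ⟨W₃, hy₀W₃, i₁, i₂, he⟩ := TopCat.Presheaf.germ_eq X.presheaf y₀.1 hy₀W₂ hy₀W₂ _ _ hgerm
    have hW₃V : W₃ ≤ V := i₁.le.trans (inf_le_left.trans i.le)
    refine ⟨W₃, hW₃V, hy₀W₃,
      X.presheaf.map (homOfLE (i₁.le.trans inf_le_right : W₃ ≤ W₁)).op a₁, fun y => ?_⟩
    have hyW₂ : y.1 ∈ W₂ := i₁.le y.2
    have hyW : y.1 ∈ W := hyW₂.1
    have h1 := congrArg (X.presheaf.germ W₃ y.1 y.2) he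
    rw [TopCat.Presheaf.germ_res_apply, TopCat.Presheaf.germ_res_apply,
      TopCat.Presheaf.germ_res_apply, map_mul, TopCat.Presheaf.germ_res_apply,
      TopCat.Presheaf.germ_res_apply] at h1
    rw [hkey ⟨y.1, hyW⟩] at h1
    rw [TopCat.Presheaf.germ_res_apply]
    have hnzd : X.presheaf.germ W y.1 hyW b.1 ∈ nonZeroDivisors (X.presheaf.stalk y.1) :=
      b.2 ⟨y.1, hyW⟩
    exact (mul_cancel_right_mem_nonZeroDivisors hnzd).mp h1.symm
  choose W hWV hyW a' ha' using hloc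
  have hcompat : ∀ i j : V, PUP.rres X (inf_le_left : W i ⊓ W j ≤ W i) (a' i) =
      PUP.rres X (inf_le_right : W i ⊓ W j ≤ W j) (a' j) := by
    intro i j
    apply TopCat.Presheaf.section_ext X.sheaf
    intro y hy
    change X.presheaf.germ _ y hy (X.presheaf.map _ (a' i)) =
      X.presheaf.germ _ y hy (X.presheaf.map _ (a' j))
    rw [TopCat.Presheaf.germ_res_apply, TopCat.Presheaf.germ_res_apply]
    exact (ha' i ⟨y, hy.1⟩).trans (ha' j ⟨y, hy.2⟩).symm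
  obtain ⟨r, hr⟩ := STL.exists_glue_fun W V hWV (fun y hy => ⟨⟨y, hy⟩, hyW ⟨y, hy⟩⟩) a' hcompat
  refine ⟨r, kmod_ext (fun y => ?_)⟩
  rw [toK_apply, ← ha y]
  change LocalizedModule.mk _ _ = LocalizedModule.mk _ _
  congr 1
  rw [← ha' y ⟨y.1, hyW y⟩, ← hr y]
  exact (TopCat.Presheaf.germ_res_apply X.presheaf (homOfLE (hWV y)) y.1 (hyW y) r).symm

end Groth.Agent.H54.MeroSec
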