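import Mathlib
import Groth.Prelude.Def_MeroDiv
import Groth.Prelude.Def_Pic
import Groth.Agent.H54.MeroSec
import Groth.Agent.H18.RestrictUnit

set_option autoImplicit false
universe u
open CategoryTheory CategoryTheory.Limits AlgebraicGeometry TopologicalSpace Opposite

namespace Groth.Agent.H54.DivModInv

open Mero Groth.Agent.H8 Groth.Agent.H18 Groth.Agent.H54.MeroSec

variable {X : Scheme.{u}}

/-- `DivCond` can be tested on one representative of the germ -/
theorem divCond_iff (D : Divisor X) (x : X) (g₀ : (KStalk X x)ˣ)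
    (hg₀ : D.1 x = QuotientGroup.mk g₀) (t : KStalk X x) :
    DivCond D x t ↔ t * g₀ ∈ (algebraMap (X.presheaf.stalk x) (KStalk X x)).range := by
  constructor
  · intro h
    exact h g₀ hg₀
  · intro h g hg
    have h1 : (QuotientGroup.mk g₀ : Germ X x) = QuotientGroup.mk g := hg₀.symm.trans hg
    rw [QuotientGroup.eq] at h1
    obtain ⟨u, hu⟩ := h1
    have h2 : (g : KStalk X x) = g₀ * algebraMap (X.presheaf.stalk x) (KStalk X x) u := by
      have := congrArg (fun w : (KStalk X x)ˣ => (g₀ * w : (KStalk X x)ˣ)) hu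
      simp only [mul_inv_cancel_left] at this
      rw [← this]
      rfl
    rw [h2, ← mul_assoc]
    exact mul_mem h ⟨u, rfl⟩

/-- the value of a unit of `Γ(U, K_X)` at a point, as a unit of `K_{X,x}` -/
noncomputable abbrev unitAt {U : X.Opens} (f : (Γ(kmod X, U))ˣ) (y : U) : (KStalk X y.1)ˣ :=
  Units.map (evalK X U y).toMonoidHom f

theorem unitAt_val {U : X.Opens} (f : (Γ(kmod X, U))ˣ) (y : U) :
    ((unitAt f y : (KStalk X y.1)ˣ) : KStalk X y.1) = (f : Γ(kmod X, U)).1 y := rfl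

theorem inv_val_mul {U : X.Opens} (f : (Γ(kmod X, U))ˣ) (y : U) :
    ((f⁻¹ : (Γ(kmod X, U))ˣ) : Γ(kmod X, U)).1 y * (f : Γ(kmod X, U)).1 y = 1 := by
  rw [← kmod_mul_apply, Units.inv_mul, kmod_one_apply]

theorem val_mul_inv {U : X.Opens} (f : (Γ(kmod X, U))ˣ) (y : U) :
    (f : Γ(kmod X, U)).1 y * ((f⁻¹ : (Γ(kmod X, U))ˣ) : Γ(kmod X, U)).1 y = 1 := by
  rw [← kmod_mul_apply, Units.mul_inv, kmod_one_apply]

/-- a section of `K_X` satisfying the divisor condition pointwise, as a section of `O_X(D)` -/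
def divSec (D : Divisor X) {U : X.Opens} (t : Γ(kmod X, U))
    (ht : ∀ y : U, DivCond D y.1 (t.1 y)) : Γ(divMod D, U) :=
  ⟨t.1, t.2, ht⟩

@[simp] theorem divSec_apply (D : Divisor X) {U : X.Opens} (t : Γ(kmod X, U))
    (ht : ∀ y : U, DivCond D y.1 (t.1 y)) (y : U) : (divSec D t ht).1 y = t.1 y := rfl

theorem divMod_ext {D : Divisor X} {U : X.Opens} {s t : Γ(divMod D, U)}
    (h : ∀ y : U, s.1 y = t.1 y) : s = t :=
  Subtype.ext (funext h)

/-- where `D = div f`, the section `f⁻¹` is a free generator of `O_X(D)` -/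
theorem exists_free_gen (D : Divisor X) (U : X.Opens) (f : (Γ(kmod X, U))ˣ)
    (hf : ∀ y : U, D.1 y.1 = germOf f y) :
    ∃ σ : Γ(divMod D, U), (∀ y : U, σ.1 y = ((f⁻¹ : (Γ(kmod X, U))ˣ) : Γ(kmod X, U)).1 y) ∧
      ∀ (V : X.Opens) (hV : V ≤ U),
        Function.Bijective (fun r : Γ(X, V) => r • mres (divMod D) hV σ) := by
  have hcond : ∀ y : U, DivCond D y.1 (((f⁻¹ : (Γ(kmod X, U))ˣ) : Γ(kmod X, U)).1 y) := by
    intro y
    rw [divCond_iff D y.1 (unitAt f y) (hf y), unitAt_val, inv_val_mul]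
    exact one_mem _
  refine ⟨divSec D _ hcond, fun y => rfl, fun V hV => ⟨?_, ?_⟩⟩
  · intro r r' hrr'
    apply TopCat.Presheaf.section_ext X.sheaf
    intro y hy
    have h1 := congrArg (fun s : Γ(divMod D, V) => s.1 ⟨y, hy⟩) hrr'
    have h2 : X.presheaf.germ V y hy r • ((f⁻¹ : (Γ(kmod X, U))ˣ) : Γ(kmod X, U)).1 ⟨y, hV hy⟩ =
        X.presheaf.germ V y hy r' • ((f⁻¹ : (Γ(kmod X, U))ˣ) : Γ(kmod X, U)).1 ⟨y, hV hy⟩ := h1
    rw [Algebra.smul_def, Algebra.smul_def] at h2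
    have h3 := congrArg (fun w => w * (f : Γ(kmod X, U)).1 ⟨y, hV hy⟩) h2
    dsimp only at h3
    rw [mul_assoc, mul_assoc, inv_val_mul f ⟨y, hV hy⟩, mul_one, mul_one] at h3
    exact algebraMap_KStalk_injective y h3
  · intro t
    let tk : Γ(kmod X, V) := ⟨t.1, t.2.1⟩
    let s : Γ(kmod X, V) := tk * (kmod X).presheaf.map (homOfLE hV).op (f : Γ(kmod X, U))
    have hs : ∀ y : V, s.1 y = t.1 y * (f : Γ(kmod X, U)).1 ⟨y.1, hV y.2⟩ := fun y => rfl
    have hrange : ∀ y : V, s.1 y ∈ (algebraMap (X.presheaf.stalk y.1) (KStalk X y.1)).range := by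
      intro y
      rw [hs]
      exact t.2.2 y (unitAt f ⟨y.1, hV y.2⟩) (hf ⟨y.1, hV y.2⟩)
    obtain ⟨r, hr⟩ := exists_toK_eq_of_forall_mem_range s hrange
    refine ⟨r, divMod_ext (fun y => ?_)⟩
    have h1 : (toK X V r).1 y = s.1 y := by rw [hr]
    rw [toK_apply, hs] at h1
    change X.presheaf.germ V y.1 y.2 r • ((f⁻¹ : (Γ(kmod X, U))ˣ) : Γ(kmod X, U)).1 ⟨y.1, hV y.2⟩ =
      t.1 y
    rw [Algebra.smul_def]
    change (LocalizedModule.mk (X.presheaf.germ V y.1 y.2 r) 1 : KStalk X y.1) * _ = _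
    rw [h1, mul_assoc, val_mul_inv, mul_one]

/-- `O_X(D)` is invertible -/
theorem isInvertible_divMod (D : Divisor X) : PicF.IsInvertible (divMod D) := by
  intro x
  obtain ⟨U, hxU, f, hf⟩ := D.2 x
  obtain ⟨σ, -, hσ⟩ := exists_free_gen D U f hf
  exact ⟨U, hxU, nonempty_restrict_iso_unit (divMod D) U σ hσ⟩

end Groth.Agent.H54.DivModInv
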