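import Mathlib
import Groth.Prelude.Def_MeroDiv
import Groth.Prelude.Def_Pic
import Groth.Agent.H54.DivModInv
import Groth.Agent.H8.MeroLoc
import Groth.Agent.H8.FreeGen
import Groth.Agent.H12.QCohAbelian

set_option autoImplicit false
universe u
open CategoryTheory CategoryTheory.Limits AlgebraicGeometry TopologicalSpace Opposite

namespace Groth.Agent.H54.FracIdeal

open Mero Groth.Agent.H8 Groth.Agent.H18 Groth.Agent.H54.MeroSec Groth.Agent.H54.DivModInv

variable {X : Scheme.{u}}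

theorem hom_app_mres {M N : X.Modules} (φ : M ⟶ N) {U V : X.Opens} (e : V ≤ U) (x : Γ(M, U)) :
    φ.app V (mres M e x) = mres N e (φ.app U x) :=
  congr($((Scheme.Modules.Hom.mapPresheaf φ).naturality (homOfLE e).op) x)

theorem smul_eq_toK_mul {V : X.Opens} (r : Γ(X, V)) (t : Γ(kmod X, V)) :
    r • t = toK X V r * t := by
  apply kmod_ext
  intro y
  change X.presheaf.germ V y.1 y.2 r • t.1 y = (toK X V r).1 y * t.1 y
  rw [Algebra.smul_def]
  rfl

/-- a section `a` of `O_X` over `W` such that multiplication by `a` is injective on functions over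
every smaller open is a regular section -/
theorem mem_regSub_of_forall_injective {W : X.Opens} (a : Γ(X, W))
    (h : ∀ (V : X.Opens) (hV : V ≤ W) (c : Γ(X, V)),
      X.presheaf.map (homOfLE hV).op a * c = 0 → c = 0) : a ∈ regSub X W := by
  intro y
  rw [mem_nonZeroDivisors_iff_right]
  intro c hc
  obtain ⟨V₁, hyV₁, c₁, rfl⟩ := X.presheaf.exists_germ_eq c
  let V₂ : X.Opens := W ⊓ V₁
  have hyV₂ : y.1 ∈ V₂ := ⟨y.2, hyV₁⟩
  have hg : X.presheaf.germ V₂ y.1 hyV₂ (X.presheaf.map (homOfLE (inf_le_left : V₂ ≤ W)).op a *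
      X.presheaf.map (homOfLE (inf_le_right : V₂ ≤ V₁)).op c₁) = X.presheaf.germ V₂ y.1 hyV₂ 0 := by
    rw [map_mul, TopCat.Presheaf.germ_res_apply, TopCat.Presheaf.germ_res_apply, map_zero]
    rw [mul_comm]
    exact hc
  obtain ⟨V₃, hyV₃, i₁, i₂, he⟩ := TopCat.Presheaf.germ_eq X.presheaf y.1 hyV₂ hyV₂ _ _ hg
  rw [map_zero, map_mul] at he
  have h1 := h V₃ (i₁.le.trans inf_le_left)
    (X.presheaf.map (homOfLE (i₁.le.trans inf_le_right : V₃ ≤ V₁)).op c₁) (by
      have e1 : X.presheaf.map (homOfLE (i₁.le.trans inf_le_left : V₃ ≤ W)).op a =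
          X.presheaf.map i₁.op (X.presheaf.map (homOfLE (inf_le_left : V₂ ≤ W)).op a) := by
        rw [← ConcreteCategory.comp_apply, ← Functor.map_comp]; rfl
      have e2 : X.presheaf.map (homOfLE (i₁.le.trans inf_le_right : V₃ ≤ V₁)).op c₁ =
          X.presheaf.map i₁.op (X.presheaf.map (homOfLE (inf_le_right : V₂ ≤ V₁)).op c₁) := by
        rw [← ConcreteCategory.comp_apply, ← Functor.map_comp]; rfl
      rw [e1, e2]
      exact he)
  rw [← TopCat.Presheaf.germ_res_apply X.presheaf (homOfLE (i₁.le.trans inf_le_right : V₃ ≤ V₁))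
    y.1 hyV₃ c₁, h1, map_zero]


/-- restriction of a unit of `Γ(U, K_X)` -/
noncomputable abbrev resUnit {U V : X.Opens} (hV : V ≤ U) (f : (Γ(kmod X, U))ˣ) : (Γ(kmod X, V))ˣ :=
  Units.map ((kring X).obj.map (homOfLE hV).op).hom.toMonoidHom f

theorem resUnit_val {U V : X.Opens} (hV : V ≤ U) (f : (Γ(kmod X, U))ˣ) :
    ((resUnit hV f : (Γ(kmod X, V))ˣ) : Γ(kmod X, V)) = mres (kmod X) hV (f : Γ(kmod X, U)) := rfl

theorem isInvertible_of_local (J : X.Modules) (ι : J ⟶ kmod X) [Mono ι]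
    (h : ∀ x : X, ∃ (U : X.Opens) (_ : x ∈ U) (f : (Γ(kmod X, U))ˣ), ∀ (V : X.Opens) (hV : V ≤ U),
      Set.range (ι.app V) = {t : Γ(kmod X, V) | ∃ r : Γ(X, V),
        t = toK X V r * mres (kmod X) hV (f : Γ(kmod X, U))}) : PicF.IsInvertible J := by
  intro x
  obtain ⟨U, hxU, f, hf⟩ := h x
  have hfmem : (f : Γ(kmod X, U)) ∈ Set.range (ι.app U) := by
    rw [hf U le_rfl]
    refine ⟨1, ?_⟩
    rw [map_one, one_mul, mres_self]
  obtain ⟨σ, hσ⟩ := hfmem
  have hι : ∀ (V : X.Opens) (hV : V ≤ U) (r : Γ(X, V)),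
      ι.app V (r • mres J hV σ) = toK X V r * mres (kmod X) hV (f : Γ(kmod X, U)) := by
    intro V hV r
    rw [Scheme.Modules.Hom.app_smul, hom_app_mres, hσ, smul_eq_toK_mul]
  refine ⟨U, hxU, nonempty_restrict_iso_unit J U σ (fun V hV => ⟨?_, ?_⟩)⟩
  · intro r r' hrr'
    have h1 := congrArg (ι.app V) hrr'
    dsimp only at h1
    rw [hι, hι, ← resUnit_val] at h1
    exact toK_injective V ((resUnit hV f).isUnit.mul_left_injective h1)
  · intro m
    have hm : ι.app V m ∈ Set.range (ι.app V) := ⟨m, rfl⟩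
    rw [hf V hV] at hm
    obtain ⟨r, hr⟩ := hm
    refine ⟨r, ?_⟩
    apply Groth.Agent.H12.QCohAbelian.app_injective_of_mono ι V
    rw [hι, hr]

theorem local_of_isInvertible (J : X.Modules) (ι : J ⟶ kmod X) [Mono ι]
    (hJ : PicF.IsInvertible J) (x : X) :
    ∃ (U : X.Opens) (_ : x ∈ U) (f : (Γ(kmod X, U))ˣ), ∀ (V : X.Opens) (hV : V ≤ U),
      Set.range (ι.app V) = {t : Γ(kmod X, V) | ∃ r : Γ(X, V),
        t = toK X V r * mres (kmod X) hV (f : Γ(kmod X, U))} := by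
  obtain ⟨U, hxU, σ, hσ⟩ := exists_isFreeGen_of_isInvertible hJ x
  set f₀ : Γ(kmod X, U) := ι.app U σ with hf₀
  obtain ⟨W, hxW, i, a, b, hab⟩ := f₀.2 ⟨x, hxU⟩
  have hWU : W ≤ U := i.le
  have hι : ∀ (V : X.Opens) (hV : V ≤ U) (r : Γ(X, V)),
      ι.app V (r • mres J hV σ) = toK X V r * mres (kmod X) hV f₀ := by
    intro V hV r
    rw [Scheme.Modules.Hom.app_smul, hom_app_mres, smul_eq_toK_mul]
  have hval : ∀ y : W, f₀.1 ⟨y.1, hWU y.2⟩ =
      LocalizedModule.mk (X.presheaf.germ W y.1 y.2 a) (regGerm y b) := fun y => hab y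
  have ha : a ∈ regSub X W := by
    apply mem_regSub_of_forall_injective
    intro V hV c hc
    have hVU : V ≤ U := hV.trans hWU
    have h0 : ι.app V (c • mres J hVU σ) = 0 := by
      rw [hι]
      apply kmod_ext
      intro y
      rw [kmod_mul_apply, toK_apply]
      change _ * f₀.1 ⟨y.1, hVU y.2⟩ = 0
      rw [hval ⟨y.1, hV y.2⟩]
      refine LocalizedModule.mk_mul_mk.trans ?_
      rw [kstalk_mk_eq_zero_iff]
      have h1 := congrArg (X.presheaf.germ V y.1 y.2) hc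
      rw [map_mul, map_zero, TopCat.Presheaf.germ_res_apply] at h1
      rw [mul_comm]
      exact h1
    have h1 : c • mres J hVU σ = 0 := by
      apply Groth.Agent.H12.QCohAbelian.app_injective_of_mono ι V
      rw [h0, map_zero]
    apply (hσ V hVU).1
    change c • mres J hVU σ = (0 : Γ(X, V)) • mres J hVU σ
    rw [h1, zero_smul]
  have hmres : mres (kmod X) hWU f₀ = toK X W a * invK b := by
    apply kmod_ext
    intro y
    change f₀.1 ⟨y.1, hWU y.2⟩ = _
    rw [hval y, kmod_mul_apply, toK_apply]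
    refine (mk_congr ?_ ?_).trans LocalizedModule.mk_mul_mk.symm
    · rw [mul_one]
    · rw [one_mul]
  have hmul : mres (kmod X) hWU f₀ * (toK X W b.1 * invK ⟨a, ha⟩) = 1 := by
    rw [hmres]
    calc toK X W a * invK b * (toK X W b.1 * invK ⟨a, ha⟩)
        = (toK X W a * invK ⟨a, ha⟩) * (toK X W b.1 * invK b) := by ring
      _ = 1 := by rw [toK_mul_invK ⟨a, ha⟩, toK_mul_invK b, one_mul]
  let f : (Γ(kmod X, W))ˣ := Units.mkOfMulEqOne _ _ hmul
  have hfval : (f : Γ(kmod X, W)) = mres (kmod X) hWU f₀ := rfl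
  refine ⟨W, hxW, f, fun V hV => ?_⟩
  have hVU : V ≤ U := hV.trans hWU
  have hres : mres (kmod X) hV (f : Γ(kmod X, W)) = mres (kmod X) hVU f₀ := by
    rw [hfval, mres_mres]
  ext t
  constructor
  · rintro ⟨m, rfl⟩
    obtain ⟨r, hr⟩ := (hσ V hVU).2 m
    refine ⟨r, ?_⟩
    rw [hres, ← hι, ← hr]
  · rintro ⟨r, rfl⟩
    exact ⟨r • mres J hVU σ, by rw [hι, hres]⟩

theorem main (J : X.Modules) (ι : J ⟶ Mero.kmod X) [Mono ι] :
    PicF.IsInvertible J ↔ ∀ x : ↥X, ∃ (U : X.Opens) (_ : x ∈ U) (f : (Γ(Mero.kmod X, U))ˣ),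
      ∀ (V : X.Opens) (hV : V ≤ U),
        Set.range ⇑(ι.val.app (Opposite.op V)) =
          {t : Γ(Mero.kmod X, V) | ∃ r : Γ(X, V),
            t = Mero.toK X V r * (Mero.kmod X).presheaf.map (homOfLE hV).op (f : Γ(Mero.kmod X, U))} :=
  ⟨fun hJ x => local_of_isInvertible J ι hJ x, fun h => isInvertible_of_local J ι h⟩

end Groth.Agent.H54.FracIdeal
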