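import Mathlib

set_option autoImplicit false
universe u

namespace Groth.Agent.H54.ModAvoid

open Classical in
/-- avoidance of finitely many "primary" submodules attached to incomparable primes -/
theorem exists_notMem_of_primes {A M ι : Type*} [CommRing A] [AddCommGroup M] [Module A M]
    (s : Finset ι) (p : ι → Ideal A) (N : ι → Submodule A M)
    (hp : ∀ i ∈ s, (p i).IsPrime) (hinc : ∀ i ∈ s, ∀ j ∈ s, i ≠ j → ¬ p j ≤ p i)
    (h1 : ∀ i ∈ s, ∀ a ∈ p i, ∀ m : M, a • m ∈ N i)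
    (h2 : ∀ i ∈ s, ∀ a : A, a ∉ p i → ∀ m : M, a • m ∈ N i → m ∈ N i)
    (h3 : ∀ i ∈ s, ∃ m : M, m ∉ N i) : ∃ m : M, ∀ i ∈ s, m ∉ N i := by
  have hm : ∀ i : ι, ∃ m : M, i ∈ s → m ∉ N i := by
    intro i
    by_cases hi : i ∈ s
    · obtain ⟨m, hm⟩ := h3 i hi
      exact ⟨m, fun _ => hm⟩
    · exact ⟨0, fun h => (hi h).elim⟩
  choose m hm using hm
  have ha : ∀ i : ι, ∃ a : A, i ∈ s → a ∉ p i ∧ ∀ j ∈ s, j ≠ i → a ∈ p j := by
    intro i
    by_cases hi : i ∈ s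
    · haveI := hp i hi
      have hnot : ¬ (∏ j ∈ s.erase i, p j) ≤ p i := by
        rw [Ideal.IsPrime.prod_le (hp i hi)]
        rintro ⟨j, hj, hji⟩
        rw [Finset.mem_erase] at hj
        exact hinc i hi j hj.2 (Ne.symm hj.1) hji
      obtain ⟨a, haprod, hai⟩ := SetLike.not_le_iff_exists.mp hnot
      refine ⟨a, fun _ => ⟨hai, fun j hj hji => ?_⟩⟩
      have h1 : (∏ j ∈ s.erase i, p j) ≤ (s.erase i).inf p := Ideal.prod_le_inf
      have h2 : (s.erase i).inf p ≤ p j := Finset.inf_le (Finset.mem_erase.mpr ⟨hji, hj⟩)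
      exact h2 (h1 haprod)
    · exact ⟨0, fun h => (hi h).elim⟩
  choose a ha using ha
  refine ⟨∑ j ∈ s, a j • m j, fun i hi hmem => ?_⟩
  rw [← Finset.add_sum_erase s _ hi] at hmem
  have hrest : ∑ j ∈ s.erase i, a j • m j ∈ N i := by
    refine Submodule.sum_mem _ (fun j hj => ?_)
    rw [Finset.mem_erase] at hj
    exact h1 i hi (a j) ((ha j hj.2).2 i hi (Ne.symm hj.1)) (m j)
  have h4 : a i • m i ∈ N i := by
    have := (N i).sub_mem hmem hrest
    rwa [add_sub_cancel_right] at this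
  exact hm i hi (h2 i hi (a i) (ha i hi).1 (m i) h4)

end Groth.Agent.H54.ModAvoid
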