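import Mathlib
import Groth.Prelude.Def_MeroDiv
import Groth.Prelude.Def_Pic
import Groth.Agent.H54.ModAvoid
import Groth.Agent.H54.FracIdeal
import Groth.Agent.H8.QCohStalk
import Groth.Agent.H8.MeroGen
import Groth.Agent.H8.RegularGerm
import Groth.Agent.H18.QCohLocal

set_option autoImplicit false
universe u
open CategoryTheory CategoryTheory.Limits AlgebraicGeometry TopologicalSpace Opposite

namespace Groth.Agent.H54.GenSection

open Mero Groth.Agent.H8 Groth.Agent.H18 Groth.Agent.H54.FracIdeal

variable {X : Scheme.{u}}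

theorem isQuasicoherent_of_isInvertible {L : X.Modules} (hL : PicF.IsInvertible L) :
    L.IsQuasicoherent := by
  choose U hxU hiso using hL
  refine isQuasicoherent_of_isOpenCover L U ?_ (fun x => ?_)
  · apply IsOpenCover.mk
    exact top_le_iff.mp (fun x _ ↦ by simpa using ⟨x, hxU x⟩)
  · obtain ⟨e⟩ := hiso x
    exact (SheafOfModules.isQuasicoherent (U x : Scheme.{u}).ringCatSheaf).prop_of_iso e.symm
      (isQuasicoherent_structureModule (U x : Scheme.{u}))

/-- a unit multiple of a free generator is a free generator -/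
theorem isFreeGen_smul_of_isUnit {L : X.Modules} {U : X.Opens} {σ : Γ(L, U)} (hσ : IsFreeGen L U σ)
    (g : Γ(X, U)) (hg : IsUnit g) : IsFreeGen L U (g • σ) := by
  intro V hV
  have hgV : IsUnit (X.presheaf.map (homOfLE hV).op g) := hg.map _
  have hfun : (fun r : Γ(X, V) => r • L.presheaf.map (homOfLE hV).op (g • σ)) =
      (fun r : Γ(X, V) => r • L.presheaf.map (homOfLE hV).op σ) ∘
        (fun r => r * X.presheaf.map (homOfLE hV).op g) := by
    funext r
    change r • mres L hV (g • σ) = (r * _) • mres L hV σ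
    rw [mres_smul, mul_smul]
  rw [hfun]
  exact (hσ V hV).comp (IsUnit.isUnit_iff_mulRight_bijective.mp hgV)

/-- a section whose germ at `η` generates the stalk freely is a free generator near `η` -/
theorem exists_isFreeGen_nhds {L : X.Modules} (hL : PicF.IsInvertible L) {W : X.Opens}
    (m : Γ(L, W)) (η : X) (hη : η ∈ W)
    (hb : Function.Bijective (fun r : X.presheaf.stalk η => r • L.presheaf.germ W η hη m)) :
    ∃ (U : X.Opens) (hU : U ≤ W), η ∈ U ∧ IsFreeGen L U (L.presheaf.map (homOfLE hU).op m) := by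
  obtain ⟨V, hηV, σ, hσ⟩ := exists_isFreeGen_of_isInvertible hL η
  let W' : X.Opens := W ⊓ V
  have hηW' : η ∈ W' := ⟨hη, hηV⟩
  obtain ⟨g, hg⟩ := hσ.exists_smul_eq (inf_le_right : W' ≤ V)
    (L.presheaf.map (homOfLE (inf_le_left : W' ≤ W)).op m)
  have hg' : g • mres L (inf_le_right : W' ≤ V) σ = mres L (inf_le_left : W' ≤ W) m := hg
  have hbσ := hσ.germ_bijective hηV
  -- the germ of `g` is a unit
  have hgerm : X.presheaf.germ W' η hηW' g • L.presheaf.germ V η hηV σ =
      L.presheaf.germ W η hη m := by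
    have h1 := congrArg (L.presheaf.germ W' η hηW') hg'
    rw [Mero.germ_smul,
      TopCat.Presheaf.germ_res_apply L.presheaf (homOfLE (inf_le_right : W' ≤ V)) η hηW',
      TopCat.Presheaf.germ_res_apply L.presheaf (homOfLE (inf_le_left : W' ≤ W)) η hηW'] at h1
    exact h1
  obtain ⟨c, hc⟩ := hb.2 (L.presheaf.germ V η hηV σ)
  have hc' : c • L.presheaf.germ W η hη m = L.presheaf.germ V η hηV σ := hc
  have hunit : IsUnit (X.presheaf.germ W' η hηW' g) := by
    have h1 : c * X.presheaf.germ W' η hηW' g = 1 := by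
      apply hbσ.1
      change (c * X.presheaf.germ W' η hηW' g) • L.presheaf.germ V η hηV σ =
        (1 : X.presheaf.stalk η) • L.presheaf.germ V η hηV σ
      rw [mul_smul, hgerm, hc', one_smul]
    exact IsUnit.of_mul_eq_one c (by rw [mul_comm]; exact h1)
  let U : X.Opens := X.basicOpen g
  have hUW' : U ≤ W' := X.basicOpen_le g
  have hηU : η ∈ U := (X.mem_basicOpen g η hηW').mpr hunit
  refine ⟨U, hUW'.trans inf_le_left, hηU, ?_⟩
  have hgU : IsUnit (X.presheaf.map (homOfLE hUW').op g) :=
    RingedSpace.isUnit_res_basicOpen X.toRingedSpace g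
  have h2 := isFreeGen_smul_of_isUnit (hσ.res (hUW'.trans inf_le_right)) _ hgU
  have h3 : X.presheaf.map (homOfLE hUW').op g •
      L.presheaf.map (homOfLE (hUW'.trans inf_le_right)).op σ =
      L.presheaf.map (homOfLE (hUW'.trans inf_le_left)).op m := by
    have h4 := congrArg (mres L hUW') hg'
    rw [mres_smul, mres_mres, mres_mres] at h4
    exact h4
  rw [h3] at h2
  exact h2


/-- the submodule `𝔪 L_i` of the stalk -/
noncomputable abbrev mL (L : X.Modules) (η : X) : Submodule (X.presheaf.stalk η) (L.presheaf.stalk η) :=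
  (IsLocalRing.maximalIdeal (X.presheaf.stalk η)) •
    (⊤ : Submodule (X.presheaf.stalk η) (L.presheaf.stalk η))

/-- the sections over `W` whose germ at `i` lies in `𝔪 L_i` -/
def Nsub (L : X.Modules) (W : X.Opens) (i : W) : Submodule Γ(X, W) Γ(L, W) where
  carrier := {m | L.presheaf.germ W i.1 i.2 m ∈ mL L i.1}
  add_mem' := by
    intro a b ha hb
    have : L.presheaf.germ W i.1 i.2 (a + b) ∈ mL L i.1 := by
      rw [map_add]
      exact Submodule.add_mem _ ha hb
    exact this
  zero_mem' := by
    have : L.presheaf.germ W i.1 i.2 0 ∈ mL L i.1 := by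
      rw [map_zero]
      exact Submodule.zero_mem _
    exact this
  smul_mem' := by
    intro c a ha
    have : L.presheaf.germ W i.1 i.2 (c • a) ∈ mL L i.1 := by
      rw [Mero.germ_smul]
      exact Submodule.smul_mem _ _ ha
    exact this

theorem mem_Nsub (L : X.Modules) (W : X.Opens) (i : W) (m : Γ(L, W)) :
    m ∈ Nsub L W i ↔ L.presheaf.germ W i.1 i.2 m ∈
      (IsLocalRing.maximalIdeal (X.presheaf.stalk i.1)) •
        (⊤ : Submodule (X.presheaf.stalk i.1) (L.presheaf.stalk i.1)) := Iff.rfl

/-- if `e₀` generates `L_η` freely, an element `c • e₀` of `𝔪 L_η` has `c ∈ 𝔪` -/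
theorem mem_maximalIdeal_of_smul_mem {L : X.Modules} {η : X} (e₀ : L.presheaf.stalk η)
    (hb : Function.Bijective (fun r : X.presheaf.stalk η => r • e₀)) (c : X.presheaf.stalk η)
    (hc : c • e₀ ∈ (IsLocalRing.maximalIdeal (X.presheaf.stalk η)) •
      (⊤ : Submodule (X.presheaf.stalk η) (L.presheaf.stalk η))) :
    c ∈ IsLocalRing.maximalIdeal (X.presheaf.stalk η) := by
  have htop : (⊤ : Submodule (X.presheaf.stalk η) (L.presheaf.stalk η)) =
      Submodule.span (X.presheaf.stalk η) {e₀} := by
    rw [eq_comm, eq_top_iff]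
    intro l _
    obtain ⟨r, hr⟩ := hb.2 l
    exact Submodule.mem_span_singleton.mpr ⟨r, hr⟩
  rw [htop, Submodule.mem_smul_span_singleton] at hc
  obtain ⟨y, hy, hye⟩ := hc
  have : y = c := hb.1 hye
  rwa [← this]

set_option backward.isDefEq.respectTransparency false in
theorem exists_gen_section {L : X.Modules} (hL : PicF.IsInvertible L) {W : X.Opens}
    (hW : IsAffineOpen W) (P : Finset W)
    (hinc : ∀ η ∈ P, ∀ η' ∈ P, η ≠ η' → ¬ η'.1 ⤳ η.1) :
    ∃ m : Γ(L, W), ∀ η ∈ P, Function.Bijective
      (fun r : X.presheaf.stalk η.1 => r • L.presheaf.germ W η.1 η.2 m) := by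
  haveI := isQuasicoherent_of_isInvertible hL
  -- free generators of the stalks
  have hfree : ∀ i : W, ∃ e₀ : L.presheaf.stalk i.1,
      Function.Bijective (fun r : X.presheaf.stalk i.1 => r • e₀) := by
    intro i
    obtain ⟨V, hV, σ, hσ⟩ := exists_isFreeGen_of_isInvertible hL i.1
    exact ⟨_, hσ.germ_bijective hV⟩
  choose e₀ he₀ using hfree
  obtain ⟨m, hm⟩ := Groth.Agent.H54.ModAvoid.exists_notMem_of_primes P
    (fun i : W => (hW.primeIdealOf i).asIdeal) (fun i => Nsub L W i)
    (fun i _ => (hW.primeIdealOf i).isPrime)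
    (by
      intro i hi j hj hij hle
      have h1 : hW.primeIdealOf j ⤳ hW.primeIdealOf i :=
        (PrimeSpectrum.le_iff_specializes _ _).mp hle
      have h2 := h1.map hW.fromSpec.continuous
      rw [hW.fromSpec_primeIdealOf j, hW.fromSpec_primeIdealOf i] at h2
      exact hinc i hi j hj hij h2)
    (by
      intro i _ a ha m
      rw [mem_Nsub, Mero.germ_smul]
      have h1 : X.presheaf.germ W i.1 i.2 a ∈ IsLocalRing.maximalIdeal (X.presheaf.stalk i.1) := by
        rw [IsLocalRing.mem_maximalIdeal, mem_nonunits_iff]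
        exact (mem_primeIdealOf_iff hW i.2 a).mp ha
      exact Submodule.smul_mem_smul h1 Submodule.mem_top)
    (by
      intro i _ a ha m hm
      rw [mem_Nsub, Mero.germ_smul] at hm
      rw [mem_Nsub]
      have h1 : IsUnit (X.presheaf.germ W i.1 i.2 a) := by
        by_contra h
        exact ha ((mem_primeIdealOf_iff hW i.2 a).mpr h)
      obtain ⟨u, hu⟩ := h1
      have h2 := Submodule.smul_mem _ (↑u⁻¹ : X.presheaf.stalk i.1) hm
      rwa [← hu, smul_smul, Units.inv_mul, one_smul] at h2)
    (by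
      intro i _
      by_contra hall
      push Not at hall
      letI := stalkModule L i.2
      haveI hloc : IsLocalizedModule (hW.primeIdealOf i).asIdeal.primeCompl (germₗ L i.2) :=
        isLocalizedModule_germₗ L hW i.2
      obtain ⟨⟨m, s⟩, hms⟩ := IsLocalizedModule.surj (hW.primeIdealOf i).asIdeal.primeCompl
        (germₗ L i.2) (e₀ i)
      have h1 : (s : Γ(X, W)) • e₀ i = L.presheaf.germ W i.1 i.2 m := hms
      have h2 : (X.presheaf.germ W i.1 i.2 (s : Γ(X, W))) • e₀ i ∈
          (IsLocalRing.maximalIdeal (X.presheaf.stalk i.1)) •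
            (⊤ : Submodule (X.presheaf.stalk i.1) (L.presheaf.stalk i.1)) := by
        have h3 : (s : Γ(X, W)) • e₀ i = (X.presheaf.germ W i.1 i.2 (s : Γ(X, W))) • e₀ i := rfl
        rw [← h3, h1]
        exact (mem_Nsub L W i m).mp (hall m)
      have h4 := mem_maximalIdeal_of_smul_mem (e₀ i) (he₀ i) _ h2
      rw [IsLocalRing.mem_maximalIdeal, mem_nonunits_iff] at h4
      exact h4 (by
        by_contra h
        exact s.2 ((mem_primeIdealOf_iff hW i.2 s.1).mpr h)))
  refine ⟨m, fun η hη => ?_⟩
  obtain ⟨c, hc⟩ := (he₀ η).2 (L.presheaf.germ W η.1 η.2 m)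
  have hc' : c • e₀ η = L.presheaf.germ W η.1 η.2 m := hc
  have hcunit : IsUnit c := by
    by_contra h
    apply hm η hη
    rw [mem_Nsub, ← hc']
    exact Submodule.smul_mem_smul h Submodule.mem_top
  rw [← hc']
  have hfun : (fun r : X.presheaf.stalk η.1 => r • c • e₀ η) =
      (fun r : X.presheaf.stalk η.1 => r • e₀ η) ∘ (fun r => r * c) := by
    funext r
    simp only [Function.comp_apply, mul_smul]
  rw [hfun]
  exact (he₀ η).comp (IsUnit.isUnit_iff_mulRight_bijective.mp hcunit)

end Groth.Agent.H54.GenSection
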