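import Mathlib
import Groth.Prelude.Def_PicF2
import Groth.Prelude.Def_SecTwist
import Groth.Agent.H8.QCohStalk
import Groth.Agent.H8.FreeGen

set_option autoImplicit false
universe u
open CategoryTheory CategoryTheory.Limits AlgebraicGeometry TopologicalSpace Opposite

namespace Groth.Agent.H54.ZeroIdeal

open Groth.Agent.H8

variable {X : Scheme.{u}}

/-- the section of `L` over `U` named by `s`, typed as an element of `Γ(L, U)` -/
noncomputable abbrev sval (L : X.Modules) (s : Coh.structureModule X ⟶ L) (U : X.Opens) : Γ(L, U) :=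
  SecTwist.val s U

theorem mem_zeroIdealOn (L : X.Modules) (s : Coh.structureModule X ⟶ L) (U : X.Opens)
    (a : Γ(X, U)) :
    a ∈ (show Ideal Γ(X, U) from PicF2.zeroIdealOn L s U) ↔
      ∀ m : Γ(L, U), ∃ b : Γ(X, U), a • m = b • sval L s U := Iff.rfl

theorem res_val (L : X.Modules) (s : Coh.structureModule X ⟶ L) {U V : X.Opens} (h : V ≤ U) :
    L.presheaf.map (homOfLE h).op (sval L s U) = sval L s V :=
  SecTwist.map_val s (homOfLE h)

/-- the family `zeroIdealOn` localizes, when sections of `L` over `U` are finitely generated -/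
theorem map_zeroIdealOn_basicOpen (L : X.Modules) [L.IsQuasicoherent]
    (s : Coh.structureModule X ⟶ L) {U : X.Opens} (hU : IsAffineOpen U)
    (hfin : Module.Finite Γ(X, U) Γ(L, U)) (f : Γ(X, U)) :
    (show Ideal Γ(X, U) from PicF2.zeroIdealOn L s U).map
        (X.presheaf.map (homOfLE <| X.basicOpen_le f).op).hom =
      (show Ideal Γ(X, X.basicOpen f) from PicF2.zeroIdealOn L s (X.basicOpen f)) := by
  set ρ := (X.presheaf.map (homOfLE <| X.basicOpen_le f).op).hom with hρ
  have hsm : ∀ (a : Γ(X, U)) (m : Γ(L, U)),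
      L.presheaf.map (homOfLE <| X.basicOpen_le f).op (a • m) =
        ρ a • L.presheaf.map (homOfLE <| X.basicOpen_le f).op m :=
    fun a m => Scheme.Modules.map_smul L (homOfLE <| X.basicOpen_le f) a m
  have hunit : IsUnit (ρ f) := X.toRingedSpace.isUnit_res_basicOpen f
  have hσ : L.presheaf.map (homOfLE <| X.basicOpen_le f).op (sval L s U) =
      sval L s (X.basicOpen f) := res_val L s _
  apply le_antisymm
  · rw [Ideal.map_le_iff_le_comap]
    intro a ha
    rw [Ideal.mem_comap, mem_zeroIdealOn]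
    intro t
    obtain ⟨n, m, hm⟩ := exists_res_eq_pow_smul L hU f t
    obtain ⟨b, hb⟩ := (mem_zeroIdealOn L s U a).mp ha m
    obtain ⟨v, hv⟩ := hunit.pow n
    refine ⟨((v⁻¹ : (Γ(X, X.basicOpen f))ˣ) : Γ(X, X.basicOpen f)) * ρ b, ?_⟩
    have h1 : ρ a • (ρ f ^ n • t) = ρ b • sval L s (X.basicOpen f) := by
      change ρ a • ((X.presheaf.map (homOfLE (X.basicOpen_le f)).op).hom f ^ n • t) = _
      rw [← hm, ← hsm, hb, hsm, hσ]
    rw [smul_comm, ← hv] at h1
    rw [mul_smul, ← h1, ← mul_smul, Units.inv_mul, one_smul]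
  · intro r' hr'
    haveI := hU.isLocalization_basicOpen f
    obtain ⟨⟨a, ⟨_, n, rfl⟩⟩, ha⟩ := IsLocalization.surj (Submonoid.powers f) r'
    have ha' : r' * ρ (f ^ n) = ρ a := ha
    obtain ⟨S, hS⟩ := (Module.Finite.fg_top : (⊤ : Submodule Γ(X, U) Γ(L, U)).FG)
    have hkill : ∀ m ∈ S, ∃ (k : ℕ) (c : Γ(X, U)), (f ^ k * a) • m = c • sval L s U := by
      intro m _
      obtain ⟨b', hb'⟩ := (mem_zeroIdealOn L s _ r').mp hr'
        (L.presheaf.map (homOfLE <| X.basicOpen_le f).op m)
      obtain ⟨⟨c, ⟨_, nm, rfl⟩⟩, hc⟩ := IsLocalization.surj (Submonoid.powers f) b'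
      have hc' : b' * ρ (f ^ nm) = ρ c := hc
      have hzero : L.presheaf.map (homOfLE <| X.basicOpen_le f).op
          ((f ^ nm * a) • m - (f ^ n * c) • sval L s U) = 0 := by
        rw [map_sub, hsm, hsm, hσ, map_mul, map_mul, ← ha', ← hc', sub_eq_zero]
        calc (ρ (f ^ nm) * (r' * ρ (f ^ n))) • L.presheaf.map (homOfLE <| X.basicOpen_le f).op m
            = (ρ (f ^ nm) * ρ (f ^ n)) • (r' • L.presheaf.map (homOfLE <| X.basicOpen_le f).op m) := by
              rw [← mul_smul]; congr 1; ring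
          _ = (ρ (f ^ nm) * ρ (f ^ n)) • (b' • sval L s (X.basicOpen f)) := by rw [hb']
          _ = (ρ (f ^ n) * (b' * ρ (f ^ nm))) • sval L s (X.basicOpen f) := by
              rw [← mul_smul]; congr 1; ring
      obtain ⟨k, hk⟩ := exists_pow_smul_eq_zero_of_res_basicOpen_eq_zero L hU f _ hzero
      refine ⟨k + nm, f ^ k * (f ^ n * c), ?_⟩
      rw [smul_sub, sub_eq_zero] at hk
      rw [pow_add, mul_assoc, mul_smul, hk, ← mul_smul]
    choose! k c hk using hkill
    let K := S.sup k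
    have hK : ∀ m ∈ S, ∃ c' : Γ(X, U), (f ^ K * a) • m = c' • sval L s U := by
      intro m hm
      have hle : k m ≤ K := Finset.le_sup hm
      refine ⟨f ^ (K - k m) * c m, ?_⟩
      rw [mul_smul (f ^ (K - k m)), ← hk m hm, ← mul_smul, ← mul_assoc, ← pow_add,
        Nat.sub_add_cancel hle]
    have hmem : f ^ K * a ∈ (show Ideal Γ(X, U) from PicF2.zeroIdealOn L s U) := by
      rw [mem_zeroIdealOn]
      intro m
      have hmtop : m ∈ Submodule.span Γ(X, U) (S : Set Γ(L, U)) := by rw [hS]; trivial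
      induction hmtop using Submodule.span_induction with
      | mem x hx => exact hK x hx
      | zero => exact ⟨0, by rw [smul_zero, zero_smul]⟩
      | add x y _ _ hx hy =>
        obtain ⟨bx, hbx⟩ := hx
        obtain ⟨by', hby⟩ := hy
        exact ⟨bx + by', by rw [smul_add, hbx, hby, add_smul]⟩
      | smul r x _ hx =>
        obtain ⟨bx, hbx⟩ := hx
        exact ⟨r * bx, by rw [smul_comm, hbx, mul_smul]⟩
    have hmap : ρ (f ^ K * a) ∈ (show Ideal Γ(X, U) from PicF2.zeroIdealOn L s U).map ρ :=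
      Ideal.mem_map_of_mem ρ hmem
    have hu : IsUnit (ρ (f ^ (K + n))) := by
      rw [map_pow]
      exact hunit.pow _
    have heq : r' * ρ (f ^ (K + n)) = ρ (f ^ K * a) := by
      rw [pow_add, map_mul, map_mul, ← ha']
      ring
    obtain ⟨v, hv⟩ := hu
    have : r' = ρ (f ^ K * a) * (v⁻¹ : (Γ(X, X.basicOpen f))ˣ) := by
      rw [← heq, ← hv, mul_assoc, Units.mul_inv, mul_one]
    rw [this]
    exact Ideal.mul_mem_right _ _ hmap

end Groth.Agent.H54.ZeroIdeal
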