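import Mathlib
import Groth.Prelude.Def_PicF2
import Groth.Prelude.Def_SecTwist
import Groth.Prelude.Def_MeroDiv
import Groth.Agent.H54.ZeroIdeal
import Groth.Agent.H54.GenSection
import Groth.Agent.H44.FiniteSections

set_option autoImplicit false
universe u
open CategoryTheory CategoryTheory.Limits AlgebraicGeometry TopologicalSpace Opposite

namespace Groth.Agent.H54.ZeroChart

open Mero Groth.Agent.H8 Groth.Agent.H18 Groth.Agent.H54.ZeroIdeal Groth.Agent.H54.GenSection

variable {X : Scheme.{u}}

/-- a free generator spans the sections -/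
theorem finite_of_isFreeGen {L : X.Modules} {U : X.Opens} {σ : Γ(L, U)} (hσ : IsFreeGen L U σ) :
    Module.Finite Γ(X, U) Γ(L, U) := by
  have hb := hσ U le_rfl
  have e : L.presheaf.map (homOfLE (le_refl U)).op σ = σ := mres_self L le_rfl σ
  refine ⟨⟨{σ}, ?_⟩⟩
  rw [Finset.coe_singleton, eq_top_iff]
  intro m _
  obtain ⟨r, hr⟩ := hb.2 m
  rw [Submodule.mem_span_singleton]
  refine ⟨r, ?_⟩
  rw [← hr]
  change r • σ = r • L.presheaf.map (homOfLE (le_refl U)).op σ
  rw [e]

theorem exists_affine_isFreeGen {L : X.Modules} (hL : PicF.IsInvertible L) (x : X) :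
    ∃ (U : X.affineOpens) (_ : x ∈ (U : X.Opens)) (σ : Γ(L, U.1)), IsFreeGen L U.1 σ := by
  obtain ⟨U₁, hxU₁, σ₁, hσ₁⟩ := exists_isFreeGen_of_isInvertible hL x
  obtain ⟨V, hV, hxV, hVU⟩ := exists_isAffineOpen_mem_and_subset (x := x) (U := U₁) hxU₁
  exact ⟨⟨V, hV⟩, hxV, _, hσ₁.res hVU⟩

/-- sections of an invertible module over an affine open form a finite module -/
theorem finite_sections_of_isInvertible {L : X.Modules} (hL : PicF.IsInvertible L)
    (V : X.affineOpens) : Module.Finite Γ(X, V.1) Γ(L, V.1) := by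
  haveI := isQuasicoherent_of_isInvertible hL
  choose U hxU σ hσ using fun x => exists_affine_isFreeGen hL x
  refine Groth.Agent.H44.finite_sections_of_cover L U ?_ (fun x => finite_of_isFreeGen (hσ x)) V
  exact top_le_iff.mp fun x _ => Opens.mem_iSup.mpr ⟨x, hxU x⟩

/-- the ideal sheaf of the zero scheme of a section of an invertible module -/
noncomputable def zeroIdealSheaf {L : X.Modules} (hL : PicF.IsInvertible L)
    (s : Coh.structureModule X ⟶ L) : X.IdealSheafData where
  ideal U := show Ideal Γ(X, U.1) from PicF2.zeroIdealOn L s U.1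
  map_ideal_basicOpen U f := by
    haveI := isQuasicoherent_of_isInvertible hL
    exact map_zeroIdealOn_basicOpen L s U.2 (finite_sections_of_isInvertible hL U) f

theorem zeroScheme_ideal {L : X.Modules} (hL : PicF.IsInvertible L)
    (s : Coh.structureModule X ⟶ L) (U : X.affineOpens) :
    (PicF2.zeroScheme L s).ideal U = (show Ideal Γ(X, U.1) from PicF2.zeroIdealOn L s U.1) := by
  have h := Scheme.IdealSheafData.ofIdeals_ideal (zeroIdealSheaf hL s)
  have h2 : PicF2.zeroScheme L s = Scheme.IdealSheafData.ofIdeals (zeroIdealSheaf hL s).ideal := rfl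
  rw [h2, h]
  rfl

/-- a chart of a section `s` of `L`: a free generator `σ` over `U` and a regular function `f` with
`s = f σ` -/
structure SecChart (L : X.Modules) (s : Coh.structureModule X ⟶ L) (U : X.Opens) where
  σ : Γ(L, U)
  hσ : IsFreeGen L U σ
  f : regSub X U
  hs : sval L s U = f.1 • σ

/-- on a chart the ideal of the zero scheme is generated by `f` -/
theorem zeroIdealOn_eq_span {L : X.Modules} {s : Coh.structureModule X ⟶ L} {U : X.Opens}
    (c : SecChart L s U) :
    (show Ideal Γ(X, U) from PicF2.zeroIdealOn L s U) = Ideal.span {c.f.1} := by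
  have hb := c.hσ U le_rfl
  have e : L.presheaf.map (homOfLE (le_refl U)).op c.σ = c.σ := mres_self L le_rfl c.σ
  ext a
  rw [mem_zeroIdealOn, Ideal.mem_span_singleton']
  constructor
  · intro h
    obtain ⟨b, hb'⟩ := h c.σ
    refine ⟨b, ?_⟩
    apply hb.1
    change (b * c.f.1) • L.presheaf.map (homOfLE (le_refl U)).op c.σ =
      a • L.presheaf.map (homOfLE (le_refl U)).op c.σ
    rw [e, hb', c.hs, mul_smul]
  · rintro ⟨b, rfl⟩ m
    obtain ⟨r, hr⟩ := hb.2 m
    have hr' : r • c.σ = m := by
      rw [← hr]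
      change r • c.σ = r • L.presheaf.map (homOfLE (le_refl U)).op c.σ
      rw [e]
    refine ⟨b * r, ?_⟩
    rw [c.hs, ← hr', ← mul_smul, ← mul_smul]
    congr 1
    ring

theorem zeroScheme_ideal_eq_span {L : X.Modules} (hL : PicF.IsInvertible L)
    {s : Coh.structureModule X ⟶ L} (U : X.affineOpens) (c : SecChart L s U.1) :
    (PicF2.zeroScheme L s).ideal U = Ideal.span {c.f.1} := by
  rw [zeroScheme_ideal hL s U]
  exact zeroIdealOn_eq_span c

end Groth.Agent.H54.ZeroChart
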