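import Mathlib

set_option autoImplicit false
universe u
open CategoryTheory

namespace Groth.Agent.H54.OrdEquiv

theorem ord_ringEquiv {R R' : Type*} [CommRing R] [CommRing R'] (e : R ≃+* R') (a : R) :
    Ring.ord R' (e a) = Ring.ord R a := by
  have hI : Ideal.span {e a} = Ideal.map (e : R →+* R') (Ideal.span {a}) := by
    rw [Ideal.map_span, Set.image_singleton]; rfl
  let q : R ⧸ Ideal.span {a} ≃+* R' ⧸ Ideal.span {e a} := Ideal.quotientEquiv _ _ e hI
  haveI : RingHomSurjective (e : R →+* R') := ⟨e.surjective⟩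
  let f : (R ⧸ Ideal.span {a}) →ₛₗ[(e : R →+* R')] (R' ⧸ Ideal.span {e a}) :=
    { toFun := q
      map_add' := map_add q
      map_smul' := by
        intro r x
        obtain ⟨x, rfl⟩ := Ideal.Quotient.mk_surjective x
        change q (r • Ideal.Quotient.mk _ x) = (e r) • q (Ideal.Quotient.mk _ x)
        rw [Algebra.smul_def, Algebra.smul_def, map_mul]
        rfl }
  have hf : Function.Bijective f := q.bijective
  unfold Ring.ord
  rw [Module.length, Module.length, WithBot.unbot_inj,
    Order.krullDim_eq_of_orderIso (Submodule.orderIsoMapComapOfBijective f hf)]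

theorem ordFrac_ringEquiv {R R' K K' : Type*} [CommRing R] [IsDomain R] [IsNoetherianRing R]
    [Ring.KrullDimLE 1 R] [Field K] [Algebra R K] [IsFractionRing R K]
    [CommRing R'] [IsDomain R'] [IsNoetherianRing R']
    [Ring.KrullDimLE 1 R'] [Field K'] [Algebra R' K'] [IsFractionRing R' K']
    (e : R ≃+* R') (eK : K →+* K')
    (hcomp : ∀ r, eK (algebraMap R K r) = algebraMap R' K' (e r)) (φ : K) :
    Ring.ordFrac R' (eK φ) = Ring.ordFrac R φ := by
  obtain ⟨a, b, hb, rfl⟩ := IsFractionRing.div_surjective (A := R) φ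
  have hb0 : b ≠ 0 := nonZeroDivisors.ne_zero hb
  have heb0 : e b ≠ 0 := by
    intro h
    exact hb0 (e.injective (by rw [h, map_zero]))
  by_cases ha0 : a = 0
  · subst ha0
    simp
  have hea0 : e a ≠ 0 := by
    intro h
    exact ha0 (e.injective (by rw [h, map_zero]))
  rw [map_div₀, map_div₀, map_div₀, hcomp, hcomp, Ring.ordFrac_eq_ord R ha0,
    Ring.ordFrac_eq_ord R hb0, Ring.ordFrac_eq_ord R' hea0, Ring.ordFrac_eq_ord R' heb0]
  have h1 : ∀ c : R, c ≠ 0 → Ring.ordMonoidWithZeroHom R' (e c) = Ring.ordMonoidWithZeroHom R c := by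
    intro c hc
    have hc' : c ∈ nonZeroDivisors R := mem_nonZeroDivisors_of_ne_zero hc
    have hec : e c ≠ 0 := by
      intro h
      exact hc (e.injective (by rw [h, map_zero]))
    have hec' : e c ∈ nonZeroDivisors R' := mem_nonZeroDivisors_of_ne_zero hec
    obtain ⟨m, hm⟩ := ENat.ne_top_iff_exists.mp (Ring.ord_ne_top hc')
    have hm' : (m : ℕ∞) = Ring.ord R' (e c) := by rw [ord_ringEquiv, hm]
    rw [Ring.ordMonoidWithZeroHom_eq_coe _ hc' hm.symm, Ring.ordMonoidWithZeroHom_eq_coe _ hec' hm'.symm]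
  rw [h1 a ha0, h1 b hb0]

end Groth.Agent.H54.OrdEquiv
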