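import Mathlib
import Groth.Agent.H54.UnivOpenDed

set_option autoImplicit false
universe u
open CategoryTheory CategoryTheory.Limits AlgebraicGeometry TopologicalSpace Order

namespace Groth.Agent.H54.OrdLF

/-- in a Noetherian quasi-sober T0 space there are finitely many maximal points -/
theorem finite_maximal_points (T : Type*) [TopologicalSpace T] [T0Space T] [QuasiSober T]
    [NoetherianSpace T] : {t : T | ∀ t' : T, t' ⤳ t → t' = t}.Finite := by
  have hfin : (irreducibleComponents T).Finite := NoetherianSpace.finite_irreducibleComponents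
  refine Set.Finite.of_injOn (f := fun t => closure ({t} : Set T)) ?_ ?_ hfin
  · intro t ht
    exact (Groth.Agent.H54.UOD.closure_mem_irreducibleComponents_iff t).mpr ht
  · intro t _ t' _ h
    have h1 : t ⤳ t' := specializes_iff_closure_subset.mpr (by
      change closure {t'} ⊆ closure {t}
      rw [show closure ({t} : Set T) = closure {t'} from h])
    have h2 : t' ⤳ t := specializes_iff_closure_subset.mpr (by
      change closure {t} ⊆ closure {t'}
      rw [show closure ({t} : Set T) = closure {t'} from h])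
    exact (h1.antisymm h2).eq

theorem locallyFinite_ord_ne_zero (X : Scheme.{u}) [IsIntegral X] [IsLocallyNoetherian X]
    (f : ↑X.functionField) (hf : f ≠ 0) :
    LocallyFinite (fun ξ : {ξ : ↥X // Order.coheight ξ = 1 ∧ Scheme.ord f ξ ≠ 0} =>
      closure ({ξ.1} : Set ↥X)) := by
  obtain ⟨U₀, hU₀aff, f', hne, hf', hunit⟩ := exists_isUnit_germ_eq X f hf
  have hord0 : ∀ ξ : X, ξ ∈ U₀ → Scheme.ord f ξ = 0 := fun ξ hξ => by
    rw [← hf']
    exact Scheme.ord_of_isUnit hunit hξ
  have hη : genericPoint X ∈ U₀ :=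
    ((genericPoint_spec X).mem_open_set_iff U₀.isOpen).mpr (by simpa using hne)
  intro x₀
  obtain ⟨V, hV, hxV, -⟩ := exists_isAffineOpen_mem_and_subset (U := ⊤) (x := x₀) (by simp)
  have hN : NoetherianSpace ((V : Set X) : Type u) := by
    have : IsNoetherianRing Γ(X, V) := IsLocallyNoetherian.component_noetherian ⟨V, hV⟩
    exact noetherianSpace_of_isAffineOpen V hV
  refine ⟨(V : Set X), V.isOpen.mem_nhds hxV, ?_⟩
  -- the closed subspace `W` of `V`
  let W : Set ((V : Set X) : Type u) := {v | v.1 ∉ U₀}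
  have hWcl : IsClosed W := by
    have : W = (Subtype.val ⁻¹' (U₀ : Set X))ᶜ := rfl
    rw [this]
    exact (U₀.isOpen.preimage continuous_subtype_val).isClosed_compl
  haveI : QuasiSober ((V : Set X) : Type u) :=
    Topology.IsOpenEmbedding.quasiSober V.isOpen.isOpenEmbedding_subtypeVal
  haveI : QuasiSober W := Topology.IsClosedEmbedding.quasiSober hWcl.isClosedEmbedding_subtypeVal
  have hfinW := finite_maximal_points W
  -- the map
  have hmemV : ∀ i : {ξ : ↥X // Order.coheight ξ = 1 ∧ Scheme.ord f ξ ≠ 0},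
      (closure ({i.1} : Set X) ∩ (V : Set X)).Nonempty → i.1 ∈ V := by
    rintro i ⟨y, hy1, hy2⟩
    have hsp : i.1 ⤳ y := specializes_iff_mem_closure.mpr hy1
    exact hsp.mem_open V.isOpen hy2
  have hnotU : ∀ i : {ξ : ↥X // Order.coheight ξ = 1 ∧ Scheme.ord f ξ ≠ 0}, i.1 ∉ U₀ :=
    fun i hi => i.2.2 (hord0 i.1 hi)
  let g : {i : {ξ : ↥X // Order.coheight ξ = 1 ∧ Scheme.ord f ξ ≠ 0} |
      (closure ({i.1} : Set X) ∩ (V : Set X)).Nonempty} → W :=
    fun i => ⟨⟨i.1.1, hmemV i.1 i.2⟩, hnotU i.1⟩
  have hginj : Function.Injective g := by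
    intro i j hij
    apply Subtype.ext
    apply Subtype.ext
    exact congrArg (fun w : W => w.1.1) hij
  have hgmax : ∀ i, g i ∈ {t : W | ∀ t' : W, t' ⤳ t → t' = t} := by
    intro i w' hw'
    -- specialization in `X`
    have hsp : w'.1.1 ⤳ i.1.1 := by
      have h1 : (w'.1 : (V : Set X)) ⤳ (g i).1 :=
        (Topology.IsInducing.subtypeVal.specializes_iff).mpr hw'
      exact (Topology.IsInducing.subtypeVal.specializes_iff).mpr h1
    by_contra hne'
    have hne'' : w'.1.1 ≠ i.1.1 := by
      intro h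
      apply hne'
      apply Subtype.ext
      apply Subtype.ext
      exact h
    -- the chain `ξ < τ < η`
    have hlt1 : i.1.1 < w'.1.1 := by
      refine lt_of_le_not_ge hsp ?_
      intro h
      have h' : i.1.1 ⤳ w'.1.1 := h
      exact hne'' (hsp.antisymm h').eq
    have hτη : w'.1.1 ≠ genericPoint X := fun h => w'.2 (h ▸ hη)
    have hlt2 : w'.1.1 < genericPoint X := by
      refine lt_of_le_not_ge (genericPoint_specializes _) ?_
      intro h
      have h' : w'.1.1 ⤳ genericPoint X := h
      exact hτη (h'.antisymm (genericPoint_specializes _)).eq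
    have h1 := Order.coheight_add_one_le hlt1
    have h2 := Order.coheight_add_one_le hlt2
    rw [i.1.2.1] at h1
    have h4 : (0 : ℕ∞) + 1 + 1 ≤ 1 :=
      le_trans (by gcongr; exact bot_le) ((add_le_add_left h2 1).trans h1)
    norm_num at h4
  have : Finite {i : {ξ : ↥X // Order.coheight ξ = 1 ∧ Scheme.ord f ξ ≠ 0} |
      (closure ({i.1} : Set X) ∩ (V : Set X)).Nonempty} := by
    haveI : Finite {t : W | ∀ t' : W, t' ⤳ t → t' = t} := hfinW.to_subtype
    exact Finite.of_injective (fun i => (⟨g i, hgmax i⟩ : {t : W | ∀ t' : W, t' ⤳ t → t' = t}))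
      (fun i j hij => hginj (congrArg Subtype.val hij))
  exact Set.toFinite _

end Groth.Agent.H54.OrdLF
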