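import Mathlib
import Groth.Agent.H54.OrdLocFin

set_option autoImplicit false
universe u
open CategoryTheory CategoryTheory.Limits AlgebraicGeometry TopologicalSpace Order

namespace Groth.Agent.H54.OrdLF

/-- the codimension one points outside a nonempty open of an integral locally Noetherian scheme
have locally finite closures -/
theorem locallyFinite_codimOne_notMem (X : Scheme.{u}) [IsIntegral X] [IsLocallyNoetherian X]
    (U₀ : X.Opens) (hη : genericPoint X ∈ U₀) :
    LocallyFinite (fun ξ : {ξ : ↥X // Order.coheight ξ = 1 ∧ ξ ∉ U₀} =>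
      closure ({ξ.1} : Set ↥X)) := by
  intro x₀
  obtain ⟨V, hV, hxV, -⟩ := exists_isAffineOpen_mem_and_subset (U := ⊤) (x := x₀) (by simp)
  have hN : NoetherianSpace ((V : Set X) : Type u) := by
    have : IsNoetherianRing Γ(X, V) := IsLocallyNoetherian.component_noetherian ⟨V, hV⟩
    exact noetherianSpace_of_isAffineOpen V hV
  refine ⟨(V : Set X), V.isOpen.mem_nhds hxV, ?_⟩
  let W : Set ((V : Set X) : Type u) := {v | v.1 ∉ U₀}
  have hWcl : IsClosed W := by
    have : W = (Subtype.val ⁻¹' (U₀ : Set X))ᶜ := rfl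
    rw [this]
    exact (U₀.isOpen.preimage continuous_subtype_val).isClosed_compl
  haveI : QuasiSober ((V : Set X) : Type u) :=
    Topology.IsOpenEmbedding.quasiSober V.isOpen.isOpenEmbedding_subtypeVal
  haveI : QuasiSober W := Topology.IsClosedEmbedding.quasiSober hWcl.isClosedEmbedding_subtypeVal
  have hfinW := finite_maximal_points W
  have hmemV : ∀ i : {ξ : ↥X // Order.coheight ξ = 1 ∧ ξ ∉ U₀},
      (closure ({i.1} : Set X) ∩ (V : Set X)).Nonempty → i.1 ∈ V := by
    rintro i ⟨y, hy1, hy2⟩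
    have hsp : i.1 ⤳ y := specializes_iff_mem_closure.mpr hy1
    exact hsp.mem_open V.isOpen hy2
  let g : {i : {ξ : ↥X // Order.coheight ξ = 1 ∧ ξ ∉ U₀} |
      (closure ({i.1} : Set X) ∩ (V : Set X)).Nonempty} → W :=
    fun i => ⟨⟨i.1.1, hmemV i.1 i.2⟩, i.1.2.2⟩
  have hginj : Function.Injective g := by
    intro i j hij
    apply Subtype.ext
    apply Subtype.ext
    exact congrArg (fun w : W => w.1.1) hij
  have hgmax : ∀ i, g i ∈ {t : W | ∀ t' : W, t' ⤳ t → t' = t} := by
    intro i w' hw'
    have hsp : w'.1.1 ⤳ i.1.1 := by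
      have h1 : (w'.1 : (V : Set X)) ⤳ (g i).1 :=
        (Topology.IsInducing.subtypeVal.specializes_iff).mpr hw'
      exact (Topology.IsInducing.subtypeVal.specializes_iff).mpr h1
    by_contra hne'
    have hne'' : w'.1.1 ≠ i.1.1 := by
      intro h
      apply hne'
      apply Subtype.ext
      apply Subtype.ext
      exact h
    have hlt1 : i.1.1 < w'.1.1 := by
      refine lt_of_le_not_ge hsp ?_
      intro h
      have h' : i.1.1 ⤳ w'.1.1 := h
      exact hne'' (hsp.antisymm h').eq
    have hτη : w'.1.1 ≠ genericPoint X := fun h => w'.2 (h ▸ hη)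
    have hlt2 : w'.1.1 < genericPoint X := by
      refine lt_of_le_not_ge (genericPoint_specializes _) ?_
      intro h
      have h' : w'.1.1 ⤳ genericPoint X := h
      exact hτη (h'.antisymm (genericPoint_specializes _)).eq
    have h1 := Order.coheight_add_one_le hlt1
    have h2 := Order.coheight_add_one_le hlt2
    rw [i.1.2.1] at h1
    have h4 : (0 : ℕ∞) + 1 + 1 ≤ 1 :=
      le_trans (by gcongr; exact bot_le) ((add_le_add_left h2 1).trans h1)
    norm_num at h4
  have : Finite {i : {ξ : ↥X // Order.coheight ξ = 1 ∧ ξ ∉ U₀} |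
      (closure ({i.1} : Set X) ∩ (V : Set X)).Nonempty} := by
    haveI : Finite {t : W | ∀ t' : W, t' ⤳ t → t' = t} := hfinW.to_subtype
    exact Finite.of_injective (fun i => (⟨g i, hgmax i⟩ : {t : W | ∀ t' : W, t' ⤳ t → t' = t}))
      (fun i j hij => hginj (congrArg Subtype.val hij))
  exact Set.toFinite _

/-- variant for an arbitrary family of codimension one points avoiding `U₀` -/
theorem locallyFinite_of_forall_notMem (X : Scheme.{u}) [IsIntegral X] [IsLocallyNoetherian X]
    (U₀ : X.Opens) (hη : genericPoint X ∈ U₀) (P : X → Prop)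
    (hP : ∀ x, P x → Order.coheight x = 1 ∧ x ∉ U₀) :
    LocallyFinite (fun ξ : {ξ : ↥X // P ξ} => closure ({ξ.1} : Set ↥X)) := by
  have h := locallyFinite_codimOne_notMem X U₀ hη
  exact h.comp_injective (g := fun ξ : {ξ : ↥X // P ξ} => ⟨ξ.1, hP ξ.1 ξ.2⟩)
    (fun a b hab => Subtype.ext (congrArg (fun z : {ξ : ↥X // Order.coheight ξ = 1 ∧ ξ ∉ U₀} => z.1) hab))

end Groth.Agent.H54.OrdLF
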