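import Mathlib
import Groth.Prelude.Def_C1
import Groth.Prelude.Def_Pic
import Groth.Prelude.Def_MeroDiv
import Groth.Agent.H8.MeroGen
import Groth.Agent.H54.CodimOneLF

set_option autoImplicit false
universe u
open CategoryTheory CategoryTheory.Limits AlgebraicGeometry TopologicalSpace Order

namespace Groth.Agent.H54.SecOrd

variable {X : Scheme.{u}}

/-- semilinearity of the specialization map on stalks of a module -/
theorem stalkSpecializes_smul (L : X.Modules) {x ξ : X} (h : ξ ⤳ x) (r : X.presheaf.stalk x)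
    (t : L.presheaf.stalk x) :
    (L.presheaf.stalkSpecializes h) (r • t) =
      (X.presheaf.stalkSpecializes h).hom r • (L.presheaf.stalkSpecializes h) t := by
  obtain ⟨V₁, hx₁, r₁, rfl⟩ := X.presheaf.exists_germ_eq r
  obtain ⟨V₂, hx₂, t₂, rfl⟩ := TopCat.Presheaf.exists_germ_eq L.presheaf t
  let V : X.Opens := V₁ ⊓ V₂
  have hxV : x ∈ V := ⟨hx₁, hx₂⟩
  have hξV : ξ ∈ V := h.mem_open V.isOpen hxV
  let r₀ : Γ(X, V) := X.presheaf.map (homOfLE (inf_le_left : V ≤ V₁)).op r₁
  let t₀ : Γ(L, V) := L.presheaf.map (homOfLE (inf_le_right : V ≤ V₂)).op t₂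
  have e1 : X.presheaf.germ V₁ x hx₁ r₁ = X.presheaf.germ V x hxV r₀ :=
    (TopCat.Presheaf.germ_res_apply X.presheaf (homOfLE inf_le_left) x hxV r₁).symm
  have e2 : L.presheaf.germ V₂ x hx₂ t₂ = L.presheaf.germ V x hxV t₀ :=
    (TopCat.Presheaf.germ_res_apply L.presheaf (homOfLE inf_le_right) x hxV t₂).symm
  rw [e1, e2, ← Mero.germ_smul L V x hxV r₀ t₀]
  rw [TopCat.Presheaf.germ_stalkSpecializes_apply, TopCat.Presheaf.germ_stalkSpecializes_apply]
  erw [TopCat.Presheaf.germ_stalkSpecializes_apply]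
  exact Mero.germ_smul L V ξ hξV r₀ t₀

/-- the order of a unit along a specialization is zero -/
theorem ordAt_specMap_of_isUnit (x ξ : X) (h : ξ ⤳ x) (u : X.presheaf.stalk x) (hu : IsUnit u) :
    Cyc.ordAt x ξ h (Cyc.specMap x ξ h u) = 0 := by
  unfold Cyc.ordAt CycAlg.ordFrac
  split_ifs with hc
  · obtain ⟨h1, h2, h3, h4⟩ := hc
    haveI := h1; haveI := h2; haveI := h3; haveI := h4
    haveI : IsDomain (Cyc.LocQuot x ξ h) :=
      (IsFractionRing.injective (Cyc.LocQuot x ξ h) (X.residueField ξ)).isDomain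
    have hmk : IsUnit (Ideal.Quotient.mk (RingHom.ker (Cyc.specMap x ξ h)) u) := hu.map _
    have e : Cyc.specMap x ξ h u = algebraMap (Cyc.LocQuot x ξ h) (X.residueField ξ)
        (Ideal.Quotient.mk (RingHom.ker (Cyc.specMap x ξ h)) u) := rfl
    rw [e, Ring.ordFrac_of_isUnit hmk]
    rfl
  · rfl

section integral
variable [IsIntegral X]

theorem maximalIdeal_genericPoint_eq_bot :
    IsLocalRing.maximalIdeal (X.presheaf.stalk (genericPoint X)) = ⊥ :=
  IsLocalRing.isField_iff_maximalIdeal_eq.mp (Field.toIsField X.functionField)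

theorem mk_eq_mk_iff (L : X.Modules) (a b : L.presheaf.stalk (genericPoint X)) :
    (Submodule.Quotient.mk a : Cyc.secFibre L (genericPoint X)) = Submodule.Quotient.mk b ↔
      a = b := by
  rw [Submodule.Quotient.eq, maximalIdeal_genericPoint_eq_bot, Submodule.bot_smul,
    Submodule.mem_bot, sub_eq_zero]

theorem secOrdAt_eq_zero (L : X.Modules) (x : X) (h : genericPoint X ⤳ x)
    (t₀ : L.presheaf.stalk x)
    (hbij : Function.Bijective (fun r : X.presheaf.stalk x => r • t₀))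
    (hinjη : Function.Injective (fun r : X.presheaf.stalk (genericPoint X) =>
      r • (L.presheaf.stalkSpecializes h) t₀))
    (u₀ : X.presheaf.stalk x) (hu₀ : IsUnit u₀)
    (s : Cyc.secFibre L (genericPoint X))
    (hs : s = Submodule.Quotient.mk ((X.presheaf.stalkSpecializes h).hom u₀ •
      (L.presheaf.stalkSpecializes h) t₀)) :
    Cyc.secOrdAt L (genericPoint X) x h s = 0 := by
  unfold Cyc.secOrdAt
  have ht : ∃ t : L.presheaf.stalk x, Submodule.span (X.presheaf.stalk x) {t} = ⊤ := by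
    refine ⟨t₀, ?_⟩
    rw [eq_top_iff]
    intro m _
    obtain ⟨r, hr⟩ := hbij.2 m
    rw [Submodule.mem_span_singleton]
    exact ⟨r, hr⟩
  rw [dif_pos ht]
  have htspan := Classical.choose_spec ht
  set t := Classical.choose ht with htdef
  obtain ⟨v, hv⟩ := hbij.2 t
  obtain ⟨w, hw⟩ : ∃ w : X.presheaf.stalk x, w • t = t₀ :=
    Submodule.mem_span_singleton.mp (htspan ▸ (Submodule.mem_top : t₀ ∈ ⊤))
  have hv' : v • t₀ = t := hv
  have hwv : w * v = 1 := by
    apply hbij.1
    change (w * v) • t₀ = (1 : X.presheaf.stalk x) • t₀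
    rw [mul_smul, hv', hw, one_smul]
  have hwunit : IsUnit w := IsUnit.of_mul_eq_one v hwv
  set sp := (X.presheaf.stalkSpecializes h).hom with hsp
  have hspt₀ : (L.presheaf.stalkSpecializes h) t₀ = sp w • (L.presheaf.stalkSpecializes h) t := by
    rw [← hw, stalkSpecializes_smul]
  have hspt : (L.presheaf.stalkSpecializes h) t = sp v • (L.presheaf.stalkSpecializes h) t₀ := by
    rw [← hv', stalkSpecializes_smul]
  have hφ : ∃ φ : X.presheaf.stalk (genericPoint X),
      s = φ • (Submodule.Quotient.mk ((L.presheaf.stalkSpecializes h) t) :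
        Cyc.secFibre L (genericPoint X)) := by
    refine ⟨sp (u₀ * w), ?_⟩
    rw [hs, ← Submodule.Quotient.mk_smul, map_mul, mul_smul, ← hspt₀]
  rw [dif_pos hφ]
  have hφspec := Classical.choose_spec hφ
  set φ := Classical.choose hφ with hφdef
  have hφeq : φ = sp (u₀ * w) := by
    rw [hs, ← Submodule.Quotient.mk_smul, mk_eq_mk_iff, hspt, ← mul_smul] at hφspec
    have h1 := hinjη hφspec
    -- `sp u₀ = φ * sp v`
    have h2 : sp u₀ * sp w = φ * (sp v * sp w) := by rw [h1, mul_assoc]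
    rw [← map_mul, ← map_mul, mul_comm v w, hwv, map_one, mul_one] at h2
    exact h2.symm
  rw [hφeq]
  exact ordAt_specMap_of_isUnit x (genericPoint X) h (u₀ * w) (hu₀.mul hwunit)

end integral

theorem locallyFinite_secOrd [IsIntegral X] [IsLocallyNoetherian X] (L : X.Modules)
    (hL : PicF.IsInvertible L) (s : Cyc.secFibre L (genericPoint ↥X)) (hs : s ≠ 0) :
    LocallyFinite (fun x : {x : ↥X // ringKrullDim ↑(X.presheaf.stalk x) = 1 ∧
        Cyc.secOrdAt L (genericPoint ↥X) x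
          ((genericPoint_spec ↥X).specializes (Set.mem_univ x)) s ≠ 0} =>
      closure ({x.1} : Set ↥X)) := by
  obtain ⟨U₁, hηU₁, σ, hσ⟩ := Groth.Agent.H8.exists_isFreeGen_of_isInvertible hL (genericPoint X)
  obtain ⟨s', rfl⟩ := Submodule.Quotient.mk_surjective _ s
  obtain ⟨r, hr⟩ := (hσ.germ_bijective hηU₁).2 s'
  have hr' : r • L.presheaf.germ U₁ (genericPoint X) hηU₁ σ = s' := hr
  have hr0 : r ≠ 0 := by
    intro h0
    apply hs
    rw [← hr', h0, zero_smul]
    rfl
  obtain ⟨V₁, hηV₁, a₁, ha₁⟩ := X.presheaf.exists_germ_eq r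
  let V : X.Opens := V₁ ⊓ U₁
  have hηV : genericPoint X ∈ V := ⟨hηV₁, hηU₁⟩
  let a : Γ(X, V) := X.presheaf.map (homOfLE (inf_le_left : V ≤ V₁)).op a₁
  have hgerma : ∀ (y : X) (hy : y ∈ V), X.presheaf.germ V y hy a = X.presheaf.germ V₁ y hy.1 a₁ :=
    fun y hy => TopCat.Presheaf.germ_res_apply X.presheaf (homOfLE inf_le_left) y hy a₁
  let U₀ : X.Opens := X.basicOpen a
  have hU₀V : U₀ ≤ V := X.basicOpen_le a
  have hηU₀ : genericPoint X ∈ U₀ := by
    rw [Scheme.mem_basicOpen X a (genericPoint X) hηV, hgerma, ha₁]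
    exact IsUnit.mk0 (G₀ := X.functionField) r hr0
  have hzero : ∀ (x : X) (h : genericPoint X ⤳ x), x ∈ U₀ →
      Cyc.secOrdAt L (genericPoint X) x h (Submodule.Quotient.mk s') = 0 := by
    intro x h hx
    have hxV : x ∈ V := hU₀V hx
    have hxU₁ : x ∈ U₁ := hxV.2
    have hsp : (L.presheaf.stalkSpecializes h) (L.presheaf.germ U₁ x hxU₁ σ) =
        L.presheaf.germ U₁ (genericPoint X) hηU₁ σ :=
      TopCat.Presheaf.germ_stalkSpecializes_apply L.presheaf hxU₁ h σ
    have hspa : (X.presheaf.stalkSpecializes h).hom (X.presheaf.germ V x hxV a) = r := by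
      rw [TopCat.Presheaf.germ_stalkSpecializes_apply, hgerma, ha₁]
    refine secOrdAt_eq_zero L x h (L.presheaf.germ U₁ x hxU₁ σ) (hσ.germ_bijective hxU₁) ?_
      (X.presheaf.germ V x hxV a) ((Scheme.mem_basicOpen X a x hxV).mp hx) _ ?_
    · rw [hsp]
      exact (hσ.germ_bijective hηU₁).1
    · rw [hsp, hspa, hr']
  apply Groth.Agent.H54.OrdLF.locallyFinite_of_forall_notMem X U₀ hηU₀
  rintro x ⟨hdim, hord⟩
  refine ⟨?_, fun hx => hord (hzero x _ hx)⟩
  rw [ringKrullDim_stalk_eq_coheight] at hdim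
  exact_mod_cast hdim

end Groth.Agent.H54.SecOrd
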