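import Mathlib
import Groth.Prelude.Def_C1
import Groth.Agent.H54.OrdEquiv
import Groth.Agent.H54.SecOrd

set_option autoImplicit false
universe u
open CategoryTheory CategoryTheory.Limits AlgebraicGeometry TopologicalSpace Order

namespace Groth.Agent.H54.OrdAtOrd

variable {X : Scheme.{u}} [IsIntegral X]

theorem specMap_eq (x : X) (h : genericPoint X ⤳ x) (r : X.presheaf.stalk x) :
    Cyc.specMap x (genericPoint X) h r =
      (X.residue (genericPoint X)).hom (algebraMap (X.presheaf.stalk x) X.functionField r) := rfl

theorem residue_genericPoint_injective :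
    Function.Injective (X.residue (genericPoint X)).hom :=
  RingHom.injective (f := ((X.residue (genericPoint X)).hom : X.functionField →+* _))

theorem ker_specMap (x : X) (h : genericPoint X ⤳ x) :
    RingHom.ker (Cyc.specMap x (genericPoint X) h) = ⊥ := by
  rw [eq_bot_iff]
  intro r hr
  rw [RingHom.mem_ker, specMap_eq] at hr
  rw [Ideal.mem_bot]
  have h1 := residue_genericPoint_injective (X := X) (hr.trans (map_zero _).symm)
  exact (IsFractionRing.injective (X.presheaf.stalk x) X.functionField) (h1.trans (map_zero _).symm)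

theorem ordAt_residue_eq_ord [IsLocallyNoetherian X] (x : X) (hx : coheight x = 1) (h : genericPoint X ⤳ x)
    (φ : X.presheaf.stalk (genericPoint X)) :
    Cyc.ordAt x (genericPoint X) h (X.residue (genericPoint X) φ) =
      Scheme.ord (φ : X.functionField) x := by
  haveI : Ring.KrullDimLE 1 (X.presheaf.stalk x) := krullDimLE_of_coheight_le hx.le
  haveI : IsNoetherianRing (X.presheaf.stalk x) := inferInstance
  have hker := ker_specMap x h
  -- the equivalence `O_x ≃ LocQuot`
  have hbij : Function.Bijective (Ideal.Quotient.mk (RingHom.ker (Cyc.specMap x (genericPoint X) h))) := by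
    refine ⟨?_, Ideal.Quotient.mk_surjective⟩
    rw [injective_iff_map_eq_zero]
    intro a ha
    rw [Ideal.Quotient.eq_zero_iff_mem, hker, Ideal.mem_bot] at ha
    exact ha
  let e : X.presheaf.stalk x ≃+* Cyc.LocQuot x (genericPoint X) h := RingEquiv.ofBijective _ hbij
  have halg : ∀ r : X.presheaf.stalk x,
      algebraMap (Cyc.LocQuot x (genericPoint X) h) (X.residueField (genericPoint X)) (e r) =
        (X.residue (genericPoint X)).hom (algebraMap (X.presheaf.stalk x) X.functionField r) :=
    fun r => rfl
  haveI : IsDomain (Cyc.LocQuot x (genericPoint X) h) := e.symm.toMulEquiv.isDomain _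
  haveI : IsNoetherianRing (Cyc.LocQuot x (genericPoint X) h) :=
    isNoetherianRing_of_ringEquiv _ e
  haveI : Ring.KrullDimLE 1 (Cyc.LocQuot x (genericPoint X) h) := by
    have h1 : ringKrullDim (X.presheaf.stalk x) ≤ (1 : ℕ) :=
      Ring.krullDimLE_iff.mp inferInstance
    rw [ringKrullDim_eq_of_ringEquiv e] at h1
    exact Ring.krullDimLE_iff.mpr h1
  have hinj : Function.Injective
      (algebraMap (Cyc.LocQuot x (genericPoint X) h) (X.residueField (genericPoint X))) := by
    intro a b hab
    obtain ⟨a, rfl⟩ := e.surjective a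
    obtain ⟨b, rfl⟩ := e.surjective b
    rw [halg, halg] at hab
    have h1 := residue_genericPoint_injective (X := X) hab
    rw [(IsFractionRing.injective (X.presheaf.stalk x) X.functionField) h1]
  haveI : FaithfulSMul (Cyc.LocQuot x (genericPoint X) h) (X.residueField (genericPoint X)) :=
    (faithfulSMul_iff_algebraMap_injective _ _).mpr hinj
  haveI : IsFractionRing (Cyc.LocQuot x (genericPoint X) h) (X.residueField (genericPoint X)) := by
    apply IsFractionRing.of_field
    intro z
    obtain ⟨ψ, rfl⟩ : ∃ ψ : X.functionField, (X.residue (genericPoint X)).hom ψ = z :=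
      IsLocalRing.residue_surjective (R := X.presheaf.stalk (genericPoint X)) z
    obtain ⟨a, b, hb, rfl⟩ := IsFractionRing.div_surjective (A := X.presheaf.stalk x) ψ
    refine ⟨e a, e b, ?_⟩
    rw [halg, halg, map_div₀]
  have hcond : IsNoetherianRing (Cyc.LocQuot x (genericPoint X) h) ∧
      Ring.KrullDimLE 1 (Cyc.LocQuot x (genericPoint X) h) ∧
      Nontrivial (Cyc.LocQuot x (genericPoint X) h) ∧
      IsFractionRing (Cyc.LocQuot x (genericPoint X) h) (X.residueField (genericPoint X)) :=
    ⟨inferInstance, inferInstance, inferInstance, inferInstance⟩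
  unfold Cyc.ordAt CycAlg.ordFrac
  rw [dif_pos hcond]
  have key := Groth.Agent.H54.OrdEquiv.ordFrac_ringEquiv
    (K := X.functionField) (K' := X.residueField (genericPoint X)) e
    (X.residue (genericPoint X)).hom (fun r => (halg r)) φ
  have key' : Ring.ordFrac (Cyc.LocQuot x (genericPoint X) h) ((X.residue (genericPoint X)) φ) =
      Ring.ordFrac (X.presheaf.stalk x) (φ : X.functionField) := key
  rw [key', Scheme.ord_eq_ordHom_of_coheight_eq_one hx]
  change _ = Multiplicative.toAdd
    (WithZero.unzeroD 1 (Ring.ordFrac (X.presheaf.stalk x) (φ : X.functionField)))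
  generalize Ring.ordFrac (X.presheaf.stalk x) (φ : X.functionField) = z
  induction z using WithZero.recZeroCoe with
  | zero => rfl
  | coe a => rfl


theorem ord_algebraMap_of_isUnit [IsLocallyNoetherian X] (x : X) (w : X.presheaf.stalk x)
    (hw : IsUnit w) :
    Scheme.ord (algebraMap (X.presheaf.stalk x) X.functionField w) x = 0 := by
  by_cases hx : coheight x = 1
  · have hne : algebraMap (X.presheaf.stalk x) X.functionField w ≠ 0 := by
      intro h0
      exact hw.ne_zero ((IsFractionRing.injective (X.presheaf.stalk x) X.functionField)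
        (h0.trans (map_zero _).symm))
    rw [Scheme.ord_eq_iff hx hne]
    haveI : Ring.KrullDimLE 1 (X.presheaf.stalk x) := krullDimLE_of_coheight_le hx.le
    change Ring.ordFrac (X.presheaf.stalk x) _ = _
    rw [Ring.ordFrac_of_isUnit hw]
    rfl
  · exact Scheme.ord_eq_zero_of_coheight_neq_one hx _

open Groth.Agent.H54.SecOrd in
/-- the order of a rational section `a • t₀` of an invertible module, `t₀` a local generator -/
theorem secOrdAt_eq_ord [IsLocallyNoetherian X] (L : X.Modules) (x : X) (hx : coheight x = 1)
    (h : genericPoint X ⤳ x) (t₀ : L.presheaf.stalk x)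
    (hbij : Function.Bijective (fun r : X.presheaf.stalk x => r • t₀))
    (hinjη : Function.Injective (fun r : X.presheaf.stalk (genericPoint X) =>
      r • (L.presheaf.stalkSpecializes h) t₀))
    (a : X.presheaf.stalk (genericPoint X)) (ha : a ≠ 0)
    (s : Cyc.secFibre L (genericPoint X))
    (hs : s = Submodule.Quotient.mk (a • (L.presheaf.stalkSpecializes h) t₀)) :
    Cyc.secOrdAt L (genericPoint X) x h s = Scheme.ord (a : X.functionField) x := by
  unfold Cyc.secOrdAt
  have ht : ∃ t : L.presheaf.stalk x, Submodule.span (X.presheaf.stalk x) {t} = ⊤ := by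
    refine ⟨t₀, ?_⟩
    rw [eq_top_iff]
    intro m _
    obtain ⟨r, hr⟩ := hbij.2 m
    rw [Submodule.mem_span_singleton]
    exact ⟨r, hr⟩
  rw [dif_pos ht]
  have htspan := Classical.choose_spec ht
  set t := Classical.choose ht with htdef
  obtain ⟨v, hv⟩ := hbij.2 t
  obtain ⟨w, hw⟩ : ∃ w : X.presheaf.stalk x, w • t = t₀ :=
    Submodule.mem_span_singleton.mp (htspan ▸ (Submodule.mem_top : t₀ ∈ ⊤))
  have hv' : v • t₀ = t := hv
  have hwv : w * v = 1 := by
    apply hbij.1
    change (w * v) • t₀ = (1 : X.presheaf.stalk x) • t₀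
    rw [mul_smul, hv', hw, one_smul]
  have hwunit : IsUnit w := IsUnit.of_mul_eq_one v hwv
  set sp := (X.presheaf.stalkSpecializes h).hom with hsp
  have hspt₀ : (L.presheaf.stalkSpecializes h) t₀ = sp w • (L.presheaf.stalkSpecializes h) t := by
    rw [← hw, stalkSpecializes_smul]
  have hspt : (L.presheaf.stalkSpecializes h) t = sp v • (L.presheaf.stalkSpecializes h) t₀ := by
    rw [← hv', stalkSpecializes_smul]
  have hφ : ∃ φ : X.presheaf.stalk (genericPoint X),
      s = φ • (Submodule.Quotient.mk ((L.presheaf.stalkSpecializes h) t) :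
        Cyc.secFibre L (genericPoint X)) := by
    refine ⟨a * sp w, ?_⟩
    rw [hs, ← Submodule.Quotient.mk_smul, mul_smul, ← hspt₀]
  rw [dif_pos hφ]
  have hφspec := Classical.choose_spec hφ
  set φ := Classical.choose hφ with hφdef
  have hφeq : φ = a * sp w := by
    rw [hs, ← Submodule.Quotient.mk_smul, mk_eq_mk_iff, hspt, ← mul_smul] at hφspec
    have h1 := hinjη hφspec
    -- `a = φ * sp v`
    have h2 : a * sp w = φ * (sp v * sp w) := by rw [h1, mul_assoc]
    rw [← map_mul, mul_comm v w, hwv, map_one, mul_one] at h2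
    exact h2.symm
  rw [ordAt_residue_eq_ord x hx h φ, hφeq]
  have hspw : sp w = algebraMap (X.presheaf.stalk x) X.functionField w := rfl
  have hspw0 : (sp w : X.functionField) ≠ 0 := by
    rw [hspw]
    intro h0
    exact hwunit.ne_zero ((IsFractionRing.injective (X.presheaf.stalk x) X.functionField)
      (h0.trans (map_zero _).symm))
  have hmul := Scheme.ord_mul (X := X) (x := x) (f := (a : X.functionField))
    (g := (sp w : X.functionField)) ha hspw0
  rw [hmul, hspw, ord_algebraMap_of_isUnit x w hwunit, add_zero]

end Groth.Agent.H54.OrdAtOrd
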