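import Mathlib
import Groth.Prelude.Def_C1
import Groth.Prelude.Def_Pic
import Groth.Agent.H54.OrdAtOrd
import Groth.Agent.H54.SecOrd
import Groth.Agent.H8.MeroGen

/-!
# The divisor of a regular section is its zero scheme (integral case) (helper54)
-/

set_option autoImplicit false
universe u
open CategoryTheory CategoryTheory.Limits AlgebraicGeometry TopologicalSpace Opposite Order

namespace Groth.Agent.H54.DivZero

open Groth.Agent.H8 Groth.Agent.H54.SecOrd Groth.Agent.H54.OrdAtOrd

variable {X : Scheme.{u}} [IsIntegral X]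

/-- points one step below the generic point for a dimension function have coheight one -/
theorem coheight_eq_one_of_dimFun (δ : X → ℤ) (hδ : Cyc.IsDimFun X δ) (x : X)
    (hx : δ x + 1 = δ (genericPoint X)) : coheight x = 1 := by
  have hη : ∀ y : X, genericPoint X ⤳ y :=
    fun y => (genericPoint_spec X).specializes (Set.mem_univ y)
  have hxη : x ≠ genericPoint X := by
    rintro h
    rw [← h] at hx
    omega
  have key : ∀ y : X, x < y → y = genericPoint X := by
    intro y hy
    have hyx : y ⤳ x := hy.le
    have hne : y ≠ x := by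
      rintro rfl
      exact lt_irrefl _ hy
    by_contra hyη
    have h1 := (hδ y x hyx hne).1
    have h2 := (hδ (genericPoint X) y (hη y) (Ne.symm hyη)).1
    omega
  have hmax : IsMax (genericPoint X) := fun y _ => hη y
  apply le_antisymm
  · rw [show (1 : ℕ∞) = ((1 : ℕ) : ℕ∞) from rfl, Order.coheight_le_coe_iff]
    intro y hy
    rw [key y hy, Order.coheight_eq_zero.mpr hmax]
    norm_num
  · have hlt : x < genericPoint X := by
      refine lt_of_le_not_ge (hη x) ?_
      intro hle
      have hsp : x ⤳ genericPoint X := hle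
      have h1 := (hδ x (genericPoint X) hsp hxη).1
      omega
    have h2 := Order.coheight_add_one_le hlt
    rw [Order.coheight_eq_zero.mpr hmax, zero_add] at h2
    exact h2

/-- the order of vanishing of a nonzero element of a one-dimensional local ring is the length of
the quotient -/
theorem ord_algebraMap_eq_length [IsLocallyNoetherian X] (x : X) (hx : coheight x = 1)
    (f : X.presheaf.stalk x) (hf : f ≠ 0) :
    Scheme.ord (algebraMap (X.presheaf.stalk x) X.functionField f) x =
      ((Module.length (X.presheaf.stalk x)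
        (X.presheaf.stalk x ⧸ Ideal.span {f})).toNat : ℤ) := by
  have hne : algebraMap (X.presheaf.stalk x) X.functionField f ≠ 0 := by
    intro h0
    exact hf ((IsFractionRing.injective (X.presheaf.stalk x) X.functionField)
      (h0.trans (map_zero _).symm))
  rw [Scheme.ord_eq_iff hx hne]
  haveI : Ring.KrullDimLE 1 (X.presheaf.stalk x) := krullDimLE_of_coheight_le hx.le
  change Ring.ordFrac (X.presheaf.stalk x) _ = _
  rw [Ring.ordFrac_eq_ord _ hf]
  have hnzd : f ∈ nonZeroDivisors (X.presheaf.stalk x) := mem_nonZeroDivisors_of_ne_zero hf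
  have hfin : Ring.ord (X.presheaf.stalk x) f ≠ ⊤ := Ring.ord_ne_top hnzd
  obtain ⟨n, hn⟩ := ENat.ne_top_iff_exists.mp hfin
  rw [Ring.ordMonoidWithZeroHom_eq_coe _ hnzd hn.symm]
  have hlen : Module.length (X.presheaf.stalk x) (X.presheaf.stalk x ⧸ Ideal.span {f}) = n :=
    hn.symm
  rw [hlen]
  rfl

theorem main (δ : X → ℤ) (hX : Cyc.IsSetup X δ) (n : ℤ) (hn : δ (genericPoint X) = n)
    (L : X.Modules) (hL : PicF.IsInvertible L) (s : L.presheaf.obj (Opposite.op ⊤))
    (hs : (L.presheaf.germ ⊤ (genericPoint X) trivial) s ≠ 0) :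
    Cyc.secDivFun δ L (genericPoint X)
        (Submodule.Quotient.mk ((L.presheaf.germ ⊤ (genericPoint X) trivial) s)) =
      Cyc.zeroSectionFun δ (n - 1) L s := by
  haveI : IsLocallyNoetherian X := hX.1
  funext x
  have hη : genericPoint X ⤳ x := (genericPoint_spec X).specializes (Set.mem_univ x)
  unfold Cyc.secDivFun Cyc.zeroSectionFun
  by_cases hx : δ x + 1 = δ (genericPoint X)
  · have hx' : δ x = n - 1 := by omega
    rw [dif_pos ⟨hη, hx⟩, if_pos hx']
    have hcoh := coheight_eq_one_of_dimFun δ hX.2.2 x hx
    obtain ⟨U, hxU, σ, hσ⟩ := exists_isFreeGen_of_isInvertible hL x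
    have hηU : genericPoint X ∈ U := hη.mem_open U.2 hxU
    have hbx := hσ.germ_bijective hxU
    have hbη := hσ.germ_bijective hηU
    have ht : ∃ t : L.presheaf.stalk x, Submodule.span (X.presheaf.stalk x) {t} = ⊤ := by
      refine ⟨L.presheaf.germ U x hxU σ, ?_⟩
      rw [eq_top_iff]
      intro m _
      obtain ⟨r, hr⟩ := hbx.2 m
      rw [Submodule.mem_span_singleton]
      exact ⟨r, hr⟩
    rw [dif_pos ht]
    have htspan := Classical.choose_spec ht
    set t := Classical.choose ht with htdef
    obtain ⟨v, hv⟩ := hbx.2 t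
    obtain ⟨w, hw⟩ : ∃ w : X.presheaf.stalk x, w • t = L.presheaf.germ U x hxU σ :=
      Submodule.mem_span_singleton.mp (htspan ▸ (Submodule.mem_top : _ ∈ ⊤))
    have hv' : v • L.presheaf.germ U x hxU σ = t := hv
    have hwv : w * v = 1 := by
      apply hbx.1
      change (w * v) • L.presheaf.germ U x hxU σ = (1 : X.presheaf.stalk x) • _
      rw [mul_smul, hv', hw, one_smul]
    -- `t` is a free generator
    have hbij : Function.Bijective (fun r : X.presheaf.stalk x => r • t) := by
      constructor
      · intro r₁ r₂ h12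
        have h12' : r₁ • t = r₂ • t := h12
        rw [← hv', ← mul_smul, ← mul_smul] at h12'
        have h3 : r₁ * v = r₂ * v := hbx.1 h12'
        have h4 : r₁ * v * w = r₂ * v * w := by rw [h3]
        rwa [mul_assoc, mul_assoc, mul_comm v w, hwv, mul_one, mul_one] at h4
      · intro m
        obtain ⟨r, hr⟩ := hbx.2 m
        have hr' : r • L.presheaf.germ U x hxU σ = m := hr
        refine ⟨r * w, ?_⟩
        change (r * w) • t = m
        rw [mul_smul, hw, hr']
    set sp := (X.presheaf.stalkSpecializes hη).hom with hsp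
    have hspecσ : (L.presheaf.stalkSpecializes hη) (L.presheaf.germ U x hxU σ) =
        L.presheaf.germ U (genericPoint X) hηU σ :=
      TopCat.Presheaf.germ_stalkSpecializes_apply _ _ _ _
    have hspt : (L.presheaf.stalkSpecializes hη) t =
        sp v • L.presheaf.germ U (genericPoint X) hηU σ := by
      rw [← hv', stalkSpecializes_smul, hspecσ]
    have hspv : sp w * sp v = 1 := by rw [← map_mul, hwv, map_one]
    have hinjη : Function.Injective (fun r : X.presheaf.stalk (genericPoint X) =>
        r • (L.presheaf.stalkSpecializes hη) t) := by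
      intro r₁ r₂ h12
      have h12' : r₁ • (L.presheaf.stalkSpecializes hη) t =
          r₂ • (L.presheaf.stalkSpecializes hη) t := h12
      rw [hspt, ← mul_smul, ← mul_smul] at h12'
      have h3 : r₁ * sp v = r₂ * sp v := hbη.1 h12'
      have h4 : r₁ * sp v * sp w = r₂ * sp v * sp w := by rw [h3]
      rwa [mul_assoc, mul_assoc, mul_comm (sp v) (sp w), hspv, mul_one, mul_one] at h4
    have hf : ∃ f : X.presheaf.stalk x, (L.presheaf.germ ⊤ x trivial) s = f • t := by
      obtain ⟨f, hf⟩ := hbij.2 ((L.presheaf.germ ⊤ x trivial) s)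
      exact ⟨f, hf.symm⟩
    rw [dif_pos hf]
    have hfspec := Classical.choose_spec hf
    set f := Classical.choose hf with hfdef
    have hgermη : (L.presheaf.germ ⊤ (genericPoint X) trivial) s =
        sp f • (L.presheaf.stalkSpecializes hη) t := by
      rw [← stalkSpecializes_smul, ← hfspec]
      exact (TopCat.Presheaf.germ_stalkSpecializes_apply _ _ _ _).symm
    have hf0 : f ≠ 0 := by
      rintro h0
      apply hs
      rw [hgermη, h0, map_zero, zero_smul]
    have hspf0 : sp f ≠ 0 := by
      intro h0
      apply hs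
      rw [hgermη, h0, zero_smul]
    rw [secOrdAt_eq_ord L x hcoh hη t hbij hinjη (sp f) hspf0 _ (by rw [hgermη])]
    exact ord_algebraMap_eq_length x hcoh f hf0
  · rw [dif_neg (fun h => hx h.2), if_neg (by omega)]

end Groth.Agent.H54.DivZero
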