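import Mathlib
import Groth.Prelude.Def_C1
import Groth.Agent.H54.SecOrd

/-!
# Orders of rational sections along arbitrary specializations (helper54)

* `ordFrac_mul`, `ordFrac_zpow`: `CycAlg.ordFrac` is additive on nonzero elements, unconditionally;
* `ordAt_mul`, `ordAt_zpow`;
* `mk_smul_eq_zero_iff`: in the fibre `L(ξ)` of a module with free generator `t` of the stalk,
  `r • t` vanishes iff `r ∈ 𝔪_ξ`;
* `secOrdAt_eq_ordAt`: the order of the rational section `a • t₀` along `ξ ⤳ x`, `t₀` a generator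
  of `L_x`, is the order of the residue class of `a`.
-/

set_option autoImplicit false
universe u v
open CategoryTheory CategoryTheory.Limits AlgebraicGeometry TopologicalSpace Order

namespace Groth.Agent.H54.SecOrdGen

open Groth.Agent.H54.SecOrd

theorem ordFrac_mul (R : Type u) [CommRing R] (K : Type v) [Field K] [Algebra R K] {f g : K}
    (hf : f ≠ 0) (hg : g ≠ 0) :
    CycAlg.ordFrac R K (f * g) = CycAlg.ordFrac R K f + CycAlg.ordFrac R K g := by
  unfold CycAlg.ordFrac
  split_ifs with hc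
  · obtain ⟨h1, h2, h3, h4⟩ := hc
    haveI := h1; haveI := h2; haveI := h3; haveI := h4
    have hf' : Ring.ordFrac R f ≠ 0 := (map_ne_zero _).mpr hf
    have hg' : Ring.ordFrac R g ≠ 0 := (map_ne_zero _).mpr hg
    obtain ⟨a, ha⟩ := WithZero.ne_zero_iff_exists.mp hf'
    obtain ⟨b, hb⟩ := WithZero.ne_zero_iff_exists.mp hg'
    rw [map_mul, ← ha, ← hb, ← WithZero.coe_mul]
    rfl
  · rfl

theorem ordFrac_one (R : Type u) [CommRing R] (K : Type v) [Field K] [Algebra R K] :
    CycAlg.ordFrac R K (1 : K) = 0 := by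
  have h := ordFrac_mul R K (one_ne_zero (α := K)) (one_ne_zero (α := K))
  rw [mul_one] at h
  linarith

theorem ordFrac_inv (R : Type u) [CommRing R] (K : Type v) [Field K] [Algebra R K] {f : K}
    (hf : f ≠ 0) : CycAlg.ordFrac R K f⁻¹ = - CycAlg.ordFrac R K f := by
  have h := ordFrac_mul R K hf (inv_ne_zero hf)
  rw [mul_inv_cancel₀ hf, ordFrac_one] at h
  linarith

theorem ordFrac_pow (R : Type u) [CommRing R] (K : Type v) [Field K] [Algebra R K] {f : K}
    (hf : f ≠ 0) (n : ℕ) : CycAlg.ordFrac R K (f ^ n) = n * CycAlg.ordFrac R K f := by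
  induction n with
  | zero => simp [ordFrac_one]
  | succ n ih =>
    rw [pow_succ, ordFrac_mul R K (pow_ne_zero n hf) hf, ih]
    push_cast
    ring

theorem ordFrac_zpow (R : Type u) [CommRing R] (K : Type v) [Field K] [Algebra R K] {f : K}
    (hf : f ≠ 0) (n : ℤ) : CycAlg.ordFrac R K (f ^ n) = n * CycAlg.ordFrac R K f := by
  obtain ⟨m, rfl | rfl⟩ := n.eq_nat_or_neg
  · rw [zpow_natCast, ordFrac_pow R K hf]
  · rw [zpow_neg, zpow_natCast, ordFrac_inv R K (pow_ne_zero m hf), ordFrac_pow R K hf]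
    ring

variable {X : Scheme.{u}}

theorem ordAt_mul (x ξ : X) (h : ξ ⤳ x) {f g : X.residueField ξ} (hf : f ≠ 0) (hg : g ≠ 0) :
    Cyc.ordAt x ξ h (f * g) = Cyc.ordAt x ξ h f + Cyc.ordAt x ξ h g :=
  ordFrac_mul _ _ hf hg

theorem ordAt_zpow (x ξ : X) (h : ξ ⤳ x) {f : X.residueField ξ} (hf : f ≠ 0) (n : ℤ) :
    Cyc.ordAt x ξ h (f ^ n) = n * Cyc.ordAt x ξ h f :=
  ordFrac_zpow _ _ hf n

theorem ordAt_inv (x ξ : X) (h : ξ ⤳ x) {f : X.residueField ξ} (hf : f ≠ 0) :
    Cyc.ordAt x ξ h f⁻¹ = - Cyc.ordAt x ξ h f :=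
  ordFrac_inv _ _ hf

theorem residue_eq_zero_iff (ξ : X) (a : X.presheaf.stalk ξ) :
    X.residue ξ a = 0 ↔ a ∈ IsLocalRing.maximalIdeal (X.presheaf.stalk ξ) :=
  IsLocalRing.residue_eq_zero_iff a

/-- in the fibre of a module whose stalk at `ξ` is freely generated by `t`, the class of `r • t`
vanishes iff `r` lies in the maximal ideal -/
theorem mk_smul_eq_zero_iff (L : X.Modules) (ξ : X) (t : L.presheaf.stalk ξ)
    (hbij : Function.Bijective (fun r : X.presheaf.stalk ξ => r • t)) (r : X.presheaf.stalk ξ) :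
    (Submodule.Quotient.mk (r • t) : Cyc.secFibre L ξ) = 0 ↔
      r ∈ IsLocalRing.maximalIdeal (X.presheaf.stalk ξ) := by
  rw [Submodule.Quotient.mk_eq_zero]
  constructor
  · intro hr
    have key : ∀ m ∈ (IsLocalRing.maximalIdeal (X.presheaf.stalk ξ) •
        (⊤ : Submodule (X.presheaf.stalk ξ) (L.presheaf.stalk ξ))),
        ∃ c ∈ IsLocalRing.maximalIdeal (X.presheaf.stalk ξ), c • t = m := by
      intro m hm
      refine Submodule.smul_induction_on hm ?_ ?_
      · intro c hc n _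
        obtain ⟨d, hd⟩ := hbij.2 n
        refine ⟨c * d, Ideal.mul_mem_right _ _ hc, ?_⟩
        rw [mul_smul]
        exact congrArg (c • ·) hd
      · rintro m₁ m₂ ⟨c₁, hc₁, rfl⟩ ⟨c₂, hc₂, rfl⟩
        exact ⟨c₁ + c₂, Ideal.add_mem _ hc₁ hc₂, add_smul _ _ _⟩
    obtain ⟨c, hc, hct⟩ := key _ hr
    have : c = r := hbij.1 hct
    exact this ▸ hc
  · intro hr
    exact Submodule.smul_mem_smul hr Submodule.mem_top

/-- the order of the rational section `a • t₀` of a module along `ξ ⤳ x`, `t₀` a free generator of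
the stalk at `x` whose image freely generates the stalk at `ξ` -/
theorem secOrdAt_eq_ordAt (L : X.Modules) {x ξ : X} (h : ξ ⤳ x) (t₀ : L.presheaf.stalk x)
    (hbij : Function.Bijective (fun r : X.presheaf.stalk x => r • t₀))
    (hbijξ : Function.Bijective (fun r : X.presheaf.stalk ξ =>
      r • (L.presheaf.stalkSpecializes h) t₀))
    (a : X.presheaf.stalk ξ) (ha : a ∉ IsLocalRing.maximalIdeal (X.presheaf.stalk ξ))
    (s : Cyc.secFibre L ξ)
    (hs : s = Submodule.Quotient.mk (a • (L.presheaf.stalkSpecializes h) t₀)) :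
    Cyc.secOrdAt L ξ x h s = Cyc.ordAt x ξ h (X.residue ξ a) := by
  unfold Cyc.secOrdAt
  have ht : ∃ t : L.presheaf.stalk x, Submodule.span (X.presheaf.stalk x) {t} = ⊤ := by
    refine ⟨t₀, ?_⟩
    rw [eq_top_iff]
    intro m _
    obtain ⟨r, hr⟩ := hbij.2 m
    rw [Submodule.mem_span_singleton]
    exact ⟨r, hr⟩
  rw [dif_pos ht]
  have htspan := Classical.choose_spec ht
  set t := Classical.choose ht with htdef
  obtain ⟨v, hv⟩ := hbij.2 t
  obtain ⟨w, hw⟩ : ∃ w : X.presheaf.stalk x, w • t = t₀ :=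
    Submodule.mem_span_singleton.mp (htspan ▸ (Submodule.mem_top : t₀ ∈ ⊤))
  have hv' : v • t₀ = t := hv
  have hwv : w * v = 1 := by
    apply hbij.1
    change (w * v) • t₀ = (1 : X.presheaf.stalk x) • t₀
    rw [mul_smul, hv', hw, one_smul]
  have hvunit : IsUnit v := IsUnit.of_mul_eq_one w (by rw [mul_comm]; exact hwv)
  set sp := (X.presheaf.stalkSpecializes h).hom with hsp
  have hspt₀ : (L.presheaf.stalkSpecializes h) t₀ = sp w • (L.presheaf.stalkSpecializes h) t := by
    rw [← hw, stalkSpecializes_smul]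
  have hspt : (L.presheaf.stalkSpecializes h) t = sp v • (L.presheaf.stalkSpecializes h) t₀ := by
    rw [← hv', stalkSpecializes_smul]
  have hφ : ∃ φ : X.presheaf.stalk ξ,
      s = φ • (Submodule.Quotient.mk ((L.presheaf.stalkSpecializes h) t) :
        Cyc.secFibre L ξ) := by
    refine ⟨a * sp w, ?_⟩
    rw [hs, ← Submodule.Quotient.mk_smul, mul_smul, ← hspt₀]
  rw [dif_pos hφ]
  have hφspec := Classical.choose_spec hφ
  set φ := Classical.choose hφ with hφdef
  -- `φ * sp v - a ∈ 𝔪`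
  have hmem : φ * sp v - a ∈ IsLocalRing.maximalIdeal (X.presheaf.stalk ξ) := by
    rw [← mk_smul_eq_zero_iff L ξ _ hbijξ, sub_smul, Submodule.Quotient.mk_sub, sub_eq_zero,
      mul_smul, ← hspt, Submodule.Quotient.mk_smul, ← hφspec, hs]
  have hres : X.residue ξ φ * Cyc.specMap x ξ h v = X.residue ξ a := by
    have h1 : X.residue ξ (φ * sp v - a) = 0 := (residue_eq_zero_iff ξ _).mpr hmem
    rw [map_sub, map_mul, sub_eq_zero] at h1
    exact h1
  have ha0 : X.residue ξ a ≠ 0 := fun h0 => ha ((residue_eq_zero_iff ξ a).mp h0)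
  have hφ0 : X.residue ξ φ ≠ 0 := by
    intro h0
    rw [h0, zero_mul] at hres
    exact ha0 hres.symm
  have hv0 : Cyc.specMap x ξ h v ≠ 0 := by
    intro h0
    rw [h0, mul_zero] at hres
    exact ha0 hres.symm
  rw [← hres, ordAt_mul x ξ h hφ0 hv0, ordAt_specMap_of_isUnit x ξ h v hvunit, add_zero]

end Groth.Agent.H54.SecOrdGen
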