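import Mathlib
import Groth.Prelude.Def_C1
import Groth.Agent.H54.SecOrdGen

/-!
# Sums of principal divisors weighted by a cycle are rationally equivalent to zero (helper54)
-/

set_option autoImplicit false
universe u v
open CategoryTheory CategoryTheory.Limits AlgebraicGeometry TopologicalSpace Order

namespace Groth.Agent.H54.C1Cap

open Groth.Agent.H54.SecOrd Groth.Agent.H54.SecOrdGen

theorem finsum_eq_finsum_subtype {α : Type*} {M : Type*} [AddCommMonoid M] (F : α → M)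
    (p : α → Prop) (h : ∀ a, ¬ p a → F a = 0) :
    ∑ᶠ a, F a = ∑ᶠ i : Subtype p, F i.1 := by
  rw [finsum_subtype_eq_finsum_cond]
  refine finsum_congr fun a => ?_
  classical
  rw [finsum_eq_if]
  split_ifs with ha
  · rfl
  · exact h a ha

variable {X : Scheme.{u}}

theorem divFun_zpow (δ : X → ℤ) (ξ : X) {f : X.residueField ξ} (hf : f ≠ 0) (n : ℤ) (x : X) :
    Cyc.divFun δ ξ (f ^ n) x = n * Cyc.divFun δ ξ f x := by
  unfold Cyc.divFun
  split_ifs with h
  · exact ordAt_zpow x ξ h.1 hf n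
  · simp

theorem divFun_inv (δ : X → ℤ) (ξ : X) {f : X.residueField ξ} (hf : f ≠ 0) (x : X) :
    Cyc.divFun δ ξ f⁻¹ x = - Cyc.divFun δ ξ f x := by
  unfold Cyc.divFun
  split_ifs with h
  · exact ordAt_inv x ξ h.1 hf
  · simp

theorem divFun_mul (δ : X → ℤ) (ξ : X) {f g : X.residueField ξ} (hf : f ≠ 0) (hg : g ≠ 0)
    (x : X) :
    Cyc.divFun δ ξ (f * g) x = Cyc.divFun δ ξ f x + Cyc.divFun δ ξ g x := by
  unfold Cyc.divFun
  split_ifs with h
  · exact ordAt_mul x ξ h.1 hf hg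
  · simp

/-- the points of the support of a cycle that specialize to a given point form a finite set -/
theorem finite_gen_support (α : AlgebraicCycle X ℤ) (x : X) : {ξ : X | α ξ ≠ 0 ∧ ξ ⤳ x}.Finite := by
  obtain ⟨t, ht, hfin⟩ := α.supportLocallyFiniteWithinDomain x (Set.mem_univ x)
  obtain ⟨U, hUt, hU, hxU⟩ := mem_nhds_iff.mp ht
  refine hfin.subset ?_
  rintro ξ ⟨hξ, hsp⟩
  exact ⟨hUt (hsp.mem_open hU hxU), hξ⟩

/-- a locally finite sum of principal divisors on closures of points of dimension `k+1`, with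
multiplicities given by a `(k+1)`-cycle, is rationally equivalent to zero -/
theorem ratEquivZero_of_sum (δ : X → ℤ) (k : ℤ) (α : AlgebraicCycle X ℤ)
    (hα : α ∈ Cyc.Zk X δ (k + 1)) (f : (ξ : X) → X.residueField ξ) (hf : ∀ ξ, f ξ ≠ 0)
    (γ : AlgebraicCycle X ℤ) (hγ : ∀ x, γ x = ∑ᶠ ξ : X, α ξ * Cyc.divFun δ ξ (f ξ) x) :
    Cyc.RatEquivZero δ k γ := by
  refine ⟨{ξ : X // α ξ ≠ 0}, fun i => i.1, fun i => (f i.1) ^ (α i.1), ?_, ?_, ?_, ?_⟩
  · intro i
    by_contra hne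
    exact i.2 (hα i.1 hne)
  · intro i
    exact zpow_ne_zero _ (hf i.1)
  · intro x
    obtain ⟨t, ht, hfin⟩ := α.supportLocallyFiniteWithinDomain x (Set.mem_univ x)
    obtain ⟨U, hUt, hU, hxU⟩ := mem_nhds_iff.mp ht
    refine ⟨U, hU, hxU, ?_⟩
    have hsub : {i : {ξ : X // α ξ ≠ 0} | (closure {i.1} ∩ U).Nonempty} ⊆
        Subtype.val ⁻¹' (t ∩ Function.support α) := by
      rintro i ⟨y, hy, hyU⟩
      have hsp : i.1 ⤳ y := specializes_iff_mem_closure.mpr hy
      exact ⟨hUt (hsp.mem_open hU hyU), i.2⟩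
    exact (hfin.preimage Subtype.val_injective.injOn).subset hsub
  · intro x
    rw [hγ x]
    rw [finsum_eq_finsum_subtype (fun ξ => α ξ * Cyc.divFun δ ξ (f ξ) x) (fun ξ => α ξ ≠ 0)]
    · refine finsum_congr fun i => ?_
      exact (divFun_zpow δ i.1 (hf i.1) (α i.1) x).symm
    · intro ξ hξ
      rw [not_not] at hξ
      rw [hξ, zero_mul]

end Groth.Agent.H54.C1Cap
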