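import Mathlib
import Groth.Prelude.Def_C1
import Groth.Agent.H54.C1Cap
import Groth.Agent.H8.MeroGen

/-!
# `c₁(L) ∩ α` does not depend on the chosen rational sections, up to rational equivalence (helper54)
-/

set_option autoImplicit false
universe u
open CategoryTheory CategoryTheory.Limits AlgebraicGeometry TopologicalSpace Opposite Order

namespace Groth.Agent.H54.C1Indep

open Groth.Agent.H8 Groth.Agent.H54.SecOrd Groth.Agent.H54.SecOrdGen Groth.Agent.H54.C1Cap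

variable {X : Scheme.{u}}

/-- the order of a rational section written in a chart -/
theorem secOrdAt_chart (M : X.Modules) {U : X.Opens} {σ : Γ(M, U)} (hσ : IsFreeGen M U σ)
    {x ξ : X} (h : ξ ⤳ x) (hxU : x ∈ U) (a : X.presheaf.stalk ξ)
    (ha : a ∉ IsLocalRing.maximalIdeal (X.presheaf.stalk ξ)) (m0 : M.presheaf.stalk ξ)
    (hm0 : m0 = a • M.presheaf.germ U ξ (h.mem_open U.2 hxU) σ) :
    Cyc.secOrdAt M ξ x h (Submodule.Quotient.mk m0) = Cyc.ordAt x ξ h (X.residue ξ a) := by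
  have hspec : (M.presheaf.stalkSpecializes h) (M.presheaf.germ U x hxU σ) =
      M.presheaf.germ U ξ (h.mem_open U.2 hxU) σ :=
    TopCat.Presheaf.germ_stalkSpecializes_apply _ _ _ _
  refine secOrdAt_eq_ordAt M h (M.presheaf.germ U x hxU σ) (hσ.germ_bijective hxU) ?_ a ha _ ?_
  · rw [hspec]
    exact hσ.germ_bijective _
  · rw [hspec, hm0]

theorem not_mem_of_mk_ne_zero (M : X.Modules) {U : X.Opens} {σ : Γ(M, U)} (hσ : IsFreeGen M U σ)
    {ξ : X} (hξU : ξ ∈ U) (a : X.presheaf.stalk ξ) (m0 : M.presheaf.stalk ξ)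
    (hm0 : m0 = a • M.presheaf.germ U ξ hξU σ)
    (hne : (Submodule.Quotient.mk m0 : Cyc.secFibre M ξ) ≠ 0) :
    a ∉ IsLocalRing.maximalIdeal (X.presheaf.stalk ξ) := by
  intro hmem
  apply hne
  rw [hm0]
  exact (mk_smul_eq_zero_iff M ξ _ (hσ.germ_bijective hξU) a).mpr hmem

/-- every nonzero rational section of an invertible module is a unit multiple of a given one -/
theorem exists_unit_smul {L : X.Modules} (hL : PicF.IsInvertible L)
    (ξ : X) (m₂ : L.presheaf.stalk ξ)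
    (hm₂ : (Submodule.Quotient.mk m₂ : Cyc.secFibre L ξ) ≠ 0)
    (w : Cyc.secFibre L ξ) (hw : w ≠ 0) :
    ∃ e : X.presheaf.stalk ξ, e ∉ IsLocalRing.maximalIdeal (X.presheaf.stalk ξ) ∧
      w = Submodule.Quotient.mk (e • m₂) := by
  obtain ⟨U, hξU, σ, hσ⟩ := exists_isFreeGen_of_isInvertible hL ξ
  obtain ⟨a, ha⟩ := (hσ.germ_bijective hξU).2 m₂
  have ha' : a • L.presheaf.germ U ξ hξU σ = m₂ := ha
  have ham := not_mem_of_mk_ne_zero L hσ hξU a m₂ ha'.symm hm₂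
  have hunit : IsUnit a := by
    by_contra hnu
    exact ham ((IsLocalRing.mem_maximalIdeal _).mpr hnu)
  obtain ⟨u, hu⟩ := hunit
  obtain ⟨w0, rfl⟩ := Submodule.Quotient.mk_surjective _ w
  obtain ⟨e', he'⟩ := (hσ.germ_bijective hξU).2 w0
  have he'' : e' • L.presheaf.germ U ξ hξU σ = w0 := he'
  have he'm := not_mem_of_mk_ne_zero L hσ hξU e' w0 he''.symm hw
  refine ⟨e' * (↑u⁻¹ : (X.presheaf.stalk ξ)ˣ), ?_, ?_⟩
  · intro hmem
    rcases (IsLocalRing.maximalIdeal.isMaximal _).isPrime.mem_or_mem hmem with h1 | h1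
    · exact he'm h1
    · exact (IsLocalRing.mem_maximalIdeal _).mp h1 (Units.isUnit _)
  · rw [← ha', ← hu, ← mul_smul, mul_assoc, Units.inv_mul, mul_one, he'']

/-- changing a rational section by a unit changes its order by the order of the unit -/
theorem secOrdAt_smul {L : X.Modules} (hL : PicF.IsInvertible L)
    {x ξ : X} (h : ξ ⤳ x) (m₂ : L.presheaf.stalk ξ)
    (hm₂ : (Submodule.Quotient.mk m₂ : Cyc.secFibre L ξ) ≠ 0)
    (e : X.presheaf.stalk ξ) (he : e ∉ IsLocalRing.maximalIdeal (X.presheaf.stalk ξ)) :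
    Cyc.secOrdAt L ξ x h (Submodule.Quotient.mk (e • m₂)) =
      Cyc.ordAt x ξ h (X.residue ξ e) + Cyc.secOrdAt L ξ x h (Submodule.Quotient.mk m₂) := by
  obtain ⟨U, hxU, σ, hσ⟩ := exists_isFreeGen_of_isInvertible hL x
  have hξU : ξ ∈ U := h.mem_open U.2 hxU
  obtain ⟨a, ha⟩ := (hσ.germ_bijective hξU).2 m₂
  have ha' : a • L.presheaf.germ U ξ hξU σ = m₂ := ha
  have ham := not_mem_of_mk_ne_zero L hσ hξU a m₂ ha'.symm hm₂
  have hea : e * a ∉ IsLocalRing.maximalIdeal (X.presheaf.stalk ξ) := fun hmem =>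
    ((IsLocalRing.maximalIdeal.isMaximal _).isPrime.mem_or_mem hmem).elim he ham
  have hb' : e • m₂ = (e * a) • L.presheaf.germ U ξ hξU σ := by
    rw [← ha', ← mul_smul]
  rw [secOrdAt_chart L hσ h hxU a ham m₂ ha'.symm,
    secOrdAt_chart L hσ h hxU (e * a) hea _ hb', map_mul]
  exact ordAt_mul x ξ h (fun h0 => he ((residue_eq_zero_iff ξ e).mp h0))
    (fun h0 => ham ((residue_eq_zero_iff ξ a).mp h0))

/-- `c₁(L) ∩ α` computed with two families of nonzero rational sections gives rationally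
equivalent cycles -/
theorem ratEquiv_of_sections (δ : X → ℤ) (L : X.Modules) (hL : PicF.IsInvertible L)
    (k : ℤ) (α : AlgebraicCycle X ℤ) (hα : α ∈ Cyc.Zk X δ (k + 1))
    (s₁ : (ξ : X) → Cyc.secFibre L ξ) (hs₁ : ∀ ξ, s₁ ξ ≠ 0)
    (s₂ : (ξ : X) → Cyc.secFibre L ξ) (hs₂ : ∀ ξ, s₂ ξ ≠ 0)
    (γ₁ γ₂ : AlgebraicCycle X ℤ) (h₁ : ⇑γ₁ = Cyc.c1CapFun δ L ⇑α s₁)
    (h₂ : ⇑γ₂ = Cyc.c1CapFun δ L ⇑α s₂) :
    Cyc.RatEquiv δ k γ₁ γ₂ := by
  have hex : ∀ ξ, ∃ m₂ : L.presheaf.stalk ξ,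
      (Submodule.Quotient.mk m₂ : Cyc.secFibre L ξ) = s₂ ξ :=
    fun ξ => Submodule.Quotient.mk_surjective _ _
  choose m₂ hm₂ using hex
  have hm₂ne : ∀ ξ, (Submodule.Quotient.mk (m₂ ξ) : Cyc.secFibre L ξ) ≠ 0 :=
    fun ξ => (hm₂ ξ).symm ▸ hs₂ ξ
  choose e he hs₁' using fun ξ => exists_unit_smul hL ξ (m₂ ξ) (hm₂ne ξ) (s₁ ξ) (hs₁ ξ)
  have hre : ∀ ξ, X.residue ξ (e ξ) ≠ 0 := fun ξ h0 => he ξ ((residue_eq_zero_iff ξ _).mp h0)
  unfold Cyc.RatEquiv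
  refine ratEquivZero_of_sum δ k α hα (fun ξ => X.residue ξ (e ξ)) hre _ ?_
  intro x
  have hcoe : (γ₁ - γ₂) x = γ₁ x - γ₂ x := rfl
  rw [hcoe, h₁, h₂]
  unfold Cyc.c1CapFun
  have hfin : ∀ (F : X → ℤ), (∀ ξ, ¬ ξ ⤳ x → F ξ = 0) →
      (Function.support fun ξ => α ξ * F ξ).Finite := by
    intro F hF
    refine (finite_gen_support α x).subset ?_
    intro ξ hξ
    rw [Function.mem_support] at hξ
    refine ⟨fun h0 => hξ (by rw [h0, zero_mul]), ?_⟩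
    by_contra hsp
    exact hξ (by rw [hF ξ hsp, mul_zero])
  have hsd : ∀ (s : (ξ : X) → Cyc.secFibre L ξ) (ξ : X), ¬ ξ ⤳ x →
      Cyc.secDivFun δ L ξ (s ξ) x = 0 := by
    intro s ξ hsp
    unfold Cyc.secDivFun
    rw [dif_neg (fun h => hsp h.1)]
  have hf₁ := hfin (fun ξ => Cyc.secDivFun δ L ξ (s₁ ξ) x) (hsd s₁)
  have hf₂ := hfin (fun ξ => Cyc.secDivFun δ L ξ (s₂ ξ) x) (hsd s₂)
  rw [← finsum_sub_distrib hf₁ hf₂]
  refine finsum_congr fun ξ => ?_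
  rw [← mul_sub]
  congr 1
  unfold Cyc.secDivFun Cyc.divFun
  split_ifs with h
  · rw [hs₁' ξ, secOrdAt_smul hL h.1 (m₂ ξ) (hm₂ne ξ) (e ξ) (he ξ), hm₂ ξ]
    ring
  · simp

theorem gysinChoice_ne_zero (L : X.Modules) (s : L.presheaf.obj (Opposite.op ⊤))
    (w : (ξ : X) → Cyc.secFibre L ξ) (hw : ∀ ξ, w ξ ≠ 0) (ξ : X) :
    Cyc.gysinChoice L s w ξ ≠ 0 := by
  unfold Cyc.gysinChoice
  split_ifs with h
  · exact h
  · exact hw ξ

end Groth.Agent.H54.C1Indep
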