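import Groth.Agent.H67.PullBasis
import Groth.Agent.H18.STL.Invertible

/-!
helper54: global bases and trivialisations; descent of "is a basis" along a surjective morphism.
-/

set_option autoImplicit false
set_option linter.style.haveILetI false
universe u
open CategoryTheory AlgebraicGeometry TopologicalSpace Opposite

namespace Groth.Agent.H54.BasisDescent

open Groth.Agent.H18 Groth.Agent.H18.PUP Groth.Agent.H18.STL Groth.Agent.H44 Scheme.Modules

variable {X X' : Scheme.{u}}

/-- a module with a global basis is trivial -/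
theorem nonempty_iso_of_isBasisOn_top {M : X.Modules} {t : Γ(M, (⊤ : X.Opens))}
    (ht : IsBasisOn M ⊤ t) : Nonempty (M ≅ Coh.structureModule X) := by
  let ψ : Coh.structureModule X ⟶ M := sectionHom M t
  have hiso : IsIso ψ := by
    rw [Scheme.Modules.Hom.isIso_iff_isIso_app]
    intro V
    rw [ConcreteCategory.isIso_iff_bijective]
    have : (ψ.app V : Γ(X, V) → Γ(M, V)) = fun r : Γ(X, V) => r • mres M (le_top : V ≤ ⊤) t := by
      funext r
      exact sectionHom_app M t V r
    rw [this]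
    exact ht V le_top
  exact ⟨(asIso ψ).symm⟩

/-- a trivial module has a global basis -/
theorem exists_isBasisOn_top_of_iso {M : X.Modules} (e : M ≅ Coh.structureModule X) :
    ∃ t : Γ(M, (⊤ : X.Opens)), IsBasisOn M ⊤ t := by
  let ψ : Coh.structureModule X ⟶ M := e.inv
  refine ⟨ψ.app ⊤ (1 : Γ(X, ⊤)), fun V hV => ?_⟩
  have h1 : mres M hV (ψ.app ⊤ (1 : Γ(X, ⊤))) = ψ.app V (1 : Γ(X, V)) := by
    rw [← Groth.Agent.H54.PB.hom_app_mres]
    congr 1
    exact map_one (X.presheaf.map (homOfLE hV).op).hom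
  have h2 : (fun r : Γ(X, V) => r • mres M hV (ψ.app ⊤ (1 : Γ(X, ⊤)))) =
      (ψ.app V : Γ(X, V) → Γ(M, V)) := by
    funext r
    rw [h1]
    have h3 : ψ.app V (r • (1 : Γ(X, V))) = r • ψ.app V (1 : Γ(X, V)) :=
      Scheme.Modules.Hom.app_smul ψ r (1 : Γ(X, V))
    rw [← h3]
    congr 1
    exact mul_one r
  rw [h2]
  haveI : IsIso ψ := inferInstance
  haveI : IsIso (ψ.app V) := (Scheme.Modules.Hom.isIso_iff_isIso_app (φ := ψ)).1 inferInstance V
  exact ConcreteCategory.bijective_of_isIso (ψ.app V)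

/-- if `c • b` and `b` are both bases over `W` then `c` is a unit -/
theorem isUnit_of_isBasisOn_smul {M : X.Modules} {W : X.Opens} {b : Γ(M, W)} (hb : IsBasisOn M W b)
    (c : Γ(X, W)) (hc : IsBasisOn M W (c • b)) : IsUnit c := by
  obtain ⟨r, hr⟩ := (hc W le_rfl).2 b
  have hr' : r • mres M (le_refl W) (c • b) = b := hr
  rw [mres_self, ← mul_smul] at hr'
  have h1 : (fun r : Γ(X, W) => r • mres M (le_refl W) b) (r * c) =
      (fun r : Γ(X, W) => r • mres M (le_refl W) b) 1 := by
    simp only [mres_self, one_smul]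
    exact hr'
  have h2 := (hb W le_rfl).1 h1
  exact IsUnit.of_mul_eq_one r (by rw [mul_comm]; exact h2)

/-- a function whose pullback along a surjective morphism is a unit is a unit -/
theorem isUnit_of_isUnit_app (g : X' ⟶ X) (hg : Function.Surjective g) {U : X.Opens} (c : Γ(X, U))
    (hc : IsUnit ((g.app U).hom c)) : IsUnit c := by
  have h1 := X'.basicOpen_of_isUnit hc
  have h2 : g ⁻¹ᵁ (X.basicOpen c) = X'.basicOpen ((g.app U).hom c) := Scheme.preimage_basicOpen g c
  have h3 : U ≤ X.basicOpen c := by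
    intro y hy
    obtain ⟨y', rfl⟩ := hg y
    have : y' ∈ g ⁻¹ᵁ (X.basicOpen c) := by
      rw [h2, h1]
      exact hy
    exact this
  have h4 := (isUnit_res_iff_le_basicOpen (le_refl U) c).2 h3
  rwa [rres_self] at h4

/-- descent of "is a basis" along a surjective morphism, for invertible modules -/
theorem isBasisOn_of_pullSect (g : X' ⟶ X) (hg : Function.Surjective g) {L : X.Modules}
    (hL : PicF.IsInvertible L) (s : Γ(L, (⊤ : X.Opens)))
    (hs : IsBasisOn ((pullback g).obj L) (g ⁻¹ᵁ ⊤) (OmegaSh.pullSect g L ⊤ s)) :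
    IsBasisOn L ⊤ s := by
  refine Groth.Agent.H67.BasisLocal.isBasisOn_of_locally s (fun x _ => ?_)
  obtain ⟨U, e₀, hxU, he₀⟩ := exists_basis_of_isInvertible hL x
  refine ⟨U, le_top, hxU, ?_⟩
  set c := he₀.coord le_rfl (mres L (le_top : U ≤ ⊤) s) with hc_def
  have hc : mres L (le_top : U ≤ ⊤) s = c • e₀ := by
    have := he₀.coord_smul le_rfl (mres L (le_top : U ≤ ⊤) s)
    rw [mres_self] at this
    exact this.symm
  have hb : IsBasisOn ((pullback g).obj L) (g ⁻¹ᵁ U) (OmegaSh.pullSect g L U e₀) :=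
    Groth.Agent.H67.PullBasis.isBasisOn_pullSect g L U e₀ he₀
  have h1 : OmegaSh.pullSect g L U (mres L (le_top : U ≤ ⊤) s) =
      mres ((pullback g).obj L) (g.preimage_mono (le_top : U ≤ ⊤)) (OmegaSh.pullSect g L ⊤ s) :=
    Groth.Agent.H54.PB.pullSect_mres g L le_top s
  have h2 : OmegaSh.pullSect g L U (c • e₀) = (g.app U).hom c • OmegaSh.pullSect g L U e₀ :=
    OmegaSh.pullSect_smul g L U c e₀
  have h3 : IsBasisOn ((pullback g).obj L) (g ⁻¹ᵁ U)
      ((g.app U).hom c • OmegaSh.pullSect g L U e₀) := by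
    rw [← h2, ← hc, h1]
    exact hs.mono _
  have hcu : IsUnit c := isUnit_of_isUnit_app g hg c (isUnit_of_isBasisOn_smul hb _ h3)
  rw [hc]
  exact Groth.Agent.H67.BasisLocal.isBasisOn_smul_of_isUnit he₀ c hcu

end Groth.Agent.H54.BasisDescent
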