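import Groth.Agent.H54.FiniteOneDim
import Groth.Agent.H54.BasisDescent

/-!
helper54: invertible modules on a scheme finite over the spectrum of a local ring are trivial.
-/

set_option autoImplicit false
set_option linter.style.haveILetI false
universe u
open CategoryTheory AlgebraicGeometry TopologicalSpace Opposite

namespace Groth.Agent.H54.FiniteLocalPic

open Groth.Agent.H18 Groth.Agent.H18.PUP Groth.Agent.H18.STL Groth.Agent.H44 Scheme.Modules

/-- the pullback of an invertible module is invertible -/
theorem isInvertible_pullback {Z S : Scheme.{u}} (u : Z ⟶ S) {L : S.Modules}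
    (hL : PicF.IsInvertible L) : PicF.IsInvertible ((pullback u).obj L) := by
  refine isInvertible_of_local_bases _ (fun z => ?_)
  obtain ⟨W, e₀, hxW, he₀⟩ := exists_basis_of_isInvertible hL (u z)
  exact ⟨u ⁻¹ᵁ W, OmegaSh.pullSect u L W e₀, hxW,
    Groth.Agent.H67.PullBasis.isBasisOn_pullSect u L W e₀ he₀⟩

/-- an invertible module on a scheme finite over the spectrum of a local ring is trivial -/
theorem trivial_of_finite_over_local {R : Type u} [CommRing R] [IsLocalRing R] {Z : Scheme.{u}}
    (π : Z ⟶ Spec (CommRingCat.of R)) [IsFinite π] (N : Z.Modules) (hN : PicF.IsInvertible N) :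
    Nonempty (N ≅ Coh.structureModule Z) := by
  obtain ⟨W, e, hy, he⟩ := Groth.Agent.H54.FiniteOneDim.exists_chart π N hN
    (IsLocalRing.closedPoint R)
  have hW : W = ⊤ := (IsLocalRing.closedPoint_mem_iff W).1 hy
  have hle : (⊤ : Z.Opens) ≤ π ⁻¹ᵁ W := by
    rw [hW]
    exact fun _ _ => trivial
  exact Groth.Agent.H54.BasisDescent.nonempty_iso_of_isBasisOn_top (he.mono hle)

end Groth.Agent.H54.FiniteLocalPic
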