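import Mathlib
import Groth.Prelude.Def_C1
import Groth.Prelude.Def_Coh
import Groth.Agent.H54.C1Cap
import Groth.Agent.H79.StructStalk

/-!
# `c₁(O_X) ∩ α` is rationally equivalent to zero (helper54)
-/

set_option autoImplicit false
universe u v
open CategoryTheory CategoryTheory.Limits AlgebraicGeometry TopologicalSpace Order

namespace Groth.Agent.H54.C1Struct

open Groth.Agent.H54.SecOrd Groth.Agent.H54.SecOrdGen Groth.Agent.H54.C1Cap
  Groth.Agent.H79.StructStalk

variable {X : Scheme.{u}}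

/-- the germ of the unit section of the structure module -/
noncomputable def one (ξ : X) : (Coh.structureModule X).presheaf.stalk ξ :=
  (Coh.structureModule X).presheaf.germ ⊤ ξ trivial (oneSec X ⊤)

theorem one_bijective (ξ : X) :
    Function.Bijective (fun r : X.presheaf.stalk ξ => r • one ξ) :=
  (structStalkEquiv X ξ).bijective

theorem spec_one {x ξ : X} (h : ξ ⤳ x) :
    ((Coh.structureModule X).presheaf.stalkSpecializes h) (one x) = one ξ :=
  TopCat.Presheaf.germ_stalkSpecializes_apply _ _ _ _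

theorem main (δ : X → ℤ) (k : ℤ) (α : AlgebraicCycle X ℤ)
    (hα : α ∈ Cyc.Zk X δ (k + 1)) (s : (ξ : X) → Cyc.secFibre (Coh.structureModule X) ξ)
    (hs : ∀ ξ, s ξ ≠ 0) (γ : AlgebraicCycle X ℤ)
    (hγ : ⇑γ = Cyc.c1CapFun δ (Coh.structureModule X) ⇑α s) : Cyc.RatEquivZero δ k γ := by
  have hex : ∀ ξ : X, ∃ a : X.presheaf.stalk ξ,
      a ∉ IsLocalRing.maximalIdeal (X.presheaf.stalk ξ) ∧
        s ξ = Submodule.Quotient.mk (a • one ξ) := by
    intro ξ
    obtain ⟨m, hm⟩ := Submodule.Quotient.mk_surjective _ (s ξ)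
    obtain ⟨a, ha⟩ := (one_bijective ξ).2 m
    have ha' : a • one ξ = m := ha
    refine ⟨a, ?_, ?_⟩
    · intro hmem
      apply hs ξ
      rw [← hm, ← ha']
      exact (mk_smul_eq_zero_iff _ ξ _ (one_bijective ξ) a).mpr hmem
    · rw [← hm, ← ha']
  choose a ha hsa using hex
  refine ratEquivZero_of_sum δ k α hα (fun ξ => X.residue ξ (a ξ))
    (fun ξ h0 => ha ξ ((residue_eq_zero_iff ξ _).mp h0)) γ ?_
  intro x
  rw [hγ]
  unfold Cyc.c1CapFun
  refine finsum_congr fun ξ => ?_
  congr 1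
  unfold Cyc.secDivFun Cyc.divFun
  split_ifs with h
  · refine secOrdAt_eq_ordAt _ h.1 (one x) (one_bijective x) ?_ (a ξ) (ha ξ) _ ?_
    · rw [spec_one]
      exact one_bijective ξ
    · rw [spec_one]
      exact hsa ξ
  · rfl

end Groth.Agent.H54.C1Struct
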