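import Mathlib

/-!
# The pullback of an ideal sheaf on affine opens
-/

set_option autoImplicit false
universe u

open CategoryTheory AlgebraicGeometry

namespace Groth.Agent.H54

open Scheme.IdealSheafData in
/-- Affine case: the pullback ideal sheaf is generated by the image of the ideal. -/
theorem comap_ideal_top_of_isAffine {X Y : Scheme.{u}} [IsAffine X] [IsAffine Y] (f : X ⟶ Y)
    (J : Y.IdealSheafData) :
    (J.comap f).ideal ⟨⊤, isAffineOpen_top X⟩ =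
      Ideal.map f.appTop.hom (J.ideal ⟨⊤, isAffineOpen_top Y⟩) := by
  have hmap : ∀ K : X.IdealSheafData, (K.map f).ideal ⟨⊤, isAffineOpen_top Y⟩ =
      (K.ideal ⟨⊤, isAffineOpen_top X⟩).comap f.appTop.hom := by
    intro K
    exact ideal_map K f ⟨⊤, isAffineOpen_top Y⟩ (isAffineOpen_top X)
  apply le_antisymm
  · have h1 : J.comap f ≤ ofIdealTop (Ideal.map f.appTop.hom (J.ideal ⟨⊤, isAffineOpen_top Y⟩)) := by
      rw [← le_map_iff_comap_le]
      apply le_of_isAffine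
      rw [hmap, ← Ideal.map_le_iff_le_comap]
      simp
    have h2 := h1 ⟨⊤, isAffineOpen_top X⟩
    simpa using h2
  · rw [Ideal.map_le_iff_le_comap, ← hmap]
    exact (le_map_comap (f := f) (J := J)) ⟨⊤, isAffineOpen_top Y⟩

theorem comap_inv_span_singleton {A B : CommRingCat.{u}} (i : A ≅ B) (t : A) :
    Ideal.comap i.inv.hom (Ideal.span {t}) = Ideal.span {i.hom.hom t} := by
  ext x
  rw [Ideal.mem_comap, Ideal.mem_span_singleton', Ideal.mem_span_singleton']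
  constructor
  · rintro ⟨a, ha⟩
    refine ⟨i.hom.hom a, ?_⟩
    rw [← map_mul, ha]
    exact congr($(i.inv_hom_id).hom x)
  · rintro ⟨b, rfl⟩
    refine ⟨i.inv.hom b, ?_⟩
    rw [map_mul]
    congr 1
    exact (congr($(i.hom_inv_id).hom t)).symm

open Scheme.IdealSheafData in
/-- Flat pullback of a locally principal ideal generated by a nonzerodivisor, on affine opens. -/
theorem exists_span_singleton_comap_of_flat {X Y : Scheme.{u}} (f : X ⟶ Y) [Flat f]
    (𝓘 : Y.IdealSheafData) (V₀ : Y.Opens) (hV₀ : IsAffineOpen V₀)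
    (hV' : IsAffineOpen (V₀.ι ''ᵁ ⊤))
    (t : Γ(Y, V₀.ι ''ᵁ ⊤)) (ht : t ∈ nonZeroDivisors Γ(Y, V₀.ι ''ᵁ ⊤))
    (hI : 𝓘.ideal ⟨V₀.ι ''ᵁ ⊤, hV'⟩ = Ideal.span {t})
    (U₀ : X.Opens) (hU₀ : IsAffineOpen U₀) (hU' : IsAffineOpen (U₀.ι ''ᵁ ⊤))
    (e : U₀ ≤ f ⁻¹ᵁ V₀) :
    ∃ g : Γ(X, U₀.ι ''ᵁ ⊤), g ∈ nonZeroDivisors Γ(X, U₀.ι ''ᵁ ⊤) ∧
      (𝓘.comap f).ideal ⟨U₀.ι ''ᵁ ⊤, hU'⟩ = Ideal.span {g} := by
  haveI : IsAffine U₀.toScheme := hU₀
  haveI : IsAffine V₀.toScheme := hV₀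
  let f' := f.resLE V₀ U₀ e
  have hcomp : f' ≫ V₀.ι = U₀.ι ≫ f := Scheme.Hom.resLE_comp_ι f e
  have h1 : (𝓘.comap f).comap U₀.ι = (𝓘.comap V₀.ι).comap f' := by
    rw [← comap_comp, ← comap_comp, hcomp]
  have h2 : ((𝓘.comap f).comap U₀.ι).ideal ⟨⊤, isAffineOpen_top _⟩ =
      ((𝓘.comap V₀.ι).comap f').ideal ⟨⊤, isAffineOpen_top _⟩ := by rw [h1]
  have hL := ideal_comap_of_isOpenImmersion (𝓘.comap f) U₀.ι ⟨⊤, isAffineOpen_top _⟩
  have hR1 := comap_ideal_top_of_isAffine f' (𝓘.comap V₀.ι)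
  have hR2 := ideal_comap_of_isOpenImmersion 𝓘 V₀.ι ⟨⊤, isAffineOpen_top _⟩
  rw [hL, hR1, hR2, hI, comap_inv_span_singleton, Ideal.map_span, Set.image_singleton] at h2
  -- the generator
  set g' : Γ(U₀.toScheme, ⊤) := f'.appTop.hom ((V₀.ι.appIso ⊤).hom.hom t) with hg'
  refine ⟨(U₀.ι.appIso ⊤).inv.hom g', ?_, ?_⟩
  · -- nonzerodivisor
    have hflat : f'.appTop.hom.Flat := HasRingHomProperty.appTop (P := @Flat) f' inferInstance
    have ht1 : (V₀.ι.appIso ⊤).hom.hom t ∈ nonZeroDivisors Γ(V₀.toScheme, ⊤) := by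
      let eV := (V₀.ι.appIso ⊤).commRingCatIsoToRingEquiv
      exact mem_nonZeroDivisors_of_injective (f := eV.symm) eV.symm.injective
        (by rw [show eV.symm ((V₀.ι.appIso ⊤).hom.hom t) = t from eV.symm_apply_apply t]; exact ht)
    have ht2 : g' ∈ nonZeroDivisors Γ(U₀.toScheme, ⊤) := by
      algebraize [f'.appTop.hom]
      have hreg := Module.Flat.isSMulRegular_of_nonZeroDivisors (M := Γ(U₀.toScheme, ⊤)) ht1
      rw [mem_nonZeroDivisors_iff_right]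
      intro z hz
      apply hreg
      simp only [smul_zero]
      rw [Algebra.smul_def, mul_comm]
      exact hz
    let eU := (U₀.ι.appIso ⊤).commRingCatIsoToRingEquiv
    exact mem_nonZeroDivisors_of_injective (f := eU) eU.injective
      (by rw [show eU ((U₀.ι.appIso ⊤).inv.hom g') = g' from eU.apply_symm_apply g']; exact ht2)
  · -- the ideal
    set K := (𝓘.comap f).ideal ⟨U₀.ι ''ᵁ ⊤, hU'⟩ with hK
    have h3 : K = Ideal.map (U₀.ι.appIso ⊤).inv.hom (Ideal.comap (U₀.ι.appIso ⊤).inv.hom K) := by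
      rw [Ideal.map_comap_of_surjective]
      exact (ConcreteCategory.bijective_of_isIso (U₀.ι.appIso ⊤).inv).2
    rw [h3, h2, Ideal.map_span, Set.image_singleton]

end Groth.Agent.H54
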