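import Groth.Agent.H54.AffSpread
import Groth.Agent.H54.AffUnits

set_option autoImplicit false
set_option linter.style.haveILetI false
universe u
open CategoryTheory CategoryTheory.Limits AlgebraicGeometry Scheme.Modules Opposite TopologicalSpace

namespace Groth.Agent.H54.AffPic

open Groth.Agent.H44 Groth.Agent.H18 Groth.Agent.H18.PUP Groth.Agent.H18.STL AffineSpace

section Norm
variable {n : Type u} (X : Scheme.{u}) (z : X ⟶ 𝔸(n; X)) (hz : z ≫ 𝔸(n; X) ↘ X = 𝟙 X)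
  (L : (𝔸(n; X)).Modules)

/-- pull a section over `p⁻¹ W` back along the section `z` -/
noncomputable def zeta (W : X.Opens) (e : Γ(L, (𝔸(n; X) ↘ X) ⁻¹ᵁ W)) :
    Γ((Scheme.Modules.pullback z).obj L, W) :=
  pullSectLE z L ((𝔸(n; X) ↘ X) ⁻¹ᵁ W) W (AffUnits.le_preimage X z hz W) e

theorem zeta_mres {W W' : X.Opens} (h : W' ≤ W) (e : Γ(L, (𝔸(n; X) ↘ X) ⁻¹ᵁ W)) :
    zeta X z hz L W' (mres L ((𝔸(n; X) ↘ X).preimage_mono h) e) =
      mres ((Scheme.Modules.pullback z).obj L) h (zeta X z hz L W e) := by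
  unfold zeta
  rw [pullSectLE_of_res]
  exact (pullSectLE_res z L _ W W' _ h e).symm

theorem zeta_smul (W : X.Opens) (r : Γ(𝔸(n; X), (𝔸(n; X) ↘ X) ⁻¹ᵁ W))
    (e : Γ(L, (𝔸(n; X) ↘ X) ⁻¹ᵁ W)) :
    zeta X z hz L W (r • e) =
      z.appLE ((𝔸(n; X) ↘ X) ⁻¹ᵁ W) W (AffUnits.le_preimage X z hz W) r • zeta X z hz L W e :=
  pullSectLE_smul z L _ W _ r e

theorem appLE_app (W : X.Opens) (u : Γ(X, W)) :
    z.appLE ((𝔸(n; X) ↘ X) ⁻¹ᵁ W) W (AffUnits.le_preimage X z hz W)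
      ((𝔸(n; X) ↘ X).app W u) = u := by
  have h := Scheme.Hom.comp_appLE z (𝔸(n; X) ↘ X) W W (AffUnits.le_preimage X z hz W)
  have h2 : (z ≫ 𝔸(n; X) ↘ X).appLE W W (AffUnits.le_preimage X z hz W) = 𝟙 _ := by
    rw [AffUnits.appLE_congr_hom hz, Scheme.Hom.appLE, Scheme.Hom.id_app]
    exact (Category.id_comp _).trans (X.presheaf.map_id _)
  rw [h2] at h
  exact (ConcreteCategory.congr_hom h u).symm

theorem zeta_basis (W : X.Opens) (e : Γ(L, (𝔸(n; X) ↘ X) ⁻¹ᵁ W))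
    (he : IsBasisOn L ((𝔸(n; X) ↘ X) ⁻¹ᵁ W) e) :
    IsBasisOn ((Scheme.Modules.pullback z).obj L) W (zeta X z hz L W e) :=
  (Groth.Agent.H67.PullBasis.isBasisOn_pullSect z L _ e he).mono (AffUnits.le_preimage X z hz W)

variable [IsReduced X] (τ : Γ((Scheme.Modules.pullback z).obj L, (⊤ : X.Opens)))

/-- a normalised basis of `L` over `p⁻¹ W` -/
def Good (W : X.Opens) (e : Γ(L, (𝔸(n; X) ↘ X) ⁻¹ᵁ W)) : Prop :=
  IsBasisOn L ((𝔸(n; X) ↘ X) ⁻¹ᵁ W) e ∧
    zeta X z hz L W e = mres ((Scheme.Modules.pullback z).obj L) le_top τ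

omit [IsReduced X] in
theorem Good.mono {W W' : X.Opens} (h : W' ≤ W) {e : Γ(L, (𝔸(n; X) ↘ X) ⁻¹ᵁ W)}
    (he : Good X z hz L τ W e) :
    Good X z hz L τ W' (mres L ((𝔸(n; X) ↘ X).preimage_mono h) e) := by
  refine ⟨he.1.mono _, ?_⟩
  rw [zeta_mres X z hz L h, he.2, mres_mres]

omit [IsReduced X] in
/-- normalising a basis -/
theorem exists_good_of_basis (hτ : IsBasisOn ((Scheme.Modules.pullback z).obj L) ⊤ τ)
    (W : X.Opens) (e₀ : Γ(L, (𝔸(n; X) ↘ X) ⁻¹ᵁ W))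
    (he₀ : IsBasisOn L ((𝔸(n; X) ↘ X) ⁻¹ᵁ W) e₀) :
    ∃ e, Good X z hz L τ W e := by
  have hτW : IsBasisOn ((Scheme.Modules.pullback z).obj L) W
      (mres ((Scheme.Modules.pullback z).obj L) le_top τ) := hτ.mono le_top
  have hζ := zeta_basis X z hz L W e₀ he₀
  set u := hτW.coord le_rfl (zeta X z hz L W e₀) with hu_def
  have hu : zeta X z hz L W e₀ = u • mres ((Scheme.Modules.pullback z).obj L) le_top τ := by
    have := hτW.coord_smul le_rfl (zeta X z hz L W e₀)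
    rw [mres_self] at this
    exact this.symm
  have huu : IsUnit u := by
    refine Groth.Agent.H54.BasisDescent.isUnit_of_isBasisOn_smul hτW u ?_
    rw [← hu]
    exact hζ
  obtain ⟨v, hv⟩ := huu
  refine ⟨(𝔸(n; X) ↘ X).app W ((↑v⁻¹ : Γ(X, W))) • e₀,
    Groth.Agent.H67.BasisLocal.isBasisOn_smul_of_isUnit he₀ _ ((Units.isUnit v⁻¹).map _), ?_⟩
  rw [zeta_smul, appLE_app X z hz, hu, ← hv, smul_smul, Units.inv_mul, one_smul]

/-- uniqueness of normalised bases -/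
theorem Good.unique (hτ : IsBasisOn ((Scheme.Modules.pullback z).obj L) ⊤ τ)
    {W : X.Opens} {e e' : Γ(L, (𝔸(n; X) ↘ X) ⁻¹ᵁ W)}
    (he : Good X z hz L τ W e) (he' : Good X z hz L τ W e') : e' = e := by
  have hτW : IsBasisOn ((Scheme.Modules.pullback z).obj L) W
      (mres ((Scheme.Modules.pullback z).obj L) le_top τ) := hτ.mono le_top
  set g := he.1.coord le_rfl e' with hg_def
  have hg : e' = g • e := by
    have := he.1.coord_smul le_rfl e'
    rw [mres_self] at this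
    exact this.symm
  have hgu : IsUnit g := by
    refine Groth.Agent.H54.BasisDescent.isUnit_of_isBasisOn_smul he.1 g ?_
    rw [← hg]
    exact he'.1
  have h1 : z.appLE ((𝔸(n; X) ↘ X) ⁻¹ᵁ W) W (AffUnits.le_preimage X z hz W) g = 1 := by
    have h2 := he'.2
    rw [hg, zeta_smul, he.2] at h2
    have h3 := (hτW W le_rfl).1
    apply h3
    simp only [mres_self, one_smul]
    exact h2
  have hg1 : g = 1 := AffUnits.eq_one_of_isUnit X z hz W g hgu h1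
  rw [hg, hg1, one_smul]

end Norm

section Main

set_option maxHeartbeats 1600000 in
/-- `Pic (𝔸ⁿ_X) = 0` for a reduced scheme `X` with `Pic X = 0` all of whose local rings `O_x`
satisfy `Pic (𝔸ⁿ_{O_x}) = 0`. -/
theorem picTrivial_affineSpace (X : Scheme.{u}) [IsReduced X] (n : Type u)
    (hX : ∀ L : X.Modules, PicF.IsInvertible L → Nonempty (L ≅ Coh.structureModule X))
    (hloc : ∀ x : X, ∀ L : (𝔸(n; Spec (X.presheaf.stalk x))).Modules, PicF.IsInvertible L →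
      Nonempty (L ≅ Coh.structureModule (𝔸(n; Spec (X.presheaf.stalk x))))) :
    ∀ L : (𝔸(n; X)).Modules, PicF.IsInvertible L →
      Nonempty (L ≅ Coh.structureModule (𝔸(n; X))) := by
  intro L hL
  let z : X ⟶ 𝔸(n; X) := homOfVector (𝟙 X) 0
  have hz : z ≫ 𝔸(n; X) ↘ X = 𝟙 X := homOfVector_over _ _
  have hM : PicF.IsInvertible ((Scheme.Modules.pullback z).obj L) :=
    Groth.Agent.H54.FiniteLocalPic.isInvertible_pullback z hL
  obtain ⟨ψ⟩ := hX _ hM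
  obtain ⟨τ, hτ⟩ := Groth.Agent.H54.BasisDescent.exists_isBasisOn_top_of_iso ψ
  have hex : ∀ x : X, ∃ (W : X.Opens) (e : Γ(L, (𝔸(n; X) ↘ X) ⁻¹ᵁ W)),
      x ∈ W ∧ Good X z hz L τ W e := by
    intro x
    have hpb := isPullback_map (n := n) (X.fromSpecStalk x)
    obtain ⟨W, e₀, hxW, he₀⟩ := Groth.Agent.H54.AffSpread.exists_basis_near (𝔸(n; X) ↘ X) x hpb
      L hL (hloc x _ (Groth.Agent.H54.FiniteLocalPic.isInvertible_pullback _ hL))
    obtain ⟨e, he⟩ := exists_good_of_basis X z hz L τ hτ W e₀ he₀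
    exact ⟨W, e, hxW, he⟩
  choose W e hxW he using hex
  obtain ⟨σ, hσ⟩ := exists_glue L (fun x => (𝔸(n; X) ↘ X) ⁻¹ᵁ W x) ⊤ (fun _ => le_top)
    (fun y _ => ⟨(𝔸(n; X) ↘ X) y, hxW _⟩) e (by
      intro x y
      have h1 := (he x).mono X z hz L τ (inf_le_left : W x ⊓ W y ≤ W x)
      have h2 := (he y).mono X z hz L τ (inf_le_right : W x ⊓ W y ≤ W y)
      exact Good.unique X z hz L τ hτ h2 h1)
  have hbasis : IsBasisOn L ⊤ σ := by
    refine Groth.Agent.H67.BasisLocal.isBasisOn_of_locally σ (fun y _ =>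
      ⟨(𝔸(n; X) ↘ X) ⁻¹ᵁ W ((𝔸(n; X) ↘ X) y), le_top, hxW _, ?_⟩)
    rw [hσ]
    exact (he _).1
  exact Groth.Agent.H54.BasisDescent.nonempty_iso_of_isBasisOn_top hbasis

end Main

end Groth.Agent.H54.AffPic
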