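import Groth.Agent.H54.GGNear
import Groth.Agent.H54.BasisDescent

set_option autoImplicit false
set_option linter.style.haveILetI false
universe u
open CategoryTheory CategoryTheory.Limits AlgebraicGeometry Scheme.Modules Opposite TopologicalSpace
  TensorProduct

namespace Groth.Agent.H54.AffSpread

open Groth.Agent.H44 Groth.Agent.H71.PushBC Groth.Agent.H18 Groth.Agent.H18.PUP
  Groth.Agent.H18.STL

section Claim
variable {X S X' S' : Scheme.{u}} {f : X ⟶ S} {g : S' ⟶ S} {g' : X' ⟶ X} {f' : X' ⟶ S'}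
  (w : g' ≫ f = f' ≫ g) (M : X.Modules) {V : S.Opens} {V' : S'.Opens} (e₁ : V' ≤ g ⁻¹ᵁ V)
  (W : X.Opens) (hW : W ≤ f ⁻¹ᵁ V)

include w in
/-- moving a scalar from the base across the comparison map -/
theorem smul_pullSectLE_eq (a : Γ(S, V)) :
    letI := algAB (g := g) e₁
    letI := modW (f := f) M W hW
    ∀ m : Γ(M, W),
    (f'.appLE V' (g' ⁻¹ᵁ W ⊓ f' ⁻¹ᵁ V') inf_le_right).hom ((g.appLE V V' e₁).hom a) •
      pullSectLE g' M W (g' ⁻¹ᵁ W ⊓ f' ⁻¹ᵁ V') inf_le_left m =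
      pullSectLE g' M W (g' ⁻¹ᵁ W ⊓ f' ⁻¹ᵁ V') inf_le_left (a • m) := by
  letI := algAB (g := g) e₁
  letI := modW (f := f) M W hW
  intro m
  have h1 : ((g.appLE V V' e₁).hom a) ⊗ₜ[Γ(S, V)] m = (1 : Γ(S', V')) ⊗ₜ[Γ(S, V)] (a • m) := by
    have : (g.appLE V V' e₁).hom a = a • (1 : Γ(S', V')) := by
      rw [Algebra.smul_def, mul_one]; rfl
    rw [this, TensorProduct.smul_tmul]
  have h2 := congrArg (cmap w M e₁ W hW) h1
  rw [cmap_tmul, cmap_tmul, map_one, one_smul] at h2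
  exact h2

/-- if the base ring of the target is a localisation of the base ring of the source, every element
of the tensor product is, up to a unit from the base, pulled back from `X` -/
theorem exists_smul_cmap_eq_pullSectLE
    (hloc : ∀ b' : Γ(S', V'), ∃ (a s : Γ(S, V)), IsUnit ((g.appLE V V' e₁).hom s) ∧
      (g.appLE V V' e₁).hom s * b' = (g.appLE V V' e₁).hom a) :
    letI := algAB (g := g) e₁
    letI := modW (f := f) M W hW
    ∀ t : Γ(S', V') ⊗[Γ(S, V)] Γ(M, W), ∃ (s : Γ(S, V)) (m : Γ(M, W)),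
      IsUnit ((g.appLE V V' e₁).hom s) ∧
      (f'.appLE V' (g' ⁻¹ᵁ W ⊓ f' ⁻¹ᵁ V') inf_le_right).hom ((g.appLE V V' e₁).hom s) •
        cmap w M e₁ W hW t = pullSectLE g' M W (g' ⁻¹ᵁ W ⊓ f' ⁻¹ᵁ V') inf_le_left m := by
  letI := algAB (g := g) e₁
  letI := modW (f := f) M W hW
  intro t
  induction t using TensorProduct.induction_on with
  | zero =>
    refine ⟨1, 0, by rw [map_one]; exact isUnit_one, ?_⟩
    rw [map_zero, smul_zero, pullSectLE_zero']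
  | tmul b' m =>
    obtain ⟨a, s, hs, hsb⟩ := hloc b'
    refine ⟨s, a • m, hs, ?_⟩
    rw [cmap_tmul, smul_smul, ← map_mul, hsb]
    exact smul_pullSectLE_eq w M e₁ W hW a m
  | add t₁ t₂ h₁ h₂ =>
    obtain ⟨s₁, m₁, hs₁, ht₁⟩ := h₁
    obtain ⟨s₂, m₂, hs₂, ht₂⟩ := h₂
    refine ⟨s₁ * s₂, s₂ • m₁ + s₁ • m₂, by rw [map_mul]; exact hs₁.mul hs₂, ?_⟩
    rw [map_add, smul_add, pullSectLE_add', ← smul_pullSectLE_eq w M e₁ W hW s₂ m₁,
      ← smul_pullSectLE_eq w M e₁ W hW s₁ m₂, ← ht₁, ← ht₂, smul_smul, smul_smul, ← map_mul,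
      ← map_mul, ← map_mul, ← map_mul, mul_comm s₂ s₁]

end Claim

/-- spreading out an open condition from the generisations of a point of the base -/
theorem exists_basicOpen_of_generizations {A B : Type*} [CommRing A] [CommRing B] (φ : A →+* B)
    (G : Set (PrimeSpectrum B)) (hG : IsOpen G) (𝔭 : PrimeSpectrum A)
    (h : ∀ Q : PrimeSpectrum B, Q.asIdeal.comap φ ≤ 𝔭.asIdeal → Q ∈ G) :
    ∃ s : A, s ∉ 𝔭.asIdeal ∧ ∀ Q : PrimeSpectrum B, φ s ∉ Q.asIdeal → Q ∈ G := by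
  set J : Ideal B := PrimeSpectrum.vanishingIdeal Gᶜ with hJ
  have hJz : PrimeSpectrum.zeroLocus (J : Set B) = Gᶜ := by
    rw [hJ, PrimeSpectrum.zeroLocus_vanishingIdeal_eq_closure, hG.isClosed_compl.closure_eq]
  by_cases hI : J.comap φ ≤ 𝔭.asIdeal
  · exfalso
    obtain ⟨q₀, hq₀, hq₀p⟩ := Ideal.exists_minimalPrimes_le hI
    obtain ⟨Q, hQ, hJQ, hQq⟩ := Ideal.exists_comap_eq_of_mem_minimalPrimes φ q₀ hq₀
    have h1 : (⟨Q, hQ⟩ : PrimeSpectrum B) ∈ G := h ⟨Q, hQ⟩ (by rw [hQq]; exact hq₀p)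
    have h2 : (⟨Q, hQ⟩ : PrimeSpectrum B) ∈ Gᶜ := by
      rw [← hJz]
      exact hJQ
    exact h2 h1
  · obtain ⟨s, hsJ, hsp⟩ := SetLike.not_le_iff_exists.mp hI
    refine ⟨s, hsp, fun Q hQ => ?_⟩
    by_contra hQG
    have h2 : Q ∈ PrimeSpectrum.zeroLocus (J : Set B) := by
      rw [hJz]; exact hQG
    exact hQ (h2 hsJ)

/-- scheme version: an open of `P` containing all points of the affine `p⁻¹ V₀` lying over
generisations of `x` contains `p⁻¹ D(s)` for some `s` with `x ∈ D(s)`. -/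
theorem exists_basicOpen_preimage_le {P X : Scheme.{u}} (p : P ⟶ X) {V₀ : X.Opens}
    (hV₀ : IsAffineOpen V₀) (hU : IsAffineOpen (p ⁻¹ᵁ V₀)) (G : P.Opens) (x : X) (hx : x ∈ V₀)
    (h : ∀ y ∈ p ⁻¹ᵁ V₀, p y ⤳ x → y ∈ G) :
    ∃ s : Γ(X, V₀), x ∈ X.basicOpen s ∧ p ⁻¹ᵁ (X.basicOpen s) ≤ G := by
  have hsq := IsAffineOpen.SpecMap_appLE_fromSpec p hV₀ hU le_rfl
  have hpt : ∀ Q : Spec Γ(P, p ⁻¹ᵁ V₀), p (hU.fromSpec Q) =
      hV₀.fromSpec (Spec.map (p.appLE V₀ (p ⁻¹ᵁ V₀) le_rfl) Q) := by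
    intro Q
    have := congrArg (fun ψ : Spec Γ(P, p ⁻¹ᵁ V₀) ⟶ X => ψ Q) hsq
    exact this.symm
  have hxp : hV₀.fromSpec (hV₀.primeIdealOf ⟨x, hx⟩) = x := hV₀.fromSpec_primeIdealOf ⟨x, hx⟩
  obtain ⟨s, hs, hsG⟩ := exists_basicOpen_of_generizations (p.appLE V₀ (p ⁻¹ᵁ V₀) le_rfl).hom
    (hU.fromSpec ⁻¹' (G : Set P)) (G.isOpen.preimage hU.fromSpec.continuous)
    (hV₀.primeIdealOf ⟨x, hx⟩) (by
      intro Q hQ
      change hU.fromSpec Q ∈ G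
      refine h _ ?_ ?_
      · have : hU.fromSpec Q ∈ Set.range hU.fromSpec := ⟨Q, rfl⟩
        rw [hU.range_fromSpec] at this
        exact this
      · rw [hpt, ← hxp]
        refine Specializes.map ?_ hV₀.fromSpec.continuous
        exact (PrimeSpectrum.le_iff_specializes
          (PrimeSpectrum.comap (p.appLE V₀ (p ⁻¹ᵁ V₀) le_rfl).hom Q)
          (hV₀.primeIdealOf ⟨x, hx⟩)).mp hQ)
  refine ⟨s, ?_, ?_⟩
  · have h1 : hV₀.primeIdealOf ⟨x, hx⟩ ∈ hV₀.fromSpec ⁻¹ᵁ X.basicOpen s := by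
      rw [hV₀.fromSpec_preimage_basicOpen]
      exact hs
    have h2 : hV₀.fromSpec (hV₀.primeIdealOf ⟨x, hx⟩) ∈ X.basicOpen s := h1
    rwa [hxp] at h2
  · intro y hy
    have hyU : y ∈ p ⁻¹ᵁ V₀ := X.basicOpen_le s hy
    have hyQ : hU.fromSpec (hU.primeIdealOf ⟨y, hyU⟩) = y := hU.fromSpec_primeIdealOf ⟨y, hyU⟩
    have h1 : hU.primeIdealOf ⟨y, hyU⟩ ∈ hU.fromSpec ⁻¹' (G : Set P) := by
      apply hsG
      have h2 : p (hU.fromSpec (hU.primeIdealOf ⟨y, hyU⟩)) ∈ X.basicOpen s := by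
        rw [hyQ]; exact hy
      rw [hpt] at h2
      have h3 : Spec.map (p.appLE V₀ (p ⁻¹ᵁ V₀) le_rfl) (hU.primeIdealOf ⟨y, hyU⟩) ∈
          hV₀.fromSpec ⁻¹ᵁ X.basicOpen s := h2
      rw [hV₀.fromSpec_preimage_basicOpen] at h3
      exact h3
    have h4 : hU.fromSpec (hU.primeIdealOf ⟨y, hyU⟩) ∈ G := h1
    rwa [hyQ] at h4

theorem isBasisOn_of_isGenAt {X : Scheme.{u}} {L : X.Modules} {W W' : X.Opens} (hW' : W' ≤ W)
    (m : Γ(L, W)) (h : ∀ y ∈ W', IsGenAt L m y) : IsBasisOn L W' (mres L hW' m) := by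
  refine Groth.Agent.H67.BasisLocal.isBasisOn_of_locally _ (fun y hy => ?_)
  obtain ⟨V, hV, hyV, hb⟩ := h y hy
  refine ⟨V ⊓ W', inf_le_right, ⟨hyV, hy⟩, ?_⟩
  have := hb.mono (inf_le_left : V ⊓ W' ≤ V)
  rw [mres_mres] at this ⊢
  exact this

theorem isGenAt_of_isBasisOn {X : Scheme.{u}} {L : X.Modules} {W : X.Opens}
    (m : Γ(L, W)) (h : IsBasisOn L W m) (y : X) (hy : y ∈ W) : IsGenAt L m y :=
  ⟨W, le_rfl, hy, by rw [mres_self]; exact h⟩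

/-- `Γ(Spec O_x, ⊤)` is a localisation of `Γ(X, V₀)`, in elementary form -/
theorem fromSpecStalk_loc {X : Scheme.{u}} {V₀ : X.Opens} (hV₀ : IsAffineOpen V₀) (x : X)
    (hx : x ∈ V₀)
    (e₁ : (⊤ : (Spec (X.presheaf.stalk x)).Opens) ≤ (X.fromSpecStalk x) ⁻¹ᵁ V₀)
    (b' : Γ(Spec (X.presheaf.stalk x), ⊤)) :
    ∃ a s : Γ(X, V₀), IsUnit (((X.fromSpecStalk x).appLE V₀ ⊤ e₁).hom s) ∧
      ((X.fromSpecStalk x).appLE V₀ ⊤ e₁).hom s * b' =
        ((X.fromSpecStalk x).appLE V₀ ⊤ e₁).hom a := by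
  have hφ : (X.fromSpecStalk x).appLE V₀ ⊤ e₁ =
      X.presheaf.germ V₀ x hx ≫ (Scheme.ΓSpecIso (X.presheaf.stalk x)).inv := by
    rw [Scheme.Hom.appLE, Scheme.fromSpecStalk_app hx, Category.assoc, Category.assoc,
      ← Functor.map_comp]
    have : (homOfLE (le_top : (X.fromSpecStalk x) ⁻¹ᵁ V₀ ≤ ⊤)).op ≫ (homOfLE e₁).op = 𝟙 _ :=
      Subsingleton.elim _ _
    rw [this, CategoryTheory.Functor.map_id, Category.comp_id]
  letI := X.presheaf.algebra_section_stalk ⟨x, hx⟩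
  haveI := hV₀.isLocalization_stalk ⟨x, hx⟩
  obtain ⟨⟨a, s⟩, h⟩ := IsLocalization.surj (hV₀.primeIdealOf ⟨x, hx⟩).asIdeal.primeCompl
    ((Scheme.ΓSpecIso (X.presheaf.stalk x)).hom b')
  have hu : IsUnit (algebraMap Γ(X, V₀) (X.presheaf.stalk x) s) :=
    IsLocalization.map_units _ s
  have hφa : ∀ r : Γ(X, V₀), ((X.fromSpecStalk x).appLE V₀ ⊤ e₁).hom r =
      (Scheme.ΓSpecIso (X.presheaf.stalk x)).inv (algebraMap Γ(X, V₀) (X.presheaf.stalk x) r) := by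
    intro r
    rw [hφ]
    rfl
  refine ⟨a, s, ?_, ?_⟩
  · rw [hφa]
    exact hu.map _
  · rw [hφa, hφa, ← h, map_mul, mul_comm]
    congr 1
    exact (ConcreteCategory.congr_hom (Scheme.ΓSpecIso (X.presheaf.stalk x)).hom_inv_id b').symm

set_option maxHeartbeats 1600000 in
/-- **Spreading out a trivialisation**: for an affine morphism `p : P ⟶ X` and an invertible module
`L` on `P` whose pullback to `P ×_X Spec O_{X,x}` is trivial, `L` has a basis over `p⁻¹ W` for some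
open neighbourhood `W` of `x`. -/
theorem exists_basis_near {P X P' : Scheme.{u}} (p : P ⟶ X) [IsAffineHom p] (x : X)
    {g' : P' ⟶ P} {f' : P' ⟶ Spec (X.presheaf.stalk x)}
    (hpb : IsPullback g' f' p (X.fromSpecStalk x))
    (L : P.Modules) (hL : PicF.IsInvertible L)
    (htriv : Nonempty ((Scheme.Modules.pullback g').obj L ≅ Coh.structureModule P')) :
    ∃ (W : X.Opens) (e : Γ(L, p ⁻¹ᵁ W)), x ∈ W ∧ IsBasisOn L (p ⁻¹ᵁ W) e := by
  haveI : L.IsQuasicoherent := isQuasicoherent_of_isInvertible hL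
  obtain ⟨_, ⟨V₀, hV₀, rfl⟩, hxV₀, -⟩ :=
    X.isBasis_affineOpens.exists_subset_of_mem_open (Set.mem_univ x) isOpen_univ
  have hxV₀' : x ∈ V₀ := hxV₀
  have hrange : ∀ q : Spec (X.presheaf.stalk x), X.fromSpecStalk x q ∈ V₀ := by
    intro q
    have h1 : X.fromSpecStalk x q ∈ Set.range (X.fromSpecStalk x) := ⟨q, rfl⟩
    rw [Scheme.range_fromSpecStalk] at h1
    exact (h1 : _ ⤳ x).mem_open V₀.isOpen hxV₀'
  have hgen : ∀ y : X, y ⤳ x → ∃ q, X.fromSpecStalk x q = y := by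
    intro y hy
    have : y ∈ Set.range (X.fromSpecStalk x) := by
      rw [Scheme.range_fromSpecStalk]; exact hy
    exact this
  have e₁ : (⊤ : (Spec (X.presheaf.stalk x)).Opens) ≤ (X.fromSpecStalk x) ⁻¹ᵁ V₀ :=
    fun q _ => hrange q
  have hloc := fromSpecStalk_loc hV₀ x hxV₀' e₁
  generalize X.fromSpecStalk x = g at hpb hrange hgen e₁ hloc
  have hU : IsAffineOpen (p ⁻¹ᵁ V₀) := hV₀.preimage p
  have hW : p ⁻¹ᵁ V₀ ≤ p ⁻¹ᵁ V₀ := le_rfl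
  letI algB := algAB (g := g) e₁
  letI modL := modW (f := p) L (p ⁻¹ᵁ V₀) hW
  have hc : Function.Bijective (cmap hpb.w L e₁ (p ⁻¹ᵁ V₀) hW) :=
    cmap_bijective_of_isAffineOpen L e₁ hpb hV₀ (isAffineOpen_top _) hU hW
  have hM' : PicF.IsInvertible ((Scheme.Modules.pullback g').obj L) :=
    Groth.Agent.H54.FiniteLocalPic.isInvertible_pullback g' hL
  have hW'mem : ∀ y' : P', y' ∈ g' ⁻¹ᵁ (p ⁻¹ᵁ V₀) ⊓ f' ⁻¹ᵁ ⊤ := by
    intro y'
    refine ⟨?_, trivial⟩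
    have h1 : p (g' y') = g (f' y') := congrArg (fun φ : P' ⟶ X => φ y') hpb.w
    change p (g' y') ∈ V₀
    rw [h1]
    exact hrange _
  -- a basis of the pullback
  obtain ⟨φ⟩ := htriv
  obtain ⟨e', he'⟩ := Groth.Agent.H54.BasisDescent.exists_isBasisOn_top_of_iso φ
  have he'' : IsBasisOn ((Scheme.Modules.pullback g').obj L) (g' ⁻¹ᵁ (p ⁻¹ᵁ V₀) ⊓ f' ⁻¹ᵁ ⊤)
      (mres _ le_top e') := he'.mono le_top
  obtain ⟨t, ht⟩ := hc.2 (mres _ le_top e')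
  obtain ⟨s, m, hs, hsm⟩ := exists_smul_cmap_eq_pullSectLE hpb.w L e₁ (p ⁻¹ᵁ V₀) hW hloc t
  rw [ht] at hsm
  have hbas : IsBasisOn ((Scheme.Modules.pullback g').obj L) (g' ⁻¹ᵁ (p ⁻¹ᵁ V₀) ⊓ f' ⁻¹ᵁ ⊤)
      (pullSectLE g' L (p ⁻¹ᵁ V₀) (g' ⁻¹ᵁ (p ⁻¹ᵁ V₀) ⊓ f' ⁻¹ᵁ ⊤) inf_le_left m) := by
    rw [← hsm]
    exact Groth.Agent.H67.BasisLocal.isBasisOn_smul_of_isUnit he'' _ (hs.map _)
  -- `m` generates `L` at all points over generisations of `x`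
  let G : P.Opens := ⟨{y : P | IsGenAt L m y}, by
    rw [isOpen_iff_forall_mem_open]
    rintro y ⟨V, hV, hyV, hb⟩
    exact ⟨V, fun z hz => ⟨V, hV, hz, hb⟩, V.isOpen, hyV⟩⟩
  have hG : ∀ y ∈ p ⁻¹ᵁ V₀, p y ⤳ x → y ∈ G := by
    intro y _ hyx
    obtain ⟨q, hq⟩ := hgen (p y) hyx
    obtain ⟨w, hw1, -⟩ := Scheme.Pullback.exists_preimage_pullback (f := p) (g := g) y q hq.symm
    have hy' : g' (hpb.isoPullback.inv w) = y := by
      rw [← hw1, ← Scheme.Hom.comp_apply, hpb.isoPullback_inv_fst]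
    have h1 := isGenAt_of_isBasisOn _ hbas (hpb.isoPullback.inv w) (hW'mem _)
    have h2 := Groth.Agent.H54.GGNear.isGenAt_of_pullSectLE g' L hL inf_le_left m (hW'mem _) h1
    rw [hy'] at h2
    exact h2
  obtain ⟨s', hxs', hle⟩ := exists_basicOpen_preimage_le p hV₀ hU G x hxV₀' hG
  have hWV : p ⁻¹ᵁ (X.basicOpen s') ≤ p ⁻¹ᵁ V₀ := fun y hy => X.basicOpen_le s' hy
  exact ⟨X.basicOpen s', mres L hWV m, hxs', isBasisOn_of_isGenAt hWV m (fun y hy => hle hy)⟩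

end Groth.Agent.H54.AffSpread
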