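import Mathlib

set_option autoImplicit false
universe u
open Module

namespace Groth.Agent.H54

section graded
variable {k R : Type*} [Field k] [CommRing R] [Algebra k R] (𝒜 : ℕ → Submodule k R)
  [GradedAlgebra 𝒜]

/-- If `T` is homogeneous of degree one and a nonzerodivisor modulo the homogeneous ideal `J`, a
homogeneous element of `J + (T - 1)` lies in `J`. -/
theorem mem_of_mem_sup_span_sub_one (J : Ideal R) (hJ : J.IsHomogeneous 𝒜) (T : R) (hT : T ∈ 𝒜 1)
    (hnzd : ∀ g, T * g ∈ J → g ∈ J) (d : ℕ) (F : R) (hF : F ∈ 𝒜 d)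
    (hFJ : F ∈ J ⊔ Ideal.span {T - 1}) : F ∈ J := by
  classical
  obtain ⟨j, hj, b, hb, rfl⟩ := Submodule.mem_sup.mp hFJ
  obtain ⟨G, rfl⟩ := Ideal.mem_span_singleton'.mp hb
  set g : ℕ → R := fun e => (DirectSum.decompose 𝒜 G e : R) with hg
  set jj : ℕ → R := fun e => (DirectSum.decompose 𝒜 j e : R) with hjj
  have hjjJ : ∀ e, jj e ∈ J := fun e => hJ e hj
  -- component formulas
  have hcomp0 : (DirectSum.decompose 𝒜 (j + G * (T - 1)) 0 : R) = jj 0 - g 0 := by
    rw [mul_sub, mul_one, DirectSum.decompose_add, DirectSum.decompose_sub, DirectSum.add_apply,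
      DirectSum.sub_apply, Submodule.coe_add, Submodule.coe_sub,
      DirectSum.coe_decompose_mul_of_right_mem_of_not_le 𝒜 hT (by norm_num)]
    simp only [hg, hjj]
    ring
  have hcomp : ∀ e, (DirectSum.decompose 𝒜 (j + G * (T - 1)) (e + 1) : R) =
      jj (e + 1) + g e * T - g (e + 1) := by
    intro e
    rw [mul_sub, mul_one, DirectSum.decompose_add, DirectSum.decompose_sub, DirectSum.add_apply,
      DirectSum.sub_apply, Submodule.coe_add, Submodule.coe_sub,
      DirectSum.coe_decompose_mul_of_right_mem_of_le 𝒜 hT (by omega : 1 ≤ e + 1)]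
    simp only [hg, hjj]
    rw [show e + 1 - 1 = e from rfl]
    ring
  have hcompF : ∀ e, e ≠ d → (DirectSum.decompose 𝒜 (j + G * (T - 1)) e : R) = 0 := by
    intro e he
    rw [DirectSum.decompose_of_mem 𝒜 hF, DirectSum.of_eq_of_ne _ _ _ he]
    rfl
  -- low degrees
  have hlow : ∀ e, e < d → g e ∈ J := by
    intro e
    induction e with
    | zero =>
      intro h0
      have h1 := hcompF 0 (by omega)
      rw [hcomp0] at h1
      have : g 0 = jj 0 := by linear_combination -h1
      rw [this]; exact hjjJ 0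
    | succ e ih =>
      intro he
      have h1 := hcompF (e + 1) (by omega)
      rw [hcomp] at h1
      have : g (e + 1) = jj (e + 1) + g e * T := by linear_combination -h1
      rw [this]
      exact J.add_mem (hjjJ _) (J.mul_mem_right _ (ih (by omega)))
  -- high degrees
  obtain ⟨M, hM⟩ : ∃ M, ∀ e, M ≤ e → g e = 0 := by
    refine ⟨(DirectSum.decompose 𝒜 G).support.sup id + 1, ?_⟩
    intro e he
    have : e ∉ (DirectSum.decompose 𝒜 G).support := by
      intro hmem
      have := Finset.le_sup (f := id) hmem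
      simp only [id] at this
      omega
    rw [DFinsupp.notMem_support_iff] at this
    simp [hg, this]
  have hhigh : ∀ m e, d ≤ e → M ≤ e + m → g e ∈ J := by
    intro m
    induction m with
    | zero =>
      intro e _ he
      rw [hM e (by omega)]
      exact J.zero_mem
    | succ m ih =>
      intro e hde he
      have h2 := ih (e + 1) (by omega) (by omega)
      have h1 := hcompF (e + 1) (by omega)
      rw [hcomp] at h1
      apply hnzd
      have : T * g e = g (e + 1) - jj (e + 1) := by linear_combination h1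
      rw [this]
      exact J.sub_mem h2 (hjjJ _)
  -- conclusion
  have hFd : (DirectSum.decompose 𝒜 (j + G * (T - 1)) d : R) = j + G * (T - 1) :=
    DirectSum.decompose_of_mem_same 𝒜 hF
  rw [← hFd]
  rcases Nat.eq_zero_or_pos d with hd0 | hdpos
  · subst hd0
    rw [hcomp0]
    exact J.sub_mem (hjjJ 0) (hhigh M 0 le_rfl (by omega))
  · obtain ⟨d', rfl⟩ : ∃ d', d = d' + 1 := ⟨d - 1, by omega⟩
    rw [hcomp]
    exact J.sub_mem (J.add_mem (hjjJ _) (J.mul_mem_right _ (hlow d' (by omega))))
      (hhigh M (d' + 1) le_rfl (by omega))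

/-- Dehomogenization: if the Hilbert function of `R/J` is eventually the constant `N` and `T` is a
degree one nonzerodivisor modulo `J`, then `R/(J + (T - 1))` has dimension `N`. -/
theorem finrank_quotient_sup_span_sub_one [∀ m, Module.Finite k (𝒜 m)] (J : Ideal R)
    (hJ : J.IsHomogeneous 𝒜) (T : R) (hT : T ∈ 𝒜 1)
    (hnzd : ∀ g, T * g ∈ J → g ∈ J) (N d₀ : ℕ)
    (hH : ∀ d, d₀ ≤ d → finrank k ↥(𝒜 d) = N + finrank k ↥(J.restrictScalars k ⊓ 𝒜 d)) :
    finrank k (R ⧸ (J ⊔ Ideal.span {T - 1})) = N := by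
  classical
  set J' := J ⊔ Ideal.span {T - 1} with hJ'
  set π : R →ₗ[k] R ⧸ J' := (Ideal.Quotient.mkₐ k J').toLinearMap with hπ
  have hπapp : ∀ x, π x = Ideal.Quotient.mk J' x := fun x => rfl
  set V : ℕ → Submodule k (R ⧸ J') := fun d => Submodule.map π (𝒜 d) with hV
  have hstep : ∀ d, V d ≤ V (d + 1) := by
    rintro d _ ⟨F, hF, rfl⟩
    refine ⟨T * F, ?_, ?_⟩
    · have := SetLike.mul_mem_graded hT hF
      rwa [add_comm] at this
    · rw [hπapp, hπapp, Ideal.Quotient.eq]
      have : T * F - F = F * (T - 1) := by ring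
      rw [this]
      exact Ideal.mem_sup_right (Ideal.mul_mem_left _ _ (Ideal.mem_span_singleton_self _))
  have hmono : Monotone V := monotone_nat_of_le_succ hstep
  have hcover : ∀ x : R ⧸ J', ∃ d, x ∈ V d := by
    intro x
    obtain ⟨F, rfl⟩ := Ideal.Quotient.mk_surjective x
    refine ⟨(DirectSum.decompose 𝒜 F).support.sup id, ?_⟩
    have hsum : Ideal.Quotient.mk J' F =
        ∑ i ∈ (DirectSum.decompose 𝒜 F).support, π (DirectSum.decompose 𝒜 F i : R) := by
      rw [← map_sum, DirectSum.sum_support_decompose 𝒜 F]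
      rfl
    rw [hsum]
    refine Submodule.sum_mem _ fun i hi => ?_
    apply hmono (Finset.le_sup (f := id) hi)
    exact ⟨_, SetLike.coe_mem _, rfl⟩
  have hker : ∀ d (F : R), F ∈ 𝒜 d → (π F = 0 ↔ F ∈ J) := by
    intro d F hF
    rw [hπapp, Ideal.Quotient.eq_zero_iff_mem]
    exact ⟨mem_of_mem_sup_span_sub_one 𝒜 J hJ T hT hnzd d F hF, fun h => Ideal.mem_sup_left h⟩
  have hfin : ∀ d, d₀ ≤ d → finrank k ↥(V d) = N := by
    intro d hd
    have h1 := LinearMap.finrank_range_add_finrank_ker (π.domRestrict (𝒜 d))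
    have hrange : LinearMap.range (π.domRestrict (𝒜 d)) = V d := by
      rw [LinearMap.range_domRestrict]
    have hkereq : LinearMap.ker (π.domRestrict (𝒜 d)) =
        Submodule.comap (𝒜 d).subtype (J.restrictScalars k ⊓ 𝒜 d) := by
      ext x
      simp only [LinearMap.mem_ker, LinearMap.domRestrict_apply, Submodule.mem_comap,
        Submodule.subtype_apply, Submodule.mem_inf, Submodule.restrictScalars_mem]
      rw [hker d x.1 x.2]
      exact ⟨fun h => ⟨h, x.2⟩, fun h => h.1⟩
    rw [hrange, hkereq,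
      (Submodule.comapSubtypeEquivOfLe (inf_le_right : J.restrictScalars k ⊓ 𝒜 d ≤ 𝒜 d)).finrank_eq,
      hH d hd] at h1
    omega
  have heq : ∀ d, d₀ ≤ d → V d₀ = V d := by
    intro d hd
    exact Submodule.eq_of_le_of_finrank_eq (hmono hd) ((hfin d₀ le_rfl).trans (hfin d hd).symm)
  have htop : V d₀ = ⊤ := by
    rw [eq_top_iff]
    intro x _
    obtain ⟨d, hd⟩ := hcover x
    rcases le_total d d₀ with h | h
    · exact hmono h hd
    · rw [heq d h]; exact hd
  rw [← finrank_top k (R ⧸ J'), ← htop]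
  exact hfin d₀ le_rfl

end graded

end Groth.Agent.H54
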