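import Mathlib
import Groth.Agent.H54.HilbertSection

set_option autoImplicit false
universe u
open Module

namespace Groth.Agent.H54

theorem finrank_homogeneousSubmodule (σ : Type*) [Fintype σ] [DecidableEq σ] (k : Type*) [Field k] (n : ℕ) :
    finrank k ↥(MvPolynomial.homogeneousSubmodule σ k n) = (Fintype.card σ + n - 1).choose n := by
  classical
  rw [MvPolynomial.homogeneousSubmodule_eq_finsupp_supported]
  rw [(AddMonoidAlgebra.supportedEquivFinsupp (R := k) (S := k) {d : σ →₀ ℕ | d.degree = n}).finrank_eq]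
  have hmem : ∀ d : σ →₀ ℕ, d ∈ (Finset.univ.finsuppAntidiag n : Finset (σ →₀ ℕ)) ↔
      d ∈ {d : σ →₀ ℕ | d.degree = n} := by
    intro d
    simp only [Finset.mem_finsuppAntidiag, Finset.subset_univ, and_true, Set.mem_ofPred_eq,
      Finsupp.degree_eq_sum]
  let _ : Fintype ↥{d : σ →₀ ℕ | d.degree = n} := Fintype.subtype _ hmem
  rw [Module.finrank_finsupp_self, Fintype.card_of_subtype _ hmem,
    Finset.card_finsuppAntidiag_nat_eq_choose, Finset.card_univ]

theorem finrank_homogeneousSubmodule_three (k : Type*) [Field k] (j : ℕ) :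
    (finrank k ↥(MvPolynomial.homogeneousSubmodule (Fin 3) k j) : ℚ) = ((j : ℚ) + 2) * ((j : ℚ) + 1) / 2 := by
  rw [finrank_homogeneousSubmodule, Fintype.card_fin]
  have h1 : (3 + j - 1).choose j = (j + 2).choose 2 := by
    have : 3 + j - 1 = j + 2 := by omega
    rw [this, Nat.choose_symm_add]
  rw [h1, Nat.cast_choose_two]
  push_cast
  ring

section ci
variable (k : Type u) [Field k]

attribute [local instance] MvPolynomial.gradedAlgebra

local notation "S" => MvPolynomial (Fin 3) k
local notation "𝒮" => MvPolynomial.homogeneousSubmodule (Fin 3) k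

instance (m : ℕ) : Module.Finite k ↥(𝒮 m) :=
  Module.Finite.iff_fg.mpr (MvPolynomial.homogeneousSubmodule_fg (Fin 3) k m)

/-- Hilbert function of a complete intersection of two plane curves in large degrees. -/
theorem finrank_quotient_ci (n m d : ℕ)
    (f g : S) (hf : f.IsHomogeneous n) (hg : g.IsHomogeneous m)
    (hf0 : f ≠ 0) (hg0 : g ≠ 0) (hfg : IsRelPrime f g) (hd : n + m ≤ d) :
    finrank k (↥(𝒮 d) ⧸ Submodule.comap (𝒮 d).subtype
      ((Ideal.span ({f, g} : Set S)).restrictScalars k)) = n * m := by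
  classical
  have hfmem : f ∈ 𝒮 n := (MvPolynomial.mem_homogeneousSubmodule n f).mpr hf
  have hgmem : g ∈ 𝒮 m := (MvPolynomial.mem_homogeneousSubmodule m g).mpr hg
  have hinjf : Function.Injective (LinearMap.mulLeft k f) := by
    intro a b hab
    exact mul_left_cancel₀ hf0 (by simpa using hab)
  have hinjg : Function.Injective (LinearMap.mulLeft k g) := by
    intro a b hab
    exact mul_left_cancel₀ hg0 (by simpa using hab)
  -- pieces of the zero ideal
  have hbot : ∀ j, finrank k ↥((⊥ : Ideal S).restrictScalars k ⊓ 𝒮 j) = 0 := by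
    intro j
    have : (⊥ : Ideal S).restrictScalars k ⊓ 𝒮 j = ⊥ := by
      rw [eq_bot_iff]
      rintro x ⟨hx, -⟩
      exact hx
    rw [this]
    exact finrank_bot k S
  -- pieces of `(f)`
  have hpf : ∀ j, n ≤ j → finrank k ↥((Ideal.span ({f} : Set S)).restrictScalars k ⊓ 𝒮 j) =
      finrank k ↥(𝒮 (j - n)) := by
    intro j hj
    have h1 := finrank_piece_sup_span_singleton 𝒮 (⊥ : Ideal S) (Ideal.IsHomogeneous.bot 𝒮) f n hfmem
      (fun g hg => by
        rw [Ideal.mem_bot] at hg ⊢
        exact (mul_eq_zero.mp hg).resolve_left hf0) hinjf j hj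
    rw [bot_sup_eq, hbot, hbot] at h1
    simpa using h1
  -- pieces of `(f, g)`
  have hspan : Ideal.span ({f, g} : Set S) = Ideal.span {f} ⊔ Ideal.span {g} := by
    rw [Ideal.span_insert]
  have hfhom : (Ideal.span ({f} : Set S)).IsHomogeneous 𝒮 := by
    apply Ideal.homogeneous_span
    rintro _ rfl
    exact ⟨n, hfmem⟩
  have hnzd : ∀ h, g * h ∈ Ideal.span ({f} : Set S) → h ∈ Ideal.span ({f} : Set S) := by
    intro h hh
    rw [Ideal.mem_span_singleton] at hh ⊢
    exact hfg.dvd_of_dvd_mul_left hh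
  have h2 := finrank_piece_sup_span_singleton 𝒮 (Ideal.span ({f} : Set S)) hfhom g m hgmem hnzd hinjg d
    (by omega)
  rw [← hspan, hpf d (by omega), hpf (d - m) (by omega)] at h2
  -- the quotient
  set J := (Ideal.span ({f, g} : Set S)).restrictScalars k with hJ
  have h3 := Submodule.finrank_quotient_add_finrank (Submodule.comap (𝒮 d).subtype J)
  have h4 : finrank k ↥(Submodule.comap (𝒮 d).subtype J) = finrank k ↥(J ⊓ 𝒮 d) := by
    have : Submodule.comap (𝒮 d).subtype J = Submodule.comap (𝒮 d).subtype (J ⊓ 𝒮 d) := by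
      ext x
      simp
    rw [this]
    exact (Submodule.comapSubtypeEquivOfLe (inf_le_right : J ⊓ 𝒮 d ≤ 𝒮 d)).finrank_eq
  rw [h4] at h3
  -- arithmetic
  obtain ⟨a, rfl⟩ : ∃ a, d = a + n + m := ⟨d - n - m, by omega⟩
  have e1 : a + n + m - n = a + m := by omega
  have e2 : a + n + m - m = a + n := by omega
  have e3 : a + n - n = a := by omega
  rw [e1, e2, e3] at h2
  have h2' : (finrank k ↥(J ⊓ 𝒮 (a + n + m)) : ℚ) + finrank k ↥(𝒮 a) =
      finrank k ↥(𝒮 (a + m)) + finrank k ↥(𝒮 (a + n)) := by exact_mod_cast h2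
  have h3' : (finrank k (↥(𝒮 (a + n + m)) ⧸ Submodule.comap (𝒮 (a + n + m)).subtype J) : ℚ) +
      finrank k ↥(J ⊓ 𝒮 (a + n + m)) = finrank k ↥(𝒮 (a + n + m)) := by exact_mod_cast h3
  rw [finrank_homogeneousSubmodule_three, finrank_homogeneousSubmodule_three,
    finrank_homogeneousSubmodule_three] at h2'
  rw [finrank_homogeneousSubmodule_three] at h3'
  have : (finrank k (↥(𝒮 (a + n + m)) ⧸ Submodule.comap (𝒮 (a + n + m)).subtype J) : ℚ) =
      ((n * m : ℕ) : ℚ) := by
    push_cast at h2' h3' ⊢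
    linarith
  exact_mod_cast this

end ci

end Groth.Agent.H54
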