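import Mathlib
import Groth.Agent.H54.HilbertCI
import Groth.Agent.H54.Dehomogenize

set_option autoImplicit false
universe u
open Module

namespace Groth.Agent.H54

section affinecount
variable (k : Type u) [Field k]

attribute [local instance] MvPolynomial.gradedAlgebra

local notation "S" => MvPolynomial (Fin 3) k
local notation "B" => MvPolynomial (Fin 2) k
local notation "𝒮" => MvPolynomial.homogeneousSubmodule (Fin 3) k

/-- substitution `X₂ ↦ c` -/
noncomputable def evLast (c : B) : S →ₐ[k] B :=
  MvPolynomial.aeval (Fin.cons (MvPolynomial.X 0) (Fin.cons (MvPolynomial.X 1)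
    (Fin.cons c Fin.elim0)) : Fin 3 → B)

/-- inclusion of the polynomial ring in the first two variables -/
noncomputable def inclB : B →ₐ[k] S := MvPolynomial.rename Fin.castSucc

theorem evLast_inclB (c : B) (p : B) : evLast k c (inclB k p) = p := by
  unfold evLast inclB
  rw [MvPolynomial.aeval_rename]
  have : ((Fin.cons (MvPolynomial.X 0) (Fin.cons (MvPolynomial.X 1)
      (Fin.cons c Fin.elim0)) : Fin 3 → B) ∘ Fin.castSucc) = MvPolynomial.X := by
    funext i
    fin_cases i <;> rfl
  rw [this, MvPolynomial.aeval_X_left, AlgHom.id_apply]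

theorem evLast_X_two (c : B) : evLast k c (MvPolynomial.X 2) = c := by
  unfold evLast
  rw [MvPolynomial.aeval_X]
  rfl

theorem sub_inclB_evLast_mem (c : B) (F : S) :
    F - inclB k (evLast k c F) ∈ Ideal.span ({MvPolynomial.X 2 - inclB k c} : Set S) := by
  induction F using MvPolynomial.induction_on with
  | C a =>
    have : inclB k (evLast k c (MvPolynomial.C a)) = MvPolynomial.C a := by
      simp [evLast, inclB]
    rw [this, sub_self]
    exact Ideal.zero_mem _
  | add p q hp hq =>
    have : p + q - inclB k (evLast k c (p + q)) =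
        (p - inclB k (evLast k c p)) + (q - inclB k (evLast k c q)) := by
      rw [map_add, map_add]; ring
    rw [this]
    exact Ideal.add_mem _ hp hq
  | mul_X p i hp =>
    have hX : MvPolynomial.X i - inclB k (evLast k c (MvPolynomial.X i)) ∈
        Ideal.span ({MvPolynomial.X 2 - inclB k c} : Set S) := by
      fin_cases i
      · have : inclB k (evLast k c (MvPolynomial.X 0)) = MvPolynomial.X 0 := by
          simp [evLast, inclB]
        simp only [Fin.zero_eta, Fin.isValue]
        rw [this, sub_self]; exact Ideal.zero_mem _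
      · have : inclB k (evLast k c (MvPolynomial.X 1)) = MvPolynomial.X 1 := by
          simp [evLast, inclB]
        simp only [Fin.mk_one, Fin.isValue]
        rw [this, sub_self]; exact Ideal.zero_mem _
      · simp only [Fin.reduceFinMk, Fin.isValue]
        rw [evLast_X_two]
        exact Ideal.mem_span_singleton_self _
    have : p * MvPolynomial.X i - inclB k (evLast k c (p * MvPolynomial.X i)) =
        (p - inclB k (evLast k c p)) * MvPolynomial.X i +
          inclB k (evLast k c p) * (MvPolynomial.X i - inclB k (evLast k c (MvPolynomial.X i))) := by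
      rw [map_mul, map_mul]; ring
    rw [this]
    exact Ideal.add_mem _ (Ideal.mul_mem_right _ _ hp) (Ideal.mul_mem_left _ _ hX)

theorem mem_span_of_evLast_eq_zero (c : B) (F : S) (hF : evLast k c F = 0) :
    F ∈ Ideal.span ({MvPolynomial.X 2 - inclB k c} : Set S) := by
  have := sub_inclB_evLast_mem k c F
  rwa [hF, map_zero, sub_zero] at this

/-- `X₂` is a nonzerodivisor modulo `(f, g)` if `f(X,Y,0)` and `g(X,Y,0)` are coprime. -/
theorem X_two_nzd (m : ℕ) (f g : S) (hg : g.IsHomogeneous m) (hm : 0 < m)
    (hT : IsRelPrime (evLast k 0 f) (evLast k 0 g)) (h : S)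
    (hh : MvPolynomial.X 2 * h ∈ Ideal.span ({f, g} : Set S)) :
    h ∈ Ideal.span ({f, g} : Set S) := by
  classical
  obtain ⟨a, b, hab⟩ := Ideal.mem_span_pair.mp hh
  set f0 := evLast k 0 f with hf0
  set g0 := evLast k 0 g with hg0
  set a0 := evLast k 0 a with ha0
  set b0 := evLast k 0 b with hb0
  have h0 : a0 * f0 + b0 * g0 = 0 := by
    have := congrArg (evLast k 0) hab
    rw [map_add, map_mul, map_mul, map_mul, evLast_X_two, zero_mul] at this
    exact this
  -- `f0 ≠ 0`
  have hf0ne : f0 ≠ 0 := by
    intro hzero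
    rw [hzero, isRelPrime_zero_left] at hT
    have hg0hom : g0.IsHomogeneous (1 * m) := by
      apply hg.aeval
      intro i
      fin_cases i
      · exact MvPolynomial.isHomogeneous_X k 0
      · exact MvPolynomial.isHomogeneous_X k 1
      · exact MvPolynomial.isHomogeneous_zero _ _ _
    have hg0ne : g0 ≠ 0 := hT.ne_zero
    have h1 : g0.totalDegree = 1 * m := hg0hom.totalDegree hg0ne
    have h2 := (MvPolynomial.isUnit_iff_totalDegree_of_isReduced.mp hT).2
    omega
  have hdvd : f0 ∣ b0 * g0 := ⟨-a0, by linear_combination h0⟩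
  obtain ⟨c, hc⟩ := hT.dvd_of_dvd_mul_right hdvd
  have hac : a0 + c * g0 = 0 := by
    have : f0 * (a0 + c * g0) = 0 := by rw [hc] at h0; linear_combination h0
    exact (mul_eq_zero.mp this).resolve_left hf0ne
  set C := inclB k c with hC
  have hspan0 : Ideal.span ({MvPolynomial.X 2 - inclB k 0} : Set S) = Ideal.span {MvPolynomial.X 2} := by
    rw [map_zero, sub_zero]
  obtain ⟨b', hb'⟩ : ∃ b', b - C * f = MvPolynomial.X 2 * b' := by
    have := mem_span_of_evLast_eq_zero k 0 (b - C * f) (by
      rw [map_sub, map_mul, hC, evLast_inclB, ← hb0, ← hf0, hc]; ring)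
    rw [hspan0, Ideal.mem_span_singleton] at this
    exact this
  obtain ⟨a', ha'⟩ : ∃ a', a + C * g = MvPolynomial.X 2 * a' := by
    have := mem_span_of_evLast_eq_zero k 0 (a + C * g) (by
      rw [map_add, map_mul, hC, evLast_inclB, ← ha0, ← hg0]; exact hac)
    rw [hspan0, Ideal.mem_span_singleton] at this
    exact this
  have hfinal : (MvPolynomial.X 2 : S) * h = MvPolynomial.X 2 * (a' * f + b' * g) := by
    rw [← hab]
    linear_combination f * ha' + g * hb'
  have hX2 : (MvPolynomial.X 2 : S) ≠ 0 := MvPolynomial.X_ne_zero _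
  rw [mul_left_cancel₀ hX2 hfinal]
  exact Ideal.mem_span_pair.mpr ⟨a', b', rfl⟩

/-- Affine Bézout count. -/
theorem finrank_quotient_affine (n m : ℕ)
    (f g : S) (hf : f.IsHomogeneous n) (hg : g.IsHomogeneous m)
    (hm : 0 < m) (hf0 : f ≠ 0) (hg0 : g ≠ 0) (hfg : IsRelPrime f g)
    (hT : IsRelPrime (evLast k 0 f) (evLast k 0 g)) :
    finrank k (B ⧸ Ideal.span ({evLast k 1 f, evLast k 1 g} : Set B)) = n * m := by
  classical
  set J : Ideal S := Ideal.span ({f, g} : Set S) with hJ
  set I' : Ideal B := Ideal.span ({evLast k 1 f, evLast k 1 g} : Set B) with hI'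
  have hJhom : J.IsHomogeneous 𝒮 := by
    apply Ideal.homogeneous_span
    rintro x (rfl | rfl)
    · exact ⟨n, (MvPolynomial.mem_homogeneousSubmodule n _).mpr hf⟩
    · exact ⟨m, (MvPolynomial.mem_homogeneousSubmodule m _).mpr hg⟩
  have hXmem : (MvPolynomial.X 2 : S) ∈ 𝒮 1 :=
    (MvPolynomial.mem_homogeneousSubmodule 1 _).mpr (MvPolynomial.isHomogeneous_X k 2)
  have hH : ∀ d, n + m ≤ d → finrank k ↥(𝒮 d) = n * m + finrank k ↥(J.restrictScalars k ⊓ 𝒮 d) := by
    intro d hd
    have h1 := finrank_quotient_ci k n m d f g hf hg hf0 hg0 hfg hd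
    have h3 := Submodule.finrank_quotient_add_finrank
      (Submodule.comap (𝒮 d).subtype (J.restrictScalars k))
    have h4 : finrank k ↥(Submodule.comap (𝒮 d).subtype (J.restrictScalars k)) =
        finrank k ↥(J.restrictScalars k ⊓ 𝒮 d) := by
      have : Submodule.comap (𝒮 d).subtype (J.restrictScalars k) =
          Submodule.comap (𝒮 d).subtype (J.restrictScalars k ⊓ 𝒮 d) := by
        ext x
        simp
      rw [this]
      exact (Submodule.comapSubtypeEquivOfLe
        (inf_le_right : J.restrictScalars k ⊓ 𝒮 d ≤ 𝒮 d)).finrank_eq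
    rw [h4, h1] at h3
    exact h3.symm
  have hmain := finrank_quotient_sup_span_sub_one 𝒮 J hJhom (MvPolynomial.X 2) hXmem
    (X_two_nzd k m f g hg hm hT) (n * m) (n + m) hH
  -- transfer
  let φ : S →ₐ[k] B ⧸ I' := (Ideal.Quotient.mkₐ k I').comp (evLast k 1)
  have hφsurj : Function.Surjective φ := by
    intro x
    obtain ⟨p, rfl⟩ := Ideal.Quotient.mk_surjective x
    exact ⟨inclB k p, by simp [φ, evLast_inclB]⟩
  have hkerφ : RingHom.ker φ.toRingHom = J ⊔ Ideal.span {MvPolynomial.X 2 - 1} := by
    apply le_antisymm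
    · intro F hF
      have hF' : evLast k 1 F ∈ I' := by
        have : Ideal.Quotient.mk I' (evLast k 1 F) = 0 := hF
        exact Ideal.Quotient.eq_zero_iff_mem.mp this
      obtain ⟨u, v, huv⟩ := Ideal.mem_span_pair.mp hF'
      set F' := inclB k u * f + inclB k v * g with hF'def
      have hF'J : F' ∈ J := Ideal.mem_span_pair.mpr ⟨_, _, rfl⟩
      have hev : evLast k 1 (F - F') = 0 := by
        rw [map_sub, hF'def, map_add, map_mul, map_mul, evLast_inclB, evLast_inclB, huv, sub_self]
      have hmem := mem_span_of_evLast_eq_zero k 1 (F - F') hev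
      rw [map_one] at hmem
      have : F = F' + (F - F') := by ring
      rw [this]
      exact Ideal.add_mem _ (Ideal.mem_sup_left hF'J) (Ideal.mem_sup_right hmem)
    · apply sup_le
      · rw [hJ, Ideal.span_le]
        rintro x (rfl | rfl)
        · change Ideal.Quotient.mk I' (evLast k 1 x) = 0
          exact Ideal.Quotient.eq_zero_iff_mem.mpr (Ideal.subset_span (Set.mem_insert _ _))
        · change Ideal.Quotient.mk I' (evLast k 1 x) = 0
          exact Ideal.Quotient.eq_zero_iff_mem.mpr
            (Ideal.subset_span (Set.mem_insert_of_mem _ rfl))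
      · rw [Ideal.span_singleton_le_iff_mem]
        change Ideal.Quotient.mk I' (evLast k 1 (MvPolynomial.X 2 - 1)) = 0
        rw [map_sub, evLast_X_two, map_one, sub_self, map_zero]
  have e1 := Ideal.quotientKerAlgEquivOfSurjective hφsurj
  have e2 := Ideal.quotientEquivAlgOfEq k hkerφ
  rw [← hmain]
  exact (e1.symm.trans e2).toLinearEquiv.finrank_eq

end affinecount

end Groth.Agent.H54
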