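import Mathlib

set_option autoImplicit false
universe u
open AlgebraicGeometry CategoryTheory

namespace Groth.Agent.H54

theorem localSubring_range_le_range_of_comp {R R' K : Type*} [CommRing R] [IsLocalRing R]
    [CommRing R'] [IsLocalRing R'] [Field K]
    (α : R →+* K) (ψ : R' →+* K) (hψ : Function.Injective ψ) (θ : R →+* R') [IsLocalHom θ]
    (h : ψ.comp θ = α) : LocalSubring.range α ≤ LocalSubring.range ψ := by
  have hle : (LocalSubring.range α).toSubring ≤ (LocalSubring.range ψ).toSubring := by
    rintro _ ⟨r, rfl⟩
    exact ⟨θ r, by rw [← h]; rfl⟩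
  refine ⟨hle, ⟨?_⟩⟩
  rintro ⟨_, r, rfl⟩ hu
  obtain ⟨⟨_, t, rfl⟩, hb⟩ := isUnit_iff_exists_inv.mp hu
  have h1 : α r * ψ t = 1 := congrArg Subtype.val hb
  have h2 : ψ (θ r * t) = ψ 1 := by
    rw [map_mul, map_one, ← h1, ← h]
    rfl
  have h3 : θ r * t = 1 := hψ h2
  have h4 : IsUnit (θ r) := isUnit_iff_exists_inv.mpr ⟨t, h3⟩
  have h5 : IsUnit r := (isUnit_map_iff θ r).mp h4
  exact h5.map (α.rangeRestrict)

/-- Extending an injective map to a field to the localization at a prime. -/
theorem exists_lift_localization_atPrime {C K : Type*} [CommRing C] [Field K]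
    (φ : C →+* K) (hφ : Function.Injective φ) (P : Ideal C) [P.IsPrime] :
    ∃ (ψ : Localization.AtPrime P →+* K), Function.Injective ψ ∧
      ψ.comp (algebraMap C (Localization.AtPrime P)) = φ := by
  have hunits : ∀ s : P.primeCompl, IsUnit (φ s) := by
    intro s
    rw [isUnit_iff_ne_zero]
    intro h0
    have : (s : C) = 0 := hφ (by rw [h0, map_zero])
    exact s.2 (this ▸ P.zero_mem)
  let ψ : Localization.AtPrime P →+* K := IsLocalization.lift (M := P.primeCompl) hunits
  have hψφ : ψ.comp (algebraMap C (Localization.AtPrime P)) = φ := IsLocalization.lift_comp hunits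
  have hψinj : Function.Injective ψ := by
    rw [injective_iff_map_eq_zero]
    intro z hz
    obtain ⟨c, s, rfl⟩ := IsLocalization.exists_mk'_eq P.primeCompl z
    rw [IsLocalization.lift_mk'_spec, mul_zero] at hz
    have h1 : φ c = 0 := hz
    have : c = 0 := hφ (by rw [h1, map_zero])
    rw [this, IsLocalization.mk'_zero]
  exact ⟨ψ, hψinj, hψφ⟩

/-- The algebraic core: domination of a localization of `A` by a localization of `C`. -/
theorem localSubring_range_le_of_isLocalization {A C K O : Type*} [CommRing A] [CommRing C] [Field K]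
    [CommRing O] [Algebra A O] (γ : A →+* C) (φ : C →+* K)
    (P : Ideal C) [P.IsPrime] (p : Ideal A) [hpp : p.IsPrime] (hp : p = P.comap γ)
    [IsLocalization.AtPrime O p] [IsLocalRing O]
    (α : O →+* K) (hα : α.comp (algebraMap A O) = φ.comp γ)
    (ψ : Localization.AtPrime P →+* K) (hψinj : Function.Injective ψ)
    (hψφ : ψ.comp (algebraMap C (Localization.AtPrime P)) = φ) :
    LocalSubring.range α ≤ LocalSubring.range ψ := by
  subst hp
  -- the map θ
  have hunits' : ∀ s : (P.comap γ).primeCompl,
      IsUnit ((algebraMap C (Localization.AtPrime P)).comp γ s) := by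
    intro s
    apply IsLocalization.map_units (Localization.AtPrime P) (⟨γ s, ?_⟩ : P.primeCompl)
    intro hs
    exact s.2 hs
  let θ : O →+* Localization.AtPrime P := IsLocalization.lift (M := (P.comap γ).primeCompl) hunits'
  have hθ : θ.comp (algebraMap A O) = (algebraMap C (Localization.AtPrime P)).comp γ :=
    IsLocalization.lift_comp hunits'
  have hcomp : ψ.comp θ = α := by
    apply IsLocalization.ringHom_ext (P.comap γ).primeCompl
    rw [RingHom.comp_assoc, hθ, ← RingHom.comp_assoc, hψφ, hα]
  have hlocal : IsLocalHom θ := by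
    constructor
    intro o ho
    obtain ⟨a, s, rfl⟩ := IsLocalization.exists_mk'_eq (P.comap γ).primeCompl o
    have h1 : θ (IsLocalization.mk' O a s) * (algebraMap C (Localization.AtPrime P)) (γ s) =
        (algebraMap C (Localization.AtPrime P)) (γ a) := by
      have := congrArg θ (IsLocalization.mk'_spec O a s)
      rw [map_mul] at this
      have h2 : θ (algebraMap A O s) = (algebraMap C (Localization.AtPrime P)) (γ s) :=
        RingHom.congr_fun hθ (s : A)
      have h3 : θ (algebraMap A O a) = (algebraMap C (Localization.AtPrime P)) (γ a) :=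
        RingHom.congr_fun hθ a
      rw [h2, h3] at this
      exact this
    have h4 : IsUnit ((algebraMap C (Localization.AtPrime P)) (γ a)) := by
      rw [← h1]
      exact ho.mul (hunits' s)
    have h5 : γ a ∉ P := by
      intro hmem
      have := (IsLocalization.AtPrime.isUnit_to_map_iff (Localization.AtPrime P) P (γ a)).mp h4
      exact this hmem
    have h6 : a ∈ (P.comap γ).primeCompl := by
      intro hmem
      exact h5 hmem
    have h7 : IsUnit (algebraMap A O a) :=
      IsLocalization.map_units O (⟨a, h6⟩ : (P.comap γ).primeCompl)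
    have h8 := IsLocalization.mk'_spec O a s
    have h9 : IsUnit (IsLocalization.mk' O a s * algebraMap A O s) := by rw [h8]; exact h7
    exact isUnit_of_mul_isUnit_left h9
  exact localSubring_range_le_range_of_comp α ψ hψinj θ hcomp

end Groth.Agent.H54
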