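import Mathlib
import Groth.Agent.H54.AlliedAlg

set_option autoImplicit false
universe u
open AlgebraicGeometry CategoryTheory TopologicalSpace Opposite

namespace Groth.Agent.H54

section allied
variable (X : Scheme.{u}) [IsIntegral X]

/-- The condition that allied local rings coincide. -/
def AlliedCond : Prop :=
  ∀ (x y : X) (Q : LocalSubring X.functionField),
      LocalSubring.range (algebraMap (X.presheaf.stalk x) X.functionField) ≤ Q →
      LocalSubring.range (algebraMap (X.presheaf.stalk y) X.functionField) ≤ Q → x = y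

variable {X}

/-- the subring of `Γ(X, U ⊓ V)` generated by the restrictions from `U` and `V` -/
def genSubring (U V : X.Opens) : Subring Γ(X, U ⊓ V) :=
  Subring.closure (Set.range (X.presheaf.map (homOfLE (inf_le_left : U ⊓ V ≤ U)).op).hom ∪
    Set.range (X.presheaf.map (homOfLE (inf_le_right : U ⊓ V ≤ V)).op).hom)

/-- restriction from `U` into the generated subring -/
def genLeft (U V : X.Opens) : Γ(X, U) →+* genSubring U V :=
  (X.presheaf.map (homOfLE (inf_le_left : U ⊓ V ≤ U)).op).hom.codRestrict (genSubring U V)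
    (fun a => Subring.subset_closure (Or.inl ⟨a, rfl⟩))

/-- restriction from `V` into the generated subring -/
def genRight (U V : X.Opens) : Γ(X, V) →+* genSubring U V :=
  (X.presheaf.map (homOfLE (inf_le_right : U ⊓ V ≤ V)).op).hom.codRestrict (genSubring U V)
    (fun a => Subring.subset_closure (Or.inr ⟨a, rfl⟩))

theorem genSubring_hom_ext {U V : X.Opens} {R : Type*} [Ring R] (e₁ e₂ : genSubring U V →+* R)
    (hl : e₁.comp (genLeft U V) = e₂.comp (genLeft U V))
    (hr : e₁.comp (genRight U V) = e₂.comp (genRight U V)) : e₁ = e₂ := by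
  ext ⟨c, hc⟩
  induction hc using Subring.closure_induction with
  | mem x hx =>
    rcases hx with ⟨a, rfl⟩ | ⟨b, rfl⟩
    · exact RingHom.congr_fun hl a
    · exact RingHom.congr_fun hr b
  | zero => exact (map_zero e₁).trans (map_zero e₂).symm
  | one => exact (map_one e₁).trans (map_one e₂).symm
  | add x y hx hy ihx ihy =>
    have : (⟨x + y, Subring.add_mem _ hx hy⟩ : genSubring U V) = ⟨x, hx⟩ + ⟨y, hy⟩ := rfl
    rw [this, map_add, map_add, ihx, ihy]
  | neg x hx ihx =>
    have : (⟨-x, Subring.neg_mem _ hx⟩ : genSubring U V) = -⟨x, hx⟩ := rfl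
    rw [this, map_neg, map_neg, ihx]
  | mul x y hx hy ihx ihy =>
    have : (⟨x * y, Subring.mul_mem _ hx hy⟩ : genSubring U V) = ⟨x, hx⟩ * ⟨y, hy⟩ := rfl
    rw [this, map_mul, map_mul, ihx, ihy]

theorem fromSpec_mem {U : X.Opens} (hU : IsAffineOpen U) (y : Spec Γ(X, U)) :
    hU.fromSpec y ∈ U := by
  have : hU.fromSpec y ∈ Set.range hU.fromSpec := Set.mem_range_self y
  rw [hU.range_fromSpec] at this
  exact this

theorem algebraMap_comp_germ_eq {U W : X.Opens} (hWU : W ≤ U) [Nonempty W] (x : X) (hx : x ∈ U) :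
    have : Nonempty U := ⟨⟨_, hWU (Classical.arbitrary W).2⟩⟩
    (algebraMap (X.presheaf.stalk x) X.functionField).comp (X.presheaf.germ U x hx).hom =
      (X.germToFunctionField W).hom.comp (X.presheaf.map (homOfLE hWU).op).hom := by
  have : Nonempty U := ⟨⟨_, hWU (Classical.arbitrary W).2⟩⟩
  ext a
  simp only [RingHom.comp_apply]
  rw [Scheme.algebraMap_germ_eq_germToFunctionField]
  exact (TopCat.Presheaf.germ_res_apply X.presheaf (homOfLE hWU) _ _ a).symm

theorem fromSpec_genLeft_eq_genRight (hR : AlliedCond X) {U V : X.Opens} (hU : IsAffineOpen U)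
    (hV : IsAffineOpen V) (P : Spec (CommRingCat.of (genSubring U V))) :
    hU.fromSpec (Spec.map (CommRingCat.ofHom (genLeft U V)) P) =
      hV.fromSpec (Spec.map (CommRingCat.ofHom (genRight U V)) P) := by
  set yU : Spec Γ(X, U) := Spec.map (CommRingCat.ofHom (genLeft U V)) P with hyU
  set yV : Spec Γ(X, V) := Spec.map (CommRingCat.ofHom (genRight U V)) P with hyV
  have hxU : hU.fromSpec yU ∈ U := fromSpec_mem hU yU
  have hyV' : hV.fromSpec yV ∈ V := fromSpec_mem hV yV
  have hne : ((U : Set X) ∩ V).Nonempty :=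
    nonempty_preirreducible_inter U.isOpen V.isOpen ⟨_, hxU⟩ ⟨_, hyV'⟩
  have : Nonempty (U ⊓ V : X.Opens) := ⟨⟨_, hne.some_mem⟩⟩
  let φ : genSubring U V →+* X.functionField :=
    (X.germToFunctionField (U ⊓ V)).hom.comp (genSubring U V).subtype
  have hφ : Function.Injective φ :=
    (X.germToFunctionField_injective (U ⊓ V)).comp Subtype.val_injective
  obtain ⟨ψ, hψinj, hψφ⟩ := exists_lift_localization_atPrime φ hφ P.asIdeal
  apply hR _ _ (LocalSubring.range ψ)
  · have hloc := hU.isLocalization_stalk' yU hxU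
    exact @localSubring_range_le_of_isLocalization Γ(X, U) (genSubring U V) X.functionField
      (X.presheaf.stalk (hU.fromSpec yU)) _ _ _ _
      (TopCat.Presheaf.algebra_section_stalk X.presheaf ⟨hU.fromSpec yU, hxU⟩)
      (genLeft U V) φ P.asIdeal _ yU.asIdeal _ rfl hloc _
      (algebraMap (X.presheaf.stalk (hU.fromSpec yU)) X.functionField)
      (algebraMap_comp_germ_eq (inf_le_left : U ⊓ V ≤ U) _ hxU) ψ hψinj hψφ
  · have hloc := hV.isLocalization_stalk' yV hyV'
    exact @localSubring_range_le_of_isLocalization Γ(X, V) (genSubring U V) X.functionField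
      (X.presheaf.stalk (hV.fromSpec yV)) _ _ _ _
      (TopCat.Presheaf.algebra_section_stalk X.presheaf ⟨hV.fromSpec yV, hyV'⟩)
      (genRight U V) φ P.asIdeal _ yV.asIdeal _ rfl hloc _
      (algebraMap (X.presheaf.stalk (hV.fromSpec yV)) X.functionField)
      (algebraMap_comp_germ_eq (inf_le_right : U ⊓ V ≤ V) _ hyV') ψ hψinj hψφ

/-- The two maps `Spec C ⟶ X` agree. -/
theorem specGen_left_eq_right (hR : AlliedCond X) {U V : X.Opens} (hU : IsAffineOpen U)
    (hV : IsAffineOpen V) :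
    Spec.map (CommRingCat.ofHom (genLeft U V)) ≫ hU.fromSpec =
      Spec.map (CommRingCat.ofHom (genRight U V)) ≫ hV.fromSpec := by
  by_cases hemp : IsEmpty (Spec (CommRingCat.of (genSubring U V)))
  · exact (isInitialOfIsEmpty (X := Spec (CommRingCat.of (genSubring U V)))).hom_ext _ _
  rw [not_isEmpty_iff] at hemp
  obtain ⟨P⟩ := hemp
  set g₁ := Spec.map (CommRingCat.ofHom (genLeft U V)) ≫ hU.fromSpec with hg₁
  set g₂ := Spec.map (CommRingCat.ofHom (genRight U V)) ≫ hV.fromSpec with hg₂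
  have hpt : ∀ Q : Spec (CommRingCat.of (genSubring U V)), g₁ Q = g₂ Q := by
    intro Q
    rw [hg₁, hg₂, Scheme.Hom.comp_apply, Scheme.Hom.comp_apply]
    exact fromSpec_genLeft_eq_genRight hR hU hV Q
  have hxU : g₁ P ∈ U := by
    rw [hg₁, Scheme.Hom.comp_apply]
    exact fromSpec_mem hU _
  have hyV : g₂ P ∈ V := by
    rw [hg₂, Scheme.Hom.comp_apply]
    exact fromSpec_mem hV _
  have hne : ((U : Set X) ∩ V).Nonempty :=
    nonempty_preirreducible_inter U.isOpen V.isOpen ⟨_, hxU⟩ ⟨_, hyV⟩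
  have : Nonempty (U ⊓ V : X.Opens) := ⟨⟨_, hne.some_mem⟩⟩
  have : Nonempty U := ⟨⟨_, hxU⟩⟩
  have : Nonempty V := ⟨⟨_, hyV⟩⟩
  let φ : genSubring U V →+* X.functionField :=
    (X.germToFunctionField (U ⊓ V)).hom.comp (genSubring U V).subtype
  have hφ : Function.Injective φ :=
    (X.germToFunctionField_injective (U ⊓ V)).comp Subtype.val_injective
  have hdom : IsDomain (genSubring U V) := hφ.isDomain φ
  let ι : Spec X.functionField ⟶ Spec (CommRingCat.of (genSubring U V)) :=
    Spec.map (CommRingCat.ofHom φ)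
  have hιdom : IsDominant ι := by
    constructor
    show DenseRange (PrimeSpectrum.comap φ)
    rw [PrimeSpectrum.denseRange_comap_iff_ker_le_nilRadical]
    rw [(RingHom.injective_iff_ker_eq_bot φ).mp hφ]
    exact bot_le
  have hη : genericPoint X ∈ U :=
    ((genericPoint_spec X).mem_open_set_iff U.isOpen).mpr (by simpa using ‹Nonempty U›)
  have hη' : genericPoint X ∈ V :=
    ((genericPoint_spec X).mem_open_set_iff V.isOpen).mpr (by simpa using ‹Nonempty V›)
  have h1 : ι ≫ g₁ = X.fromSpecStalk (genericPoint X) := by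
    rw [← hU.fromSpecStalk_eq_fromSpecStalk hη, IsAffineOpen.fromSpecStalk, hg₁,
      ← Category.assoc, ← Spec.map_comp]
    congr 2
    ext a
    exact (TopCat.Presheaf.germ_res_apply X.presheaf (homOfLE (inf_le_left : U ⊓ V ≤ U)) _ _ a)
  have h2 : ι ≫ g₂ = X.fromSpecStalk (genericPoint X) := by
    rw [← hV.fromSpecStalk_eq_fromSpecStalk hη', IsAffineOpen.fromSpecStalk, hg₂,
      ← Category.assoc, ← Spec.map_comp]
    congr 2
    ext a
    exact (TopCat.Presheaf.germ_res_apply X.presheaf (homOfLE (inf_le_right : U ⊓ V ≤ V)) _ _ a)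
  -- factor through `U`
  have hrange : Set.range g₂ ⊆ Set.range U.ι := by
    rintro _ ⟨Q, rfl⟩
    rw [Scheme.Opens.range_ι, ← hpt Q, hg₁, Scheme.Hom.comp_apply]
    exact fromSpec_mem hU _
  obtain ⟨d, hd⟩ : ∃ d : Spec (CommRingCat.of (genSubring U V)) ⟶ U.toScheme, d ≫ U.ι = g₂ :=
    ⟨IsOpenImmersion.lift U.ι g₂ hrange, IsOpenImmersion.lift_fac _ _ _⟩
  obtain ⟨d₁, hd₁⟩ : ∃ d₁ : Spec (CommRingCat.of (genSubring U V)) ⟶ U.toScheme, d₁ ≫ U.ι = g₁ :=
    ⟨Spec.map (CommRingCat.ofHom (genLeft U V)) ≫ hU.isoSpec.inv, by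
      rw [hg₁, Category.assoc, hU.isoSpec_inv_ι]⟩
  have : IsAffine U.toScheme := hU
  have hdd : d₁ = d := by
    apply ext_of_isDominant ι
    have hc : (ι ≫ d₁) ≫ U.ι = (ι ≫ d) ≫ U.ι := by
      rw [Category.assoc, Category.assoc, hd, hd₁, h1, h2]
    exact (cancel_mono U.ι).mp hc
  rw [← hd₁, ← hd, hdd]

theorem toSpecΓ_genLeft_fromSpec {U V : X.Opens} (hU : IsAffineOpen U) :
    ((U ⊓ V).toSpecΓ ≫ Spec.map (CommRingCat.ofHom (genSubring U V).subtype)) ≫
      Spec.map (CommRingCat.ofHom (genLeft U V)) ≫ hU.fromSpec = (U ⊓ V).ι := by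
  have h1 : CommRingCat.ofHom (genLeft U V) ≫ CommRingCat.ofHom (genSubring U V).subtype =
      X.presheaf.map (homOfLE (inf_le_left : U ⊓ V ≤ U)).op := by
    ext a
    rfl
  rw [Category.assoc, ← Category.assoc (Spec.map _) (Spec.map _), ← Spec.map_comp, h1,
    ← Category.assoc, Scheme.Opens.toSpecΓ_SpecMap_presheaf_map, Category.assoc,
    hU.toSpecΓ_fromSpec, Scheme.homOfLE_ι]

theorem toSpecΓ_genRight_fromSpec {U V : X.Opens} (hV : IsAffineOpen V) :
    ((U ⊓ V).toSpecΓ ≫ Spec.map (CommRingCat.ofHom (genSubring U V).subtype)) ≫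
      Spec.map (CommRingCat.ofHom (genRight U V)) ≫ hV.fromSpec = (U ⊓ V).ι := by
  have h1 : CommRingCat.ofHom (genRight U V) ≫ CommRingCat.ofHom (genSubring U V).subtype =
      X.presheaf.map (homOfLE (inf_le_right : U ⊓ V ≤ V)).op := by
    ext a
    rfl
  rw [Category.assoc, ← Category.assoc (Spec.map _) (Spec.map _), ← Spec.map_comp, h1,
    ← Category.assoc, Scheme.Opens.toSpecΓ_SpecMap_presheaf_map, Category.assoc,
    hV.toSpecΓ_fromSpec, Scheme.homOfLE_ι]

/-- Under the allied condition, `U ⊓ V` is affine with coordinate ring generated by those of `U`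
and `V`. -/
theorem isAffineOpen_inf_and_genSubring_eq_top (hR : AlliedCond X) {U V : X.Opens}
    (hU : IsAffineOpen U) (hV : IsAffineOpen V) :
    IsAffineOpen (U ⊓ V) ∧ genSubring U V = ⊤ := by
  set SC := Spec (CommRingCat.of (genSubring U V)) with hSC
  set g₁ : SC ⟶ X := Spec.map (CommRingCat.ofHom (genLeft U V)) ≫ hU.fromSpec with hg₁
  set g₂ : SC ⟶ X := Spec.map (CommRingCat.ofHom (genRight U V)) ≫ hV.fromSpec with hg₂
  have h12 : g₁ = g₂ := specGen_left_eq_right hR hU hV
  set h : (U ⊓ V).toScheme ⟶ SC :=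
    (U ⊓ V).toSpecΓ ≫ Spec.map (CommRingCat.ofHom (genSubring U V).subtype) with hh
  have hh1 : h ≫ g₁ = (U ⊓ V).ι := toSpecΓ_genLeft_fromSpec hU
  have hh2 : h ≫ g₂ = (U ⊓ V).ι := toSpecΓ_genRight_fromSpec hV
  -- lift
  have hrange : Set.range g₁ ⊆ Set.range (U ⊓ V).ι := by
    rintro _ ⟨Q, rfl⟩
    rw [Scheme.Opens.range_ι]
    refine ⟨?_, ?_⟩
    · rw [hg₁, Scheme.Hom.comp_apply]
      exact fromSpec_mem hU _
    · rw [h12, hg₂, Scheme.Hom.comp_apply]
      exact fromSpec_mem hV _
  obtain ⟨g', hg'⟩ : ∃ g' : SC ⟶ (U ⊓ V).toScheme, g' ≫ (U ⊓ V).ι = g₁ :=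
    ⟨IsOpenImmersion.lift (U ⊓ V).ι g₁ hrange, IsOpenImmersion.lift_fac _ _ _⟩
  have hhg : h ≫ g' = 𝟙 _ := by
    rw [← cancel_mono (U ⊓ V).ι, Category.assoc, hg', hh1, Category.id_comp]
  have hgh : g' ≫ h = 𝟙 _ := by
    obtain ⟨e, he⟩ : ∃ e : CommRingCat.of (genSubring U V) ⟶ CommRingCat.of (genSubring U V),
        Spec.map e = g' ≫ h := ⟨Spec.preimage (g' ≫ h), Spec.map_preimage _⟩
    rw [← he]
    rw [Spec.map_eq_id]
    have hl : CommRingCat.ofHom (genLeft U V) ≫ e = CommRingCat.ofHom (genLeft U V) := by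
      apply Spec.map_injective
      rw [Spec.map_comp, he, ← cancel_mono hU.fromSpec, Category.assoc, Category.assoc]
      change g' ≫ h ≫ g₁ = g₁
      rw [hh1, hg']
    have hr : CommRingCat.ofHom (genRight U V) ≫ e = CommRingCat.ofHom (genRight U V) := by
      apply Spec.map_injective
      rw [Spec.map_comp, he, ← cancel_mono hV.fromSpec, Category.assoc, Category.assoc]
      change g' ≫ h ≫ g₂ = g₂
      rw [hh2, hg', h12]
    ext1
    apply genSubring_hom_ext
    · exact congrArg CommRingCat.Hom.hom hl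
    · exact congrArg CommRingCat.Hom.hom hr
  have hiso : IsIso h := ⟨g', hhg, hgh⟩
  have haff : IsAffineOpen (U ⊓ V) := IsAffine.of_isIso h
  refine ⟨haff, ?_⟩
  -- surjectivity of the inclusion
  have h1 : IsIso (U ⊓ V).toSpecΓ := by
    rw [← haff.isoSpec_hom]
    infer_instance
  have h2 : IsIso (Spec.map (CommRingCat.ofHom (genSubring U V).subtype)) :=
    IsIso.of_isIso_comp_left (U ⊓ V).toSpecΓ _
  have h3 : IsIso (CommRingCat.ofHom (genSubring U V).subtype) := by
    have h2' : IsIso (Scheme.Spec.map (CommRingCat.ofHom (genSubring U V).subtype).op) := h2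
    have : IsIso (CommRingCat.ofHom (genSubring U V).subtype).op :=
      isIso_of_reflects_iso _ Scheme.Spec
    exact isIso_of_op _
  have h4 : Function.Surjective (genSubring U V).subtype :=
    (ConcreteCategory.bijective_of_isIso (CommRingCat.ofHom (genSubring U V).subtype)).2
  rw [eq_top_iff]
  intro s _
  obtain ⟨c, rfl⟩ := h4 s
  exact c.2

end allied

end Groth.Agent.H54
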