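import Mathlib
import Groth.Agent.H54.AlliedCore

set_option autoImplicit false
universe u
open AlgebraicGeometry CategoryTheory TopologicalSpace Opposite CategoryTheory.Limits

namespace Groth.Agent.H54

section transfer
variable {X : Scheme.{u}}

theorem appLE_top_surjective_of_opensRange_eq {Z : Scheme.{u}} (j : Z ⟶ X) [IsOpenImmersion j]
    (W : X.Opens) (hW : j ''ᵁ ⊤ = W) (e : ⊤ ≤ j ⁻¹ᵁ W) :
    Function.Surjective (j.appLE W ⊤ e).hom := by
  subst hW
  have h1 : (j.appIso ⊤).hom = j.appLE (j ''ᵁ ⊤) ⊤ e := j.appIso_hom' ⊤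
  rw [← h1]
  exact (ConcreteCategory.bijective_of_isIso (j.appIso ⊤).hom).2

theorem appLE_comp_mem_range {Z U₁ : Scheme.{u}} (j : Z ⟶ X) (p : Z ⟶ U₁) (f₁ : U₁ ⟶ X)
    (hj : j = p ≫ f₁) (U : X.Opens) (hU : ⊤ ≤ f₁ ⁻¹ᵁ U) (e : ⊤ ≤ j ⁻¹ᵁ U) (a : Γ(X, U)) :
    (j.appLE U ⊤ e).hom a ∈ Set.range p.appTop.hom := by
  subst hj
  refine ⟨(f₁.appLE U ⊤ hU).hom a, ?_⟩
  have h1 : f₁.appLE U ⊤ hU ≫ p.appLE ⊤ ⊤ le_top = (p ≫ f₁).appLE U ⊤ e :=
    Scheme.Hom.appLE_comp_appLE _ _ _ _ _ _ _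
  have h2 : p.appLE ⊤ ⊤ le_top = p.appTop := Scheme.Hom.appLE_eq_app p
  rw [← h1, h2]
  rfl

theorem closure_range_fst_snd_eq_top [IsIntegral X] {U₁ U₂ : Scheme.{u}} (f₁ : U₁ ⟶ X) (f₂ : U₂ ⟶ X)
    [IsOpenImmersion f₁] [IsOpenImmersion f₂]
    (hgen : genSubring f₁.opensRange f₂.opensRange = ⊤) :
    Subring.closure (Set.range (pullback.fst f₁ f₂).appTop.hom ∪
      Set.range (pullback.snd f₁ f₂).appTop.hom) = ⊤ := by
  obtain ⟨j, hj1⟩ : ∃ j : pullback f₁ f₂ ⟶ X, j = pullback.fst f₁ f₂ ≫ f₁ := ⟨_, rfl⟩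
  have hj2 : j = pullback.snd f₁ f₂ ≫ f₂ := hj1.trans pullback.condition
  have hjo : IsOpenImmersion j := by rw [hj1]; infer_instance
  have himg : j ''ᵁ ⊤ = f₁.opensRange ⊓ f₂.opensRange := by
    rw [Scheme.Hom.image_top_eq_opensRange]
    apply Opens.ext
    rw [Scheme.Hom.coe_opensRange, hj1]
    exact IsOpenImmersion.range_pullback_to_base_of_left f₁ f₂
  have e : ⊤ ≤ j ⁻¹ᵁ (f₁.opensRange ⊓ f₂.opensRange) := by
    rw [← himg]
    exact (j.preimage_image_eq ⊤).ge
  have hsurj := appLE_top_surjective_of_opensRange_eq j _ himg e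
  have hU : ⊤ ≤ f₁ ⁻¹ᵁ f₁.opensRange := fun x _ => ⟨x, rfl⟩
  have hV : ⊤ ≤ f₂ ⁻¹ᵁ f₂.opensRange := fun x _ => ⟨x, rfl⟩
  rw [eq_top_iff]
  rintro s -
  obtain ⟨t, rfl⟩ := hsurj s
  have ht : t ∈ genSubring f₁.opensRange f₂.opensRange := by rw [hgen]; trivial
  unfold genSubring at ht
  induction ht using Subring.closure_induction with
  | mem x hx =>
    apply Subring.subset_closure
    rcases hx with ⟨a, rfl⟩ | ⟨b, rfl⟩
    · left
      have h1 : X.presheaf.map (homOfLE (inf_le_left : f₁.opensRange ⊓ f₂.opensRange ≤ _)).op ≫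
          j.appLE _ ⊤ e = j.appLE f₁.opensRange ⊤ (e.trans (by
            intro x hx; exact hx.1)) := Scheme.Hom.map_appLE _ _ _
      have h2 := appLE_comp_mem_range j _ f₁ hj1 f₁.opensRange hU (e.trans (by
            intro x hx; exact hx.1)) a
      rw [← h1] at h2
      exact h2
    · right
      have h1 : X.presheaf.map (homOfLE (inf_le_right : f₁.opensRange ⊓ f₂.opensRange ≤ _)).op ≫
          j.appLE _ ⊤ e = j.appLE f₂.opensRange ⊤ (e.trans (by
            intro x hx; exact hx.2)) := Scheme.Hom.map_appLE _ _ _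
      have h2 := appLE_comp_mem_range j _ f₂ hj2 f₂.opensRange hV (e.trans (by
            intro x hx; exact hx.2)) b
      rw [← h1] at h2
      exact h2
  | zero => rw [map_zero]; exact Subring.zero_mem _
  | one => rw [map_one]; exact Subring.one_mem _
  | add x y _ _ ihx ihy => rw [map_add]; exact Subring.add_mem _ ihx ihy
  | neg x _ ihx => rw [map_neg]; exact Subring.neg_mem _ ihx
  | mul x y _ _ ihx ihy => rw [map_mul]; exact Subring.mul_mem _ ihx ihy

end transfer

section main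
variable {X : Scheme.{u}} [IsIntegral X]

theorem isSeparated_of_alliedCond (hR : AlliedCond X) : X.IsSeparated := by
  have hsep : IsSeparated X.toSpecΓ := by
    rw [IsSeparated.isSeparated_eq_diagonal_isClosedImmersion]
    show MorphismProperty.diagonal @IsClosedImmersion X.toSpecΓ
    rw [← HasAffineProperty.diagonal_iff (P := @IsClosedImmersion)]
    intro U₁ U₂ f₁ f₂ _ _ _ _
    have hU : IsAffineOpen f₁.opensRange := isAffineOpen_opensRange f₁
    have hV : IsAffineOpen f₂.opensRange := isAffineOpen_opensRange f₂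
    obtain ⟨haff, hgen⟩ := isAffineOpen_inf_and_genSubring_eq_top hR hU hV
    refine ⟨?_, ?_⟩
    · -- the pullback is isomorphic to the open subscheme `U ⊓ V`
      have hrange : Set.range (pullback.fst f₁ f₂ ≫ f₁) =
          Set.range (f₁.opensRange ⊓ f₂.opensRange).ι := by
        rw [IsOpenImmersion.range_pullback_to_base_of_left, Scheme.Opens.range_ι]
        rfl
      have : IsAffine (f₁.opensRange ⊓ f₂.opensRange).toScheme := haff
      exact IsAffine.of_isIso (IsOpenImmersion.isoOfRangeEq (pullback.fst f₁ f₂ ≫ f₁)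
        (f₁.opensRange ⊓ f₂.opensRange).ι hrange).hom
    · have hcl := closure_range_fst_snd_eq_top f₁ f₂ hgen
      intro s
      have hs : s ∈ Subring.closure (Set.range (pullback.fst f₁ f₂).appTop.hom ∪
          Set.range (pullback.snd f₁ f₂).appTop.hom) := by rw [hcl]; trivial
      have hle : Subring.closure (Set.range (pullback.fst f₁ f₂).appTop.hom ∪
          Set.range (pullback.snd f₁ f₂).appTop.hom) ≤
          (pullback.mapDesc f₁ f₂ X.toSpecΓ).appTop.hom.range := by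
        rw [Subring.closure_le]
        rintro _ (⟨a, rfl⟩ | ⟨b, rfl⟩)
        · refine ⟨(pullback.fst (f₁ ≫ X.toSpecΓ) (f₂ ≫ X.toSpecΓ)).appTop.hom a, ?_⟩
          have : pullback.mapDesc f₁ f₂ X.toSpecΓ ≫ pullback.fst _ _ = pullback.fst f₁ f₂ :=
            (pullback.lift_fst _ _ _).trans (Category.comp_id _)
          rw [← this, Scheme.Hom.comp_appTop]
          rfl
        · refine ⟨(pullback.snd (f₁ ≫ X.toSpecΓ) (f₂ ≫ X.toSpecΓ)).appTop.hom b, ?_⟩
          have : pullback.mapDesc f₁ f₂ X.toSpecΓ ≫ pullback.snd _ _ = pullback.snd f₁ f₂ :=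
            (pullback.lift_snd _ _ _).trans (Category.comp_id _)
          rw [← this, Scheme.Hom.comp_appTop]
          rfl
      exact hle hs
  exact (HasAffineProperty.iff_of_isAffine (P := @IsSeparated)).mp hsep

end main

end Groth.Agent.H54
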