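import Mathlib
import Groth.Agent.H54.AlliedSep

set_option autoImplicit false
universe u
open AlgebraicGeometry CategoryTheory TopologicalSpace Opposite CategoryTheory.Limits

namespace Groth.Agent.H54

section conv
variable {X : Scheme.{u}} [IsIntegral X]

/-- the local ring at `x` maps to a dominating local subring -/
theorem exists_local_ringHom_of_le (x : X) (Q : LocalSubring X.functionField)
    (hx : LocalSubring.range (algebraMap (X.presheaf.stalk x) X.functionField) ≤ Q) :
    ∃ θ : X.presheaf.stalk x →+* Q.toSubring, IsLocalHom θ ∧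
      Q.toSubring.subtype.comp θ = algebraMap (X.presheaf.stalk x) X.functionField := by
  obtain ⟨hle, hloc⟩ := hx
  have hmem : ∀ a, algebraMap (X.presheaf.stalk x) X.functionField a ∈ Q.toSubring := by
    intro a
    apply hle
    rw [LocalSubring.range_toSubring]
    exact ⟨a, rfl⟩
  refine ⟨(algebraMap (X.presheaf.stalk x) X.functionField).codRestrict Q.toSubring hmem, ?_, ?_⟩
  · constructor
    intro a ha
    have hmem' : algebraMap (X.presheaf.stalk x) X.functionField a ∈
        (LocalSubring.range (algebraMap (X.presheaf.stalk x) X.functionField)).toSubring := by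
      rw [LocalSubring.range_toSubring]
      exact ⟨a, rfl⟩
    have h1 : IsUnit (Subring.inclusion hle ⟨_, hmem'⟩) := ha
    have h2 := hloc.map_nonunit _ h1
    obtain ⟨⟨b, hb⟩, hab⟩ := isUnit_iff_exists_inv.mp h2
    rw [LocalSubring.range_toSubring] at hb
    obtain ⟨b', rfl⟩ := hb
    have h3 : algebraMap (X.presheaf.stalk x) X.functionField a *
        algebraMap (X.presheaf.stalk x) X.functionField b' = 1 := congrArg Subtype.val hab
    rw [← map_mul] at h3
    have h4 : a * b' = 1 := by
      apply IsFractionRing.injective (X.presheaf.stalk x) X.functionField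
      rw [h3, map_one]
    exact isUnit_iff_exists_inv.mpr ⟨b', h4⟩
  · ext a
    rfl

theorem alliedCond_of_isSeparated [X.IsSeparated] : AlliedCond X := by
  intro x y Q hx hy
  obtain ⟨θx, hθx, hθx'⟩ := exists_local_ringHom_of_le x Q hx
  obtain ⟨θy, hθy, hθy'⟩ := exists_local_ringHom_of_le y Q hy
  set SQ := Spec (CommRingCat.of Q.toSubring) with hSQ
  let sx : SQ ⟶ X := Spec.map (CommRingCat.ofHom θx) ≫ X.fromSpecStalk x
  let sy : SQ ⟶ X := Spec.map (CommRingCat.ofHom θy) ≫ X.fromSpecStalk y
  have hsx : sx (IsLocalRing.closedPoint Q.toSubring) = x := by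
    show (Spec.map (CommRingCat.ofHom θx) ≫ X.fromSpecStalk x) _ = x
    rw [Scheme.Hom.comp_apply]
    have : Spec.map (CommRingCat.ofHom θx) (IsLocalRing.closedPoint Q.toSubring) =
        IsLocalRing.closedPoint (X.presheaf.stalk x) := IsLocalRing.comap_closedPoint θx
    rw [this, Scheme.fromSpecStalk_closedPoint]
  have hsy : sy (IsLocalRing.closedPoint Q.toSubring) = y := by
    show (Spec.map (CommRingCat.ofHom θy) ≫ X.fromSpecStalk y) _ = y
    rw [Scheme.Hom.comp_apply]
    have : Spec.map (CommRingCat.ofHom θy) (IsLocalRing.closedPoint Q.toSubring) =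
        IsLocalRing.closedPoint (X.presheaf.stalk y) := IsLocalRing.comap_closedPoint θy
    rw [this, Scheme.fromSpecStalk_closedPoint]
  let ι : Spec X.functionField ⟶ SQ := Spec.map (CommRingCat.ofHom Q.toSubring.subtype)
  have hιdom : IsDominant ι := by
    constructor
    show DenseRange (PrimeSpectrum.comap Q.toSubring.subtype)
    rw [PrimeSpectrum.denseRange_comap_iff_ker_le_nilRadical]
    rw [(RingHom.injective_iff_ker_eq_bot Q.toSubring.subtype).mp Subtype.val_injective]
    exact bot_le
  have hιx : ι ≫ sx = X.fromSpecStalk (genericPoint X) := by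
    show Spec.map _ ≫ Spec.map _ ≫ _ = _
    rw [← Category.assoc, ← Spec.map_comp]
    have : CommRingCat.ofHom θx ≫ CommRingCat.ofHom Q.toSubring.subtype =
        X.presheaf.stalkSpecializes ((genericPoint_spec X).specializes trivial) := by
      ext a
      exact RingHom.congr_fun hθx' a
    refine Eq.trans ?_ (Scheme.SpecMap_stalkSpecializes_fromSpecStalk
      ((genericPoint_spec X).specializes trivial : genericPoint X ⤳ x))
    exact congrArg (fun m => Spec.map m ≫ X.fromSpecStalk x) this
  have hιy : ι ≫ sy = X.fromSpecStalk (genericPoint X) := by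
    show Spec.map _ ≫ Spec.map _ ≫ _ = _
    rw [← Category.assoc, ← Spec.map_comp]
    have : CommRingCat.ofHom θy ≫ CommRingCat.ofHom Q.toSubring.subtype =
        X.presheaf.stalkSpecializes ((genericPoint_spec X).specializes trivial) := by
      ext a
      exact RingHom.congr_fun hθy' a
    refine Eq.trans ?_ (Scheme.SpecMap_stalkSpecializes_fromSpecStalk
      ((genericPoint_spec X).specializes trivial : genericPoint X ⤳ y))
    exact congrArg (fun m => Spec.map m ≫ X.fromSpecStalk y) this
  have hxy : sx = sy := ext_of_isDominant ι (hιx.trans hιy.symm)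
  rw [← hsx, ← hsy, hxy]

theorem isSeparated_iff_alliedCond : X.IsSeparated ↔ AlliedCond X :=
  ⟨fun _ => alliedCond_of_isSeparated, isSeparated_of_alliedCond⟩

end conv

end Groth.Agent.H54
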