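import Mathlib
import Groth.Prelude.Def_MeroDiv
import Groth.Prelude.Def_Pic
import Groth.Agent.H54.FracIdeal
import Groth.Agent.H8.MeroGen

set_option autoImplicit false
universe u
open CategoryTheory CategoryTheory.Limits AlgebraicGeometry TopologicalSpace Opposite

namespace Groth.Agent.H54.MeroChart

open Mero Groth.Agent.H8 Groth.Agent.H18 Groth.Agent.H54.MeroSec Groth.Agent.H54.DivModInv
  Groth.Agent.H54.FracIdeal

variable {X : Scheme.{u}}

/-- every nonzerodivisor germ is the germ of a regular section -/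
def RegExt (X : Scheme.{u}) : Prop :=
  ∀ (x : X) (g : X.presheaf.stalk x), g ∈ nonZeroDivisors (X.presheaf.stalk x) →
    ∃ (W : X.Opens) (hxW : x ∈ W) (f : Γ(X, W)),
      (∀ (y : X) (hy : y ∈ W), X.presheaf.germ W y hy f ∈ nonZeroDivisors (X.presheaf.stalk y)) ∧
      X.presheaf.germ W x hxW f = g

theorem regExt_of_isLocallyNoetherian (X : Scheme.{u}) [IsLocallyNoetherian X] : RegExt X :=
  fun x g hg => exists_regular_of_germ_mem_nonZeroDivisors x g hg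

/-- a chart of a meromorphic section `s` of `L` over `U`: a free generator `σ` of `L` and a unit `f`
of `Γ(U, K_X)` with `s = f σ` on `U` -/
structure Chart (L : X.Modules) (s : Γ(merMod L, ⊤)) (U : X.Opens) where
  σ : Γ(L, U)
  hσ : IsFreeGen L U σ
  f : (Γ(kmod X, U))ˣ
  hs : ∀ y : U, s.1 ⟨y.1, Opens.mem_top y.1⟩ =
    (f : Γ(kmod X, U)).1 y • (LocalizedModule.mk (L.presheaf.germ U y.1 y.2 σ) 1 : MStalk L y.1)

theorem exists_chart (hreg : RegExt X) {L : X.Modules} (hL : PicF.IsInvertible L)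
    (s : Γ(merMod L, ⊤)) (hs : IsRegularMero L s) (x : X) :
    ∃ (U : X.Opens) (_ : x ∈ U), Nonempty (Chart L s U) := by
  obtain ⟨U₁, hxU₁, σ₁, hσ₁⟩ := exists_isFreeGen_of_isInvertible hL x
  obtain ⟨W, hxW, i, m, b, hmb⟩ := s.2 ⟨x, Opens.mem_top x⟩
  let W₂ : X.Opens := W ⊓ U₁
  have hxW₂ : x ∈ W₂ := ⟨hxW, hxU₁⟩
  obtain ⟨a, ha⟩ := hσ₁.exists_smul_eq (inf_le_right : W₂ ≤ U₁)
    (L.presheaf.map (homOfLE (inf_le_left : W₂ ≤ W)).op m)
  -- values of `s` on `W₂`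
  have hval : ∀ y : W₂, s.1 ⟨y.1, Opens.mem_top y.1⟩ =
      LocalizedModule.mk (X.presheaf.germ W₂ y.1 y.2 a • L.presheaf.germ U₁ y.1 y.2.2 σ₁)
        (regGerm ⟨y.1, y.2.1⟩ b) := by
    intro y
    have h1 := hmb ⟨y.1, y.2.1⟩
    refine h1.trans (mk_congr ?_ rfl)
    have h2 : L.presheaf.germ W y.1 y.2.1 m =
        L.presheaf.germ W₂ y.1 y.2 (L.presheaf.map (homOfLE (inf_le_left : W₂ ≤ W)).op m) :=
      (TopCat.Presheaf.germ_res_apply L.presheaf (homOfLE (inf_le_left : W₂ ≤ W)) y.1 y.2 m).symm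
    rw [h2, ← ha, Mero.germ_smul,
      TopCat.Presheaf.germ_res_apply L.presheaf (homOfLE (inf_le_right : W₂ ≤ U₁)) y.1 y.2 σ₁]
  -- the germ of `a` at `x` is a nonzerodivisor
  have hax : X.presheaf.germ W₂ x hxW₂ a ∈ nonZeroDivisors (X.presheaf.stalk x) := by
    rw [mem_nonZeroDivisors_iff_right]
    intro c hc
    have h1 : (LocalizedModule.mk c 1 : KStalk X x) • s.1 ⟨x, Opens.mem_top x⟩ = 0 := by
      rw [hval ⟨x, hxW₂⟩, mk_smul_mk', ← mul_smul, hc, zero_smul, LocalizedModule.zero_mk]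
    have h2 := hs x _ h1
    exact (kstalk_mk_eq_zero_iff c 1).mp h2
  obtain ⟨W₃, hxW₃, a₃, ha₃reg, ha₃⟩ := hreg x _ hax
  have hxW₂₃ : x ∈ W₂ ⊓ W₃ := ⟨hxW₂, hxW₃⟩
  have hgerm : X.presheaf.germ (W₂ ⊓ W₃) x hxW₂₃
      (X.presheaf.map (homOfLE (inf_le_left : W₂ ⊓ W₃ ≤ W₂)).op a) =
      X.presheaf.germ (W₂ ⊓ W₃) x hxW₂₃
        (X.presheaf.map (homOfLE (inf_le_right : W₂ ⊓ W₃ ≤ W₃)).op a₃) := by
    rw [TopCat.Presheaf.germ_res_apply X.presheaf (homOfLE (inf_le_left : W₂ ⊓ W₃ ≤ W₂)) x hxW₂₃ a,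
      TopCat.Presheaf.germ_res_apply X.presheaf (homOfLE (inf_le_right : W₂ ⊓ W₃ ≤ W₃)) x hxW₂₃ a₃,
      ha₃]
  obtain ⟨U, hxU, i₁, i₂, he⟩ := TopCat.Presheaf.germ_eq X.presheaf x _ _ _ _ hgerm
  have hUW₂ : U ≤ W₂ := i₁.le.trans inf_le_left
  have hUW₃ : U ≤ W₃ := i₁.le.trans inf_le_right
  have hUW : U ≤ W := hUW₂.trans inf_le_left
  have hUU₁ : U ≤ U₁ := hUW₂.trans inf_le_right
  let aU : Γ(X, U) := X.presheaf.map (homOfLE hUW₂).op a
  have haU : aU = X.presheaf.map (homOfLE hUW₃).op a₃ := by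
    have e1 : aU = X.presheaf.map i₁.op (X.presheaf.map (homOfLE (inf_le_left : W₂ ⊓ W₃ ≤ W₂)).op a) := by
      change X.presheaf.map _ a = _
      rw [← ConcreteCategory.comp_apply, ← Functor.map_comp]; rfl
    have e2 : X.presheaf.map (homOfLE hUW₃).op a₃ =
        X.presheaf.map i₂.op (X.presheaf.map (homOfLE (inf_le_right : W₂ ⊓ W₃ ≤ W₃)).op a₃) := by
      rw [← ConcreteCategory.comp_apply, ← Functor.map_comp]; rfl
    rw [e1, e2]
    have : i₁ = i₂ := Subsingleton.elim _ _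
    rw [← this] at he ⊢
    exact he
  have haUreg : aU ∈ regSub X U := by
    rw [haU]
    exact regSub_res (homOfLE hUW₃) (fun y => ha₃reg y.1 y.2)
  let bU : regSub X U := ⟨X.presheaf.map (homOfLE hUW).op b.1, regSub_res (homOfLE hUW) b.2⟩
  have hmul : (toK X U aU * invK bU) * (toK X U bU.1 * invK ⟨aU, haUreg⟩) = 1 := by
    calc toK X U aU * invK bU * (toK X U bU.1 * invK ⟨aU, haUreg⟩)
        = (toK X U aU * invK ⟨aU, haUreg⟩) * (toK X U bU.1 * invK bU) := by ring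
      _ = 1 := by rw [toK_mul_invK ⟨aU, haUreg⟩, toK_mul_invK bU, one_mul]
  refine ⟨U, hxU, ⟨{
    σ := L.presheaf.map (homOfLE hUU₁).op σ₁
    hσ := hσ₁.res hUU₁
    f := Units.mkOfMulEqOne _ _ hmul
    hs := ?_ }⟩⟩
  intro y
  rw [hval ⟨y.1, hUW₂ y.2⟩]
  change _ = (toK X U aU * invK bU).1 y • _
  rw [kmod_mul_apply, toK_apply]
  change _ = ((LocalizedModule.mk (X.presheaf.germ U y.1 y.2 aU) 1 : KStalk X y.1) *
    (LocalizedModule.mk 1 (regGerm y bU) : KStalk X y.1)) • _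
  have e : (LocalizedModule.mk (X.presheaf.germ U y.1 y.2 aU) 1 : KStalk X y.1) *
      (LocalizedModule.mk 1 (regGerm y bU) : KStalk X y.1) =
      LocalizedModule.mk (X.presheaf.germ U y.1 y.2 aU * 1) (1 * regGerm y bU) :=
    LocalizedModule.mk_mul_mk
  rw [e, mk_smul_mk']
  refine mk_congr ?_ ?_
  · rw [mul_one, TopCat.Presheaf.germ_res_apply X.presheaf (homOfLE hUW₂) y.1 y.2 a,
      TopCat.Presheaf.germ_res_apply L.presheaf (homOfLE hUU₁) y.1 y.2 σ₁]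
  · change X.presheaf.germ W y.1 _ b.1 = (1 * X.presheaf.germ U y.1 y.2 bU.1) * 1
    rw [one_mul, mul_one]
    exact (TopCat.Presheaf.germ_res_apply X.presheaf (homOfLE hUW) y.1 y.2 b.1).symm


theorem mk_smul_one {L : X.Modules} {y : X} (r : X.presheaf.stalk y) (m : L.presheaf.stalk y) :
    (LocalizedModule.mk (r • m) 1 : MStalk L y) =
      (algebraMap (X.presheaf.stalk y) (KStalk X y) r) • (LocalizedModule.mk m 1 : MStalk L y) := by
  change _ = (LocalizedModule.mk r 1 : KStalk X y) • _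
  rw [mk_smul_mk']
  exact mk_congr rfl (by rw [one_mul])

/-- comparison of two charts at a common point -/
theorem Chart.compare {L : X.Modules} {s : Γ(merMod L, ⊤)} {U U' : X.Opens} (c : Chart L s U)
    (c' : Chart L s U') (y : X) (hy : y ∈ U) (hy' : y ∈ U') :
    ∃ u : (X.presheaf.stalk y)ˣ,
      L.presheaf.germ U' y hy' c'.σ = (u : X.presheaf.stalk y) • L.presheaf.germ U y hy c.σ ∧
      (c.f : Γ(kmod X, U)).1 ⟨y, hy⟩ = (c'.f : Γ(kmod X, U')).1 ⟨y, hy'⟩ *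
        algebraMap (X.presheaf.stalk y) (KStalk X y) (u : X.presheaf.stalk y) := by
  have hb := c.hσ.germ_bijective hy
  have hb' := c'.hσ.germ_bijective hy'
  obtain ⟨u₀, hu₀⟩ := hb.2 (L.presheaf.germ U' y hy' c'.σ)
  obtain ⟨v₀, hv₀⟩ := hb'.2 (L.presheaf.germ U y hy c.σ)
  have hu₀' : u₀ • L.presheaf.germ U y hy c.σ = L.presheaf.germ U' y hy' c'.σ := hu₀
  have hv₀' : v₀ • L.presheaf.germ U' y hy' c'.σ = L.presheaf.germ U y hy c.σ := hv₀
  have hvu : v₀ * u₀ = 1 := by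
    apply hb.1
    change (v₀ * u₀) • L.presheaf.germ U y hy c.σ = (1 : X.presheaf.stalk y) • _
    rw [mul_smul, hu₀', hv₀', one_smul]
  have huv : u₀ * v₀ = 1 := by rw [mul_comm]; exact hvu
  refine ⟨Units.mkOfMulEqOne u₀ v₀ huv, hu₀'.symm, ?_⟩
  change _ = _ * algebraMap (X.presheaf.stalk y) (KStalk X y) u₀
  apply (c.hσ.mstalk_bijective hy).1
  change (c.f : Γ(kmod X, U)).1 ⟨y, hy⟩ • (LocalizedModule.mk (L.presheaf.germ U y hy c.σ) 1 :
      MStalk L y) = ((c'.f : Γ(kmod X, U')).1 ⟨y, hy'⟩ *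
        algebraMap (X.presheaf.stalk y) (KStalk X y) u₀) • _
  rw [mul_smul, ← mk_smul_one, hu₀', ← c.hs ⟨y, hy⟩, ← c'.hs ⟨y, hy'⟩]

theorem Chart.germOf_eq {L : X.Modules} {s : Γ(merMod L, ⊤)} {U U' : X.Opens} (c : Chart L s U)
    (c' : Chart L s U') (y : X) (hy : y ∈ U) (hy' : y ∈ U') :
    germOf c.f ⟨y, hy⟩ = germOf c'.f ⟨y, hy'⟩ := by
  obtain ⟨u, -, hu⟩ := c.compare c' y hy hy'
  rw [germOf, germOf, QuotientGroup.eq]
  refine ⟨u⁻¹, ?_⟩
  rw [eq_inv_mul_iff_mul_eq, ← eq_mul_inv_iff_mul_eq, ← map_inv, inv_inv]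
  apply Units.ext
  exact hu

/-- the divisor of a regular meromorphic section of an invertible module -/
theorem exists_divisor (hreg : RegExt X) {L : X.Modules} (hL : PicF.IsInvertible L)
    (s : Γ(merMod L, ⊤)) (hs : IsRegularMero L s) :
    ∃ D : Divisor X, ∀ (U : X.Opens) (c : Chart L s U) (y : U), D.1 y.1 = germOf c.f y := by
  choose U hxU c using fun x => exists_chart hreg hL s hs x
  let c' : ∀ x, Chart L s (U x) := fun x => (c x).some
  refine ⟨⟨fun y => germOf (c' y).f ⟨y, hxU y⟩, fun x => ⟨U x, hxU x, (c' x).f, fun y => ?_⟩⟩,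
    fun V d y => ?_⟩
  · exact (c' y.1).germOf_eq (c' x) y.1 (hxU y.1) y.2
  · exact (c' y.1).germOf_eq d y.1 (hxU y.1) y.2

end Groth.Agent.H54.MeroChart
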