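import Mathlib
import Groth.Prelude.Def_MeroDiv
import Groth.Prelude.Def_Pic
import Groth.Agent.H54.MeroChart
import Groth.Agent.H18.PUP.LocalBasis
import Groth.Agent.H87.DefoIso

set_option autoImplicit false
universe u
open CategoryTheory CategoryTheory.Limits AlgebraicGeometry TopologicalSpace Opposite

namespace Groth.Agent.H54.MeroDivIso

open Mero Groth.Agent.H8 Groth.Agent.H18 Groth.Agent.H54.MeroSec Groth.Agent.H54.DivModInv
  Groth.Agent.H54.FracIdeal Groth.Agent.H54.MeroChart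

variable {X : Scheme.{u}}

/-- a morphism of modules mapping a local basis to a local basis near every point is an
isomorphism -/
theorem isIso_of_local_bases {N G : X.Modules} (φ : N ⟶ G)
    (h : ∀ y : X, ∃ (U : X.Opens) (hy : y ∈ U) (t : Γ(N, U)),
      Function.Bijective (fun r : X.presheaf.stalk y => r • N.presheaf.germ U y hy t) ∧
      Function.Bijective (fun r : X.presheaf.stalk y => r • G.presheaf.germ U y hy (φ.app U t))) :
    IsIso φ := by
  apply Groth.Agent.H87.DefoIso.isIso_of_stalk_bijective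
  intro y
  obtain ⟨U, hy, t, hb, hb'⟩ := h y
  have hkey : ∀ r : X.presheaf.stalk y,
      RefHull.stalkMapₗ φ y (r • N.presheaf.germ U y hy t) =
        r • G.presheaf.germ U y hy (φ.app U t) := by
    intro r
    rw [(RefHull.stalkMapₗ φ y).map_smul, RefHull.stalkMapₗ_germ]
  constructor
  · intro n n' hnn'
    obtain ⟨r, rfl⟩ := hb.2 n
    obtain ⟨r', rfl⟩ := hb.2 n'
    dsimp only at hnn' ⊢
    rw [hkey, hkey] at hnn'
    rw [hb'.1 hnn']
  · intro l
    obtain ⟨r, rfl⟩ := hb'.2 l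
    exact ⟨r • N.presheaf.germ U y hy t, hkey r⟩

/-- an invertible module with a regular meromorphic section is `O_X(D)` for the divisor `D` of the
section -/
theorem exists_iso_divMod (hreg : RegExt X) {L : X.Modules} (hL : PicF.IsInvertible L)
    (s : Γ(merMod L, ⊤)) (hs : IsRegularMero L s) :
    ∃ D : Divisor X, Nonempty (L ≅ divMod D) := by
  obtain ⟨D, hD⟩ := exists_divisor hreg hL s hs
  choose U hxU c₀ using fun x => exists_chart hreg hL s hs x
  let c : ∀ x, Chart L s (U x) := fun x => (c₀ x).some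
  choose t htval ht using fun x => exists_free_gen D (U x) (c x).f (fun y => hD (U x) (c x) y)
  have hγ : ∀ (x x' : X) (cc : Γ(X, U x ⊓ U x')),
      mres (divMod D) inf_le_right (t x') = cc • mres (divMod D) inf_le_left (t x) →
        mres L inf_le_right (c x').σ = cc • mres L inf_le_left (c x).σ := by
    intro x x' cc hcc
    let Ls : TopCat.Sheaf AddCommGrpCat X.toTopCat := ⟨L.presheaf, L.isSheaf⟩
    apply TopCat.Presheaf.section_ext Ls
    intro y hy
    have hyU : y ∈ U x := hy.1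
    have hyU' : y ∈ U x' := hy.2
    obtain ⟨u, hu1, hu2⟩ := (c x).compare (c x') y hyU hyU'
    change L.presheaf.germ _ y hy (mres L inf_le_right (c x').σ) =
      L.presheaf.germ _ y hy (cc • mres L inf_le_left (c x).σ)
    rw [Mero.germ_smul,
      TopCat.Presheaf.germ_res_apply L.presheaf (homOfLE (inf_le_right : U x ⊓ U x' ≤ U x')) y hy,
      TopCat.Presheaf.germ_res_apply L.presheaf (homOfLE (inf_le_left : U x ⊓ U x' ≤ U x)) y hy,
      hu1]
    congr 1
    -- `u = germ cc`
    have h1 := congrArg (fun τ : Γ(divMod D, U x ⊓ U x') => τ.1 ⟨y, hy⟩) hcc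
    have h2 : (t x').1 ⟨y, hyU'⟩ = X.presheaf.germ _ y hy cc • (t x).1 ⟨y, hyU⟩ := h1
    rw [htval x' ⟨y, hyU'⟩, htval x ⟨y, hyU⟩, Algebra.smul_def] at h2
    have hFi := inv_val_mul (c x).f ⟨y, hyU⟩
    have hFi' := inv_val_mul (c x').f ⟨y, hyU'⟩
    generalize ((c x).f : Γ(kmod X, U x)).1 ⟨y, hyU⟩ = F at hu2 hFi
    generalize (((c x).f⁻¹ : (Γ(kmod X, U x))ˣ) : Γ(kmod X, U x)).1 ⟨y, hyU⟩ = Fi at h2 hFi
    generalize ((c x').f : Γ(kmod X, U x')).1 ⟨y, hyU'⟩ = F' at hu2 hFi'
    generalize (((c x').f⁻¹ : (Γ(kmod X, U x'))ˣ) : Γ(kmod X, U x')).1 ⟨y, hyU'⟩ = Fi' at h2 hFi'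
    change KStalk X y at F Fi F' Fi'
    have h3 : F = algebraMap (X.presheaf.stalk y) (KStalk X y) (X.presheaf.germ _ y hy cc) * F' := by
      linear_combination (F * F') * h2 - F * hFi' +
        (algebraMap (X.presheaf.stalk y) (KStalk X y) (X.presheaf.germ _ y hy cc) * F') * hFi
    rw [hu2, mul_comm] at h3
    have hunit : IsUnit F' := IsUnit.of_mul_eq_one Fi' (by rw [mul_comm]; exact hFi')
    exact algebraMap_KStalk_injective y (hunit.mul_left_injective h3)
  let φ : divMod D ⟶ L :=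
    PUP.homOfLocalBasis U (fun y => ⟨y, hxU y⟩) t ht (fun x => (c x).σ) hγ
  have hφ : ∀ x, φ.app (U x) (t x) = (c x).σ :=
    fun x => PUP.homOfLocalBasis_app U (fun y => ⟨y, hxU y⟩) t ht (fun x => (c x).σ) hγ x
  haveI : IsIso φ := by
    apply isIso_of_local_bases
    intro y
    refine ⟨U y, hxU y, t y, ?_, ?_⟩
    · exact IsFreeGen.germ_bijective (L := divMod D) (σ := t y) (ht y) (hxU y)
    · rw [hφ y]
      exact (c y).hσ.germ_bijective (hxU y)
  exact ⟨D, ⟨(asIso φ).symm⟩⟩

end Groth.Agent.H54.MeroDivIso
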