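import Mathlib
import Groth.Prelude.Def_MeroDiv
import Groth.Prelude.Def_Pic
import Groth.Agent.H54.GenSection
import Groth.Agent.H54.MeroDivIso
import Groth.Agent.H8.RegMero
import Groth.Agent.H8.StructAss

set_option autoImplicit false
universe u
open CategoryTheory CategoryTheory.Limits AlgebraicGeometry TopologicalSpace Opposite

namespace Groth.Agent.H54.AssAffine

open Curv2 Mero Groth.Agent.H8 Groth.Agent.H18 Groth.Agent.H54.FracIdeal Groth.Agent.H54.GenSection
  Groth.Agent.H54.MeroChart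

variable {X : Scheme.{u}}

set_option backward.isDefEq.respectTransparency false in
/-- the construction of a regular meromorphic section from a section generating `L` at all weakly
associated points (helper8's argument, with the generic section as an input) -/
theorem hasRegularMero_of_generic_section (hX : LocFinWeakAss X) {L : X.Modules}
    (hL : PicF.IsInvertible L) (U : X.Opens) (s₀ : Γ(L, U))
    (hU : ∀ η : X, IsWeakAssPoint (Coh.structureModule X) η → ∃ hη : η ∈ U,
        ∀ d : X.presheaf.stalk η, d • L.presheaf.germ U η hη s₀ = 0 → d = 0) :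
    Mero.HasRegularMero L := by
  have hdense : ∀ W' : X.Opens, SchemDense W' U := fun W' =>
    schemDense_of_weakAss_subset (fun y _ hy => (hU y hy).1)
  choose c hc using fun x => exists_mchart hX hL hdense s₀ x
  let t : ∀ x : (⊤ : X.Opens), MStalk L x.1 := fun x => (c x.1).val x.1 (hc x.1)
  have ht : (mLoc L).pred t := by
    intro x
    obtain ⟨V, hVW, hxV, a, b, hab⟩ := (c x.1).exists_frac x.1 (hc x.1)
    refine ⟨V, hxV, homOfLE le_top, a • L.presheaf.map (homOfLE hVW).op (c x.1).τ, b, fun z => ?_⟩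
    change (c z.1).val z.1 (hc z.1) = _
    rw [MChart.val_eq hdense (c z.1) (c x.1) z.1 (hc z.1) (hVW z.2)]
    exact (hab z.1 z.2).2
  refine ⟨⟨t, ht⟩, ?_⟩
  intro x q hq
  change q • (c x).val x (hc x) = 0 at hq
  obtain ⟨V, hVW, hxV, a, b, hab⟩ := (c x).exists_frac x (hc x)
  -- the numerator is regular at `x`
  have hax : X.presheaf.germ V x hxV a ∈ nonZeroDivisors (X.presheaf.stalk x) := by
    refine germ_mem_nonZeroDivisors_of_weakAss a ?_ x hxV
    intro η hηV hη
    obtain ⟨hηU, hfree⟩ := hU η hη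
    rw [mem_nonZeroDivisors_iff_right]
    intro d hd
    have h1 := (c x).compat η (hVW hηV) hηU
    have h2 := congrArg (fun m : MStalk L η => (LocalizedModule.mk d 1 : KStalk X η) • m) h1
    simp only at h2
    rw [← mul_smul, (hab η hηV).1] at h2
    have h3 : (LocalizedModule.mk d 1 : KStalk X η) *
        LocalizedModule.mk (X.presheaf.germ V η hηV a) (regGerm ⟨η, hηV⟩ b) = 0 := by
      refine LocalizedModule.mk_mul_mk.trans ?_
      rw [hd]
      exact LocalizedModule.zero_mk _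
    rw [h3, zero_smul, mk_smul_mk'] at h2
    obtain ⟨u, hu⟩ := (mstalk_mk_eq_zero_iff _ _).mp h2.symm
    rw [smul_smul] at hu
    have h4 := hfree _ hu
    exact (mem_nonZeroDivisors_iff_left.mp (regStalk_le_nonZeroDivisors η u.2)) d h4
  have h5 : q * (c x).ũ.1 ⟨x, hc x⟩ = 0 := by
    apply ((c x).hτ.mstalk_bijective (hc x)).1
    change (q * (c x).ũ.1 ⟨x, hc x⟩) • _ = (0 : KStalk X x) • _
    rw [mul_smul, zero_smul]
    exact hq
  rw [(hab x hxV).1] at h5
  induction q using LocalizedModule.induction_on with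
  | h cq sq =>
    have h6 : (LocalizedModule.mk cq sq : KStalk X x) *
        LocalizedModule.mk (X.presheaf.germ V x hxV a) (regGerm ⟨x, hxV⟩ b) =
        LocalizedModule.mk (cq * X.presheaf.germ V x hxV a) (sq * regGerm ⟨x, hxV⟩ b) :=
      LocalizedModule.mk_mul_mk
    rw [h6, kstalk_mk_eq_zero_iff] at h5
    have h7 : cq = 0 := (mem_nonZeroDivisors_iff_right.mp hax) cq h5
    rw [h7]
    exact LocalizedModule.zero_mk sq


open Classical in
/-- on a locally Noetherian scheme whose associated points lie in an affine open, every invertible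
module has a regular meromorphic section -/
theorem hasRegularMero_of_ass_subset_affine [IsLocallyNoetherian X]
    (hX : ∃ W : X.Opens, IsAffineOpen W ∧ ∀ x : ↥X,
      IsAssociatedPrime (IsLocalRing.maximalIdeal ↑(X.presheaf.stalk x)) ↑(X.presheaf.stalk x) →
        x ∈ W)
    (L : X.Modules) (hL : PicF.IsInvertible L) : Mero.HasRegularMero L := by
  obtain ⟨W, hW, hAss⟩ := hX
  haveI hN : IsNoetherianRing Γ(X, W) := IsLocallyNoetherian.component_noetherian ⟨W, hW⟩
  have hfin0 : {y : X | y ∈ W ∧ IsWeakAssPoint (Coh.structureModule X) y}.Finite :=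
    finite_weakAssPoints_structure hW
  let S : Set X := {y : X | y ∈ W ∧ IsWeakAssPoint (Coh.structureModule X) y}
  have hSfin : S.Finite := hfin0
  let PX : Finset X := hSfin.toFinset.filter (fun η => Minimal (· ∈ S) η)
  let P : Finset W := PX.subtype (· ∈ W)
  have hPX : ∀ η : W, η ∈ P → η.1 ∈ PX := fun η hη => Finset.mem_subtype.mp hη
  have hPS : ∀ η ∈ PX, η ∈ S := fun η hη => hSfin.mem_toFinset.mp (Finset.mem_filter.mp hη).1
  have hPmin : ∀ η ∈ PX, Minimal (· ∈ S) η := fun η hη => (Finset.mem_filter.mp hη).2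
  have hinc : ∀ η ∈ P, ∀ η' ∈ P, η ≠ η' → ¬ η'.1 ⤳ η.1 := by
    intro η hη η' hη' hne hsp
    have h1 : η.1 ≤ η'.1 := hsp
    have h2 : η'.1 ≤ η.1 := (hPmin η'.1 (hPX η' hη')).2 (hPS η.1 (hPX η hη)) h1
    have h3 : η.1 ⤳ η'.1 := h2
    exact hne (Subtype.ext (hsp.antisymm h3).eq.symm)
  obtain ⟨m, hm⟩ := exists_gen_section hL hW P hinc
  have hnh : ∀ η : W, η ∈ P → ∃ (U : X.Opens) (hU : U ≤ W), η.1 ∈ U ∧
      IsFreeGen L U (L.presheaf.map (homOfLE hU).op m) := fun η hη =>
    exists_isFreeGen_nhds hL m η.1 η.2 (hm η hη)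
  choose Uf hUfW hηUf hfree using hnh
  let Utot : X.Opens := ⨆ η : {η : W // η ∈ P}, Uf η.1 η.2
  have hUtotW : Utot ≤ W := iSup_le fun η => hUfW η.1 η.2
  refine hasRegularMero_of_generic_section (locFinWeakAss_of_isLocallyNoetherian X) hL Utot
    (L.presheaf.map (homOfLE hUtotW).op m) (fun η' hη' => ?_)
  have hη'W : η' ∈ W := hAss η' ((isWeakAssPoint_structure_iff η').mp hη')
  have hη'S : η' ∈ S := ⟨hη'W, hη'⟩
  obtain ⟨η₀, hηle, hηmin⟩ := hSfin.exists_le_minimal hη'S
  have hη₀W : η₀ ∈ W := hηmin.1.1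
  let η : W := ⟨η₀, hη₀W⟩
  have hηP : η ∈ P := Finset.mem_subtype.mpr
    (Finset.mem_filter.mpr ⟨hSfin.mem_toFinset.mpr hηmin.1, hηmin⟩)
  have hsp : η' ⤳ η.1 := hηle
  have hη'Uf : η' ∈ Uf η hηP := hsp.mem_open (Uf η hηP).isOpen (hηUf η hηP)
  have hle : Uf η hηP ≤ Utot := le_iSup (fun η : {η : W // η ∈ P} => Uf η.1 η.2) ⟨η, hηP⟩
  refine ⟨hle hη'Uf, fun d hd => ?_⟩
  apply (hfree η hηP).germ_eq_zero_of_smul_eq_zero hη'Uf d
  have e1 : L.presheaf.germ (Uf η hηP) η' hη'Uf (L.presheaf.map (homOfLE (hUfW η hηP)).op m) =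
      L.presheaf.germ W η' hη'W m :=
    TopCat.Presheaf.germ_res_apply L.presheaf (homOfLE (hUfW η hηP)) η' hη'Uf m
  have e2 : L.presheaf.germ Utot η' (hle hη'Uf) (L.presheaf.map (homOfLE hUtotW).op m) =
      L.presheaf.germ W η' hη'W m :=
    TopCat.Presheaf.germ_res_apply L.presheaf (homOfLE hUtotW) η' (hle hη'Uf) m
  rw [e1, ← e2]
  exact hd

theorem main [IsLocallyNoetherian X]
    (hX : ∃ W : X.Opens, IsAffineOpen W ∧ ∀ x : ↥X,
      IsAssociatedPrime (IsLocalRing.maximalIdeal ↑(X.presheaf.stalk x)) ↑(X.presheaf.stalk x) →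
        x ∈ W)
    (L : X.Modules) (hL : PicF.IsInvertible L) :
    ∃ D : Mero.Divisor X, Nonempty (L ≅ Mero.divMod D) := by
  obtain ⟨s, hs⟩ := hasRegularMero_of_ass_subset_affine hX L hL
  exact Groth.Agent.H54.MeroDivIso.exists_iso_divMod (regExt_of_isLocallyNoetherian X) hL s hs

end Groth.Agent.H54.AssAffine
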