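import Mathlib
import Groth.Prelude.Def_C1
import Groth.Prelude.Def_SecTwist
import Groth.Agent.H54.C1Cap
import Groth.Agent.H5.Stalk.Tensor
import Groth.Agent.H18.STL.Basic
import Groth.Agent.H8.MeroGen

/-!
# `c₁(L) ∩ α + c₁(N) ∩ α ∼ c₁(L ⊗ N) ∩ α` (helper54)
-/

set_option autoImplicit false
universe u
open CategoryTheory CategoryTheory.Limits AlgebraicGeometry TopologicalSpace Opposite Order

namespace Groth.Agent.H54.C1Tensor

open Groth.Agent.H8 Groth.Agent.H18 Groth.Agent.H54.SecOrd Groth.Agent.H54.SecOrdGen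
  Groth.Agent.H54.C1Cap Groth.Agent.H5.Stalk.Tensor

variable {X : Scheme.{u}}

theorem chart {L N : X.Modules} (hL : PicF.IsInvertible L) (hN : PicF.IsInvertible N) (x : X) :
    ∃ (U : X.Opens) (_ : x ∈ U) (σL : Γ(L, U)) (σN : Γ(N, U)),
      IsFreeGen L U σL ∧ IsFreeGen N U σN := by
  obtain ⟨U₁, hx₁, σ₁, h₁⟩ := exists_isFreeGen_of_isInvertible hL x
  obtain ⟨U₂, hx₂, σ₂, h₂⟩ := exists_isFreeGen_of_isInvertible hN x
  exact ⟨U₁ ⊓ U₂, ⟨hx₁, hx₂⟩, _, _, h₁.res inf_le_left, h₂.res inf_le_right⟩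

theorem isFreeGen_tmul {L N : X.Modules} {U : X.Opens} {σL : Γ(L, U)} {σN : Γ(N, U)}
    (hσL : IsFreeGen L U σL) (hσN : IsFreeGen N U σN) :
    IsFreeGen (CohB1.tensorMod L N) U (SecTwist.tmul L N U σL σN) := by
  intro V hV
  exact STL.isBasisOn_tmul (fun V hV => hσL V hV) (fun V hV => hσN V hV) V hV

/-- local form of germs and their product in a common chart -/
theorem local_form (L N : X.Modules) (ξ : X) (s0 : L.presheaf.stalk ξ)
    (t0 : N.presheaf.stalk ξ) {U : X.Opens}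
    (hξU : ξ ∈ U) {σL : Γ(L, U)} {σN : Γ(N, U)} (hσL : IsFreeGen L U σL)
    (hσN : IsFreeGen N U σN) :
    ∃ a c : X.presheaf.stalk ξ,
      s0 = a • L.presheaf.germ U ξ hξU σL ∧
      t0 = c • N.presheaf.germ U ξ hξU σN ∧
      b ξ L N s0 t0 = (a * c) •
        (CohB1.tensorMod L N).presheaf.germ U ξ hξU (SecTwist.tmul L N U σL σN) := by
  obtain ⟨a, ha⟩ := (hσL.germ_bijective hξU).2 s0
  obtain ⟨c, hc⟩ := (hσN.germ_bijective hξU).2 t0
  have ha' : a • L.presheaf.germ U ξ hξU σL = s0 := ha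
  have hc' : c • N.presheaf.germ U ξ hξU σN = t0 := hc
  refine ⟨a, c, ha'.symm, hc'.symm, ?_⟩
  rw [← ha', ← hc', b_smul_left, b_smul_right, b_germ, ← mul_smul]
  rfl

/-- the order of a rational section written in a chart -/
theorem secOrdAt_chart (M : X.Modules) {U : X.Opens} {σ : Γ(M, U)} (hσ : IsFreeGen M U σ)
    {x ξ : X} (h : ξ ⤳ x) (hxU : x ∈ U) (a : X.presheaf.stalk ξ)
    (ha : a ∉ IsLocalRing.maximalIdeal (X.presheaf.stalk ξ)) (m0 : M.presheaf.stalk ξ)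
    (hm0 : m0 = a • M.presheaf.germ U ξ (h.mem_open U.2 hxU) σ) :
    Cyc.secOrdAt M ξ x h (Submodule.Quotient.mk m0) = Cyc.ordAt x ξ h (X.residue ξ a) := by
  have hspec : (M.presheaf.stalkSpecializes h) (M.presheaf.germ U x hxU σ) =
      M.presheaf.germ U ξ (h.mem_open U.2 hxU) σ :=
    TopCat.Presheaf.germ_stalkSpecializes_apply _ _ _ _
  refine secOrdAt_eq_ordAt M h (M.presheaf.germ U x hxU σ) (hσ.germ_bijective hxU) ?_ a ha _ ?_
  · rw [hspec]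
    exact hσ.germ_bijective _
  · rw [hspec, hm0]

theorem not_mem_of_mk_ne_zero (M : X.Modules) {U : X.Opens} {σ : Γ(M, U)} (hσ : IsFreeGen M U σ)
    {ξ : X} (hξU : ξ ∈ U) (a : X.presheaf.stalk ξ) (m0 : M.presheaf.stalk ξ)
    (hm0 : m0 = a • M.presheaf.germ U ξ hξU σ)
    (hne : (Submodule.Quotient.mk m0 : Cyc.secFibre M ξ) ≠ 0) :
    a ∉ IsLocalRing.maximalIdeal (X.presheaf.stalk ξ) := by
  intro hmem
  apply hne
  rw [hm0]
  exact (mk_smul_eq_zero_iff M ξ _ (hσ.germ_bijective hξU) a).mpr hmem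

/-- the order of the product of two rational sections is the sum of the orders -/
theorem secOrdAt_b {L N : X.Modules} (hL : PicF.IsInvertible L) (hN : PicF.IsInvertible N)
    {x ξ : X} (h : ξ ⤳ x) (s0 : L.presheaf.stalk ξ) (t0 : N.presheaf.stalk ξ)
    (hs : (Submodule.Quotient.mk s0 : Cyc.secFibre L ξ) ≠ 0)
    (ht : (Submodule.Quotient.mk t0 : Cyc.secFibre N ξ) ≠ 0) :
    Cyc.secOrdAt (CohB1.tensorMod L N) ξ x h (Submodule.Quotient.mk (b ξ L N s0 t0)) =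
      Cyc.secOrdAt L ξ x h (Submodule.Quotient.mk s0) +
        Cyc.secOrdAt N ξ x h (Submodule.Quotient.mk t0) := by
  obtain ⟨U, hxU, σL, σN, hσL, hσN⟩ := chart hL hN x
  have hξU : ξ ∈ U := h.mem_open U.2 hxU
  obtain ⟨a, c, hsa, htc, hb⟩ := local_form L N ξ s0 t0 hξU hσL hσN
  have ha := not_mem_of_mk_ne_zero L hσL hξU a s0 hsa hs
  have hc := not_mem_of_mk_ne_zero N hσN hξU c t0 htc ht
  have hac : a * c ∉ IsLocalRing.maximalIdeal (X.presheaf.stalk ξ) := fun hmem =>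
    ((IsLocalRing.maximalIdeal.isMaximal _).isPrime.mem_or_mem hmem).elim ha hc
  rw [secOrdAt_chart L hσL h hxU a ha s0 hsa, secOrdAt_chart N hσN h hxU c hc t0 htc,
    secOrdAt_chart _ (isFreeGen_tmul hσL hσN) h hxU (a * c) hac _ hb, map_mul]
  exact ordAt_mul x ξ h (fun h0 => ha ((residue_eq_zero_iff ξ a).mp h0))
    (fun h0 => hc ((residue_eq_zero_iff ξ c).mp h0))

/-- every nonzero rational section of `L ⊗ N` is a unit multiple of the product of two given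
nonzero rational sections -/
theorem exists_unit_smul_b {L N : X.Modules} (hL : PicF.IsInvertible L) (hN : PicF.IsInvertible N)
    (ξ : X) (s0 : L.presheaf.stalk ξ) (t0 : N.presheaf.stalk ξ)
    (hs : (Submodule.Quotient.mk s0 : Cyc.secFibre L ξ) ≠ 0)
    (ht : (Submodule.Quotient.mk t0 : Cyc.secFibre N ξ) ≠ 0)
    (w : Cyc.secFibre (CohB1.tensorMod L N) ξ) (hw : w ≠ 0) :
    ∃ e : X.presheaf.stalk ξ, e ∉ IsLocalRing.maximalIdeal (X.presheaf.stalk ξ) ∧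
      w = Submodule.Quotient.mk (e • b ξ L N s0 t0) := by
  obtain ⟨U, hξU, σL, σN, hσL, hσN⟩ := chart hL hN ξ
  obtain ⟨a, c, hsa, htc, hb⟩ := local_form L N ξ s0 t0 hξU hσL hσN
  have ha := not_mem_of_mk_ne_zero L hσL hξU a s0 hsa hs
  have hc := not_mem_of_mk_ne_zero N hσN hξU c t0 htc ht
  have hac : a * c ∉ IsLocalRing.maximalIdeal (X.presheaf.stalk ξ) := fun hmem =>
    ((IsLocalRing.maximalIdeal.isMaximal _).isPrime.mem_or_mem hmem).elim ha hc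
  have hunit : IsUnit (a * c) := by
    by_contra hnu
    exact hac ((IsLocalRing.mem_maximalIdeal _).mpr hnu)
  obtain ⟨u, hu⟩ := hunit
  obtain ⟨w0, rfl⟩ := Submodule.Quotient.mk_surjective _ w
  obtain ⟨e', he'⟩ := ((isFreeGen_tmul hσL hσN).germ_bijective hξU).2 w0
  have he'' : e' • (CohB1.tensorMod L N).presheaf.germ U ξ hξU (SecTwist.tmul L N U σL σN) = w0 :=
    he'
  have he'm := not_mem_of_mk_ne_zero _ (isFreeGen_tmul hσL hσN) hξU e' w0 he''.symm hw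
  refine ⟨e' * (↑u⁻¹ : (X.presheaf.stalk ξ)ˣ), ?_, ?_⟩
  · intro hmem
    rcases (IsLocalRing.maximalIdeal.isMaximal _).isPrime.mem_or_mem hmem with h1 | h1
    · exact he'm h1
    · exact (IsLocalRing.mem_maximalIdeal _).mp h1 (Units.isUnit _)
  · rw [hb, ← hu, ← mul_smul, mul_assoc, Units.inv_mul, mul_one, he'']

/-- changing a rational section by a unit changes its order by the order of the unit -/
theorem secOrdAt_smul_b {L N : X.Modules} (hL : PicF.IsInvertible L) (hN : PicF.IsInvertible N)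
    {x ξ : X} (h : ξ ⤳ x) (s0 : L.presheaf.stalk ξ) (t0 : N.presheaf.stalk ξ)
    (hs : (Submodule.Quotient.mk s0 : Cyc.secFibre L ξ) ≠ 0)
    (ht : (Submodule.Quotient.mk t0 : Cyc.secFibre N ξ) ≠ 0)
    (e : X.presheaf.stalk ξ) (he : e ∉ IsLocalRing.maximalIdeal (X.presheaf.stalk ξ)) :
    Cyc.secOrdAt (CohB1.tensorMod L N) ξ x h (Submodule.Quotient.mk (e • b ξ L N s0 t0)) =
      Cyc.ordAt x ξ h (X.residue ξ e) +
        (Cyc.secOrdAt L ξ x h (Submodule.Quotient.mk s0) +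
          Cyc.secOrdAt N ξ x h (Submodule.Quotient.mk t0)) := by
  rw [← secOrdAt_b hL hN h s0 t0 hs ht]
  obtain ⟨U, hxU, σL, σN, hσL, hσN⟩ := chart hL hN x
  have hξU : ξ ∈ U := h.mem_open U.2 hxU
  obtain ⟨a, c, hsa, htc, hb⟩ := local_form L N ξ s0 t0 hξU hσL hσN
  have ha := not_mem_of_mk_ne_zero L hσL hξU a s0 hsa hs
  have hc := not_mem_of_mk_ne_zero N hσN hξU c t0 htc ht
  have hac : a * c ∉ IsLocalRing.maximalIdeal (X.presheaf.stalk ξ) := fun hmem =>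
    ((IsLocalRing.maximalIdeal.isMaximal _).isPrime.mem_or_mem hmem).elim ha hc
  have heac : e * (a * c) ∉ IsLocalRing.maximalIdeal (X.presheaf.stalk ξ) := fun hmem =>
    ((IsLocalRing.maximalIdeal.isMaximal _).isPrime.mem_or_mem hmem).elim he hac
  have hb' : e • b ξ L N s0 t0 = (e * (a * c)) •
      (CohB1.tensorMod L N).presheaf.germ U ξ hξU (SecTwist.tmul L N U σL σN) := by
    rw [hb, ← mul_smul]
  rw [secOrdAt_chart _ (isFreeGen_tmul hσL hσN) h hxU (a * c) hac _ hb,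
    secOrdAt_chart _ (isFreeGen_tmul hσL hσN) h hxU (e * (a * c)) heac _ hb', map_mul]
  exact ordAt_mul x ξ h (fun h0 => he ((residue_eq_zero_iff ξ e).mp h0))
    (fun h0 => hac ((residue_eq_zero_iff ξ (a * c)).mp h0))

theorem main (δ : X → ℤ) (L N : X.Modules) (hL : PicF.IsInvertible L) (hN : PicF.IsInvertible N)
    (k : ℤ) (α : AlgebraicCycle X ℤ) (hα : α ∈ Cyc.Zk X δ (k + 1))
    (sL : (ξ : X) → Cyc.secFibre L ξ) (hsL : ∀ ξ, sL ξ ≠ 0)
    (sN : (ξ : X) → Cyc.secFibre N ξ) (hsN : ∀ ξ, sN ξ ≠ 0)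
    (sT : (ξ : X) → Cyc.secFibre (CohB1.tensorMod L N) ξ) (hsT : ∀ ξ, sT ξ ≠ 0)
    (γL γN γT : AlgebraicCycle X ℤ) (hγL : ⇑γL = Cyc.c1CapFun δ L ⇑α sL)
    (hγN : ⇑γN = Cyc.c1CapFun δ N ⇑α sN)
    (hγT : ⇑γT = Cyc.c1CapFun δ (CohB1.tensorMod L N) ⇑α sT) :
    Cyc.RatEquiv δ k (γL + γN) γT := by
  have hexL : ∀ ξ, ∃ s0 : L.presheaf.stalk ξ,
      (Submodule.Quotient.mk s0 : Cyc.secFibre L ξ) = sL ξ :=
    fun ξ => Submodule.Quotient.mk_surjective _ _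
  have hexN : ∀ ξ, ∃ t0 : N.presheaf.stalk ξ,
      (Submodule.Quotient.mk t0 : Cyc.secFibre N ξ) = sN ξ :=
    fun ξ => Submodule.Quotient.mk_surjective _ _
  choose s0 hs0 using hexL
  choose t0 ht0 using hexN
  have hs0ne : ∀ ξ, (Submodule.Quotient.mk (s0 ξ) : Cyc.secFibre L ξ) ≠ 0 :=
    fun ξ => (hs0 ξ).symm ▸ hsL ξ
  have ht0ne : ∀ ξ, (Submodule.Quotient.mk (t0 ξ) : Cyc.secFibre N ξ) ≠ 0 :=
    fun ξ => (ht0 ξ).symm ▸ hsN ξ
  choose e he hsT' using fun ξ =>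
    exists_unit_smul_b hL hN ξ (s0 ξ) (t0 ξ) (hs0ne ξ) (ht0ne ξ) (sT ξ) (hsT ξ)
  have hre : ∀ ξ, X.residue ξ (e ξ) ≠ 0 := fun ξ h0 => he ξ ((residue_eq_zero_iff ξ _).mp h0)
  unfold Cyc.RatEquiv
  refine ratEquivZero_of_sum δ k α hα (fun ξ => (X.residue ξ (e ξ))⁻¹)
    (fun ξ => inv_ne_zero (hre ξ)) _ ?_
  intro x
  have hcoe : (γL + γN - γT) x = γL x + γN x - γT x := rfl
  rw [hcoe, hγL, hγN, hγT]
  unfold Cyc.c1CapFun
  have hfin : ∀ (F : X → ℤ), (∀ ξ, ¬ ξ ⤳ x → F ξ = 0) →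
      (Function.support fun ξ => α ξ * F ξ).Finite := by
    intro F hF
    refine (finite_gen_support α x).subset ?_
    intro ξ hξ
    rw [Function.mem_support] at hξ
    refine ⟨fun h0 => hξ (by rw [h0, zero_mul]), ?_⟩
    by_contra hsp
    exact hξ (by rw [hF ξ hsp, mul_zero])
  have hsd : ∀ (M : X.Modules) (s : (ξ : X) → Cyc.secFibre M ξ) (ξ : X), ¬ ξ ⤳ x →
      Cyc.secDivFun δ M ξ (s ξ) x = 0 := by
    intro M s ξ hsp
    unfold Cyc.secDivFun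
    rw [dif_neg (fun h => hsp h.1)]
  have hfL := hfin (fun ξ => Cyc.secDivFun δ L ξ (sL ξ) x) (hsd L sL)
  have hfN := hfin (fun ξ => Cyc.secDivFun δ N ξ (sN ξ) x) (hsd N sN)
  have hfT := hfin (fun ξ => Cyc.secDivFun δ (CohB1.tensorMod L N) ξ (sT ξ) x) (hsd _ sT)
  rw [← finsum_add_distrib hfL hfN, ← finsum_sub_distrib ((hfL.union hfN).subset
    (Function.support_add _ _)) hfT]
  refine finsum_congr fun ξ => ?_
  rw [← mul_add, ← mul_sub]
  congr 1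
  rw [divFun_inv δ ξ (hre ξ) x]
  unfold Cyc.secDivFun Cyc.divFun
  split_ifs with h
  · rw [hsT' ξ, secOrdAt_smul_b hL hN h.1 (s0 ξ) (t0 ξ) (hs0ne ξ) (ht0ne ξ) (e ξ) (he ξ),
      hs0 ξ, ht0 ξ]
    ring
  · simp

end Groth.Agent.H54.C1Tensor
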