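import Mathlib
import Groth.Prelude.Def_W4stkchowintpicEnv

set_option autoImplicit false
universe u
open CategoryTheory CategoryTheory.Limits AlgebraicGeometry

namespace Groth.Agent.H54.CDBase

theorem main (X X' Y : Scheme.{u}) (f : Y ⟶ X) (g : X' ⟶ X)
    (hcd : Cyc.IsCompletelyDecomposed f) : Cyc.IsCompletelyDecomposed (pullback.snd f g) := by
  intro x'
  obtain ⟨y, hy, hsurj⟩ := hcd (g x')
  -- the residue field extension at `y` is an isomorphism
  have hbij : Function.Bijective (f.residueFieldMap y).hom :=
    ⟨(f.residueFieldMap y).hom.injective, hsurj⟩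
  haveI : IsIso (f.residueFieldMap y) := (ConcreteCategory.isIso_iff_bijective _).mpr hbij
  let φ : Y.residueField y ⟶ X'.residueField x' :=
    inv (f.residueFieldMap y) ≫ (X.residueFieldCongr hy).hom ≫ g.residueFieldMap x'
  have hφ : f.residueFieldMap y ≫ φ = (X.residueFieldCongr hy).hom ≫ g.residueFieldMap x' := by
    change f.residueFieldMap y ≫ inv (f.residueFieldMap y) ≫ _ = _
    rw [IsIso.hom_inv_id_assoc]
  let b : Spec (X'.residueField x') ⟶ Y := Spec.map φ ≫ Y.fromSpecResidueField y
  let a : Spec (X'.residueField x') ⟶ X' := X'.fromSpecResidueField x'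
  have comm : b ≫ f = a ≫ g := by
    change (Spec.map φ ≫ Y.fromSpecResidueField y) ≫ f = X'.fromSpecResidueField x' ≫ g
    rw [Category.assoc, ← Scheme.Hom.SpecMap_residueFieldMap_fromSpecResidueField,
      ← Spec.map_comp_assoc, hφ, Spec.map_comp_assoc,
      Scheme.residueFieldCongr_fromSpecResidueField,
      Scheme.Hom.SpecMap_residueFieldMap_fromSpecResidueField]
  let ℓ : Spec (CommRingCat.of ↑(X'.residueField x')) ⟶ pullback f g := pullback.lift b a comm
  have hℓ : ℓ ≫ pullback.snd f g = a := pullback.lift_snd _ _ _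
  set pt : Spec (CommRingCat.of ↑(X'.residueField x')) :=
    IsLocalRing.closedPoint (X'.residueField x') with hpt
  refine ⟨ℓ pt, ?_, ?_⟩
  · change (ℓ ≫ pullback.snd f g) pt = x'
    rw [hℓ]
    exact Scheme.fromSpecResidueField_apply _ _
  · -- compare the two descriptions of `ℓ ≫ snd = a` as a `Spec K`-point
    have h1 : (Scheme.SpecToEquivOfField (X'.residueField x') X') (ℓ ≫ pullback.snd f g) =
        ⟨x', 𝟙 _⟩ := by
      rw [hℓ]
      have : a = (Scheme.SpecToEquivOfField (X'.residueField x') X').symm ⟨x', 𝟙 _⟩ := by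
        change X'.fromSpecResidueField x' = Spec.map (𝟙 _) ≫ X'.fromSpecResidueField x'
        rw [Spec.map_id, Category.id_comp]
      rw [this, Equiv.apply_symm_apply]
    rw [Scheme.SpecToEquivOfField_eq_iff] at h1
    obtain ⟨e1, h2⟩ := h1
    have h3 := Scheme.descResidueField_stalkClosedPointTo_comp (pullback.snd f g) ℓ
    have h4 : (pullback.snd f g).residueFieldMap (ℓ pt) ≫
        Scheme.descResidueField (Scheme.stalkClosedPointTo ℓ) = (X'.residueFieldCongr e1).hom := by
      rw [← h3]
      exact h2.trans (Category.comp_id _)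
    intro w
    refine ⟨(X'.residueFieldCongr e1).inv (Scheme.descResidueField (Scheme.stalkClosedPointTo ℓ) w), ?_⟩
    apply (Scheme.descResidueField (Scheme.stalkClosedPointTo ℓ)).hom.injective
    have h5 := congrArg (fun ψ => ψ.hom ((X'.residueFieldCongr e1).inv
      (Scheme.descResidueField (Scheme.stalkClosedPointTo ℓ) w))) h4
    refine (h5 : _ = _).trans ?_
    exact congrArg (fun ψ => ψ.hom (Scheme.descResidueField (Scheme.stalkClosedPointTo ℓ) w))
      (X'.residueFieldCongr e1).inv_hom_id

end Groth.Agent.H54.CDBase
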