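import Mathlib
import Groth.Prelude.Def_Pic
import Groth.Prelude.Def_MeroDiv
import Groth.Agent.H18.STL.Invertible
import Groth.Agent.H18.STL.Basic

/-!
# An invertible module realising a unit cocycle (helper54)

Given an open cover `U i` and units `η i j` on the overlaps satisfying the cocycle identity, we build
the module `L` of families `(m_y)_y`, `m_y ∈ O_{X,y}`, which are locally of the form
`m_y = g_y · (η j (idx y))_y`, where `idx y` is a chosen index with `y ∈ U (idx y)`.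
-/

set_option autoImplicit false
universe u
open CategoryTheory CategoryTheory.Limits AlgebraicGeometry TopologicalSpace Opposite

namespace Groth.Agent.H54.CocycleGlue

open Groth.Agent.H18 Groth.Agent.H18.PUP

variable {X : Scheme.{u}} {ι : Type u} (U : ι → X.Opens) (η : ∀ i j : ι, (Γ(X, U i ⊓ U j))ˣ)

/-- germ of the transition function -/
noncomputable def ηg (i j : ι) (y : X) (hy : y ∈ U i ⊓ U j) : X.presheaf.stalk y :=
  X.presheaf.germ (U i ⊓ U j) y hy (η i j : Γ(X, U i ⊓ U j))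

theorem isUnit_ηg (i j : ι) (y : X) (hy : y ∈ U i ⊓ U j) : IsUnit (ηg U η i j y hy) :=
  (η i j).isUnit.map _

theorem ηg_res (i j : ι) (W : X.Opens) (hW : W ≤ U i ⊓ U j) (y : X) (hy : y ∈ W) :
    X.presheaf.germ W y hy (X.presheaf.map (homOfLE hW).op (η i j : Γ(X, U i ⊓ U j))) =
      ηg U η i j y (hW hy) :=
  TopCat.Presheaf.germ_res_apply X.presheaf (homOfLE hW) y hy _

section cocycle

variable (hη : ∀ i j k : ι,
      X.presheaf.map (homOfLE (inf_le_inf_right (U k) inf_le_left : U i ⊓ U j ⊓ U k ≤ U i ⊓ U k)).op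
          (η i k : Γ(X, U i ⊓ U k)) =
        X.presheaf.map (homOfLE (inf_le_left : U i ⊓ U j ⊓ U k ≤ U i ⊓ U j)).op (η i j : Γ(X, U i ⊓ U j)) *
          X.presheaf.map (homOfLE (inf_le_inf_right (U k) inf_le_right : U i ⊓ U j ⊓ U k ≤ U j ⊓ U k)).op
            (η j k : Γ(X, U j ⊓ U k)))

include hη in
theorem ηg_cocycle (i j k : ι) (y : X) (hi : y ∈ U i) (hj : y ∈ U j) (hk : y ∈ U k) :
    ηg U η i k y ⟨hi, hk⟩ = ηg U η i j y ⟨hi, hj⟩ * ηg U η j k y ⟨hj, hk⟩ := by
  have h := congrArg (X.presheaf.germ (U i ⊓ U j ⊓ U k) y ⟨⟨hi, hj⟩, hk⟩) (hη i j k)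
  rw [map_mul, TopCat.Presheaf.germ_res_apply, TopCat.Presheaf.germ_res_apply,
    TopCat.Presheaf.germ_res_apply] at h
  exact h

variable (hU : iSup U = ⊤)

include hU in
theorem exists_idx (y : X) : ∃ i, y ∈ U i := by
  have h : y ∈ (⊤ : X.Opens) := trivial
  rw [← hU] at h
  exact Opens.mem_iSup.mp h

/-- a chosen index of the cover at each point -/
noncomputable def idx (y : X) : ι := (exists_idx U hU y).choose

theorem idx_mem (y : X) : y ∈ U (idx U hU y) := (exists_idx U hU y).choose_spec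

/-- the value at `y` of the generator attached to the index `j` -/
noncomputable def gen (j : ι) (y : X) (hj : y ∈ U j) : X.presheaf.stalk y :=
  ηg U η j (idx U hU y) y ⟨hj, idx_mem U hU y⟩

theorem isUnit_gen (j : ι) (y : X) (hj : y ∈ U j) : IsUnit (gen U η hU j y hj) :=
  isUnit_ηg U η _ _ y _

include hη in
theorem gen_eq (i j : ι) (y : X) (hi : y ∈ U i) (hj : y ∈ U j) :
    gen U η hU i y hi = ηg U η i j y ⟨hi, hj⟩ * gen U η hU j y hj :=
  ηg_cocycle U η hη i j _ y hi hj (idx_mem U hU y)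

/-- the prelocal predicate: a multiple of one of the generators -/
def pre : TopCat.PrelocalPredicate (fun x : X => (X.presheaf.stalk x : Type u)) where
  pred {V} m := ∃ (j : ι) (hj : V ≤ U j) (g : Γ(X, V)),
    ∀ y : V, m y = X.presheaf.germ V y.1 y.2 g * gen U η hU j y.1 (hj y.2)
  res {W V} i m := by
    rintro ⟨j, hj, g, h⟩
    refine ⟨j, i.le.trans hj, X.presheaf.map i.op g, fun y => ?_⟩
    dsimp only
    rw [h, TopCat.Presheaf.germ_res_apply]
    rfl

/-- the local predicate -/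
def loc : TopCat.LocalPredicate (fun x : X => (X.presheaf.stalk x : Type u)) :=
  (pre U η hU).sheafify

theorem loc_zero (V : X.Opens) : (loc U η hU).pred (0 : ∀ x : V, X.presheaf.stalk x.1) := fun x =>
  ⟨V ⊓ U (idx U hU x.1), ⟨x.2, idx_mem U hU x.1⟩, homOfLE inf_le_left, idx U hU x.1, inf_le_right, 0,
    fun y => by
      change (0 : X.presheaf.stalk y.1) = _
      rw [map_zero, zero_mul]⟩

include hη in
theorem loc_add (V : X.Opens) (f g : ∀ x : V, X.presheaf.stalk x.1)
    (hf : (loc U η hU).pred f) (hg : (loc U η hU).pred g) : (loc U η hU).pred (f + g) := fun x => by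
  obtain ⟨Va, ma, ia, ja, hja, ra, wa⟩ := hf x
  obtain ⟨Vb, mb, ib, jb, hjb, rb, wb⟩ := hg x
  have hab : Va ⊓ Vb ≤ U jb ⊓ U ja := fun z hz => ⟨hjb hz.2, hja hz.1⟩
  refine ⟨Va ⊓ Vb, Opens.mem_inf.mpr ⟨ma, mb⟩, homOfLE inf_le_left ≫ ia, ja,
    inf_le_left.trans hja,
    X.presheaf.map (homOfLE (inf_le_left : Va ⊓ Vb ≤ Va)).op ra +
      X.presheaf.map (homOfLE (inf_le_right : Va ⊓ Vb ≤ Vb)).op rb *
        X.presheaf.map (homOfLE hab).op (η jb ja : Γ(X, U jb ⊓ U ja)), fun y => ?_⟩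
  have wa' := wa ⟨y.1, y.2.1⟩
  have wb' := wb ⟨y.1, y.2.2⟩
  dsimp only at wa' wb'
  change f (ia ⟨y.1, y.2.1⟩) + g (ib ⟨y.1, y.2.2⟩) = _
  rw [wa', wb', map_add, map_mul, TopCat.Presheaf.germ_res_apply, TopCat.Presheaf.germ_res_apply,
    ηg_res, gen_eq U η hη hU jb ja y.1 (hjb y.2.2) (hja y.2.1)]
  ring

theorem loc_smul (V : X.Opens) (r : Γ(X, V)) (f : ∀ x : V, X.presheaf.stalk x.1)
    (hf : (loc U η hU).pred f) :
    (loc U η hU).pred fun x => X.presheaf.germ V x.1 x.2 r • f x := fun x => by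
  obtain ⟨W, m, i, j, hj, a, w⟩ := hf x
  refine ⟨W, m, i, j, hj, X.presheaf.map i.op r * a, fun y => ?_⟩
  have w' := w y
  dsimp only at w'
  change X.presheaf.germ V _ _ r • f _ = _
  rw [w', smul_eq_mul, map_mul, TopCat.Presheaf.germ_res_apply, mul_assoc]
  rfl

include hη in
theorem isModPred : Mero.IsModPred (loc U η hU) :=
  ⟨loc_zero U η hU, loc_add U η hη hU, loc_smul U η hU⟩

/-- the glued module -/
noncomputable def Lmod : X.Modules :=
  haveI := isModPred U η hη hU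
  Mero.modOf (loc U η hU)

/-- evaluation of a section -/
noncomputable def ev {V : X.Opens} (f : Γ(Lmod U η hη hU, V)) (y : V) : X.presheaf.stalk y.1 :=
  haveI := isModPred U η hη hU
  (show Γ(Mero.modOf (loc U η hU), V) from f).1 y

theorem ev_ext {V : X.Opens} {f g : Γ(Lmod U η hη hU, V)}
    (h : ∀ y : V, ev U η hη hU f y = ev U η hη hU g y) : f = g :=
  Subtype.ext (funext h)

theorem ev_smul {V : X.Opens} (r : Γ(X, V)) (f : Γ(Lmod U η hη hU, V)) (y : V) :
    ev U η hη hU (r • f) y = X.presheaf.germ V y.1 y.2 r * ev U η hη hU f y := rfl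

theorem ev_map {V W : X.Opens} (i : W ⟶ V) (f : Γ(Lmod U η hη hU, V)) (y : W) :
    ev U η hη hU ((Lmod U η hη hU).presheaf.map i.op f) y = ev U η hη hU f ⟨y.1, i.le y.2⟩ := rfl

theorem ev_loc {V : X.Opens} (f : Γ(Lmod U η hη hU, V)) (x : V) :
    ∃ (W : X.Opens) (_ : x.1 ∈ W) (hWV : W ≤ V) (j : ι) (hj : W ≤ U j) (g : Γ(X, W)),
      ∀ y : W, ev U η hη hU f ⟨y.1, hWV y.2⟩ =
        X.presheaf.germ W y.1 y.2 g * gen U η hU j y.1 (hj y.2) := by
  haveI := isModPred U η hη hU
  obtain ⟨W, m, i, j, hj, g, w⟩ := (show Γ(Mero.modOf (loc U η hU), V) from f).2 x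
  exact ⟨W, m, i.le, j, hj, g, fun y => w y⟩

/-- the distinguished section over `U k` -/
noncomputable def sec (k : ι) : Γ(Lmod U η hη hU, U k) :=
  haveI := isModPred U η hη hU
  show Γ(Mero.modOf (loc U η hU), U k) from
    ⟨fun y => gen U η hU k y.1 y.2, fun x => ⟨U k, x.2, 𝟙 _, k, le_rfl, 1, fun y => by
      dsimp only
      rw [map_one, one_mul]
      rfl⟩⟩

theorem ev_sec (k : ι) (y : U k) : ev U η hη hU (sec U η hη hU k) y = gen U η hU k y.1 y.2 := rfl

theorem sec_rel (i j : ι) :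
    (Lmod U η hη hU).presheaf.map (homOfLE (inf_le_left : U i ⊓ U j ≤ U i)).op (sec U η hη hU i) =
      (η i j : Γ(X, U i ⊓ U j)) •
        (Lmod U η hη hU).presheaf.map (homOfLE (inf_le_right : U i ⊓ U j ≤ U j)).op
          (sec U η hη hU j) := by
  refine ev_ext U η hη hU (fun y => ?_)
  rw [ev_smul, ev_map, ev_map, ev_sec, ev_sec]
  exact gen_eq U η hη hU i j y.1 y.2.1 y.2.2

theorem sec_injective (i : ι) (V : X.Opens) (h : V ≤ U i) :
    Function.Injective (fun r : Γ(X, V) =>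
      r • (Lmod U η hη hU).presheaf.map (homOfLE h).op (sec U η hη hU i)) := by
  intro r r' hrr
  dsimp only at hrr
  refine TopCat.Presheaf.section_ext X.sheaf _ _ _ (fun y hy => ?_)
  have h1 := congrArg (fun f => ev U η hη hU f ⟨y, hy⟩) hrr
  dsimp only at h1
  rw [ev_smul, ev_smul, ev_map, ev_sec] at h1
  exact (isUnit_gen U η hU i y (h hy)).mul_left_injective h1

theorem sec_surjective (i : ι) (V : X.Opens) (h : V ≤ U i) :
    Function.Surjective (fun r : Γ(X, V) =>
      r • (Lmod U η hη hU).presheaf.map (homOfLE h).op (sec U η hη hU i)) := by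
  intro f
  choose W hxW hWV j hj g hg using ev_loc U η hη hU f
  -- local coordinates with respect to the generator `i`
  have hWij : ∀ x : V, W x ≤ U (j x) ⊓ U i := fun x z hz => ⟨hj x hz, h (hWV x hz)⟩
  let r : ∀ x : V, Γ(X, W x) := fun x =>
    g x * X.presheaf.map (homOfLE (hWij x)).op (η (j x) i : Γ(X, U (j x) ⊓ U i))
  have hr : ∀ (x : V) (y : W x), ev U η hη hU f ⟨y.1, hWV x y.2⟩ =
      X.presheaf.germ (W x) y.1 y.2 (r x) * gen U η hU i y.1 (h (hWV x y.2)) := by
    intro x y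
    rw [hg x y, map_mul, ηg_res, gen_eq U η hη hU (j x) i y.1 (hj x y.2) (h (hWV x y.2)), mul_assoc]
  obtain ⟨a, ha⟩ := STL.exists_glue_fun W V hWV (fun x hx => ⟨⟨x, hx⟩, hxW ⟨x, hx⟩⟩) r (by
    intro x x'
    refine TopCat.Presheaf.section_ext X.sheaf _ _ _ (fun y hy => ?_)
    change X.presheaf.germ (W x ⊓ W x') y hy (X.presheaf.map (homOfLE inf_le_left).op (r x)) =
      X.presheaf.germ (W x ⊓ W x') y hy (X.presheaf.map (homOfLE inf_le_right).op (r x'))
    rw [TopCat.Presheaf.germ_res_apply, TopCat.Presheaf.germ_res_apply]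
    have h1 := hr x ⟨y, hy.1⟩
    have h2 := hr x' ⟨y, hy.2⟩
    exact (isUnit_gen U η hU i y (h (hWV x hy.1))).mul_left_injective (h1.symm.trans h2))
  refine ⟨a, ev_ext U η hη hU (fun y => ?_)⟩
  dsimp only
  rw [ev_smul, ev_map, ev_sec]
  have h1 := hr y ⟨y.1, hxW y⟩
  have h2 := congrArg (X.presheaf.germ (W y) y.1 (hxW y)) (ha y)
  rw [TopCat.Presheaf.germ_res_apply] at h2
  rw [h2]
  exact h1.symm

theorem sec_bijective (i : ι) (V : X.Opens) (h : V ≤ U i) :
    Function.Bijective (fun r : Γ(X, V) =>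
      r • (Lmod U η hη hU).presheaf.map (homOfLE h).op (sec U η hη hU i)) :=
  ⟨sec_injective U η hη hU i V h, sec_surjective U η hη hU i V h⟩

theorem isInvertible : PicF.IsInvertible (Lmod U η hη hU) := by
  refine STL.isInvertible_of_local_bases _ (fun x => ?_)
  exact ⟨U (idx U hU x), sec U η hη hU (idx U hU x), idx_mem U hU x,
    fun V hV => sec_bijective U η hη hU _ V hV⟩

include hη hU in
theorem main :
    ∃ (L : X.Modules) (s : ∀ i : ι, Γ(L, U i)),
      PicF.IsInvertible L ∧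
      (∀ (i : ι) (V : X.Opens) (h : V ≤ U i),
        Function.Bijective (fun r : Γ(X, V) => r • L.presheaf.map (homOfLE h).op (s i))) ∧
      ∀ i j : ι, L.presheaf.map (homOfLE (inf_le_left : U i ⊓ U j ≤ U i)).op (s i) =
        (η i j : Γ(X, U i ⊓ U j)) • L.presheaf.map (homOfLE (inf_le_right : U i ⊓ U j ≤ U j)).op (s j) :=
  ⟨Lmod U η hη hU, sec U η hη hU, isInvertible U η hη hU, sec_bijective U η hη hU,
    sec_rel U η hη hU⟩

end cocycle

end Groth.Agent.H54.CocycleGlue
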