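import Mathlib
import Groth.Prelude.Def_Pic
import Groth.Agent.H18.PUP.LocalBasis
import Groth.Agent.H54.MeroDivIso
import Groth.Agent.H8.MeroGen

/-!
# Modules trivialised by a cover are isomorphic iff their cocycles are cohomologous (helper54)
-/

set_option autoImplicit false
universe u
open CategoryTheory CategoryTheory.Limits AlgebraicGeometry TopologicalSpace Opposite

namespace Groth.Agent.H54.CocycleIso

open Groth.Agent.H8 Groth.Agent.H18 Groth.Agent.H18.PUP

variable {X : Scheme.{u}}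

theorem app_mres {N G : X.Modules} (φ : N ⟶ G) {W V : X.Opens} (h : V ≤ W) (t : Γ(N, W)) :
    φ.app V (mres N h t) = mres G h (φ.app W t) :=
  ConcreteCategory.congr_hom (φ.mapPresheaf.naturality (homOfLE h).op) t

/-- a unit multiple of a free generator is a free generator -/
theorem IsFreeGen.unit_smul {L : X.Modules} {U : X.Opens} {σ : Γ(L, U)} (hσ : IsFreeGen L U σ)
    (u : (Γ(X, U))ˣ) : IsFreeGen L U ((u : Γ(X, U)) • σ) := by
  intro V hV
  have hb := hσ V hV
  have hu : IsUnit (X.presheaf.map (homOfLE hV).op (u : Γ(X, U))) := u.isUnit.map _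
  obtain ⟨v, hv⟩ := hu
  have e : ∀ r : Γ(X, V), r • L.presheaf.map (homOfLE hV).op ((u : Γ(X, U)) • σ) =
      (r * v) • L.presheaf.map (homOfLE hV).op σ := by
    intro r
    have h1 : L.presheaf.map (homOfLE hV).op ((u : Γ(X, U)) • σ) =
        (v : Γ(X, V)) • L.presheaf.map (homOfLE hV).op σ := by
      rw [hv]
      exact mres_smul L hV _ σ
    rw [h1, mul_smul]
  constructor
  · intro r₁ r₂ h12
    have h12' : r₁ • L.presheaf.map (homOfLE hV).op ((u : Γ(X, U)) • σ) =
        r₂ • L.presheaf.map (homOfLE hV).op ((u : Γ(X, U)) • σ) := h12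
    rw [e, e] at h12'
    have h3 : r₁ * v = r₂ * v := hb.1 h12'
    exact (Units.mul_left_inj v).mp h3
  · intro m
    obtain ⟨r, hr⟩ := hb.2 m
    have hr' : r • L.presheaf.map (homOfLE hV).op σ = m := hr
    refine ⟨r * (↑v⁻¹ : (Γ(X, V))ˣ), ?_⟩
    change (r * (↑v⁻¹ : (Γ(X, V))ˣ)) • L.presheaf.map (homOfLE hV).op ((u : Γ(X, U)) • σ) = m
    rw [e, mul_assoc, Units.inv_mul, mul_one, hr']

section main

variable {ι : Type u} (U : ι → X.Opens) (hU : iSup U = ⊤) (L L' : X.Modules)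
  (s : ∀ i : ι, Γ(L, U i)) (s' : ∀ i : ι, Γ(L', U i))
  (hs : ∀ (i : ι) (V : X.Opens) (h : V ≤ U i),
      Function.Bijective (fun r : Γ(X, V) => r • L.presheaf.map (homOfLE h).op (s i)))
  (hs' : ∀ (i : ι) (V : X.Opens) (h : V ≤ U i),
      Function.Bijective (fun r : Γ(X, V) => r • L'.presheaf.map (homOfLE h).op (s' i)))
  (η η' : ∀ i j : ι, Γ(X, U i ⊓ U j))
  (hη : ∀ i j : ι, L.presheaf.map (homOfLE (inf_le_left : U i ⊓ U j ≤ U i)).op (s i) =
      η i j • L.presheaf.map (homOfLE (inf_le_right : U i ⊓ U j ≤ U j)).op (s j))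
  (hη' : ∀ i j : ι, L'.presheaf.map (homOfLE (inf_le_left : U i ⊓ U j ≤ U i)).op (s' i) =
      η' i j • L'.presheaf.map (homOfLE (inf_le_right : U i ⊓ U j ≤ U j)).op (s' j))

include hU hs hs' hη hη' in
theorem iso_of_units (u : ∀ i : ι, (Γ(X, U i))ˣ)
    (hu : ∀ i j : ι,
      η' i j * X.presheaf.map (homOfLE (inf_le_left : U i ⊓ U j ≤ U i)).op (u i : Γ(X, U i)) =
        X.presheaf.map (homOfLE (inf_le_right : U i ⊓ U j ≤ U j)).op (u j : Γ(X, U j)) * η i j) :
    Nonempty (L ≅ L') := by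
  have hW : ∀ y : X, ∃ i, y ∈ U i := by
    intro y
    have : y ∈ iSup U := by rw [hU]; trivial
    exact Opens.mem_iSup.mp this
  have ht : ∀ i, IsBasisOn L (U i) (s i) := fun i V hV => hs i V hV
  let γ : ∀ i, Γ(L', U i) := fun i => (u i : Γ(X, U i)) • s' i
  have hγ : ∀ i j (c : Γ(X, U i ⊓ U j)),
      mres L inf_le_right (s j) = c • mres L inf_le_left (s i) →
        mres L' inf_le_right (γ j) = c • mres L' inf_le_left (γ i) := by
    intro i j c hc
    have h1 : (η i j * c) • mres L (inf_le_left : U i ⊓ U j ≤ U i) (s i) =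
        (1 : Γ(X, U i ⊓ U j)) • mres L (inf_le_left : U i ⊓ U j ≤ U i) (s i) := by
      rw [mul_smul, ← hc, one_smul]
      exact (hη i j).symm
    have h2 : η i j * c = 1 := (hs i (U i ⊓ U j) inf_le_left).1 h1
    change mres L' inf_le_right ((u j : Γ(X, U j)) • s' j) =
      c • mres L' inf_le_left ((u i : Γ(X, U i)) • s' i)
    rw [mres_smul, mres_smul]
    have h3 : mres L' (inf_le_left : U i ⊓ U j ≤ U i) (s' i) =
        η' i j • mres L' (inf_le_right : U i ⊓ U j ≤ U j) (s' j) := hη' i j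
    rw [h3, ← mul_smul, ← mul_smul]
    congr 1
    have h4 := hu i j
    have h5 : c * X.presheaf.map (homOfLE (inf_le_left : U i ⊓ U j ≤ U i)).op (u i : Γ(X, U i)) *
        η' i j =
        X.presheaf.map (homOfLE (inf_le_right : U i ⊓ U j ≤ U j)).op (u j : Γ(X, U j)) *
          (η i j * c) := by
      rw [mul_assoc, mul_comm _ (η' i j), h4]
      ring
    rw [h5, h2, mul_one]
  let φ : L ⟶ L' := homOfLocalBasis U hW s ht γ hγ
  have hφ : ∀ i, φ.app (U i) (s i) = γ i := fun i => homOfLocalBasis_app U hW s ht γ hγ i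
  haveI : IsIso φ := by
    apply Groth.Agent.H54.MeroDivIso.isIso_of_local_bases
    intro y
    obtain ⟨i, hi⟩ := hW y
    refine ⟨U i, hi, s i, ?_, ?_⟩
    · exact IsFreeGen.germ_bijective (L := L) (σ := s i) (fun V hV => hs i V hV) hi
    · rw [hφ i]
      exact (IsFreeGen.unit_smul (L := L') (σ := s' i) (fun V hV => hs' i V hV) (u i)).germ_bijective hi
  exact ⟨asIso φ⟩

include hs hs' hη hη' in
theorem units_of_iso (e : L ≅ L') :
    ∃ u : ∀ i : ι, (Γ(X, U i))ˣ, ∀ i j : ι,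
      η' i j * X.presheaf.map (homOfLE (inf_le_left : U i ⊓ U j ≤ U i)).op (u i : Γ(X, U i)) =
        X.presheaf.map (homOfLE (inf_le_right : U i ⊓ U j ≤ U j)).op (u j : Γ(X, U j)) * η i j := by
  have hself : ∀ (M : X.Modules) (i : ι) (t : Γ(M, U i)),
      M.presheaf.map (homOfLE (le_refl (U i))).op t = t := fun M i t => mres_self M le_rfl t
  -- coordinates of `e.hom (s i)` and `e.inv (s' i)`
  have hex : ∀ i, ∃ a : Γ(X, U i), a • s' i = e.hom.app (U i) (s i) := by
    intro i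
    obtain ⟨a, ha⟩ := (hs' i (U i) le_rfl).2 (e.hom.app (U i) (s i))
    refine ⟨a, ?_⟩
    rw [← ha]
    change a • s' i = a • L'.presheaf.map (homOfLE (le_refl (U i))).op (s' i)
    rw [hself]
  have hex' : ∀ i, ∃ b : Γ(X, U i), b • s i = e.inv.app (U i) (s' i) := by
    intro i
    obtain ⟨b, hb⟩ := (hs i (U i) le_rfl).2 (e.inv.app (U i) (s' i))
    refine ⟨b, ?_⟩
    rw [← hb]
    change b • s i = b • L.presheaf.map (homOfLE (le_refl (U i))).op (s i)
    rw [hself]
  choose a ha using hex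
  choose b hb using hex'
  have hab : ∀ i, a i * b i = 1 := by
    intro i
    apply (hs i (U i) le_rfl).1
    change (a i * b i) • L.presheaf.map (homOfLE (le_refl (U i))).op (s i) =
      (1 : Γ(X, U i)) • L.presheaf.map (homOfLE (le_refl (U i))).op (s i)
    rw [hself, mul_smul, hb i, ← Scheme.Modules.Hom.app_smul, ha i, one_smul]
    have h1 : (e.hom ≫ e.inv).app (U i) (s i) = s i := by
      rw [e.hom_inv_id]
      rfl
    exact h1
  refine ⟨fun i => ⟨a i, b i, hab i, by rw [mul_comm]; exact hab i⟩, ?_⟩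
  intro i j
  change η' i j * X.presheaf.map (homOfLE (inf_le_left : U i ⊓ U j ≤ U i)).op (a i) =
    X.presheaf.map (homOfLE (inf_le_right : U i ⊓ U j ≤ U j)).op (a j) * η i j
  apply (hs' j (U i ⊓ U j) inf_le_right).1
  change (η' i j * X.presheaf.map (homOfLE (inf_le_left : U i ⊓ U j ≤ U i)).op (a i)) •
      mres L' (inf_le_right : U i ⊓ U j ≤ U j) (s' j) =
    (X.presheaf.map (homOfLE (inf_le_right : U i ⊓ U j ≤ U j)).op (a j) * η i j) •
      mres L' (inf_le_right : U i ⊓ U j ≤ U j) (s' j)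
  have h1 : e.hom.app (U i ⊓ U j) (mres L (inf_le_left : U i ⊓ U j ≤ U i) (s i)) =
      (X.presheaf.map (homOfLE (inf_le_left : U i ⊓ U j ≤ U i)).op (a i) * η' i j) •
        mres L' (inf_le_right : U i ⊓ U j ≤ U j) (s' j) := by
    rw [app_mres, ← ha i, mres_smul, mul_smul]
    congr 1
    exact hη' i j
  have h2 : e.hom.app (U i ⊓ U j) (mres L (inf_le_left : U i ⊓ U j ≤ U i) (s i)) =
      (η i j * X.presheaf.map (homOfLE (inf_le_right : U i ⊓ U j ≤ U j)).op (a j)) •
        mres L' (inf_le_right : U i ⊓ U j ≤ U j) (s' j) := by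
    have h3 : mres L (inf_le_left : U i ⊓ U j ≤ U i) (s i) =
        η i j • mres L (inf_le_right : U i ⊓ U j ≤ U j) (s j) := hη i j
    rw [h3, Scheme.Modules.Hom.app_smul, app_mres, ← ha j, mres_smul, mul_smul]
  rw [mul_comm (η' i j), mul_comm _ (η i j), ← h1, ← h2]

include hU hs hs' hη hη' in
theorem main :
    Nonempty (L ≅ L') ↔ ∃ u : ∀ i : ι, (Γ(X, U i))ˣ, ∀ i j : ι,
      η' i j * X.presheaf.map (homOfLE (inf_le_left : U i ⊓ U j ≤ U i)).op (u i : Γ(X, U i)) =
        X.presheaf.map (homOfLE (inf_le_right : U i ⊓ U j ≤ U j)).op (u j : Γ(X, U j)) * η i j :=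
  ⟨fun ⟨e⟩ => units_of_iso U L L' s s' hs hs' η η' hη hη' e,
    fun ⟨u, hu⟩ => iso_of_units U hU L L' s s' hs hs' η η' hη hη' u hu⟩

end main

end Groth.Agent.H54.CocycleIso
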