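import Mathlib

/-!
# Unique `n`-th roots along surjections with nil kernel (helper54)

Let `f : A → B` be a ring homomorphism whose kernel consists of nilpotent elements and let `n` be
invertible in `A`.  Units of `A` with the same image in `B` and the same `n`-th power are equal, and
(for `f` surjective) an `n`-th root in `B` of the image of a unit `c` of `A` lifts to an `n`-th root of
`c`.
-/

set_option autoImplicit false
universe u

namespace Groth.Agent.H54.NilRoot

open Polynomial

variable {A B : Type u} [CommRing A] [CommRing B]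

theorem eq_one_of_pow_eq_one {n : ℕ} (hn : IsUnit (n : A)) {r : A} (hr : IsNilpotent (1 - r))
    (h : r ^ n = 1) : r = 1 := by
  have key := existsUnique_nilpotent_sub_and_aeval_eq_zero (R := A) (S := A) (P := X ^ n - 1)
    (x := 1) (by simp) (by simpa [derivative_X_pow] using hn)
  exact key.unique ⟨hr, by simp [h]⟩ ⟨by simp, by simp⟩

theorem exists_root {n : ℕ} (hn : IsUnit (n : A)) {a : A} (ha : IsNilpotent (1 - a)) :
    ∃ r : A, IsNilpotent (1 - r) ∧ r ^ n = a := by
  have key := existsUnique_nilpotent_sub_and_aeval_eq_zero (R := A) (S := A) (P := X ^ n - C a)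
    (x := 1) (by simpa using ha) (by simpa [derivative_X_pow] using hn)
  obtain ⟨r, ⟨h1, h2⟩, -⟩ := key
  refine ⟨r, h1, ?_⟩
  simpa [sub_eq_zero] using h2

variable (f : A →+* B) (hker : ∀ x, f x = 0 → IsNilpotent x)

include hker in
theorem isUnit_of_map (hf : Function.Surjective f) {x : A} (hx : IsUnit (f x)) : IsUnit x := by
  obtain ⟨y', hy'⟩ := hx.exists_right_inv
  obtain ⟨y, rfl⟩ := hf y'
  have h1 : IsNilpotent (x * y - 1) := hker _ (by rw [map_sub, map_mul, hy', map_one, sub_self])
  have hu : IsUnit (x * y) := by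
    have := IsNilpotent.isUnit_add_one h1
    rwa [sub_add_cancel] at this
  exact isUnit_of_mul_isUnit_left hu

include hker in
theorem eq_of_pow_eq {n : ℕ} (hn : IsUnit (n : A)) {a b : A} (ha : IsUnit a) (hab : f a = f b)
    (h : a ^ n = b ^ n) : a = b := by
  obtain ⟨u, rfl⟩ := ha
  have hw : b * (↑u⁻¹ : A) = 1 := by
    apply eq_one_of_pow_eq_one hn
    · apply hker
      rw [map_sub, map_one, map_mul, ← hab, ← map_mul, Units.mul_inv, map_one, sub_self]
    · rw [mul_pow, ← h, ← mul_pow, Units.mul_inv, one_pow]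
  calc (u : A) = (b * (↑u⁻¹ : A)) * u := by rw [hw, one_mul]
    _ = b := by rw [mul_assoc, Units.inv_mul, mul_one]

include hker in
theorem exists_lift_root (hf : Function.Surjective f) {n : ℕ} (hn0 : 0 < n) (hn : IsUnit (n : A))
    (g : B) (c : A) (hc : IsUnit c) (h : g ^ n = f c) : ∃ a : A, f a = g ∧ a ^ n = c := by
  obtain ⟨a₀, rfl⟩ := hf g
  have hg : IsUnit (f a₀) := by
    have : IsUnit ((f a₀) ^ n) := by rw [h]; exact hc.map f
    exact (isUnit_pow_iff hn0.ne').mp this
  obtain ⟨u, hu⟩ := isUnit_of_map f hker hf hg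
  have hnB : IsUnit (n : B) := by
    have := hn.map f
    rwa [map_natCast] at this
  -- `a = c * u⁻ⁿ` maps to `1`
  have hfa : f (c * (↑(u⁻¹ ^ n) : A)) = 1 := by
    rw [map_mul, ← h, ← hu, ← map_pow, ← map_mul, ← Units.val_pow_eq_pow_val, ← Units.val_mul,
      ← mul_pow, mul_inv_cancel, one_pow, Units.val_one, map_one]
  obtain ⟨r, hr1, hr2⟩ := exists_root hn
    (a := c * (↑(u⁻¹ ^ n) : A)) (hker _ (by rw [map_sub, map_one, hfa, sub_self]))
  have hfr : f r = 1 := by
    apply eq_one_of_pow_eq_one hnB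
    · have := hr1.map f
      rwa [map_sub, map_one] at this
    · rw [← map_pow, hr2, hfa]
  refine ⟨u * r, ?_, ?_⟩
  · rw [map_mul, hfr, mul_one, hu]
  · rw [mul_pow, hr2, mul_comm c, ← mul_assoc, ← Units.val_pow_eq_pow_val, ← Units.val_mul,
      ← mul_pow, mul_inv_cancel, one_pow, Units.val_one, one_mul]

end Groth.Agent.H54.NilRoot
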