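import Mathlib
import Groth.Agent.H54.NilRoot
import Groth.Agent.H18.STL.Basic

/-!
# Unique `n`-th roots of units along a thickening (helper54)

`i : X ⟶ X'` a surjective closed immersion, `n` invertible on `X`.  Sections of `O_{X'}` over any open
which are units, have the same image in `O_X` and the same `n`-th power are equal; and an `n`-th root
on `X` of the image of a unit `c` of `O_{X'}` lifts uniquely to an `n`-th root of `c`.
-/

set_option autoImplicit false
universe u
open CategoryTheory CategoryTheory.Limits AlgebraicGeometry TopologicalSpace Opposite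

namespace Groth.Agent.H54.ThickRoot

open Groth.Agent.H18 Groth.Agent.H18.PUP

variable {X X' : Scheme.{u}} (i : X ⟶ X')

theorem app_res {V' W' : X'.Opens} (h : W' ≤ V') (a : Γ(X', V')) :
    (i.app W').hom (X'.presheaf.map (homOfLE h).op a) =
      X.presheaf.map (homOfLE (i.preimage_mono h)).op ((i.app V').hom a) :=
  ConcreteCategory.congr_hom (i.naturality (homOfLE h).op) a

theorem eq_of_locally_eq {Y : Scheme.{u}} {V : Y.Opens} (a b : Γ(Y, V))
    (h : ∀ y ∈ V, ∃ (W : Y.Opens) (hW : W ≤ V), y ∈ W ∧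
      Y.presheaf.map (homOfLE hW).op a = Y.presheaf.map (homOfLE hW).op b) : a = b := by
  refine TopCat.Presheaf.section_ext Y.sheaf _ _ _ (fun y hy => ?_)
  obtain ⟨W, hW, hyW, e⟩ := h y hy
  have h1 := congrArg (Y.presheaf.germ W y hyW) e
  rw [TopCat.Presheaf.germ_res_apply, TopCat.Presheaf.germ_res_apply] at h1
  exact h1

section thick

variable [IsClosedImmersion i] [Surjective i]

omit [IsClosedImmersion i] in
theorem isNilpotent_of_app_eq_zero {W' : X'.Opens} (hW' : IsAffineOpen W') (a : Γ(X', W'))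
    (ha : (i.app W').hom a = 0) : IsNilpotent a := by
  rw [Scheme.isNilpotent_iff_basicOpen_eq_bot_of_isCompact hW'.isCompact]
  have h1 : i ⁻¹ᵁ (X'.basicOpen a) = X.basicOpen ((i.app W').hom a) := Scheme.preimage_basicOpen i a
  rw [ha, Scheme.basicOpen_zero] at h1
  ext y
  obtain ⟨x, rfl⟩ := i.surjective y
  constructor
  · intro hy
    have : x ∈ i ⁻¹ᵁ (X'.basicOpen a) := hy
    rw [h1] at this
    exact this.elim
  · intro hy
    exact hy.elim

include i in
theorem isUnit_natCast {n : ℕ} (hn : IsUnit (n : Γ(X, ⊤))) {W' : X'.Opens} (hW' : IsAffineOpen W') :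
    IsUnit (n : Γ(X', W')) := by
  have h1 : IsUnit (X.presheaf.map (homOfLE (le_top : i ⁻¹ᵁ W' ≤ ⊤)).op (n : Γ(X, ⊤))) := hn.map _
  rw [map_natCast] at h1
  refine NilRoot.isUnit_of_map (i.app W').hom (isNilpotent_of_app_eq_zero i hW')
    (i.app_surjective W' hW') ?_
  rw [map_natCast]
  exact h1

/-- uniqueness of lifts of `n`-th roots -/
theorem eq_of_pow_eq {n : ℕ} (hn : IsUnit (n : Γ(X, ⊤))) {V' : X'.Opens} (a b : Γ(X', V'))
    (ha : IsUnit a) (hab : (i.app V').hom a = (i.app V').hom b) (h : a ^ n = b ^ n) : a = b := by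
  refine eq_of_locally_eq a b (fun y hy => ?_)
  obtain ⟨W', hW', hyW', hWV⟩ := exists_isAffineOpen_mem_and_subset (x := y) (U := V') hy
  have hWV' : W' ≤ V' := hWV
  refine ⟨W', hWV', hyW', ?_⟩
  refine NilRoot.eq_of_pow_eq (i.app W').hom (isNilpotent_of_app_eq_zero i hW')
    (isUnit_natCast i hn hW') (ha.map _) ?_ ?_
  · rw [app_res, app_res, hab]
  · rw [← map_pow, ← map_pow, h]

/-- lifting units over affine opens -/
theorem exists_lift_unit {W' : X'.Opens} (hW' : IsAffineOpen W') (v : Γ(X, i ⁻¹ᵁ W'))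
    (hv : IsUnit v) : ∃ v' : Γ(X', W'), IsUnit v' ∧ (i.app W').hom v' = v := by
  obtain ⟨v', rfl⟩ := i.app_surjective W' hW' v
  exact ⟨v', NilRoot.isUnit_of_map (i.app W').hom (isNilpotent_of_app_eq_zero i hW')
    (i.app_surjective W' hW') hv, rfl⟩

/-- existence of lifts of `n`-th roots -/
theorem exists_lift_root {n : ℕ} (hn0 : 0 < n) (hn : IsUnit (n : Γ(X, ⊤))) {V' : X'.Opens}
    (g : Γ(X, i ⁻¹ᵁ V')) (c : Γ(X', V')) (hc : IsUnit c) (h : g ^ n = (i.app V').hom c) :
    ∃ a : Γ(X', V'), (i.app V').hom a = g ∧ a ^ n = c := by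
  have hex : ∀ y : V', ∃ W' : X'.Opens, IsAffineOpen W' ∧ y.1 ∈ W' ∧ W' ≤ V' := fun y => by
    obtain ⟨W', hW', hyW', hWV⟩ := exists_isAffineOpen_mem_and_subset (x := y.1) (U := V') y.2
    exact ⟨W', hW', hyW', hWV⟩
  choose W' hW' hyW' hWV using hex
  have hloc : ∀ y : V', ∃ a : Γ(X', W' y),
      (i.app (W' y)).hom a = X.presheaf.map (homOfLE (i.preimage_mono (hWV y))).op g ∧
      a ^ n = X'.presheaf.map (homOfLE (hWV y)).op c := fun y => by
    refine NilRoot.exists_lift_root (i.app (W' y)).hom (isNilpotent_of_app_eq_zero i (hW' y))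
      (i.app_surjective (W' y) (hW' y)) hn0 (isUnit_natCast i hn (hW' y)) _ _ (hc.map _) ?_
    rw [← map_pow, h, app_res]
  choose a ha1 ha2 using hloc
  obtain ⟨b, hb⟩ := STL.exists_glue_fun W' V' hWV (fun x hx => ⟨⟨x, hx⟩, hyW' ⟨x, hx⟩⟩) a (by
    intro y y'
    refine eq_of_pow_eq i hn _ _ ?_ ?_ ?_
    · have h1 : IsUnit (a y) := by
        have : IsUnit (a y ^ n) := by rw [ha2]; exact hc.map _
        exact (isUnit_pow_iff hn0.ne').mp this
      exact h1.map _
    · change (i.app (W' y ⊓ W' y')).hom (X'.presheaf.map (homOfLE inf_le_left).op (a y)) =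
        (i.app (W' y ⊓ W' y')).hom (X'.presheaf.map (homOfLE inf_le_right).op (a y'))
      rw [app_res, app_res, ha1, ha1, ← ConcreteCategory.comp_apply, ← ConcreteCategory.comp_apply,
        ← Functor.map_comp, ← Functor.map_comp]
      rfl
    · change (X'.presheaf.map (homOfLE inf_le_left).op (a y)) ^ n =
        (X'.presheaf.map (homOfLE inf_le_right).op (a y')) ^ n
      rw [← map_pow, ← map_pow, ha2, ha2, ← ConcreteCategory.comp_apply,
        ← ConcreteCategory.comp_apply, ← Functor.map_comp, ← Functor.map_comp]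
      rfl)
  refine ⟨b, ?_, ?_⟩
  · refine eq_of_locally_eq _ _ (fun x hx => ?_)
    refine ⟨i ⁻¹ᵁ (W' ⟨i x, hx⟩), i.preimage_mono (hWV _), hyW' ⟨i x, hx⟩, ?_⟩
    rw [← app_res, ← ha1]
    congr 1
    exact hb ⟨i x, hx⟩
  · refine eq_of_locally_eq _ _ (fun y hy => ?_)
    refine ⟨W' ⟨y, hy⟩, hWV _, hyW' ⟨y, hy⟩, ?_⟩
    rw [map_pow, ← ha2]
    congr 1
    exact hb ⟨y, hy⟩

end thick

end Groth.Agent.H54.ThickRoot
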