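import Mathlib
import Groth.Prelude.Def_Pic
import Groth.Prelude.Def_MoreMor
import Groth.Agent.H54.ThickRoot
import Groth.Agent.H54.CocycleGlue
import Groth.Agent.H54.CocycleIso
import Groth.Agent.H18.STL.PullCocycle

/-!
# `Pic(X')[n] → Pic(X)[n]` is surjective for a thickening with `n` invertible (helper54)
-/

set_option autoImplicit false
universe u
open CategoryTheory CategoryTheory.Limits AlgebraicGeometry TopologicalSpace Opposite

namespace Groth.Agent.H54.ThickPic

open Groth.Agent.H18 Groth.Agent.H18.PUP Groth.Agent.H18.STL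

section bases

variable {Y : Scheme.{u}}

theorem exists_unit_of_bases {M : Y.Modules} {V : Y.Opens} {a b : Γ(M, V)}
    (ha : IsBasisOn M V a) (hb : IsBasisOn M V b) :
    ∃ η : (Γ(Y, V))ˣ, a = (η : Γ(Y, V)) • b := by
  obtain ⟨r, hr⟩ := (hb V le_rfl).2 a
  obtain ⟨r', hr'⟩ := (ha V le_rfl).2 b
  dsimp only at hr hr'
  rw [mres_self] at hr hr'
  have h1 : (r * r') • mres M (le_refl V) a = (1 : Γ(Y, V)) • mres M (le_refl V) a := by
    rw [mres_self, mul_smul, hr', hr, one_smul]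
  have h2 : r * r' = 1 := (ha V le_rfl).1 h1
  exact ⟨⟨r, r', h2, by rw [mul_comm]; exact h2⟩, hr.symm⟩

end bases

variable {X X' : Scheme.{u}} (i : X ⟶ X')

section topo

variable [IsClosedImmersion i] [Surjective i]

theorem isHomeomorph : IsHomeomorph i :=
  isHomeomorph_iff_isEmbedding_surjective.mpr ⟨i.isClosedEmbedding.isEmbedding, i.surjective⟩

/-- the image of an open under a thickening -/
def imgOpen (U : X.Opens) : X'.Opens := ⟨i '' U, (isHomeomorph i).isOpenMap _ U.2⟩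

theorem preimage_imgOpen (U : X.Opens) : i ⁻¹ᵁ (imgOpen i U) = U := by
  ext x
  constructor
  · rintro ⟨y, hy, hxy⟩
    have := i.isClosedEmbedding.injective hxy
    subst this
    exact hy
  · intro hx
    exact ⟨x, hx, rfl⟩

/-- affine opens of `X'` around `i x` whose preimage lies in a given neighbourhood of `x` -/
theorem exists_affine_nhd (x : X) (U : X.Opens) (hx : x ∈ U) :
    ∃ W' : X'.Opens, IsAffineOpen W' ∧ i x ∈ W' ∧ i ⁻¹ᵁ W' ≤ U := by
  have hx' : i x ∈ imgOpen i U := ⟨x, hx, rfl⟩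
  obtain ⟨W', hW', hxW', hWU⟩ := exists_isAffineOpen_mem_and_subset (x := i x) (U := imgOpen i U) hx'
  refine ⟨W', hW', hxW', ?_⟩
  have h1 : W' ≤ imgOpen i U := hWU
  have h2 := i.preimage_mono h1
  rwa [preimage_imgOpen] at h2

end topo

section main

variable [IsClosedImmersion i] [Surjective i]

theorem core {n : ℕ} (hn0 : 0 < n) (hn : IsUnit (n : Γ(X, ⊤)))
    (L : X.Modules) (hL : PicF.IsInvertible L)
    (φ : CohB1.tensorPow L n ≅ Coh.structureModule X) :
    ∃ L' : X'.Modules, PicF.IsInvertible L' ∧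
      Nonempty (CohB1.tensorPow L' n ≅ Coh.structureModule X') ∧
      Nonempty ((Scheme.Modules.pullback i).obj L' ≅ L) := by
  classical
  -- Stage 1: cover and bases
  choose U₀ t hxU₀ ht using exists_basis_of_isInvertible hL
  choose W' hW' hxW' hWU using fun x => exists_affine_nhd i x (U₀ x) (hxU₀ x)
  let U : X → X.Opens := fun x => i ⁻¹ᵁ W' x
  obtain ⟨β, hβ⟩ : ∃ β : ∀ x, Γ(L, U x), ∀ x, IsBasisOn L (U x) (β x) :=
    ⟨fun x => mres L (hWU x) (t x), fun x => (ht x).mono (hWU x)⟩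
  have hUcov : iSup U = ⊤ := by
    rw [eq_top_iff]
    intro x _
    exact Opens.mem_iSup.mpr ⟨x, hxW' x⟩
  have hW'cov : iSup W' = ⊤ := by
    rw [eq_top_iff]
    intro y _
    obtain ⟨x, rfl⟩ := i.surjective y
    exact Opens.mem_iSup.mpr ⟨x, hxW' x⟩
  -- Stage 2: transition units
  have hηex : ∀ x y, ∃ η : (Γ(X, U x ⊓ U y))ˣ,
      mres L (inf_le_left : U x ⊓ U y ≤ U x) (β x) =
        (η : Γ(X, U x ⊓ U y)) • mres L (inf_le_right : U x ⊓ U y ≤ U y) (β y) :=
    fun x y => exists_unit_of_bases ((hβ x).mono inf_le_left) ((hβ y).mono inf_le_right)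
  choose η hη using hηex
  have hηc : ∀ x y z,
      rres X (inf_le_inf_right (U z) inf_le_left : U x ⊓ U y ⊓ U z ≤ U x ⊓ U z)
          (η x z : Γ(X, U x ⊓ U z)) =
        rres X (inf_le_left : U x ⊓ U y ⊓ U z ≤ U x ⊓ U y) (η x y : Γ(X, U x ⊓ U y)) *
          rres X (inf_le_inf_right (U z) inf_le_right : U x ⊓ U y ⊓ U z ≤ U y ⊓ U z)
            (η y z : Γ(X, U y ⊓ U z)) := by
    intro x y z
    have hTz : U x ⊓ U y ⊓ U z ≤ U z := inf_le_right
    have e1 := congrArg (mres L (inf_le_inf_right (U z) inf_le_left :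
      U x ⊓ U y ⊓ U z ≤ U x ⊓ U z)) (hη x z)
    have e2 := congrArg (mres L (inf_le_left : U x ⊓ U y ⊓ U z ≤ U x ⊓ U y)) (hη x y)
    have e3 := congrArg (mres L (inf_le_inf_right (U z) inf_le_right :
      U x ⊓ U y ⊓ U z ≤ U y ⊓ U z)) (hη y z)
    rw [mres_smul, mres_mres, mres_mres] at e1 e2 e3
    rw [e3, ← mul_smul] at e2
    exact ((hβ z) _ hTz).1 (e1.symm.trans e2)
  -- Stage 3: the units coming from the trivialisation of the `n`-th power
  obtain ⟨u, hu⟩ := CocycleIso.units_of_iso U (CohB1.tensorPow L n) (Coh.structureModule X)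
    (fun x => lpow L (U x) (β x) n) (fun x => oneSec X (U x))
    (fun x V h => isBasisOn_lpow (hβ x) n V h) (fun x V h => isBasisOn_oneSec (U x) V h)
    (fun x y => (η x y : Γ(X, U x ⊓ U y)) ^ n) (fun _ _ => 1)
    (fun x y => by
      change mres (CohB1.tensorPow L n) _ (lpow L (U x) (β x) n) =
        _ • mres (CohB1.tensorPow L n) _ (lpow L (U y) (β y) n)
      rw [mres_lpow, mres_lpow, hη x y, lpow_smul])
    (fun x y => by
      change mres (Coh.structureModule X) _ (oneSec X (U x)) =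
        _ • mres (Coh.structureModule X) _ (oneSec X (U y))
      rw [mres_oneSec, mres_oneSec, one_smul]) φ
  -- Stage 4: lifts of the units
  have hu'ex : ∀ x, ∃ v' : Γ(X', W' x), IsUnit v' ∧
      (i.app (W' x)).hom v' = (u x : Γ(X, U x)) :=
    fun x => ThickRoot.exists_lift_unit i (hW' x) _ (u x).isUnit
  choose u' hu'unit hu'lift using hu'ex
  -- Stage 5: the lifted transition functions
  have hη'ex : ∀ x y, ∃ a : Γ(X', W' x ⊓ W' y),
      (i.app (W' x ⊓ W' y)).hom a = (η x y : Γ(X, U x ⊓ U y)) ∧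
      a ^ n * rres X' (inf_le_right : W' x ⊓ W' y ≤ W' y) (u' y) =
        rres X' (inf_le_left : W' x ⊓ W' y ≤ W' x) (u' x) := by
    intro x y
    have hvy : IsUnit (rres X' (inf_le_right : W' x ⊓ W' y ≤ W' y) (u' y)) := (hu'unit y).map _
    obtain ⟨vy, hvy'⟩ := hvy
    let c : Γ(X', W' x ⊓ W' y) :=
      rres X' (inf_le_left : W' x ⊓ W' y ≤ W' x) (u' x) * (↑vy⁻¹ : Γ(X', W' x ⊓ W' y))
    have hc : IsUnit c := ((hu'unit x).map _).mul (vy⁻¹).isUnit
    have hcy : c * rres X' (inf_le_right : W' x ⊓ W' y ≤ W' y) (u' y) =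
        rres X' (inf_le_left : W' x ⊓ W' y ≤ W' x) (u' x) := by
      rw [← hvy', mul_assoc, Units.inv_mul, mul_one]
    obtain ⟨a, ha1, ha2⟩ := ThickRoot.exists_lift_root i hn0 hn (V' := W' x ⊓ W' y)
      (η x y : Γ(X, U x ⊓ U y)) c hc (by
        have h1 := congrArg (i.app (W' x ⊓ W' y)).hom hcy
        rw [map_mul] at h1
        erw [ThickRoot.app_res, ThickRoot.app_res, hu'lift, hu'lift] at h1
        have h2 := hu x y
        rw [one_mul] at h2
        have hunit : IsUnit (X.presheaf.map (homOfLE (inf_le_right : U x ⊓ U y ≤ U y)).op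
          (u y : Γ(X, U y))) := (u y).isUnit.map _
        refine hunit.mul_left_injective ?_
        dsimp only
        rw [mul_comm] at h2
        exact h2.symm.trans h1.symm)
    exact ⟨a, ha1, by rw [ha2, hcy]⟩
  choose η' hη'1 hη'2 using hη'ex
  have hη'unit : ∀ x y, IsUnit (η' x y) := fun x y => by
    have h1 : IsUnit (η' x y ^ n) :=
      isUnit_of_mul_isUnit_left (by rw [hη'2]; exact (hu'unit x).map _)
    exact (isUnit_pow_iff hn0.ne').mp h1
  -- Stage 6: the cocycle identity upstairs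
  have hη'c : ∀ x y z : X,
      X'.presheaf.map (homOfLE (inf_le_inf_right (W' z) inf_le_left :
          W' x ⊓ W' y ⊓ W' z ≤ W' x ⊓ W' z)).op (η' x z) =
        X'.presheaf.map (homOfLE (inf_le_left : W' x ⊓ W' y ⊓ W' z ≤ W' x ⊓ W' y)).op (η' x y) *
          X'.presheaf.map (homOfLE (inf_le_inf_right (W' z) inf_le_right :
            W' x ⊓ W' y ⊓ W' z ≤ W' y ⊓ W' z)).op (η' y z) := by
    intro x y z
    have hTx : W' x ⊓ W' y ⊓ W' z ≤ W' x := inf_le_left.trans inf_le_left
    have hTy : W' x ⊓ W' y ⊓ W' z ≤ W' y := inf_le_left.trans inf_le_right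
    have hTz : W' x ⊓ W' y ⊓ W' z ≤ W' z := inf_le_right
    have Exz := congrArg (rres X' (inf_le_inf_right (W' z) inf_le_left :
      W' x ⊓ W' y ⊓ W' z ≤ W' x ⊓ W' z)) (hη'2 x z)
    have Exy := congrArg (rres X' (inf_le_left : W' x ⊓ W' y ⊓ W' z ≤ W' x ⊓ W' y)) (hη'2 x y)
    have Eyz := congrArg (rres X' (inf_le_inf_right (W' z) inf_le_right :
      W' x ⊓ W' y ⊓ W' z ≤ W' y ⊓ W' z)) (hη'2 y z)
    rw [map_mul, map_pow, rres_rres, rres_rres] at Exz Exy Eyz
    refine ThickRoot.eq_of_pow_eq i hn _ _ ((hη'unit x z).map _) ?_ ?_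
    · rw [map_mul, ThickRoot.app_res, ThickRoot.app_res, ThickRoot.app_res, hη'1, hη'1, hη'1]
      exact hηc x y z
    · have hz : IsUnit (rres X' hTz (u' z)) := (hu'unit z).map _
      refine hz.mul_left_injective ?_
      dsimp only
      rw [mul_pow, mul_assoc]
      exact Exz.trans (by rw [Eyz, Exy])
  -- Stage 7: glue
  obtain ⟨L', s', hL'inv, hs'bij, hs'rel⟩ := CocycleGlue.main W'
    (fun x y => (hη'unit x y).unit) (fun x y z => hη'c x y z) hW'cov
  have hs'rel' : ∀ x y, mres L' (inf_le_left : W' x ⊓ W' y ≤ W' x) (s' x) =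
      η' x y • mres L' (inf_le_right : W' x ⊓ W' y ≤ W' y) (s' y) := fun x y => hs'rel x y
  have hs'basis : ∀ x, IsBasisOn L' (W' x) (s' x) := fun x V h => hs'bij x V h
  refine ⟨L', hL'inv, ?_, ?_⟩
  · -- Stage 8: the `n`-th power is trivial
    refine CocycleIso.iso_of_units W' hW'cov (CohB1.tensorPow L' n) (Coh.structureModule X')
      (fun x => lpow L' (W' x) (s' x) n) (fun x => oneSec X' (W' x))
      (fun x V h => isBasisOn_lpow (hs'basis x) n V h)
      (fun x V h => isBasisOn_oneSec (W' x) V h)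
      (fun x y => η' x y ^ n) (fun _ _ => 1) ?_ ?_ (fun x => (hu'unit x).unit) ?_
    · intro x y
      change mres (CohB1.tensorPow L' n) _ (lpow L' (W' x) (s' x) n) =
        _ • mres (CohB1.tensorPow L' n) _ (lpow L' (W' y) (s' y) n)
      rw [mres_lpow, mres_lpow, hs'rel' x y, lpow_smul]
    · intro x y
      change mres (Coh.structureModule X') _ (oneSec X' (W' x)) =
        _ • mres (Coh.structureModule X') _ (oneSec X' (W' y))
      rw [mres_oneSec, mres_oneSec, one_smul]
    · intro x y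
      rw [one_mul, mul_comm]
      exact (hη'2 x y).symm
  · -- Stage 9: the pullback is `L`
    refine CocycleIso.iso_of_units U hUcov ((Scheme.Modules.pullback i).obj L') L
      (fun x => Groth.Agent.H54.PB.pullSect i L' (W' x) (s' x)) β
      (fun x V h => Groth.Agent.H67.PullBasis.isBasisOn_pullSect i L' _ _ (hs'basis x) V h)
      (fun x V h => hβ x V h)
      (fun x y => (η x y : Γ(X, U x ⊓ U y))) (fun x y => (η x y : Γ(X, U x ⊓ U y))) ?_
      (fun x y => hη x y) (fun _ => 1) ?_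
    · intro x y
      have h1 := Groth.Agent.H54.PB.pullSect_mres i L' (inf_le_left : W' x ⊓ W' y ≤ W' x) (s' x)
      have h2 := Groth.Agent.H54.PB.pullSect_mres i L' (inf_le_right : W' x ⊓ W' y ≤ W' y) (s' y)
      have h3 := congrArg (Groth.Agent.H54.PB.pullSect i L' (W' x ⊓ W' y)) (hs'rel' x y)
      rw [Groth.Agent.H54.PB.pullSect_smul, h1, h2, hη'1 x y] at h3
      exact h3
    · intro x y
      simp only [Units.val_one, map_one, mul_one, one_mul]

end main

theorem main (hi : MoreMor.IsThickening i) (n : ℕ) (hn0 : 0 < n) (hu : IsUnit (n : Γ(X, ⊤))) :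
    Set.SurjOn (PicF.pullCl i)
      {c : PicF.Cl X' | ∃ L : X'.Modules, PicF.cl L = c ∧ PicF.IsInvertible L ∧
        Nonempty (CohB1.tensorPow L n ≅ Coh.structureModule X')}
      {c : PicF.Cl X | ∃ L : X.Modules, PicF.cl L = c ∧ PicF.IsInvertible L ∧
        Nonempty (CohB1.tensorPow L n ≅ Coh.structureModule X)} := by
  haveI := hi.1
  haveI := hi.2
  rintro c ⟨L, rfl, hL, ⟨φ⟩⟩
  obtain ⟨L', hL', h1, ⟨e⟩⟩ := core i hn0 hu L hL φ
  exact ⟨PicF.cl L', ⟨L', rfl, hL', h1⟩, Quot.sound ⟨e⟩⟩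

end Groth.Agent.H54.ThickPic
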