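import Mathlib
import Groth.Agent.H54.CocycleGlue
import Groth.Agent.H54.CocycleIso
import Groth.Agent.H54.ThickPic
import Groth.Agent.H18.STL.Restrict
import Groth.Agent.H18.STL.GenLocus
import Groth.Agent.H18.STL.Weight

/-!
# Gluing an invertible module across a closed set whose points are isolated in it (helper54)

`U ⊆ X` open, `O i` opens of `X` with `O i ⊓ O j ≤ U` for `i ≠ j`.  A unit cocycle on the family
`O i ⊓ U` extends to a unit cocycle on the family `O i`; a module `M` with bases over `O i ⊓ U`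
is, over `U`, the restriction of an invertible module on `X`.
-/

set_option autoImplicit false
universe u
open CategoryTheory CategoryTheory.Limits AlgebraicGeometry TopologicalSpace Opposite

namespace Groth.Agent.H54.DiscGlue

open Groth.Agent.H18 Groth.Agent.H18.PUP Groth.Agent.H18.STL

variable {X : Scheme.{u}}

theorem rres_injective_of_le {V W : X.Opens} (h : W ≤ V) (h' : V ≤ W) :
    Function.Injective (rres X h) := by
  intro a b hab
  have := congrArg (rres X h') hab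
  rwa [rres_rres, rres_rres, rres_self, rres_self] at this

/-- the unit cocycle of a family of bases -/
theorem exists_unit_cocycle_of_bases (M : X.Modules) {ι : Type u} (P : ι → X.Opens)
    (β : ∀ i, Γ(M, P i)) (hβ : ∀ i, IsBasisOn M (P i) (β i)) :
    ∃ ζ : ∀ i j, (Γ(X, P i ⊓ P j))ˣ,
      (∀ i j, mres M (inf_le_left : P i ⊓ P j ≤ P i) (β i) =
        (ζ i j : Γ(X, P i ⊓ P j)) • mres M (inf_le_right : P i ⊓ P j ≤ P j) (β j)) ∧
      (∀ i, ζ i i = 1) ∧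
      (∀ i j k,
        rres X (inf_le_inf_right (P k) inf_le_left : P i ⊓ P j ⊓ P k ≤ P i ⊓ P k)
            (ζ i k : Γ(X, P i ⊓ P k)) =
          rres X (inf_le_left : P i ⊓ P j ⊓ P k ≤ P i ⊓ P j) (ζ i j : Γ(X, P i ⊓ P j)) *
            rres X (inf_le_inf_right (P k) inf_le_right : P i ⊓ P j ⊓ P k ≤ P j ⊓ P k)
              (ζ j k : Γ(X, P j ⊓ P k))) := by
  have hex : ∀ i j, ∃ η : (Γ(X, P i ⊓ P j))ˣ,
      mres M (inf_le_left : P i ⊓ P j ≤ P i) (β i) =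
        (η : Γ(X, P i ⊓ P j)) • mres M (inf_le_right : P i ⊓ P j ≤ P j) (β j) :=
    fun i j => ThickPic.exists_unit_of_bases ((hβ i).mono inf_le_left) ((hβ j).mono inf_le_right)
  choose ζ hζ using hex
  refine ⟨ζ, hζ, ?_, ?_⟩
  · intro i
    have h1 := hζ i i
    have h2 : ((ζ i i : (Γ(X, P i ⊓ P i))ˣ) : Γ(X, P i ⊓ P i)) = 1 := by
      refine ((hβ i) _ inf_le_right).1 ?_
      dsimp only
      rw [one_smul]
      exact h1.symm
    exact Units.ext h2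
  · intro x y z
    have hTz : P x ⊓ P y ⊓ P z ≤ P z := inf_le_right
    have e1 := congrArg (mres M (inf_le_inf_right (P z) inf_le_left :
      P x ⊓ P y ⊓ P z ≤ P x ⊓ P z)) (hζ x z)
    have e2 := congrArg (mres M (inf_le_left : P x ⊓ P y ⊓ P z ≤ P x ⊓ P y)) (hζ x y)
    have e3 := congrArg (mres M (inf_le_inf_right (P z) inf_le_right :
      P x ⊓ P y ⊓ P z ≤ P y ⊓ P z)) (hζ y z)
    rw [mres_smul, mres_mres, mres_mres] at e1 e2 e3
    rw [e3, ← mul_smul] at e2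
    exact ((hβ z) _ hTz).1 (e1.symm.trans e2)

section extension

variable (U : X.Opens) {ι : Type u} (O : ι → X.Opens)
  (hOU : ∀ i j, i ≠ j → O i ⊓ O j ≤ U)
  (ζ : ∀ i j, (Γ(X, (O i ⊓ U) ⊓ (O j ⊓ U)))ˣ) (hζ1 : ∀ i, ζ i i = 1)
  (hζ : ∀ i j k,
    rres X (inf_le_inf_right (O k ⊓ U) inf_le_left :
        (O i ⊓ U) ⊓ (O j ⊓ U) ⊓ (O k ⊓ U) ≤ (O i ⊓ U) ⊓ (O k ⊓ U))
        (ζ i k : Γ(X, (O i ⊓ U) ⊓ (O k ⊓ U))) =
      rres X (inf_le_left : (O i ⊓ U) ⊓ (O j ⊓ U) ⊓ (O k ⊓ U) ≤ (O i ⊓ U) ⊓ (O j ⊓ U))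
          (ζ i j : Γ(X, (O i ⊓ U) ⊓ (O j ⊓ U))) *
        rres X (inf_le_inf_right (O k ⊓ U) inf_le_right :
          (O i ⊓ U) ⊓ (O j ⊓ U) ⊓ (O k ⊓ U) ≤ (O j ⊓ U) ⊓ (O k ⊓ U))
          (ζ j k : Γ(X, (O j ⊓ U) ⊓ (O k ⊓ U))))

include hOU in
theorem le_of_ne {i j : ι} (h : i ≠ j) : O i ⊓ O j ≤ (O i ⊓ U) ⊓ (O j ⊓ U) :=
  le_inf (le_inf inf_le_left (hOU i j h)) (le_inf inf_le_right (hOU i j h))

open Classical in
/-- the extended cocycle -/
noncomputable def ext (i j : ι) : (Γ(X, O i ⊓ O j))ˣ :=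
  if h : i = j then 1 else
    Units.map (rres X (le_of_ne U O hOU h)).hom.toMonoidHom (ζ i j)

include hζ1 in
theorem rres_ext (i j : ι) (T : X.Opens) (hT : T ≤ O i ⊓ O j) (hTU : T ≤ U) :
    rres X hT (ext U O hOU ζ i j : Γ(X, O i ⊓ O j)) =
      rres X (le_inf (le_inf (hT.trans inf_le_left) hTU) (le_inf (hT.trans inf_le_right) hTU) :
        T ≤ (O i ⊓ U) ⊓ (O j ⊓ U)) (ζ i j : Γ(X, (O i ⊓ U) ⊓ (O j ⊓ U))) := by
  by_cases h : i = j
  · subst h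
    rw [ext, dif_pos rfl, hζ1]
    simp only [Units.val_one, map_one]
  · rw [ext, dif_neg h]
    change rres X hT (rres X (le_of_ne U O hOU h) (ζ i j : Γ(X, (O i ⊓ U) ⊓ (O j ⊓ U)))) = _
    rw [rres_rres]

theorem ext_self (i : ι) : ext U O hOU ζ i i = 1 := by
  rw [ext, dif_pos rfl]

include hζ1 in
theorem rres_ext_eq (i j : ι) :
    rres X (inf_le_inf inf_le_left inf_le_left : (O i ⊓ U) ⊓ (O j ⊓ U) ≤ O i ⊓ O j)
      (ext U O hOU ζ i j : Γ(X, O i ⊓ O j)) = (ζ i j : Γ(X, (O i ⊓ U) ⊓ (O j ⊓ U))) := by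
  rw [rres_ext U O hOU ζ hζ1 i j _ _ (inf_le_left.trans inf_le_right), rres_self]

include hζ1 hζ in
theorem ext_cocycle (i j k : ι) :
    rres X (inf_le_inf_right (O k) inf_le_left : O i ⊓ O j ⊓ O k ≤ O i ⊓ O k)
        (ext U O hOU ζ i k : Γ(X, O i ⊓ O k)) =
      rres X (inf_le_left : O i ⊓ O j ⊓ O k ≤ O i ⊓ O j) (ext U O hOU ζ i j : Γ(X, O i ⊓ O j)) *
        rres X (inf_le_inf_right (O k) inf_le_right : O i ⊓ O j ⊓ O k ≤ O j ⊓ O k)
          (ext U O hOU ζ j k : Γ(X, O j ⊓ O k)) := by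
  by_cases hT : O i ⊓ O j ⊓ O k ≤ U
  · rw [rres_ext U O hOU ζ hζ1 i k _ _ hT, rres_ext U O hOU ζ hζ1 i j _ _ hT,
      rres_ext U O hOU ζ hζ1 j k _ _ hT]
    have hT' : O i ⊓ O j ⊓ O k ≤ (O i ⊓ U) ⊓ (O j ⊓ U) ⊓ (O k ⊓ U) :=
      le_inf (le_inf (le_inf (inf_le_left.trans inf_le_left) hT)
        (le_inf (inf_le_left.trans inf_le_right) hT)) (le_inf inf_le_right hT)
    have := congrArg (rres X hT') (hζ i j k)
    rw [map_mul, rres_rres, rres_rres, rres_rres] at this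
    exact this
  · have hij : i = j := by
      by_contra h
      exact hT (inf_le_left.trans (hOU i j h))
    have hjk : j = k := by
      by_contra h
      exact hT ((le_inf (inf_le_left.trans inf_le_right) inf_le_right).trans (hOU j k h))
    subst hij
    subst hjk
    rw [ext_self]
    simp only [Units.val_one, map_one, mul_one]

end extension

/-- restriction of a transition relation to an open subscheme -/
theorem restrict_rel (U : X.Opens) (F : X.Modules) {P₁ P₂ : X.Opens} (t₁ : Γ(F, P₁))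
    (t₂ : Γ(F, P₂)) (c : Γ(X, P₁ ⊓ P₂))
    (hrel : mres F (inf_le_left : P₁ ⊓ P₂ ≤ P₁) t₁ = c • mres F (inf_le_right : P₁ ⊓ P₂ ≤ P₂) t₂)
    {V₁ V₂ : (U : Scheme.{u}).Opens} (h₁ : U.ι ''ᵁ V₁ ≤ P₁) (h₂ : U.ι ''ᵁ V₂ ≤ P₂) :
    mres (F.restrict U.ι) (inf_le_left : V₁ ⊓ V₂ ≤ V₁) (toRestrict U F V₁ (mres F h₁ t₁)) =
      ((U.ι.appIso (V₁ ⊓ V₂)).hom (rres X (le_inf ((U.ι.image_mono inf_le_left).trans h₁)
          ((U.ι.image_mono inf_le_right).trans h₂) : U.ι ''ᵁ (V₁ ⊓ V₂) ≤ P₁ ⊓ P₂) c)) •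
        mres (F.restrict U.ι) (inf_le_right : V₁ ⊓ V₂ ≤ V₂)
          (toRestrict U F V₂ (mres F h₂ t₂)) := by
  have hle : U.ι ''ᵁ (V₁ ⊓ V₂) ≤ P₁ ⊓ P₂ := le_inf ((U.ι.image_mono inf_le_left).trans h₁)
    ((U.ι.image_mono inf_le_right).trans h₂)
  have h1 := congrArg (mres F hle) hrel
  rw [mres_smul, mres_mres, mres_mres] at h1
  have h2 : mres F (U.ι.image_mono (inf_le_left : V₁ ⊓ V₂ ≤ V₁)) (mres F h₁ t₁) =
      rres X hle c • mres F (U.ι.image_mono (inf_le_right : V₁ ⊓ V₂ ≤ V₂)) (mres F h₂ t₂) := by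
    rw [mres_mres, mres_mres]
    exact h1
  have h3 : (U.ι.appIso (V₁ ⊓ V₂)).inv ((U.ι.appIso (V₁ ⊓ V₂)).hom (rres X hle c)) =
      rres X hle c := by
    rw [← ConcreteCategory.comp_apply, Iso.hom_inv_id]
    rfl
  rw [← h3] at h2
  exact h2

/-- a module with bases over the opens `O y ⊓ U` agrees over `U` with an invertible module on
`X` -/
theorem exists_invertible_extension (U : X.Opens) (M : X.Modules)
    (O : X → X.Opens) (hyO : ∀ y, y ∈ O y) (hOU : ∀ y z, y ≠ z → O y ⊓ O z ≤ U)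
    (b : ∀ y, Γ(M, O y ⊓ U)) (hb : ∀ y, IsBasisOn M (O y ⊓ U) (b y)) :
    ∃ L' : X.Modules, PicF.IsInvertible L' ∧ Nonempty (L'.restrict U.ι ≅ M.restrict U.ι) := by
  obtain ⟨ζ, hζrel, hζ1, hζc⟩ := exists_unit_cocycle_of_bases M (fun y => O y ⊓ U) b hb
  have hcov : iSup O = ⊤ := by
    rw [eq_top_iff]
    intro y _
    exact Opens.mem_iSup.mpr ⟨y, hyO y⟩
  obtain ⟨L', s, hinv, hbij, hrel⟩ := CocycleGlue.main O (ext U O hOU ζ)
    (ext_cocycle U O hOU ζ hζ1 hζc) hcov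
  refine ⟨L', hinv, ?_⟩
  have hsb : ∀ y, IsBasisOn L' (O y) (s y) := fun y V h => hbij y V h
  let V' : X → (U : Scheme.{u}).Opens := fun y => U.ι ⁻¹ᵁ (O y)
  have hV'cov : iSup V' = ⊤ := by
    rw [eq_top_iff]
    intro y _
    exact Opens.mem_iSup.mpr ⟨U.ι y, hyO (U.ι y)⟩
  have h1 : ∀ y, U.ι ''ᵁ (V' y) ≤ O y := fun y => image_preimage_ι_le U (O y)
  have h2 : ∀ y, U.ι ''ᵁ (V' y) ≤ O y ⊓ U := fun y => le_inf (h1 y) (image_ι_le U (V' y))
  have hle : ∀ y z, U.ι ''ᵁ (V' y ⊓ V' z) ≤ O y ⊓ O z := fun y z =>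
    le_inf ((U.ι.image_mono inf_le_left).trans (h1 y)) ((U.ι.image_mono inf_le_right).trans (h1 z))
  have hle' : ∀ y z, U.ι ''ᵁ (V' y ⊓ V' z) ≤ (O y ⊓ U) ⊓ (O z ⊓ U) := fun y z =>
    le_inf ((U.ι.image_mono inf_le_left).trans (h2 y)) ((U.ι.image_mono inf_le_right).trans (h2 z))
  have hcoef : ∀ y z, rres X (hle y z) (ext U O hOU ζ y z : Γ(X, O y ⊓ O z)) =
      rres X (hle' y z) (ζ y z : Γ(X, (O y ⊓ U) ⊓ (O z ⊓ U))) := by
    intro y z
    rw [← rres_ext_eq U O hOU ζ hζ1 y z, rres_rres]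
  refine CocycleIso.iso_of_units V' hV'cov (L'.restrict U.ι) (M.restrict U.ι)
    (fun y => toRestrict U L' (V' y) (mres L' (h1 y) (s y)))
    (fun y => toRestrict U M (V' y) (mres M (h2 y) (b y)))
    (fun y V h => isBasisOn_restrict ((hsb y).mono (h1 y)) V h)
    (fun y V h => isBasisOn_restrict ((hb y).mono (h2 y)) V h)
    (fun y z => (U.ι.appIso (V' y ⊓ V' z)).hom
      (rres X (hle y z) (ext U O hOU ζ y z : Γ(X, O y ⊓ O z))))
    (fun y z => (U.ι.appIso (V' y ⊓ V' z)).hom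
      (rres X (hle y z) (ext U O hOU ζ y z : Γ(X, O y ⊓ O z))))
    (fun y z => restrict_rel U L' (s y) (s z) _ (hrel y z) (h1 y) (h1 z))
    (fun y z => by
      rw [hcoef y z]
      exact restrict_rel U M (b y) (b z) _ (hζrel y z) (h2 y) (h2 z))
    (fun _ => 1) (fun y z => by simp)

/-- restriction of units -/
noncomputable def umap {V W : X.Opens} (h : W ≤ V) : (Γ(X, V))ˣ →* (Γ(X, W))ˣ :=
  Units.map (rres X h).hom.toMonoidHom

theorem umap_val {V W : X.Opens} (h : W ≤ V) (a : (Γ(X, V))ˣ) :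
    ((umap h a : (Γ(X, W))ˣ) : Γ(X, W)) = rres X h (a : Γ(X, V)) := rfl

theorem umap_umap {V W T : X.Opens} (h : W ≤ V) (h' : T ≤ W) (a : (Γ(X, V))ˣ) :
    umap h' (umap h a) = umap (h'.trans h) a := by
  apply Units.ext
  rw [umap_val, umap_val, umap_val, rres_rres]

/-- an invertible module with a section whose locus of generation is `U`, from local equations
of the complement -/
theorem exists_invertible_section (U : X.Opens) (O : X → X.Opens) (hyO : ∀ y, y ∈ O y)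
    (hOU : ∀ y z, y ≠ z → O y ⊓ O z ≤ U) (r : ∀ y, Γ(X, O y))
    (hr : ∀ y, X.basicOpen (r y) = O y ⊓ U) :
    ∃ (L : X.Modules) (a : Coh.structureModule X ⟶ L),
      PicF.IsInvertible L ∧ CohB1.genLocus L a = U := by
  have hu : ∀ y, IsUnit (rres X (inf_le_left : O y ⊓ U ≤ O y) (r y)) := fun y =>
    (isUnit_res_iff_le_basicOpen inf_le_left (r y)).2 (by rw [hr])
  let u : ∀ y, (Γ(X, O y ⊓ U))ˣ := fun y => (hu y).unit
  have hu_val : ∀ y, ((u y : (Γ(X, O y ⊓ U))ˣ) : Γ(X, O y ⊓ U)) =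
      rres X (inf_le_left : O y ⊓ U ≤ O y) (r y) := fun y => (hu y).unit_spec
  let ζ : ∀ y z, (Γ(X, (O y ⊓ U) ⊓ (O z ⊓ U)))ˣ := fun y z =>
    umap (inf_le_right : (O y ⊓ U) ⊓ (O z ⊓ U) ≤ O z ⊓ U) (u z) *
      (umap (inf_le_left : (O y ⊓ U) ⊓ (O z ⊓ U) ≤ O y ⊓ U) (u y))⁻¹
  have hζ1 : ∀ y, ζ y y = 1 := fun y => mul_inv_cancel _
  have hζres : ∀ y z (T : X.Opens) (hT : T ≤ (O y ⊓ U) ⊓ (O z ⊓ U)),
      umap hT (ζ y z) = umap (hT.trans inf_le_right) (u z) *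
        (umap (hT.trans inf_le_left) (u y))⁻¹ := by
    intro y z T hT
    rw [map_mul, map_inv, umap_umap, umap_umap]
  have hζc : ∀ i j k,
      rres X (inf_le_inf_right (O k ⊓ U) inf_le_left :
          (O i ⊓ U) ⊓ (O j ⊓ U) ⊓ (O k ⊓ U) ≤ (O i ⊓ U) ⊓ (O k ⊓ U))
          (ζ i k : Γ(X, (O i ⊓ U) ⊓ (O k ⊓ U))) =
        rres X (inf_le_left : (O i ⊓ U) ⊓ (O j ⊓ U) ⊓ (O k ⊓ U) ≤ (O i ⊓ U) ⊓ (O j ⊓ U))
            (ζ i j : Γ(X, (O i ⊓ U) ⊓ (O j ⊓ U))) *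
          rres X (inf_le_inf_right (O k ⊓ U) inf_le_right :
            (O i ⊓ U) ⊓ (O j ⊓ U) ⊓ (O k ⊓ U) ≤ (O j ⊓ U) ⊓ (O k ⊓ U))
            (ζ j k : Γ(X, (O j ⊓ U) ⊓ (O k ⊓ U))) := by
    intro i j k
    rw [← umap_val, ← umap_val, ← umap_val, ← Units.val_mul]
    congr 1
    rw [hζres, hζres, hζres]
    have key : ∀ a b c : (Γ(X, (O i ⊓ U) ⊓ (O j ⊓ U) ⊓ (O k ⊓ U)))ˣ,
        c * a⁻¹ = (b * a⁻¹) * (c * b⁻¹) := by
      intro a b c
      rw [mul_comm (b * a⁻¹), mul_assoc, inv_mul_cancel_left]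
    exact key _ _ _
  have hcov : iSup O = ⊤ := by
    rw [eq_top_iff]
    intro y _
    exact Opens.mem_iSup.mpr ⟨y, hyO y⟩
  obtain ⟨L', s, hinv, hbij, hrel⟩ := CocycleGlue.main O (ext U O hOU ζ)
    (ext_cocycle U O hOU ζ hζ1 hζc) hcov
  have hsb : ∀ y, IsBasisOn L' (O y) (s y) := fun y V h => hbij y V h
  -- the coordinates are compatible
  have hcoord : ∀ y z, rres X (inf_le_left : O y ⊓ O z ≤ O y) (r y) *
      (ext U O hOU ζ y z : Γ(X, O y ⊓ O z)) = rres X (inf_le_right : O y ⊓ O z ≤ O z) (r z) := by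
    intro y z
    by_cases hyz : y = z
    · subst hyz
      rw [ext_self]
      simp only [Units.val_one, mul_one]
    · have hle : O y ⊓ O z ≤ (O y ⊓ U) ⊓ (O z ⊓ U) := le_of_ne U O hOU hyz
      have hle' : (O y ⊓ U) ⊓ (O z ⊓ U) ≤ O y ⊓ O z := inf_le_inf inf_le_left inf_le_left
      apply rres_injective_of_le hle' hle
      rw [map_mul, rres_ext_eq U O hOU ζ hζ1 y z, rres_rres, rres_rres]
      have e1 : rres X (hle'.trans inf_le_left) (r y) =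
          ((umap (inf_le_left : (O y ⊓ U) ⊓ (O z ⊓ U) ≤ O y ⊓ U) (u y) :
            (Γ(X, (O y ⊓ U) ⊓ (O z ⊓ U)))ˣ) : Γ(X, (O y ⊓ U) ⊓ (O z ⊓ U))) := by
        rw [umap_val, hu_val, rres_rres]
      have e2 : rres X (hle'.trans inf_le_right) (r z) =
          ((umap (inf_le_right : (O y ⊓ U) ⊓ (O z ⊓ U) ≤ O z ⊓ U) (u z) :
            (Γ(X, (O y ⊓ U) ⊓ (O z ⊓ U)))ˣ) : Γ(X, (O y ⊓ U) ⊓ (O z ⊓ U))) := by
        rw [umap_val, hu_val, rres_rres]
      rw [e1, e2, ← Units.val_mul]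
      congr 1
      rw [mul_comm, mul_assoc, inv_mul_cancel, mul_one]
  -- glue the local sections
  obtain ⟨σ₀, hσ₀⟩ := exists_glue L' O ⊤ (fun _ => le_top) (fun y _ => ⟨y, hyO y⟩)
    (fun y => r y • s y) (by
      intro y z
      rw [mres_smul, mres_smul]
      have := hrel y z
      change mres L' _ (s y) = _ • mres L' _ (s z) at this
      rw [this, ← mul_smul, hcoord y z])
  refine ⟨L', sectionHom L' σ₀, hinv, ?_⟩
  have hloc : ∀ y, CohB1.genLocus L' (sectionHom L' σ₀) ⊓ O y = O y ⊓ U := by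
    intro y
    rw [← hr y]
    refine genLocus_inf_eq_basicOpen (sectionHom L' σ₀) (hsb y) (r y) ?_
    rw [val_sectionHom]
    exact hσ₀ y
  ext w
  constructor
  · intro hw
    have : w ∈ CohB1.genLocus L' (sectionHom L' σ₀) ⊓ O w := ⟨hw, hyO w⟩
    rw [hloc w] at this
    exact this.2
  · intro hw
    have : w ∈ O w ⊓ U := ⟨hyO w, hw⟩
    rw [← hloc w] at this
    exact this.1

end Groth.Agent.H54.DiscGlue
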