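import Mathlib
import Groth.Agent.H54.DiscGlue
import Groth.Agent.H54.PullbackSection
import Groth.Agent.H67.PullBasis

/-!
# Descending an invertible module along a morphism by a cocycle of the base (helper54)

`f : X ⟶ Y`, `L` a module on `X` with bases `e i` over the opens `f ⁻¹ᵁ O i` for an open cover `O`
of `Y`, whose transition functions are the images of a unit cocycle `ζ` of `Y`.  Then `L` is the
pullback of the invertible module on `Y` glued from `ζ`.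
-/

set_option autoImplicit false
universe u
open CategoryTheory CategoryTheory.Limits AlgebraicGeometry TopologicalSpace Opposite

namespace Groth.Agent.H54.PullGlue

open Groth.Agent.H18 Groth.Agent.H18.PUP Groth.Agent.H18.STL Groth.Agent.H54.DiscGlue

variable {X Y : Scheme.{u}} (f : X ⟶ Y)

/-- `f^♯` commutes with restriction -/
theorem app_rres {G G' : Y.Opens} (h : G' ≤ G) (a : Γ(Y, G)) :
    (f.app G').hom (rres Y h a) = rres X (f.preimage_mono h) ((f.app G).hom a) :=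
  ConcreteCategory.congr_hom (f.naturality (homOfLE h).op) a

/-- `f^♯` on units -/
noncomputable def fu (G : Y.Opens) : (Γ(Y, G))ˣ →* (Γ(X, f ⁻¹ᵁ G))ˣ :=
  Units.map (f.app G).hom.toMonoidHom

theorem fu_val (G : Y.Opens) (a : (Γ(Y, G))ˣ) :
    ((fu f G a : (Γ(X, f ⁻¹ᵁ G))ˣ) : Γ(X, f ⁻¹ᵁ G)) = (f.app G).hom (a : Γ(Y, G)) := rfl

theorem fu_umap {G G' : Y.Opens} (h : G' ≤ G) (a : (Γ(Y, G))ˣ) :
    fu f G' (umap h a) = umap (f.preimage_mono h) (fu f G a) := by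
  apply Units.ext
  rw [fu_val, umap_val, umap_val, fu_val, app_rres]

/-- **Descent by a cocycle of the base.** -/
theorem exists_pullback_iso_of_cocycle (L : X.Modules) {ι : Type u} (O : ι → Y.Opens)
    (hO : iSup O = ⊤) (e : ∀ i, Γ(L, f ⁻¹ᵁ O i)) (he : ∀ i, IsBasisOn L (f ⁻¹ᵁ O i) (e i))
    (ζ : ∀ i j, (Γ(Y, O i ⊓ O j))ˣ)
    (hζ : ∀ i j k,
      rres Y (inf_le_inf_right (O k) inf_le_left : O i ⊓ O j ⊓ O k ≤ O i ⊓ O k)
          (ζ i k : Γ(Y, O i ⊓ O k)) =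
        rres Y (inf_le_left : O i ⊓ O j ⊓ O k ≤ O i ⊓ O j) (ζ i j : Γ(Y, O i ⊓ O j)) *
          rres Y (inf_le_inf_right (O k) inf_le_right : O i ⊓ O j ⊓ O k ≤ O j ⊓ O k)
            (ζ j k : Γ(Y, O j ⊓ O k)))
    (hrel : ∀ i j,
      mres L (f.preimage_mono inf_le_left : f ⁻¹ᵁ (O i ⊓ O j) ≤ f ⁻¹ᵁ O i) (e i) =
        (f.app (O i ⊓ O j)).hom (ζ i j : Γ(Y, O i ⊓ O j)) •
          mres L (f.preimage_mono inf_le_right : f ⁻¹ᵁ (O i ⊓ O j) ≤ f ⁻¹ᵁ O j) (e j)) :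
    ∃ N : Y.Modules, PicF.IsInvertible N ∧
      Nonempty ((Scheme.Modules.pullback f).obj N ≅ L) := by
  obtain ⟨N, s, hinv, hbij, hsrel⟩ := CocycleGlue.main O ζ hζ hO
  refine ⟨N, hinv, ?_⟩
  have hsb : ∀ i, IsBasisOn N (O i) (s i) := fun i V h => hbij i V h
  have hcov : iSup (fun i => f ⁻¹ᵁ O i) = ⊤ := by
    rw [eq_top_iff]
    intro x _
    have hx : f x ∈ iSup O := by rw [hO]; trivial
    obtain ⟨i, hi⟩ := Opens.mem_iSup.mp hx
    exact Opens.mem_iSup.mpr ⟨i, hi⟩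
  refine CocycleIso.iso_of_units (fun i => f ⁻¹ᵁ O i) hcov
    ((Scheme.Modules.pullback f).obj N) L
    (fun i => PB.pullSect f N (O i) (s i)) e
    (fun i V h => Groth.Agent.H67.PullBasis.isBasisOn_pullSect f N _ _ (hsb i) V h)
    (fun i V h => he i V h)
    (fun i j => (f.app (O i ⊓ O j)).hom (ζ i j : Γ(Y, O i ⊓ O j)))
    (fun i j => (f.app (O i ⊓ O j)).hom (ζ i j : Γ(Y, O i ⊓ O j)))
    (fun i j => ?_) (fun i j => hrel i j) (fun _ => 1) (fun i j => by simp)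
  have h1 := PB.pullSect_mres f N (inf_le_right : O i ⊓ O j ≤ O j) (s j)
  have h2 := PB.pullSect_mres f N (inf_le_left : O i ⊓ O j ≤ O i) (s i)
  have h3 := congrArg (PB.pullSect f N (O i ⊓ O j)) (hsrel i j)
  rw [PB.pullSect_smul] at h3
  change PB.pullSect f N (O i ⊓ O j) (mres N inf_le_left (s i)) = _ •
    PB.pullSect f N (O i ⊓ O j) (mres N inf_le_right (s j)) at h3
  rw [h1, h2] at h3
  exact h3

/-- **Descent across a closed set with isolated points.**  `e₀` is a section of `L` over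
`f ⁻¹ᵁ U`; near every point `y` of `Y` there is a basis `e y` of `L` over `f ⁻¹ᵁ O y` which over
`f ⁻¹ᵁ (O y ⊓ U)` is the multiple of `e₀` by the image of a unit `γ y` of `Y`; the `O y` meet
pairwise inside `U`. -/
theorem exists_pullback_iso_of_discrete (L : X.Modules) (U : Y.Opens) (e₀ : Γ(L, f ⁻¹ᵁ U))
    (O : Y → Y.Opens) (hyO : ∀ y, y ∈ O y) (hOU : ∀ y z, y ≠ z → O y ⊓ O z ≤ U)
    (e : ∀ y, Γ(L, f ⁻¹ᵁ O y)) (he : ∀ y, IsBasisOn L (f ⁻¹ᵁ O y) (e y))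
    (γ : ∀ y, (Γ(Y, O y ⊓ U))ˣ)
    (hγ : ∀ y, mres L (f.preimage_mono inf_le_left : f ⁻¹ᵁ (O y ⊓ U) ≤ f ⁻¹ᵁ O y) (e y) =
      (f.app (O y ⊓ U)).hom (γ y : Γ(Y, O y ⊓ U)) •
        mres L (f.preimage_mono inf_le_right : f ⁻¹ᵁ (O y ⊓ U) ≤ f ⁻¹ᵁ U) e₀) :
    ∃ N : Y.Modules, PicF.IsInvertible N ∧
      Nonempty ((Scheme.Modules.pullback f).obj N ≅ L) := by
  obtain ⟨ζ, hζdef⟩ : ∃ ζ : ∀ y z, (Γ(Y, (O y ⊓ U) ⊓ (O z ⊓ U)))ˣ,
      ∀ y z, ζ y z = umap inf_le_left (γ y) * (umap inf_le_right (γ z))⁻¹ := ⟨_, fun _ _ => rfl⟩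
  have hζ1 : ∀ y, ζ y y = 1 := by
    intro y
    rw [hζdef]
    exact mul_inv_cancel _
  have hζc : ∀ i j k,
      rres Y (inf_le_inf_right (O k ⊓ U) inf_le_left :
          (O i ⊓ U) ⊓ (O j ⊓ U) ⊓ (O k ⊓ U) ≤ (O i ⊓ U) ⊓ (O k ⊓ U))
          (ζ i k : Γ(Y, (O i ⊓ U) ⊓ (O k ⊓ U))) =
        rres Y (inf_le_left : (O i ⊓ U) ⊓ (O j ⊓ U) ⊓ (O k ⊓ U) ≤ (O i ⊓ U) ⊓ (O j ⊓ U))
            (ζ i j : Γ(Y, (O i ⊓ U) ⊓ (O j ⊓ U))) *
          rres Y (inf_le_inf_right (O k ⊓ U) inf_le_right :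
            (O i ⊓ U) ⊓ (O j ⊓ U) ⊓ (O k ⊓ U) ≤ (O j ⊓ U) ⊓ (O k ⊓ U))
            (ζ j k : Γ(Y, (O j ⊓ U) ⊓ (O k ⊓ U))) := by
    intro i j k
    have key : ∀ a b c : (Γ(Y, (O i ⊓ U) ⊓ (O j ⊓ U) ⊓ (O k ⊓ U)))ˣ,
        a * c⁻¹ = a * b⁻¹ * (b * c⁻¹) := by
      intro a b c
      group
    have h : umap (inf_le_inf_right (O k ⊓ U) inf_le_left :
          (O i ⊓ U) ⊓ (O j ⊓ U) ⊓ (O k ⊓ U) ≤ (O i ⊓ U) ⊓ (O k ⊓ U)) (ζ i k) =
        umap (inf_le_left : (O i ⊓ U) ⊓ (O j ⊓ U) ⊓ (O k ⊓ U) ≤ (O i ⊓ U) ⊓ (O j ⊓ U)) (ζ i j) *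
          umap (inf_le_inf_right (O k ⊓ U) inf_le_right :
            (O i ⊓ U) ⊓ (O j ⊓ U) ⊓ (O k ⊓ U) ≤ (O j ⊓ U) ⊓ (O k ⊓ U)) (ζ j k) := by
      rw [hζdef, hζdef, hζdef]
      simp only [map_mul, map_inv, umap_umap]
      exact key _ _ _
    have h' := congrArg Units.val h
    rw [Units.val_mul] at h'
    exact h'
  have hcov : iSup O = ⊤ := by
    rw [eq_top_iff]
    intro y _
    exact Opens.mem_iSup.mpr ⟨y, hyO y⟩
  refine exists_pullback_iso_of_cocycle f L O hcov e he (ext U O hOU ζ)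
    (ext_cocycle U O hOU ζ hζ1 hζc) (fun y z => ?_)
  by_cases h : y = z
  · subst h
    rw [ext_self]
    simp only [Units.val_one, map_one, one_smul]
  · have hT : O y ⊓ O z ≤ U := hOU y z h
    have hTy : O y ⊓ O z ≤ O y ⊓ U := le_inf inf_le_left hT
    have hTz : O y ⊓ O z ≤ O z ⊓ U := le_inf inf_le_right hT
    obtain ⟨A, hA⟩ : ∃ A : (Γ(X, f ⁻¹ᵁ (O y ⊓ O z)))ˣ,
        A = umap (f.preimage_mono hTy) (fu f (O y ⊓ U) (γ y)) := ⟨_, rfl⟩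
    obtain ⟨B, hB⟩ : ∃ B : (Γ(X, f ⁻¹ᵁ (O y ⊓ O z)))ˣ,
        B = umap (f.preimage_mono hTz) (fu f (O z ⊓ U) (γ z)) := ⟨_, rfl⟩
    have h1 : mres L (f.preimage_mono inf_le_left : f ⁻¹ᵁ (O y ⊓ O z) ≤ f ⁻¹ᵁ O y) (e y) =
        (A : Γ(X, f ⁻¹ᵁ (O y ⊓ O z))) • mres L (f.preimage_mono hT) e₀ := by
      have := congrArg (mres L (f.preimage_mono hTy)) (hγ y)
      rw [mres_smul, mres_mres, mres_mres] at this
      rw [hA]
      exact this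
    have h2 : mres L (f.preimage_mono inf_le_right : f ⁻¹ᵁ (O y ⊓ O z) ≤ f ⁻¹ᵁ O z) (e z) =
        (B : Γ(X, f ⁻¹ᵁ (O y ⊓ O z))) • mres L (f.preimage_mono hT) e₀ := by
      have := congrArg (mres L (f.preimage_mono hTz)) (hγ z)
      rw [mres_smul, mres_mres, mres_mres] at this
      rw [hB]
      exact this
    have h3 : fu f (O y ⊓ O z) (ext U O hOU ζ y z) = A * B⁻¹ := by
      have hext : ext U O hOU ζ y z = umap (le_of_ne U O hOU h) (ζ y z) := by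
        rw [ext, dif_neg h]
        rfl
      rw [hext, hζdef, hA, hB]
      simp only [map_mul, map_inv, umap_umap, fu_umap]
    rw [h1, h2, ← fu_val, h3, ← mul_smul, Units.val_mul, mul_assoc, Units.inv_mul, mul_one]

end Groth.Agent.H54.PullGlue
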