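import Mathlib
import Groth.Agent.H54.PullGlue

/-!
# Descent of an invertible module along a morphism from a cocycle given on the opens `O i ⊓ U`
(helper54)
-/

set_option autoImplicit false
universe u
open CategoryTheory CategoryTheory.Limits AlgebraicGeometry TopologicalSpace Opposite

namespace Groth.Agent.H54.PullGlueCoc

open Groth.Agent.H18 Groth.Agent.H18.PUP Groth.Agent.H18.STL Groth.Agent.H54.DiscGlue
  Groth.Agent.H54.PullGlue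

variable {X Y : Scheme.{u}} (f : X ⟶ Y)

/-- **Descent from a partial cocycle.**  The `O i` cover `Y` and meet pairwise inside `U`; the
bases `e i` of `L` over `f ⁻¹ᵁ O i` have, over `f ⁻¹ᵁ ((O i ⊓ U) ⊓ (O j ⊓ U))`, transition
functions which are the images of a unit cocycle `ζ` of `Y`. -/
theorem exists_pullback_iso_of_partial_cocycle (L : X.Modules) (U : Y.Opens) {ι : Type u}
    (O : ι → Y.Opens) (hcov : iSup O = ⊤) (hOU : ∀ i j, i ≠ j → O i ⊓ O j ≤ U)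
    (e : ∀ i, Γ(L, f ⁻¹ᵁ O i)) (he : ∀ i, IsBasisOn L (f ⁻¹ᵁ O i) (e i))
    (ζ : ∀ i j, (Γ(Y, (O i ⊓ U) ⊓ (O j ⊓ U)))ˣ) (hζ1 : ∀ i, ζ i i = 1)
    (hζ : ∀ i j k,
      rres Y (inf_le_inf_right (O k ⊓ U) inf_le_left :
          (O i ⊓ U) ⊓ (O j ⊓ U) ⊓ (O k ⊓ U) ≤ (O i ⊓ U) ⊓ (O k ⊓ U))
          (ζ i k : Γ(Y, (O i ⊓ U) ⊓ (O k ⊓ U))) =
        rres Y (inf_le_left : (O i ⊓ U) ⊓ (O j ⊓ U) ⊓ (O k ⊓ U) ≤ (O i ⊓ U) ⊓ (O j ⊓ U))
            (ζ i j : Γ(Y, (O i ⊓ U) ⊓ (O j ⊓ U))) *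
          rres Y (inf_le_inf_right (O k ⊓ U) inf_le_right :
            (O i ⊓ U) ⊓ (O j ⊓ U) ⊓ (O k ⊓ U) ≤ (O j ⊓ U) ⊓ (O k ⊓ U))
            (ζ j k : Γ(Y, (O j ⊓ U) ⊓ (O k ⊓ U))))
    (hrel : ∀ i j,
      mres L (f.preimage_mono (inf_le_left.trans inf_le_left) :
          f ⁻¹ᵁ ((O i ⊓ U) ⊓ (O j ⊓ U)) ≤ f ⁻¹ᵁ O i) (e i) =
        (f.app ((O i ⊓ U) ⊓ (O j ⊓ U))).hom (ζ i j : Γ(Y, (O i ⊓ U) ⊓ (O j ⊓ U))) •
          mres L (f.preimage_mono (inf_le_right.trans inf_le_left) :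
            f ⁻¹ᵁ ((O i ⊓ U) ⊓ (O j ⊓ U)) ≤ f ⁻¹ᵁ O j) (e j)) :
    ∃ N : Y.Modules, PicF.IsInvertible N ∧
      Nonempty ((Scheme.Modules.pullback f).obj N ≅ L) := by
  refine exists_pullback_iso_of_cocycle f L O hcov e he (ext U O hOU ζ)
    (ext_cocycle U O hOU ζ hζ1 hζ) (fun y z => ?_)
  by_cases h : y = z
  · subst h
    rw [ext_self]
    simp only [Units.val_one, map_one, one_smul]
  · have hle : O y ⊓ O z ≤ (O y ⊓ U) ⊓ (O z ⊓ U) := le_of_ne U O hOU h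
    have hext : ext U O hOU ζ y z = umap hle (ζ y z) := by
      rw [ext, dif_neg h]
      rfl
    have h1 := congrArg (mres L (f.preimage_mono hle)) (hrel y z)
    rw [mres_smul, mres_mres, mres_mres] at h1
    rw [hext, umap_val, app_rres]
    exact h1

end Groth.Agent.H54.PullGlueCoc
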