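import Mathlib
import Groth.Agent.H54.PullGlueCoc

/-!
# One module downstairs pulling back to several given modules (helper54)

The module `N` glued from a unit cocycle on `Y` pulls back, along *any* morphism `f : X ⟶ Y`, to any
module `L` on `X` carrying bases over the `f ⁻¹ᵁ O i` whose transition functions are the images of
the cocycle.
-/

set_option autoImplicit false
universe u
open CategoryTheory CategoryTheory.Limits AlgebraicGeometry TopologicalSpace Opposite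

namespace Groth.Agent.H54.CommonPull

open Groth.Agent.H18 Groth.Agent.H18.PUP Groth.Agent.H18.STL Groth.Agent.H54.DiscGlue
  Groth.Agent.H54.PullGlue

variable {Y : Scheme.{u}}

theorem exists_common_of_cocycle {ι : Type u} (O : ι → Y.Opens)
    (hO : iSup O = ⊤) (ζ : ∀ i j, (Γ(Y, O i ⊓ O j))ˣ)
    (hζ : ∀ i j k,
      rres Y (inf_le_inf_right (O k) inf_le_left : O i ⊓ O j ⊓ O k ≤ O i ⊓ O k)
          (ζ i k : Γ(Y, O i ⊓ O k)) =
        rres Y (inf_le_left : O i ⊓ O j ⊓ O k ≤ O i ⊓ O j) (ζ i j : Γ(Y, O i ⊓ O j)) *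
          rres Y (inf_le_inf_right (O k) inf_le_right : O i ⊓ O j ⊓ O k ≤ O j ⊓ O k)
            (ζ j k : Γ(Y, O j ⊓ O k))) :
    ∃ N : Y.Modules, PicF.IsInvertible N ∧
      ∀ (X : Scheme.{u}) (f : X ⟶ Y) (L : X.Modules) (e : ∀ i, Γ(L, f ⁻¹ᵁ O i)),
        (∀ i, IsBasisOn L (f ⁻¹ᵁ O i) (e i)) →
        (∀ i j,
          mres L (f.preimage_mono inf_le_left : f ⁻¹ᵁ (O i ⊓ O j) ≤ f ⁻¹ᵁ O i) (e i) =
            (f.app (O i ⊓ O j)).hom (ζ i j : Γ(Y, O i ⊓ O j)) •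
              mres L (f.preimage_mono inf_le_right : f ⁻¹ᵁ (O i ⊓ O j) ≤ f ⁻¹ᵁ O j) (e j)) →
        Nonempty ((Scheme.Modules.pullback f).obj N ≅ L) := by
  obtain ⟨N, s, hinv, hbij, hsrel⟩ := CocycleGlue.main O ζ hζ hO
  refine ⟨N, hinv, ?_⟩
  intro X f L e he hrel
  have hsb : ∀ i, IsBasisOn N (O i) (s i) := fun i V h => hbij i V h
  have hcov : iSup (fun i => f ⁻¹ᵁ O i) = ⊤ := by
    rw [eq_top_iff]
    intro x _
    have hx : f x ∈ iSup O := by rw [hO]; trivial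
    obtain ⟨i, hi⟩ := Opens.mem_iSup.mp hx
    exact Opens.mem_iSup.mpr ⟨i, hi⟩
  refine CocycleIso.iso_of_units (fun i => f ⁻¹ᵁ O i) hcov
    ((Scheme.Modules.pullback f).obj N) L
    (fun i => PB.pullSect f N (O i) (s i)) e
    (fun i V h => Groth.Agent.H67.PullBasis.isBasisOn_pullSect f N _ _ (hsb i) V h)
    (fun i V h => he i V h)
    (fun i j => (f.app (O i ⊓ O j)).hom (ζ i j : Γ(Y, O i ⊓ O j)))
    (fun i j => (f.app (O i ⊓ O j)).hom (ζ i j : Γ(Y, O i ⊓ O j)))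
    (fun i j => ?_) (fun i j => hrel i j) (fun _ => 1) (fun i j => by simp)
  have h1 := PB.pullSect_mres f N (inf_le_right : O i ⊓ O j ≤ O j) (s j)
  have h2 := PB.pullSect_mres f N (inf_le_left : O i ⊓ O j ≤ O i) (s i)
  have h3 := congrArg (PB.pullSect f N (O i ⊓ O j)) (hsrel i j)
  rw [PB.pullSect_smul] at h3
  change PB.pullSect f N (O i ⊓ O j) (mres N inf_le_left (s i)) = _ •
    PB.pullSect f N (O i ⊓ O j) (mres N inf_le_right (s j)) at h3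
  rw [h1, h2] at h3
  exact h3

/-- partial-cocycle version: the `O i` meet pairwise inside `U`, the cocycle is given over the
`(O i ⊓ U) ⊓ (O j ⊓ U)` -/
theorem exists_common_of_partial_cocycle (U : Y.Opens) {ι : Type u}
    (O : ι → Y.Opens) (hcov : iSup O = ⊤) (hOU : ∀ i j, i ≠ j → O i ⊓ O j ≤ U)
    (ζ : ∀ i j, (Γ(Y, (O i ⊓ U) ⊓ (O j ⊓ U)))ˣ) (hζ1 : ∀ i, ζ i i = 1)
    (hζ : ∀ i j k,
      rres Y (inf_le_inf_right (O k ⊓ U) inf_le_left :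
          (O i ⊓ U) ⊓ (O j ⊓ U) ⊓ (O k ⊓ U) ≤ (O i ⊓ U) ⊓ (O k ⊓ U))
          (ζ i k : Γ(Y, (O i ⊓ U) ⊓ (O k ⊓ U))) =
        rres Y (inf_le_left : (O i ⊓ U) ⊓ (O j ⊓ U) ⊓ (O k ⊓ U) ≤ (O i ⊓ U) ⊓ (O j ⊓ U))
            (ζ i j : Γ(Y, (O i ⊓ U) ⊓ (O j ⊓ U))) *
          rres Y (inf_le_inf_right (O k ⊓ U) inf_le_right :
            (O i ⊓ U) ⊓ (O j ⊓ U) ⊓ (O k ⊓ U) ≤ (O j ⊓ U) ⊓ (O k ⊓ U))
            (ζ j k : Γ(Y, (O j ⊓ U) ⊓ (O k ⊓ U)))) :
    ∃ N : Y.Modules, PicF.IsInvertible N ∧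
      ∀ (X : Scheme.{u}) (f : X ⟶ Y) (L : X.Modules) (e : ∀ i, Γ(L, f ⁻¹ᵁ O i)),
        (∀ i, IsBasisOn L (f ⁻¹ᵁ O i) (e i)) →
        (∀ i j,
          mres L (f.preimage_mono (inf_le_left.trans inf_le_left) :
              f ⁻¹ᵁ ((O i ⊓ U) ⊓ (O j ⊓ U)) ≤ f ⁻¹ᵁ O i) (e i) =
            (f.app ((O i ⊓ U) ⊓ (O j ⊓ U))).hom (ζ i j : Γ(Y, (O i ⊓ U) ⊓ (O j ⊓ U))) •
              mres L (f.preimage_mono (inf_le_right.trans inf_le_left) :
                f ⁻¹ᵁ ((O i ⊓ U) ⊓ (O j ⊓ U)) ≤ f ⁻¹ᵁ O j) (e j)) →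
        Nonempty ((Scheme.Modules.pullback f).obj N ≅ L) := by
  obtain ⟨N, hinv, hN⟩ := exists_common_of_cocycle O hcov (ext U O hOU ζ)
    (ext_cocycle U O hOU ζ hζ1 hζ)
  refine ⟨N, hinv, ?_⟩
  intro X f L e he hrel
  refine hN X f L e he (fun y z => ?_)
  by_cases h : y = z
  · subst h
    rw [ext_self]
    simp only [Units.val_one, map_one, one_smul]
  · have hle : O y ⊓ O z ≤ (O y ⊓ U) ⊓ (O z ⊓ U) := le_of_ne U O hOU h
    have hext : ext U O hOU ζ y z = umap hle (ζ y z) := by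
      rw [ext, dif_neg h]
      rfl
    have h1 := congrArg (mres L (f.preimage_mono hle)) (hrel y z)
    rw [mres_smul, mres_mres, mres_mres] at h1
    rw [hext, umap_val, app_rres]
    exact h1

end Groth.Agent.H54.CommonPull
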