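import Mathlib

/-!
# Generizations of a point, primes of the stalk, and basic opens (helper54)
-/

set_option autoImplicit false
universe u
open CategoryTheory CategoryTheory.Limits AlgebraicGeometry TopologicalSpace Opposite

namespace Groth.Agent.H54.StalkGen

variable {X : Scheme.{u}}

/-- every point of `Spec O_{X,x}` maps into any open containing `x` -/
theorem fromSpecStalk_mem_of_mem {x : X} {W : X.Opens} (hx : x ∈ W)
    (q : Spec (X.presheaf.stalk x)) : (X.fromSpecStalk x) q ∈ W := by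
  have h : (X.fromSpecStalk x) q ⤳ x := by
    have : (X.fromSpecStalk x) q ∈ Set.range (X.fromSpecStalk x) := ⟨q, rfl⟩
    rw [Scheme.range_fromSpecStalk] at this
    exact this
  exact h.mem_open W.2 hx

/-- a generization of `x` lies in the basic open of `g` iff the germ of `g` at `x` is outside the
corresponding prime of the stalk -/
theorem fromSpecStalk_mem_basicOpen_iff {x : X} {W : X.Opens} (hx : x ∈ W) (g : Γ(X, W))
    (q : Spec (X.presheaf.stalk x)) :
    (X.fromSpecStalk x) q ∈ X.basicOpen g ↔ X.presheaf.germ W x hx g ∉ q.asIdeal := by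
  change q ∈ (X.fromSpecStalk x) ⁻¹ᵁ X.basicOpen g ↔ _
  rw [Scheme.preimage_basicOpen, Scheme.fromSpecStalk_app hx]
  simp only [CommRingCat.comp_apply]
  rw [Scheme.basicOpen_res, basicOpen_eq_of_affine]
  constructor
  · rintro ⟨-, h⟩
    exact h
  · intro h
    exact ⟨fromSpecStalk_mem_of_mem hx q, h⟩

section LocalAlgebra

variable (R : Type*) [CommRing R] [IsLocalRing R]

/-- in a local ring of dimension at most one, a prime other than the maximal ideal is minimal -/
theorem mem_minimalPrimes_of_ne (h : ringKrullDim R ≤ 1) (p : PrimeSpectrum R)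
    (hp : p ≠ IsLocalRing.closedPoint R) : p.asIdeal ∈ minimalPrimes R := by
  have h0 : Ring.KrullDimLE 1 R := Ring.krullDimLE_iff.mpr (by exact_mod_cast h)
  rcases Ring.krullDimLE_one_iff.mp h0 p.asIdeal p.isPrime with h1 | h1
  · exact h1
  · exfalso
    apply hp
    ext1
    exact IsLocalRing.eq_maximalIdeal h1

theorem finite_primeSpectrum_of_dim_le_one [IsNoetherianRing R] (h : ringKrullDim R ≤ 1) :
    Finite (PrimeSpectrum R) := by
  have hfin : {p : PrimeSpectrum R | p.asIdeal ∈ minimalPrimes R}.Finite := by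
    have : Function.Injective (PrimeSpectrum.asIdeal (R := R)) := @PrimeSpectrum.ext _ _
    refine Set.Finite.of_finite_image (f := PrimeSpectrum.asIdeal) ?_ this.injOn
    exact (minimalPrimes.finite_of_isNoetherianRing R).subset (by
      rintro _ ⟨p, hp, rfl⟩
      exact hp)
  have huniv : (Set.univ : Set (PrimeSpectrum R)) ⊆
      {p : PrimeSpectrum R | p.asIdeal ∈ minimalPrimes R} ∪ {IsLocalRing.closedPoint R} := by
    intro p _
    by_cases hp : p = IsLocalRing.closedPoint R
    · exact Or.inr hp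
    · exact Or.inl (mem_minimalPrimes_of_ne R h p hp)
  have := (hfin.union (Set.finite_singleton _)).subset huniv
  exact Set.finite_univ_iff.mp this

/-- prime avoidance: an element of the maximal ideal outside all other primes -/
theorem exists_mem_maximalIdeal_forall_not_mem [Finite (PrimeSpectrum R)] :
    ∃ t ∈ IsLocalRing.maximalIdeal R,
      ∀ q : PrimeSpectrum R, q ≠ IsLocalRing.closedPoint R → t ∉ q.asIdeal := by
  classical
  haveI : Fintype (PrimeSpectrum R) := Fintype.ofFinite _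
  by_contra hcon
  push Not at hcon
  set s : Finset (PrimeSpectrum R) :=
    Finset.univ.filter (fun q => q ≠ IsLocalRing.closedPoint R) with hs
  have hsub : ((IsLocalRing.maximalIdeal R : Ideal R) : Set R) ⊆
      ⋃ i ∈ (↑s : Set (PrimeSpectrum R)), (i.asIdeal : Set R) := by
    intro t ht
    obtain ⟨q, hq, htq⟩ := hcon t ht
    refine Set.mem_biUnion (x := q) ?_ htq
    simp [hs, hq]
  obtain ⟨q, hqs, hle⟩ := (Ideal.subset_union_prime (f := fun q : PrimeSpectrum R => q.asIdeal)
    (IsLocalRing.closedPoint R) (IsLocalRing.closedPoint R)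
    (fun i _ _ _ => i.isPrime)).mp hsub
  have hq : q ≠ IsLocalRing.closedPoint R := by
    have := hqs
    simp [hs] at this
    exact this
  apply hq
  ext1
  exact le_antisymm (IsLocalRing.le_maximalIdeal q.isPrime.ne_top) hle

end LocalAlgebra

/-- the generizations of a point whose local ring is Noetherian of dimension at most one are
finite in number -/
theorem finite_generizations (x : X) [IsNoetherianRing (X.presheaf.stalk x)]
    (hdim : ringKrullDim (X.presheaf.stalk x) ≤ 1) : {y : X | y ⤳ x}.Finite := by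
  haveI : Finite (Spec (X.presheaf.stalk x)) :=
    finite_primeSpectrum_of_dim_le_one (X.presheaf.stalk x) hdim
  rw [← Scheme.range_fromSpecStalk]
  exact Set.finite_range _

/-- two distinct proper generizations of a point whose local ring has dimension at most one are
incomparable -/
theorem not_specializes_of_ne (x : X) (hdim : ringKrullDim (X.presheaf.stalk x) ≤ 1)
    {y y' : X} (hy : y ⤳ x) (hy' : y' ⤳ x) (hy'x : y' ≠ x) (hne : y ≠ y') : ¬ y ⤳ y' := by
  intro hsp
  have hy1 : y ∈ Set.range (X.fromSpecStalk x) := by rw [Scheme.range_fromSpecStalk]; exact hy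
  have hy2 : y' ∈ Set.range (X.fromSpecStalk x) := by rw [Scheme.range_fromSpecStalk]; exact hy'
  obtain ⟨q, rfl⟩ := hy1
  obtain ⟨q', rfl⟩ := hy2
  have hemb : Topology.IsEmbedding (X.fromSpecStalk x) :=
    (X.fromSpecStalk x).isEmbedding
  have hqq' : q ⤳ q' := hemb.isInducing.specializes_iff.mp hsp
  have hle : q.asIdeal ≤ q'.asIdeal := (PrimeSpectrum.le_iff_specializes q q').mpr hqq'
  have hq' : q' ≠ IsLocalRing.closedPoint (X.presheaf.stalk x) := by
    rintro rfl
    exact hy'x Scheme.fromSpecStalk_closedPoint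
  have hmin := mem_minimalPrimes_of_ne _ hdim q' hq'
  have hle' : q'.asIdeal ≤ q.asIdeal := hmin.2 ⟨q.isPrime, bot_le⟩ hle
  apply hne
  congr 1
  exact PrimeSpectrum.ext (le_antisymm hle hle')

/-- a function vanishing at all generizations of `x` is nilpotent near `x` -/
theorem exists_nhd_basicOpen_eq_bot {x : X} {W : X.Opens} (hx : x ∈ W) (e : Γ(X, W))
    (he : ∀ y : X, y ⤳ x → y ∉ X.basicOpen e) :
    ∃ W' : X.Opens, W' ≤ W ∧ x ∈ W' ∧ X.basicOpen e ⊓ W' = ⊥ := by
  have hnil : IsNilpotent (X.presheaf.germ W x hx e) := by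
    rw [nilpotent_iff_mem_prime]
    intro J hJ
    by_contra hn
    let q : Spec (X.presheaf.stalk x) := ⟨J, hJ⟩
    have hq : (X.fromSpecStalk x) q ⤳ x := by
      have : (X.fromSpecStalk x) q ∈ Set.range (X.fromSpecStalk x) := ⟨q, rfl⟩
      rw [Scheme.range_fromSpecStalk] at this
      exact this
    exact he _ hq ((fromSpecStalk_mem_basicOpen_iff hx e q).mpr hn)
  obtain ⟨n, hn⟩ := hnil
  have h0 : X.presheaf.germ W x hx (e ^ (n + 1)) = X.presheaf.germ W x hx 0 := by
    rw [map_pow, pow_succ, hn, zero_mul, map_zero]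
  obtain ⟨W', hxW', iU, iV, hres⟩ := X.presheaf.germ_eq x hx hx _ _ h0
  refine ⟨W', iU.le, hxW', ?_⟩
  rw [map_zero, map_pow] at hres
  have h1 : X.basicOpen (X.presheaf.map iU.op e) = W' ⊓ X.basicOpen e := X.basicOpen_res e iU.op
  have h2 : X.basicOpen (X.presheaf.map iU.op e) = ⊥ := by
    rw [← X.basicOpen_pow (X.presheaf.map iU.op e) (Nat.succ_pos n), hres, X.basicOpen_zero]
  rw [inf_comm, ← h1, h2]

/-- if every generization of `x` in `D(t)` lies in some `D(g k)`, the same holds for all points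
near `x` -/
theorem exists_nhd_basicOpen_le {x : X} {W : X.Opens} (hx : x ∈ W) (t : Γ(X, W))
    {κ : Type*} [Finite κ] (g : κ → Γ(X, W))
    (h : ∀ y : X, y ⤳ x → y ∈ X.basicOpen t → ∃ k, y ∈ X.basicOpen (g k)) :
    ∃ W' : X.Opens, W' ≤ W ∧ x ∈ W' ∧ X.basicOpen t ⊓ W' ≤ ⨆ k, X.basicOpen (g k) := by
  classical
  haveI : Fintype κ := Fintype.ofFinite κ
  have hrad : X.presheaf.germ W x hx t ∈
      (Ideal.span (Set.range (fun k => X.presheaf.germ W x hx (g k)))).radical := by
    rw [Ideal.radical_eq_sInf, Ideal.mem_sInf]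
    rintro J ⟨hJ, hJp⟩
    by_contra hn
    let q : Spec (X.presheaf.stalk x) := ⟨J, hJp⟩
    have hq : (X.fromSpecStalk x) q ⤳ x := by
      have : (X.fromSpecStalk x) q ∈ Set.range (X.fromSpecStalk x) := ⟨q, rfl⟩
      rw [Scheme.range_fromSpecStalk] at this
      exact this
    obtain ⟨k, hk⟩ := h _ hq ((fromSpecStalk_mem_basicOpen_iff hx t q).mpr hn)
    exact (fromSpecStalk_mem_basicOpen_iff hx (g k) q).mp hk (hJ (Ideal.subset_span ⟨k, rfl⟩))
  obtain ⟨n, hn⟩ := hrad
  obtain ⟨c, hc⟩ := Ideal.mem_span_range_iff_exists_fun.mp hn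
  choose V hVW hxV c' hc' using fun k => X.presheaf.exists_le_germ_eq (c k) hx
  set W₀ : X.Opens := W ⊓ ⨅ k, V k with hW₀
  have hW₀V : ∀ k, W₀ ≤ V k := fun k => inf_le_right.trans (iInf_le _ k)
  have hxW₀ : x ∈ W₀ := by
    refine ⟨hx, ?_⟩
    change x ∈ ((⨅ k, V k : X.Opens) : Set X)
    rw [Opens.coe_iInf]
    exact Set.mem_iInter.mpr hxV
  have hW₀W : W₀ ≤ W := inf_le_left
  set s₁ : Γ(X, W₀) := (X.presheaf.map (homOfLE hW₀W).op t) ^ n with hs₁
  set s₂ : Γ(X, W₀) := ∑ k, X.presheaf.map (homOfLE (hW₀V k)).op (c' k) *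
      X.presheaf.map (homOfLE hW₀W).op (g k) with hs₂
  have hgerm : X.presheaf.germ W₀ x hxW₀ s₁ = X.presheaf.germ W₀ x hxW₀ s₂ := by
    rw [hs₁, hs₂, map_pow, map_sum, TopCat.Presheaf.germ_res_apply, ← hc]
    refine Finset.sum_congr rfl (fun k _ => ?_)
    rw [map_mul, TopCat.Presheaf.germ_res_apply, TopCat.Presheaf.germ_res_apply, hc' k]
  obtain ⟨W', hxW', i₁, i₂, hres⟩ := X.presheaf.germ_eq x hxW₀ hxW₀ _ _ hgerm
  refine ⟨W', i₁.le.trans hW₀W, hxW', ?_⟩
  rintro y ⟨hyt, hyW'⟩
  have hyW : y ∈ W := hW₀W (i₁.le hyW')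
  have hyW₀ : y ∈ W₀ := i₁.le hyW'
  have hu : IsUnit (X.presheaf.germ W y hyW t) := (X.mem_basicOpen t y hyW).mp hyt
  have h1 : X.presheaf.germ W' y hyW' (X.presheaf.map i₁.op s₁) =
      (X.presheaf.germ W y hyW t) ^ n := by
    rw [TopCat.Presheaf.germ_res_apply, hs₁, map_pow, TopCat.Presheaf.germ_res_apply]
  have h2 : X.presheaf.germ W' y hyW' (X.presheaf.map i₂.op s₂) =
      ∑ k, X.presheaf.germ (V k) y (hW₀V k hyW₀) (c' k) * X.presheaf.germ W y hyW (g k) := by
    rw [TopCat.Presheaf.germ_res_apply, hs₂, map_sum]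
    refine Finset.sum_congr rfl (fun k _ => ?_)
    rw [map_mul, TopCat.Presheaf.germ_res_apply, TopCat.Presheaf.germ_res_apply]
  by_contra hcon
  have hnon : ∀ k, X.presheaf.germ W y hyW (g k) ∈
      IsLocalRing.maximalIdeal (X.presheaf.stalk y) := by
    intro k
    rw [IsLocalRing.mem_maximalIdeal, mem_nonunits_iff]
    intro hk
    apply hcon
    exact Opens.mem_iSup.mpr ⟨k, (X.mem_basicOpen (g k) y hyW).mpr hk⟩
  have hsum : (X.presheaf.germ W y hyW t) ^ n ∈
      IsLocalRing.maximalIdeal (X.presheaf.stalk y) := by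
    rw [← h1, hres, h2]
    exact Ideal.sum_mem _ (fun k _ => Ideal.mul_mem_left _ _ (hnon k))
  rw [IsLocalRing.mem_maximalIdeal, mem_nonunits_iff] at hsum
  exact hsum (hu.pow n)

/-- version of `exists_nhd_basicOpen_le` with a finite family on the left -/
theorem exists_nhd_iSup_basicOpen_le {x : X} {W : X.Opens} (hx : x ∈ W)
    {ι κ : Type*} [Finite ι] [Finite κ] (t : ι → Γ(X, W)) (g : κ → Γ(X, W))
    (h : ∀ y : X, y ⤳ x → ∀ i, y ∈ X.basicOpen (t i) → ∃ k, y ∈ X.basicOpen (g k)) :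
    ∃ W' : X.Opens, W' ≤ W ∧ x ∈ W' ∧
      (⨆ i, X.basicOpen (t i)) ⊓ W' ≤ ⨆ k, X.basicOpen (g k) := by
  choose W' hW'W hxW' hle using fun i =>
    exists_nhd_basicOpen_le hx (t i) g (fun y hy hyt => h y hy i hyt)
  refine ⟨W ⊓ ⨅ i, W' i, inf_le_left, ⟨hx, ?_⟩, ?_⟩
  · change x ∈ ((⨅ i, W' i : X.Opens) : Set X)
    rw [Opens.coe_iInf]
    exact Set.mem_iInter.mpr hxW'
  · rintro y ⟨hy1, -, hy2⟩
    obtain ⟨i, hi⟩ := Opens.mem_iSup.mp hy1
    have hy3 : y ∈ W' i := by
      have : y ∈ ((⨅ i, W' i : X.Opens) : Set X) := hy2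
      rw [Opens.coe_iInf] at this
      exact Set.mem_iInter.mp this i
    exact hle i ⟨hi, hy3⟩

end Groth.Agent.H54.StalkGen
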