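import Mathlib
import Groth.Agent.H54.StalkGen
import Groth.Agent.H18.STL.Basic
import Groth.Agent.H67.BasisLocal

/-!
# Local structure at a point of a discrete complement with one-dimensional Noetherian local ring
(helper54)
-/

set_option autoImplicit false
universe u
open CategoryTheory CategoryTheory.Limits AlgebraicGeometry TopologicalSpace Opposite

namespace Groth.Agent.H54.DiscLocal

open Groth.Agent.H18 Groth.Agent.H18.PUP Groth.Agent.H18.STL Groth.Agent.H54.StalkGen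

variable {X : Scheme.{u}} (U : X.Opens)

/-- isolation of a point in the discrete complement -/
theorem exists_isolating_open (hdisc : DiscreteTopology ↥((U : Set X)ᶜ)) {x : X} (hx : x ∉ U) :
    ∃ N : X.Opens, x ∈ N ∧ ∀ w ∈ N, w ∉ U → w = x := by
  have hopen : IsOpen ({⟨x, hx⟩} : Set ↥((U : Set X)ᶜ)) := isOpen_discrete _
  obtain ⟨t, ht, hpre⟩ := isOpen_induced_iff.mp hopen
  refine ⟨⟨t, ht⟩, ?_, ?_⟩
  · have : (⟨x, hx⟩ : ↥((U : Set X)ᶜ)) ∈ Subtype.val ⁻¹' t := by rw [hpre]; rfl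
    exact this
  · intro w hw hwU
    have : (⟨w, hwU⟩ : ↥((U : Set X)ᶜ)) ∈ Subtype.val ⁻¹' t := hw
    rw [hpre] at this
    exact congrArg Subtype.val this

theorem isCompact_inf_of_quasiCompact [QuasiCompact U.ι] {O : X.Opens}
    (hO : IsCompact (O : Set X)) : IsCompact ((U ⊓ O : X.Opens) : Set X) := by
  have h1 : IsCompact ((U.ι ⁻¹ᵁ O : (U : Scheme.{u}).Opens) : Set (U : Scheme.{u})) :=
    U.ι.isCompact_preimage hO
  have h2 := h1.image U.ι.continuous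
  have h3 : ⇑U.ι '' ((U.ι ⁻¹ᵁ O : (U : Scheme.{u}).Opens) : Set (U : Scheme.{u})) =
      ((U ⊓ O : X.Opens) : Set X) := by
    change ⇑U.ι '' (⇑U.ι ⁻¹' (O : Set X)) = _
    rw [Set.image_preimage_eq_inter_range, Scheme.Opens.range_ι, Set.inter_comm]
    rfl
  rwa [h3] at h2

/-- every proper generization of `x` lies in `D(t₁)` when the germ of `t₁` avoids all non-maximal
primes -/
theorem mem_basicOpen_of_generization {x : X} {W : X.Opens} (hx : x ∈ W) (t₁ : Γ(X, W))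
    (ht : ∀ q : PrimeSpectrum (X.presheaf.stalk x), q ≠ IsLocalRing.closedPoint _ →
      X.presheaf.germ W x hx t₁ ∉ q.asIdeal)
    {y : X} (hy : y ⤳ x) (hyx : y ≠ x) : y ∈ X.basicOpen t₁ := by
  have hy1 : y ∈ Set.range (X.fromSpecStalk x) := by rw [Scheme.range_fromSpecStalk]; exact hy
  obtain ⟨q, rfl⟩ := hy1
  rw [fromSpecStalk_mem_basicOpen_iff hx]
  apply ht
  rintro rfl
  exact hyx Scheme.fromSpecStalk_closedPoint

/-- Local structure: near a point `x` of the discrete complement of the retrocompact open `U` whose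
local ring is Noetherian of dimension at most one, `U` is a basic open. -/
theorem exists_affine_nhd_basicOpen [QuasiCompact U.ι] (hdisc : DiscreteTopology ↥((U : Set X)ᶜ))
    {x : X} (hx : x ∉ U) [IsNoetherianRing (X.presheaf.stalk x)]
    (hdim : ringKrullDim (X.presheaf.stalk x) ≤ 1) :
    ∃ (O : X.Opens) (t : Γ(X, O)), IsAffineOpen O ∧ x ∈ O ∧ (∀ w ∈ O, w ∉ U → w = x) ∧
      X.basicOpen t = O ⊓ U := by
  classical
  obtain ⟨N₁, hxN₁, hN₁⟩ := exists_isolating_open U hdisc hx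
  obtain ⟨_, ⟨O₀, hO₀, rfl⟩, hxO₀, hO₀N₁⟩ :=
    X.isBasis_affineOpens.exists_subset_of_mem_open hxN₁ N₁.2
  -- `U ⊓ O₀` is a finite union of basic opens
  have hc : IsCompact ((U ⊓ O₀ : X.Opens) : Set X) := isCompact_inf_of_quasiCompact U hO₀.isCompact
  have hex : ∀ y : ↥(U ⊓ O₀ : X.Opens), ∃ f : Γ(X, O₀), X.basicOpen f ≤ U ⊓ O₀ ∧
      (y : X) ∈ X.basicOpen f := fun y => hO₀.exists_basicOpen_le y y.2.2
  choose f hf1 hf2 using hex
  obtain ⟨s, hs⟩ := hc.elim_finite_subcover (fun y : ↥(U ⊓ O₀ : X.Opens) =>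
    ((X.basicOpen (f y) : X.Opens) : Set X)) (fun y => (X.basicOpen (f y)).2)
    (fun y hy => Set.mem_iUnion.mpr ⟨⟨y, hy⟩, hf2 ⟨y, hy⟩⟩)
  -- the element of the stalk
  haveI : Finite (PrimeSpectrum (X.presheaf.stalk x)) :=
    finite_primeSpectrum_of_dim_le_one _ hdim
  obtain ⟨t₀, ht₀m, ht₀⟩ := exists_mem_maximalIdeal_forall_not_mem (X.presheaf.stalk x)
  obtain ⟨W₁, hW₁O₀, hxW₁, t₁, ht₁⟩ := X.presheaf.exists_le_germ_eq t₀ hxO₀
  have hxt₁ : x ∉ X.basicOpen t₁ := by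
    intro h
    have hu := (X.mem_basicOpen t₁ x hxW₁).mp h
    rw [ht₁] at hu
    exact (IsLocalRing.mem_maximalIdeal _).mp ht₀m hu
  have hgen : ∀ y : X, y ⤳ x → y ≠ x → y ∈ X.basicOpen t₁ := fun y hy hyx =>
    mem_basicOpen_of_generization hxW₁ t₁ (by rw [ht₁]; exact ht₀) hy hyx
  -- shrink
  obtain ⟨W₂, hW₂W₁, hxW₂, hW₂⟩ := exists_nhd_iSup_basicOpen_le hxW₁
    (fun i : ↥s => X.presheaf.map (homOfLE hW₁O₀).op (f i.1)) (fun _ : Unit => t₁)
    (fun y hy i hyi => ⟨(), hgen y hy (by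
      rintro rfl
      rw [Scheme.basicOpen_res] at hyi
      exact hx (hf1 i.1 hyi.2).1)⟩)
  obtain ⟨f₀, hf₀le, hxf₀⟩ := hO₀.exists_basicOpen_le (V := W₂) ⟨x, hxW₂⟩ hxO₀
  have hOO₀ : X.basicOpen f₀ ≤ O₀ := X.basicOpen_le f₀
  have hOW₁ : X.basicOpen f₀ ≤ W₁ := hf₀le.trans hW₂W₁
  refine ⟨X.basicOpen f₀, X.presheaf.map (homOfLE hOW₁).op t₁, hO₀.basicOpen f₀, hxf₀,
    fun w hw hwU => hN₁ w (hO₀N₁ (hOO₀ hw)) hwU, ?_⟩
  rw [Scheme.basicOpen_res]
  ext y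
  constructor
  · rintro ⟨hyO, hyt⟩
    refine ⟨hyO, ?_⟩
    by_contra hyU
    have : y = x := hN₁ y (hO₀N₁ (hOO₀ hyO)) hyU
    rw [this] at hyt
    exact hxt₁ hyt
  · rintro ⟨hyO, hyU⟩
    refine ⟨hyO, ?_⟩
    have hy1 : y ∈ ((U ⊓ O₀ : X.Opens) : Set X) := ⟨hyU, hOO₀ hyO⟩
    obtain ⟨i, hi⟩ := Set.mem_iUnion.mp (hs hy1)
    obtain ⟨his, hyi⟩ := Set.mem_iUnion.mp hi
    have h3 : y ∈ (⨆ i : ↥s, X.basicOpen (X.presheaf.map (homOfLE hW₁O₀).op (f i.1))) ⊓ W₂ := by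
      refine ⟨Opens.mem_iSup.mpr ⟨⟨i, his⟩, ?_⟩, hf₀le hyO⟩
      rw [Scheme.basicOpen_res]
      exact ⟨hOW₁ hyO, hyi⟩
    have h4 := hW₂ h3
    obtain ⟨_, h5⟩ := Opens.mem_iSup.mp h4
    exact h5

/-- two sections over an open without points are equal -/
theorem modules_eq_of_eq_bot (M : X.Modules) {W : X.Opens} (hW : W = ⊥) (a b : Γ(M, W)) :
    a = b := by
  refine modules_eq_of_locally_eq M a b (fun x hx => ?_)
  rw [hW] at hx
  exact absurd hx (by simp)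

/-- Local triviality: a module with local bases on `U` has a basis on `O' ⊓ U` for some
neighbourhood `O'` of `x`. -/
theorem exists_nhd_isBasisOn {x : X} (hx : x ∉ U) [IsNoetherianRing (X.presheaf.stalk x)]
    (hdim : ringKrullDim (X.presheaf.stalk x) ≤ 1)
    {O : X.Opens} (hO : IsAffineOpen O) (hxO : x ∈ O) (hOx : ∀ w ∈ O, w ∉ U → w = x)
    (t : Γ(X, O)) (ht : X.basicOpen t = O ⊓ U)
    (M : X.Modules) (hM : ∀ y ∈ U, ∃ (D : X.Opens) (β : Γ(M, D)), y ∈ D ∧ IsBasisOn M D β) :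
    ∃ (O' : X.Opens) (b : Γ(M, O' ⊓ U)), O' ≤ O ∧ x ∈ O' ∧ IsBasisOn M (O' ⊓ U) b := by
  classical
  set Q : Set X := {y | y ⤳ x ∧ y ≠ x} with hQ
  have hQfin : Q.Finite := (finite_generizations x hdim).subset (fun y hy => hy.1)
  haveI : Finite ↥Q := hQfin.to_subtype
  have hQO : ∀ y ∈ Q, y ∈ O := fun y hy => hy.1.mem_open O.2 hxO
  have hQU : ∀ y ∈ Q, y ∈ U := fun y hy => by
    by_contra h
    exact hy.2 (hOx y (hQO y hy) h)
  have hxt : x ∉ X.basicOpen t := by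
    rw [ht]
    exact fun h => hx h.2
  -- opens separating the points of `Q`
  let E : ↥Q → X.Opens := fun y => ⟨(closure (Q \ {y.1}))ᶜ, isClosed_closure.isOpen_compl⟩
  have hE1 : ∀ y : ↥Q, y.1 ∈ E y := by
    intro y hy
    have hfin : (Q \ {y.1}).Finite := hQfin.subset Set.sdiff_subset
    have h1 : closure (Q \ {y.1}) = ⋃ z ∈ Q \ {y.1}, closure ({z} : Set X) := by
      conv_lhs => rw [← Set.biUnion_of_singleton (Q \ {y.1})]
      exact hfin.closure_biUnion _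
    rw [h1] at hy
    obtain ⟨z, hz⟩ := Set.mem_iUnion.mp hy
    obtain ⟨hzQ, hz2⟩ := Set.mem_iUnion.mp hz
    have hsp : z ⤳ y.1 := specializes_iff_mem_closure.mpr hz2
    exact not_specializes_of_ne x hdim hzQ.1.1 y.2.1 y.2.2 hzQ.2 hsp
  have hE2 : ∀ (y : ↥Q) (z : X), z ∈ Q → z ∈ E y → z = y.1 := by
    intro y z hzQ hzE
    by_contra hne
    exact hzE (subset_closure ⟨hzQ, hne⟩)
  -- local bases and basic opens around the points of `Q`
  choose D β hyD hβ using fun y : ↥Q => hM y.1 (hQU y.1 y.2)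
  have hex : ∀ y : ↥Q, ∃ d : Γ(X, O), X.basicOpen d ≤ D y ⊓ X.basicOpen t ⊓ E y ∧
      y.1 ∈ X.basicOpen d := by
    intro y
    have hyt : y.1 ∈ X.basicOpen t := by rw [ht]; exact ⟨hQO y.1 y.2, hQU y.1 y.2⟩
    exact hO.exists_basicOpen_le (V := D y ⊓ X.basicOpen t ⊓ E y) ⟨y.1, ⟨⟨hyD y, hyt⟩, hE1 y⟩⟩
      (hQO y.1 y.2)
  choose d hd1 hd2 using hex
  -- disjointness near `x`
  have hpair : ∀ y y' : ↥Q, ∃ W' : X.Opens, W' ≤ O ∧ x ∈ W' ∧
      (y ≠ y' → X.basicOpen (d y * d y') ⊓ W' = ⊥) := by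
    intro y y'
    by_cases hyy : y = y'
    · exact ⟨O, le_rfl, hxO, fun h => absurd hyy h⟩
    · obtain ⟨W', hW'O, hxW', hbot⟩ := exists_nhd_basicOpen_eq_bot hxO (d y * d y') (by
        intro z hz hzd
        rw [Scheme.basicOpen_mul] at hzd
        have hz1 := hd1 y hzd.1
        have hz2 := hd1 y' hzd.2
        have hzx : z ≠ x := by
          rintro rfl
          exact hxt hz1.1.2
        have hzQ : z ∈ Q := ⟨hz, hzx⟩
        have e1 := hE2 y z hzQ hz1.2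
        have e2 := hE2 y' z hzQ hz2.2
        exact hyy (Subtype.ext (e1.symm.trans e2)))
      exact ⟨W', hW'O, hxW', fun _ => hbot⟩
  choose Wp hWpO hxWp hWp using hpair
  set W₃ : X.Opens := O ⊓ ⨅ p : ↥Q × ↥Q, Wp p.1 p.2 with hW₃
  have hxW₃ : x ∈ W₃ := by
    refine ⟨hxO, ?_⟩
    change x ∈ ((⨅ p : ↥Q × ↥Q, Wp p.1 p.2 : X.Opens) : Set X)
    rw [Opens.coe_iInf]
    exact Set.mem_iInter.mpr (fun p => hxWp p.1 p.2)
  have hW₃O : W₃ ≤ O := inf_le_left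
  have hW₃Wp : ∀ y y' : ↥Q, W₃ ≤ Wp y y' := fun y y' =>
    inf_le_right.trans (iInf_le (fun p : ↥Q × ↥Q => Wp p.1 p.2) (y, y'))
  let G : ↥Q → X.Opens := fun y => X.basicOpen (d y) ⊓ W₃
  have hGD : ∀ y, G y ≤ D y := fun y => inf_le_left.trans ((hd1 y).trans
    (inf_le_left.trans inf_le_left))
  have hGdisj : ∀ y y' : ↥Q, y ≠ y' → G y ⊓ G y' = ⊥ := by
    intro y y' hne
    rw [eq_bot_iff, ← hWp y y' hne, Scheme.basicOpen_mul]
    rintro z ⟨⟨h1, h2⟩, ⟨h3, -⟩⟩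
    exact ⟨⟨h1, h3⟩, hW₃Wp y y' h2⟩
  -- glue the bases
  obtain ⟨b₀, hb₀⟩ := exists_glue M G (⨆ y, G y) (fun y => le_iSup G y)
    (fun z hz => Opens.mem_iSup.mp hz) (fun y => mres M (hGD y) (β y)) (by
      intro y y'
      rcases eq_or_ne y y' with rfl | hne
      · rfl
      · exact modules_eq_of_eq_bot M (hGdisj y y' hne) _ _)
  have hb₀bas : IsBasisOn M (⨆ y, G y) b₀ := by
    refine Groth.Agent.H67.BasisLocal.isBasisOn_of_locally b₀ (fun z hz => ?_)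
    obtain ⟨y, hy⟩ := Opens.mem_iSup.mp hz
    refine ⟨G y, le_iSup G y, hy, ?_⟩
    rw [hb₀ y]
    exact (hβ y).mono (hGD y)
  -- shrink the neighbourhood of `x`
  obtain ⟨W₄, hW₄W₃, hxW₄, hW₄⟩ := exists_nhd_basicOpen_le hxW₃
    (X.presheaf.map (homOfLE hW₃O).op t)
    (fun y : ↥Q => X.presheaf.map (homOfLE hW₃O).op (d y)) (by
      intro z hz hzt
      rw [Scheme.basicOpen_res] at hzt
      have hzx : z ≠ x := by
        rintro rfl
        exact hxt hzt.2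
      refine ⟨⟨z, hz, hzx⟩, ?_⟩
      rw [Scheme.basicOpen_res]
      exact ⟨hzt.1, hd2 ⟨z, hz, hzx⟩⟩)
  have hle : W₄ ⊓ U ≤ ⨆ y, G y := by
    rintro z ⟨hz4, hzU⟩
    have hz3 : z ∈ W₃ := hW₄W₃ hz4
    have hzt : z ∈ X.basicOpen (X.presheaf.map (homOfLE hW₃O).op t) := by
      rw [Scheme.basicOpen_res, ht]
      exact ⟨hz3, hW₃O hz3, hzU⟩
    obtain ⟨y, hy⟩ := Opens.mem_iSup.mp (hW₄ ⟨hzt, hz4⟩)
    rw [Scheme.basicOpen_res] at hy
    exact Opens.mem_iSup.mpr ⟨y, hy.2, hy.1⟩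
  exact ⟨W₄, mres M hle b₀, hW₄W₃.trans hW₃O, hxW₄, hb₀bas.mono hle⟩

end Groth.Agent.H54.DiscLocal
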