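import Mathlib
import Groth.Agent.H54.DiscGlue
import Groth.Agent.H54.DiscLocal
import Groth.Agent.H67.BasisLocal

/-!
# Gluing sections, functions, units and bases over pairwise disjoint opens (helper54)
-/

set_option autoImplicit false
universe u
open CategoryTheory CategoryTheory.Limits AlgebraicGeometry TopologicalSpace Opposite

namespace Groth.Agent.H54.DisjGlue

open Groth.Agent.H18 Groth.Agent.H18.PUP Groth.Agent.H18.STL Groth.Agent.H54.DiscGlue

variable {X : Scheme.{u}}

/-- two functions over an open without points are equal -/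
theorem fun_eq_of_eq_bot {W : X.Opens} (hW : W = ⊥) (a b : Γ(X, W)) : a = b := by
  refine fun_eq_of_locally_eq a b (fun x hx => ?_)
  rw [hW] at hx
  exact absurd hx (by simp)

variable {ι : Type u} (A : ι → X.Opens) (hA : ∀ i j, i ≠ j → A i ⊓ A j = ⊥)

include hA in
/-- gluing sections of a module over pairwise disjoint opens -/
theorem exists_glue_modules (M : X.Modules) (σ : ∀ i, Γ(M, A i)) :
    ∃ s : Γ(M, ⨆ i, A i), ∀ i, mres M (le_iSup A i) s = σ i := by
  refine exists_glue M A (⨆ i, A i) (le_iSup A) (fun x hx => Opens.mem_iSup.mp hx) σ ?_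
  intro i j
  by_cases h : i = j
  · subst h
    rfl
  · exact DiscLocal.modules_eq_of_eq_bot M (hA i j h) _ _

include hA in
/-- gluing functions over pairwise disjoint opens -/
theorem exists_glue_fun_disjoint (σ : ∀ i, Γ(X, A i)) :
    ∃ s : Γ(X, ⨆ i, A i), ∀ i, rres X (le_iSup A i) s = σ i := by
  refine exists_glue_fun A (⨆ i, A i) (le_iSup A) (fun x hx => Opens.mem_iSup.mp hx) σ ?_
  intro i j
  by_cases h : i = j
  · subst h
    rfl
  · exact fun_eq_of_eq_bot (hA i j h) _ _

include hA in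
/-- gluing units over pairwise disjoint opens -/
theorem exists_glue_units (σ : ∀ i, (Γ(X, A i))ˣ) :
    ∃ s : (Γ(X, ⨆ i, A i))ˣ, ∀ i, umap (le_iSup A i) s = σ i := by
  obtain ⟨a, ha⟩ := exists_glue_fun_disjoint A hA (fun i => (σ i : Γ(X, A i)))
  obtain ⟨b, hb⟩ := exists_glue_fun_disjoint A hA (fun i => ((σ i)⁻¹ : (Γ(X, A i))ˣ))
  have hab : a * b = 1 := by
    refine fun_eq_of_locally_eq _ _ (fun x hx => ?_)
    obtain ⟨i, hi⟩ := Opens.mem_iSup.mp hx
    refine ⟨A i, le_iSup A i, hi, ?_⟩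
    rw [map_mul, ha, hb, map_one]
    exact Units.mul_inv _
  refine ⟨⟨a, b, hab, by rw [mul_comm]; exact hab⟩, fun i => ?_⟩
  apply Units.ext
  rw [umap_val]
  exact ha i

include hA in
/-- gluing bases over pairwise disjoint opens -/
theorem exists_glue_basis (M : X.Modules) (σ : ∀ i, Γ(M, A i))
    (hσ : ∀ i, IsBasisOn M (A i) (σ i)) :
    ∃ s : Γ(M, ⨆ i, A i), IsBasisOn M (⨆ i, A i) s ∧ ∀ i, mres M (le_iSup A i) s = σ i := by
  obtain ⟨s, hs⟩ := exists_glue_modules A hA M σ
  refine ⟨s, ?_, hs⟩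
  refine Groth.Agent.H67.BasisLocal.isBasisOn_of_locally s (fun x hx => ?_)
  obtain ⟨i, hi⟩ := Opens.mem_iSup.mp hx
  refine ⟨A i, le_iSup A i, hi, ?_⟩
  rw [hs i]
  exact hσ i

end Groth.Agent.H54.DisjGlue
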