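import Mathlib
import Groth.Agent.H54.PullGlue
import Groth.Agent.H54.DisjGlue

/-!
# Lifting units through a morphism which is a closed immersion over an open (helper54)
-/

set_option autoImplicit false
universe u
open CategoryTheory CategoryTheory.Limits AlgebraicGeometry TopologicalSpace Opposite

namespace Groth.Agent.H54.ClosedImmLift

open Groth.Agent.H18 Groth.Agent.H18.PUP Groth.Agent.H18.STL Groth.Agent.H54.DiscGlue
  Groth.Agent.H54.PullGlue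

variable {X Y : Scheme.{u}} (f : X ⟶ Y)

/-- over affine opens inside `V`, `f^♯` is surjective -/
theorem app_surjective_of_restrict (V : Y.Opens) [IsClosedImmersion (f ∣_ V)]
    (U' : (V : Scheme.{u}).Opens) (hU' : IsAffineOpen U') :
    Function.Surjective (f.app (V.ι ''ᵁ U')).hom := by
  intro b
  have hP := image_morphismRestrict_preimage f V U'
  obtain ⟨a, ha⟩ := (f ∣_ V).app_surjective U' hU' (rres X hP.le b)
  refine ⟨a, ?_⟩
  rw [morphismRestrict_app'] at ha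
  apply rres_injective_of_le hP.le hP.ge
  exact ha

/-- lifting a unit near a point of the image lying over `V` -/
theorem exists_unit_lift_of_mem_range (V : Y.Opens) [IsClosedImmersion (f ∣_ V)] (x : X)
    (hx : f x ∈ V) (G : Y.Opens) (hG : f x ∈ G) (ū : (Γ(X, f ⁻¹ᵁ G))ˣ) :
    ∃ (G' : Y.Opens) (hG' : G' ≤ G), f x ∈ G' ∧
      ∃ u : (Γ(Y, G'))ˣ, fu f G' u = umap (f.preimage_mono hG') ū := by
  have hv : (⟨f x, hx⟩ : (V : Scheme.{u})) ∈ V.ι ⁻¹ᵁ G := hG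
  obtain ⟨U', hU'aff, hvU', hU'sub⟩ := exists_isAffineOpen_mem_and_subset hv
  have hG₁G : V.ι ''ᵁ U' ≤ G := by
    rintro y ⟨w, hw, rfl⟩
    exact hU'sub hw
  have hxG₁ : f x ∈ V.ι ''ᵁ U' := ⟨⟨f x, hx⟩, hvU', rfl⟩
  obtain ⟨a, ha⟩ := app_surjective_of_restrict f V U' hU'aff
    (rres X (f.preimage_mono hG₁G) (ū : Γ(X, f ⁻¹ᵁ G)))
  have hG'G₁ : Y.basicOpen a ≤ V.ι ''ᵁ U' := Y.basicOpen_le a
  have hunit : IsUnit (rres X (f.preimage_mono hG₁G) (ū : Γ(X, f ⁻¹ᵁ G))) := ū.isUnit.map _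
  have hxG' : f x ∈ Y.basicOpen a := by
    have h1 : f ⁻¹ᵁ Y.basicOpen a = f ⁻¹ᵁ (V.ι ''ᵁ U') := by
      rw [Scheme.preimage_basicOpen]
      have h2 : (f.app (V.ι ''ᵁ U')).hom a = rres X (f.preimage_mono hG₁G) (ū : Γ(X, f ⁻¹ᵁ G)) := ha
      rw [h2]
      exact Scheme.basicOpen_of_isUnit X hunit
    have h3 : x ∈ f ⁻¹ᵁ (V.ι ''ᵁ U') := hxG₁
    rw [← h1] at h3
    exact h3
  have hu : IsUnit (rres Y hG'G₁ a) := RingedSpace.isUnit_res_basicOpen Y.toRingedSpace a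
  refine ⟨Y.basicOpen a, hG'G₁.trans hG₁G, hxG', hu.unit, ?_⟩
  apply Units.ext
  rw [fu_val, umap_val]
  change (f.app (Y.basicOpen a)).hom (rres Y hG'G₁ a) = _
  rw [app_rres, ha, rres_rres]

/-- lifting a unit near any point of `V` -/
theorem exists_unit_lift [IsFinite f] (V : Y.Opens) [IsClosedImmersion (f ∣_ V)] (y : Y)
    (hy : y ∈ V) (G : Y.Opens) (hG : y ∈ G) (ū : (Γ(X, f ⁻¹ᵁ G))ˣ) :
    ∃ (G' : Y.Opens) (hG' : G' ≤ G), y ∈ G' ∧
      ∃ u : (Γ(Y, G'))ˣ, fu f G' u = umap (f.preimage_mono hG') ū := by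
  by_cases hr : y ∈ Set.range f
  · obtain ⟨x, rfl⟩ := hr
    exact exists_unit_lift_of_mem_range f V x hy G hG ū
  · have hcl : IsClosed (Set.range f) := f.isClosedMap.isClosed_range
    let R : Y.Opens := ⟨(Set.range f)ᶜ, hcl.isOpen_compl⟩
    have hbot : f ⁻¹ᵁ (G ⊓ R) = ⊥ := by
      ext x
      simp only [Opens.coe_bot, Set.mem_empty_iff_false, iff_false]
      rintro ⟨-, hxR⟩
      exact hxR ⟨x, rfl⟩
    refine ⟨G ⊓ R, inf_le_left, ⟨hG, hr⟩, 1, ?_⟩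
    apply Units.ext
    exact DisjGlue.fun_eq_of_eq_bot hbot _ _

end Groth.Agent.H54.ClosedImmLift
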