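import Mathlib
import Groth.Agent.H54.PullGlue
import Groth.Agent.H54.DisjGlue
import Groth.Agent.H54.ClosedImmLift
import Groth.Agent.H54.OneDimTop
import Groth.Agent.H54.ThickPic
import Groth.Agent.H67.InvertibleNearFibre
import Groth.Agent.H8.FreeGen

/-!
# Invertible modules descend along a finite morphism to a one-dimensional Noetherian base which is
a closed immersion over a dense open (helper54)
-/

set_option autoImplicit false
universe u
open CategoryTheory CategoryTheory.Limits AlgebraicGeometry TopologicalSpace Opposite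

namespace Groth.Agent.H54.FiniteOneDim

open Groth.Agent.H18 Groth.Agent.H18.PUP Groth.Agent.H18.STL Groth.Agent.H54.DiscGlue
  Groth.Agent.H54.PullGlue Groth.Agent.H54.OneDimTop

variable {X Y : Scheme.{u}} (f : X ⟶ Y)

/-- charts of an invertible module upstairs over neighbourhoods downstairs -/
theorem exists_chart [IsFinite f] (L : X.Modules) (hL : PicF.IsInvertible L) (y : Y) :
    ∃ (W : Y.Opens) (e : Γ(L, f ⁻¹ᵁ W)), y ∈ W ∧ IsBasisOn L (f ⁻¹ᵁ W) e := by
  obtain ⟨W, hy, ⟨i⟩⟩ := Groth.Agent.H67.InvertibleNearFibre.exists_trivial_preimage f L hL y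
  obtain ⟨σ, hσ⟩ := Groth.Agent.H8.exists_isFreeGen_of_iso L (f ⁻¹ᵁ W) i
  exact ⟨W, σ, hy, hσ⟩

/-- the canonical open neighbourhood of a generic point, as an open of the scheme -/
def genOpen (Y : Scheme.{u}) [NoetherianSpace Y] (η : Y) : Y.Opens :=
  ⟨genNhd Y η, isOpen_genNhd η⟩

theorem genOpen_disjoint [NoetherianSpace Y] {η η' : Y} (h : η ≠ η') :
    genOpen Y η ⊓ genOpen Y η' = ⊥ := by
  ext x
  simp only [Opens.coe_inf, Opens.coe_bot, Set.mem_empty_iff_false, iff_false]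
  rintro ⟨h1, h2⟩
  exact Set.disjoint_left.mp (genNhd_disjoint h) h1 h2

/-- a dense open over which `L` has a basis upstairs -/
theorem exists_dense_basis [IsFinite f] [NoetherianSpace Y] (V : Y.Opens)
    (hV : Dense (V : Set Y)) (L : X.Modules) (hL : PicF.IsInvertible L) :
    ∃ (U : Y.Opens) (e₀ : Γ(L, f ⁻¹ᵁ U)), U ≤ V ∧ (∀ η ∈ genericPoints Y, η ∈ U) ∧
      IsBasisOn L (f ⁻¹ᵁ U) e₀ := by
  choose W e hW he using fun η : genericPoints Y => exists_chart f L hL η.1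
  let A : genericPoints Y → Y.Opens := fun η => W η ⊓ V ⊓ genOpen Y η.1
  have hA : ∀ η η' : genericPoints Y, η ≠ η' → f ⁻¹ᵁ A η ⊓ f ⁻¹ᵁ A η' = ⊥ := by
    intro η η' h
    have h1 : A η ⊓ A η' ≤ genOpen Y η.1 ⊓ genOpen Y η'.1 :=
      inf_le_inf inf_le_right inf_le_right
    rw [genOpen_disjoint (fun h' => h (Subtype.ext h'))] at h1
    have h2 : A η ⊓ A η' = ⊥ := le_bot_iff.mp h1
    change f ⁻¹ᵁ (A η ⊓ A η') = ⊥
    rw [h2]
    rfl
  have hAW : ∀ η, A η ≤ W η := fun η => inf_le_left.trans inf_le_left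
  obtain ⟨s, hs, -⟩ := DisjGlue.exists_glue_basis (fun η => f ⁻¹ᵁ A η) hA L
    (fun η => mres L (f.preimage_mono (hAW η)) (e η)) (fun η => (he η).mono _)
  have hle : f ⁻¹ᵁ (⨆ η, A η) ≤ ⨆ η, f ⁻¹ᵁ A η := le_of_eq (f.preimage_iSup A)
  refine ⟨⨆ η, A η, mres L hle s, ?_, ?_, hs.mono hle⟩
  · exact iSup_le (fun η => inf_le_left.trans inf_le_right)
  · intro η hη
    refine Opens.mem_iSup.mpr ⟨⟨η, hη⟩, ⟨hW ⟨η, hη⟩, ?_⟩, mem_genNhd hη⟩
    exact generic_mem_of_dense V.2 hV hη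

/-- a finite set of closed points is closed -/
theorem isClosed_of_finite_of_closed_points {α : Type u} [TopologicalSpace α] {F : Set α}
    (hF : F.Finite) (h : ∀ y ∈ F, IsClosed ({y} : Set α)) : IsClosed F := by
  have : F = ⋃ y ∈ F, ({y} : Set α) := by
    ext x
    simp
  rw [this]
  exact hF.isClosed_biUnion h

/-- the local statement at a point -/
theorem exists_local_data [IsFinite f] [NoetherianSpace Y] (hdim : topologicalKrullDim Y ≤ 1)
    (V : Y.Opens) [IsClosedImmersion (f ∣_ V)] (L : X.Modules) (hL : PicF.IsInvertible L)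
    (U : Y.Opens) (hUV : U ≤ V) (hgen : ∀ η ∈ genericPoints Y, η ∈ U)
    (e₀ : Γ(L, f ⁻¹ᵁ U)) (he₀ : IsBasisOn L (f ⁻¹ᵁ U) e₀) (b : Y) :
    ∃ (O : Y.Opens) (e : Γ(L, f ⁻¹ᵁ O)) (γ : (Γ(Y, O ⊓ U))ˣ), b ∈ O ∧
      (∀ w ∈ O, w ∉ U → w = b) ∧ IsBasisOn L (f ⁻¹ᵁ O) e ∧
      mres L (f.preimage_mono inf_le_left : f ⁻¹ᵁ (O ⊓ U) ≤ f ⁻¹ᵁ O) e =
        (f.app (O ⊓ U)).hom (γ : Γ(Y, O ⊓ U)) •
          mres L (f.preimage_mono inf_le_right : f ⁻¹ᵁ (O ⊓ U) ≤ f ⁻¹ᵁ U) e₀ := by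
  by_cases hb : b ∈ U
  · refine ⟨U, e₀, 1, hb, fun w hw hw' => absurd hw hw', he₀, ?_⟩
    simp only [Units.val_one, map_one, one_smul]
  · obtain ⟨W, eb, hbW, heb⟩ := exists_chart f L hL b
    -- the ratio of the two bases upstairs
    obtain ⟨ū, hū⟩ := ThickPic.exists_unit_of_bases
      (he₀.mono (f.preimage_mono (inf_le_right : W ⊓ U ≤ U)))
      (heb.mono (f.preimage_mono (inf_le_left : W ⊓ U ≤ W)))
    -- lifts near the generic points
    have hlift : ∀ η : genericPoints Y, ∃ (G' : Y.Opens) (hG' : G' ≤ W ⊓ U ⊓ genOpen Y η.1),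
        (η.1 ∈ W → η.1 ∈ G') ∧ ∃ u : (Γ(Y, G'))ˣ,
          fu f G' u = umap (f.preimage_mono (hG'.trans inf_le_left)) ū := by
      intro η
      by_cases hηW : η.1 ∈ W
      · have hηG : η.1 ∈ W ⊓ U ⊓ genOpen Y η.1 := ⟨⟨hηW, hgen η.1 η.2⟩, mem_genNhd η.2⟩
        obtain ⟨G', hG', hηG', u, hu⟩ := ClosedImmLift.exists_unit_lift f V η.1
          (hUV (hgen η.1 η.2)) (W ⊓ U ⊓ genOpen Y η.1) hηG
          (umap (f.preimage_mono inf_le_left) ū)
        refine ⟨G', hG', fun _ => hηG', u, ?_⟩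
        rw [hu, umap_umap]
      · refine ⟨⊥, bot_le, fun h => absurd h hηW, 1, ?_⟩
        apply Units.ext
        exact DisjGlue.fun_eq_of_eq_bot rfl _ _
    choose G' hG' hηG' u hu using hlift
    have hGdisj : ∀ η η' : genericPoints Y, η ≠ η' → G' η ⊓ G' η' = ⊥ := by
      intro η η' h
      have h1 : G' η ⊓ G' η' ≤ genOpen Y η.1 ⊓ genOpen Y η'.1 :=
        inf_le_inf ((hG' η).trans inf_le_right) ((hG' η').trans inf_le_right)
      rw [genOpen_disjoint (fun h' => h (Subtype.ext h'))] at h1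
      exact le_bot_iff.mp h1
    obtain ⟨uS, huS⟩ := DisjGlue.exists_glue_units G' hGdisj u
    have hS : (⨆ η, G' η) ≤ W ⊓ U := iSup_le (fun η => (hG' η).trans inf_le_left)
    have hfuS : fu f (⨆ η, G' η) uS = umap (f.preimage_mono hS) ū := by
      apply Units.ext
      refine fun_eq_of_locally_eq _ _ (fun x hx => ?_)
      obtain ⟨η, hη⟩ := Opens.mem_iSup.mp (show f x ∈ ⨆ η, G' η from hx)
      refine ⟨f ⁻¹ᵁ G' η, f.preimage_mono (le_iSup G' η), hη, ?_⟩
      have h1 : umap (f.preimage_mono (le_iSup G' η)) (fu f (⨆ η, G' η) uS) =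
          umap (f.preimage_mono (le_iSup G' η)) (umap (f.preimage_mono hS) ū) := by
        rw [← fu_umap f (le_iSup G' η) uS, huS, hu, umap_umap]
      exact congrArg Units.val h1
    -- the finitely many closed points to remove
    obtain ⟨hTfin, hTcl⟩ := finite_diff_of_generic_mem hdim W.2 (⨆ η, G' η).2
      (fun η hη hηW => Opens.mem_iSup.mpr ⟨⟨η, hη⟩, hηG' ⟨η, hη⟩ hηW⟩)
    obtain ⟨hUfin, hUcl⟩ := finite_diff_of_generic_mem hdim (isOpen_univ (X := Y)) U.2
      (fun η hη _ => hgen η hη)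
    let F : Set Y := (((W : Set Y) \ ((⨆ η, G' η : Y.Opens) : Set Y)) ∪
      (Set.univ \ (U : Set Y))) \ {b}
    have hFcl : IsClosed F := by
      refine isClosed_of_finite_of_closed_points ((hTfin.union hUfin).subset Set.sdiff_subset) ?_
      rintro y ⟨hy | hy, -⟩
      · exact hTcl y hy
      · exact hUcl y hy
    let O : Y.Opens := W ⊓ ⟨Fᶜ, hFcl.isOpen_compl⟩
    have hbO : b ∈ O := ⟨hbW, fun h => h.2 rfl⟩
    have hOW : O ≤ W := inf_le_left
    have hOb : ∀ w ∈ O, w ∉ U → w = b := by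
      rintro w ⟨-, hwF⟩ hwU
      by_contra hne
      exact hwF ⟨Or.inr ⟨trivial, hwU⟩, hne⟩
    have hOS : O ⊓ U ≤ ⨆ η, G' η := by
      rintro w ⟨⟨hwW, hwF⟩, hwU⟩
      by_contra hwS
      have hne : w ≠ b := fun h => hb (h ▸ hwU)
      exact hwF ⟨Or.inl ⟨hwW, hwS⟩, hne⟩
    refine ⟨O, mres L (f.preimage_mono hOW) eb, (umap hOS uS)⁻¹, hbO, hOb, heb.mono _, ?_⟩
    -- the relation
    have hOWU : O ⊓ U ≤ W ⊓ U := inf_le_inf_right U hOW
    have h1 := congrArg (mres L (f.preimage_mono hOWU)) hū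
    rw [mres_smul, mres_mres, mres_mres] at h1
    have h2 : rres X (f.preimage_mono hOWU) (ū : Γ(X, f ⁻¹ᵁ (W ⊓ U))) =
        (fu f (O ⊓ U) (umap hOS uS) : Γ(X, f ⁻¹ᵁ (O ⊓ U))) := by
      rw [fu_umap, hfuS, umap_umap]
      rfl
    rw [h2] at h1
    rw [mres_mres, ← fu_val, map_inv, h1, ← mul_smul, Units.inv_mul, one_smul]

/-- **Main theorem.**  `f` finite, `Y` a Noetherian space of dimension at most one, `f` a closed
immersion over a dense open: every invertible module on `X` is pulled back from `Y`. -/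
theorem main [IsFinite f] [NoetherianSpace Y] (hdim : topologicalKrullDim Y ≤ 1)
    (V : Y.Opens) (hV : Dense (V : Set Y)) [IsClosedImmersion (f ∣_ V)]
    (L : X.Modules) (hL : PicF.IsInvertible L) :
    ∃ N : Y.Modules, PicF.IsInvertible N ∧
      Nonempty ((Scheme.Modules.pullback f).obj N ≅ L) := by
  obtain ⟨U, e₀, hUV, hgen, he₀⟩ := exists_dense_basis f V hV L hL
  choose O e γ hyO hOy he hγ using
    fun y => exists_local_data f hdim V L hL U hUV hgen e₀ he₀ y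
  refine exists_pullback_iso_of_discrete f L U e₀ O hyO ?_ e he γ hγ
  rintro y z hne w ⟨hwy, hwz⟩
  by_contra hwU
  exact hne ((hOy y w hwy hwU).symm.trans (hOy z w hwz hwU))

end Groth.Agent.H54.FiniteOneDim
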