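import Mathlib
import Groth.Agent.H54.PullGlueCoc
import Groth.Agent.H54.DiscLocal
import Groth.Agent.H54.FiniteOneDim

/-!
# Invertible modules descend along a finite morphism which is an isomorphism off a discrete set
(helper54)
-/

set_option autoImplicit false
universe u
open CategoryTheory CategoryTheory.Limits AlgebraicGeometry TopologicalSpace Opposite

namespace Groth.Agent.H54.FiniteIsoOff

open Groth.Agent.H18 Groth.Agent.H18.PUP Groth.Agent.H18.STL Groth.Agent.H54.DiscGlue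
  Groth.Agent.H54.PullGlue

variable {X Y : Scheme.{u}} (f : X ⟶ Y)

/-- over opens inside `V`, `f^♯` is bijective -/
theorem app_bijective_of_restrict (V : Y.Opens) [IsIso (f ∣_ V)]
    (U' : (V : Scheme.{u}).Opens) : Function.Bijective (f.app (V.ι ''ᵁ U')).hom := by
  have hP := image_morphismRestrict_preimage f V U'
  have hb : Function.Bijective ((f ∣_ V).app U').hom :=
    ConcreteCategory.bijective_of_isIso ((f ∣_ V).app U')
  rw [morphismRestrict_app'] at hb
  constructor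
  · intro a a' haa'
    apply hb.1
    change rres X hP.le ((f.app (V.ι ''ᵁ U')).hom a) = rres X hP.le ((f.app (V.ι ''ᵁ U')).hom a')
    rw [haa']
  · intro b
    obtain ⟨a, ha⟩ := hb.2 (rres X hP.le b)
    refine ⟨a, ?_⟩
    apply rres_injective_of_le hP.le hP.ge
    exact ha

theorem app_bijective_of_le (V : Y.Opens) [IsIso (f ∣_ V)] {T : Y.Opens} (hT : T ≤ V) :
    Function.Bijective (f.app T).hom := by
  have key : ∀ T' : Y.Opens, T' = V.ι ''ᵁ (V.ι ⁻¹ᵁ T) → Function.Bijective (f.app T').hom := by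
    rintro T' rfl
    exact app_bijective_of_restrict f V _
  apply key
  rw [Scheme.Hom.image_preimage_eq_opensRange_inf, Scheme.Opens.opensRange_ι]
  exact (inf_eq_right.mpr hT).symm

/-- a basis upstairs is a basis of the direct image where `f^♯` is bijective -/
theorem isBasisOn_pushforward_of_bijective (L : X.Modules) {T : Y.Opens}
    (hT : ∀ T' : Y.Opens, T' ≤ T → Function.Bijective (f.app T').hom)
    {e : Γ(L, f ⁻¹ᵁ T)} (he : IsBasisOn L (f ⁻¹ᵁ T) e) :
    IsBasisOn ((Scheme.Modules.pushforward f).obj L) T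
      (show Γ((Scheme.Modules.pushforward f).obj L, T) from e) := by
  intro W hW
  have hb1 := hT W hW
  have hb2 := he (f ⁻¹ᵁ W) (f.preimage_mono hW)
  have : (fun r : Γ(Y, W) => r • mres ((Scheme.Modules.pushforward f).obj L) hW
      (show Γ((Scheme.Modules.pushforward f).obj L, T) from e)) =
      (fun r' : Γ(X, f ⁻¹ᵁ W) => r' • mres L (f.preimage_mono hW) e) ∘
        ((f.app W).hom : Γ(Y, W) → Γ(X, f ⁻¹ᵁ W)) := by
    funext r
    rfl
  rw [this]
  exact hb2.comp hb1

/-- **Main theorem.** -/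
theorem main [IsFinite f] (V : Y.Opens) [IsIso (f ∣_ V)]
    (hdisc : DiscreteTopology ↥((V : Set Y)ᶜ)) (L : X.Modules) (hL : PicF.IsInvertible L) :
    ∃ N : Y.Modules, PicF.IsInvertible N ∧
      Nonempty ((Scheme.Modules.pullback f).obj N ≅ L) := by
  -- charts
  have hchart : ∀ y : Y, ∃ (O : Y.Opens) (e : Γ(L, f ⁻¹ᵁ O)), y ∈ O ∧
      (∀ w ∈ O, w ∉ V → w = y) ∧ IsBasisOn L (f ⁻¹ᵁ O) e := by
    intro y
    obtain ⟨W, e, hyW, he⟩ := FiniteOneDim.exists_chart f L hL y
    by_cases hy : y ∈ V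
    · exact ⟨W ⊓ V, mres L (f.preimage_mono inf_le_left) e, ⟨hyW, hy⟩,
        fun w hw hwV => absurd hw.2 hwV, he.mono _⟩
    · obtain ⟨N, hyN, hN⟩ := DiscLocal.exists_isolating_open V hdisc hy
      exact ⟨W ⊓ N, mres L (f.preimage_mono inf_le_left) e, ⟨hyW, hyN⟩,
        fun w hw hwV => hN w hw.2 hwV, he.mono _⟩
  choose O e hyO hOy he using hchart
  have hOU : ∀ y z, y ≠ z → O y ⊓ O z ≤ V := by
    rintro y z hne w ⟨hwy, hwz⟩
    by_contra hwV
    exact hne ((hOy y w hwy hwV).symm.trans (hOy z w hwz hwV))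
  have hcov : iSup O = ⊤ := by
    rw [eq_top_iff]
    intro y _
    exact Opens.mem_iSup.mpr ⟨y, hyO y⟩
  -- bases of the direct image over `O y ⊓ V`
  have hβ : ∀ y, IsBasisOn ((Scheme.Modules.pushforward f).obj L) (O y ⊓ V)
      (show Γ((Scheme.Modules.pushforward f).obj L, O y ⊓ V) from
        mres L (f.preimage_mono (inf_le_left : O y ⊓ V ≤ O y)) (e y)) := fun y =>
    isBasisOn_pushforward_of_bijective f L
      (fun T' hT' => app_bijective_of_le f V (hT'.trans inf_le_right)) ((he y).mono _)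
  obtain ⟨ζ, hζrel, hζ1, hζc⟩ := exists_unit_cocycle_of_bases
    ((Scheme.Modules.pushforward f).obj L) (fun y => O y ⊓ V) _ hβ
  refine PullGlueCoc.exists_pullback_iso_of_partial_cocycle f L V O hcov hOU e he ζ hζ1 hζc
    (fun y z => ?_)
  have h1 := hζrel y z
  have h2 : mres L (f.preimage_mono (inf_le_left.trans inf_le_left) :
      f ⁻¹ᵁ ((O y ⊓ V) ⊓ (O z ⊓ V)) ≤ f ⁻¹ᵁ O y) (e y) =
      mres L (f.preimage_mono (inf_le_left : (O y ⊓ V) ⊓ (O z ⊓ V) ≤ O y ⊓ V))
        (mres L (f.preimage_mono (inf_le_left : O y ⊓ V ≤ O y)) (e y)) := by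
    rw [mres_mres]
  have h3 : mres L (f.preimage_mono (inf_le_right.trans inf_le_left) :
      f ⁻¹ᵁ ((O y ⊓ V) ⊓ (O z ⊓ V)) ≤ f ⁻¹ᵁ O z) (e z) =
      mres L (f.preimage_mono (inf_le_right : (O y ⊓ V) ⊓ (O z ⊓ V) ≤ O z ⊓ V))
        (mres L (f.preimage_mono (inf_le_left : O z ⊓ V ≤ O z)) (e z)) := by
    rw [mres_mres]
  rw [h2, h3]
  exact h1

end Groth.Agent.H54.FiniteIsoOff
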