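import Mathlib
import Groth.Agent.H54.CommonPull
import Groth.Agent.H54.DisjGlue
import Groth.Agent.H54.FiniteIsoOff

/-!
# Gluing invertible modules along a finite closed cover with discrete overlaps (helper54)
-/

set_option autoImplicit false
set_option linter.style.haveILetI false
universe u
open CategoryTheory CategoryTheory.Limits AlgebraicGeometry TopologicalSpace Opposite

namespace Groth.Agent.H54.ClosedCoverGlue

open Groth.Agent.H18 Groth.Agent.H18.PUP Groth.Agent.H18.STL Groth.Agent.H54.DiscGlue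
  Groth.Agent.H54.PullGlue

variable {X : Scheme.{u}} {n : ℕ} {Zs : Fin n → Scheme.{u}} (ι : ∀ i, Zs i ⟶ X)
  [hci : ∀ i, IsClosedImmersion (ι i)]

/-- the open set of points lying on the `i`-th piece only -/
def P (i : Fin n) : X.Opens :=
  ⟨{x | ∀ j, j ≠ i → x ∉ Set.range (ι j)}, by
    have : {x : X | ∀ j, j ≠ i → x ∉ Set.range (ι j)} =
        ⋂ j, ⋂ (_ : j ≠ i), (Set.range (ι j))ᶜ := by
      ext x
      simp only [Set.mem_ofPred_eq, Set.mem_iInter, Set.mem_compl_iff]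
    rw [this]
    refine isOpen_iInter_of_finite (fun j => isOpen_iInter_of_finite (fun _ => ?_))
    exact (ι j).isClosedEmbedding.isClosed_range.isOpen_compl⟩

theorem mem_P {i : Fin n} {x : X} : x ∈ P ι i ↔ ∀ j, j ≠ i → x ∉ Set.range (ι j) := Iff.rfl

variable (hcov : ∀ x : X, ∃ i, x ∈ Set.range (ι i))

include hcov in
theorem mem_range_of_mem_P {i : Fin n} {x : X} (hx : x ∈ P ι i) : x ∈ Set.range (ι i) := by
  obtain ⟨k, hk⟩ := hcov x
  by_cases h : k = i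
  · exact h ▸ hk
  · exact absurd hk (hx k h)

include hcov in
theorem P_disjoint {i j : Fin n} (h : i ≠ j) : P ι i ⊓ P ι j = ⊥ := by
  rw [eq_bot_iff]
  rintro x ⟨hxi, hxj⟩
  exact absurd (mem_range_of_mem_P ι hcov hxi) (hxj i h)

/-- the open complement of the overlaps -/
def U : X.Opens := ⨆ i, P ι i

theorem mem_U {x : X} : x ∈ U ι ↔ ∃ i, x ∈ P ι i := Opens.mem_iSup

include hcov in
/-- a point outside `U` lies on two different pieces -/
theorem exists_ne_of_not_mem_U {x : X} (hx : x ∉ U ι) :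
    ∃ i j, i ≠ j ∧ x ∈ Set.range (ι i) ∧ x ∈ Set.range (ι j) := by
  obtain ⟨i, hi⟩ := hcov x
  have h1 : x ∉ P ι i := fun h => hx ((mem_U ι).2 ⟨i, h⟩)
  rw [mem_P] at h1
  push Not at h1
  obtain ⟨j, hji, hj⟩ := h1
  exact ⟨i, j, fun h => hji h.symm, hi, hj⟩

/-- a point of the `i`-th piece lying in `U` lies in `P i` -/
theorem mem_P_of_mem_U {i : Fin n} {x : X} (hx : x ∈ U ι) (hxi : x ∈ Set.range (ι i)) :
    x ∈ P ι i := by
  obtain ⟨k, hk⟩ := (mem_U ι).1 hx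
  by_cases h : i = k
  · exact h ▸ hk
  · exact absurd hxi (hk i h)

variable (hdisc : ∀ i j, i ≠ j →
  DiscreteTopology ↥(Set.range (ι i) ∩ Set.range (ι j)))

include hcov hdisc in
/-- isolating neighbourhoods -/
theorem exists_isolating (y : X) : ∃ O : X.Opens, y ∈ O ∧ ∀ w ∈ O, w ∉ U ι → w = y := by
  have key : ∀ i j : Fin n, ∃ V : X.Opens, y ∈ V ∧
      (i ≠ j → ∀ w ∈ V, w ∈ Set.range (ι i) ∩ Set.range (ι j) → w = y) := by
    intro i j
    by_cases hij : i = j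
    · exact ⟨⊤, trivial, fun h => absurd hij h⟩
    · have hcl : IsClosed (Set.range (ι i) ∩ Set.range (ι j)) :=
        (ι i).isClosedEmbedding.isClosed_range.inter (ι j).isClosedEmbedding.isClosed_range
      by_cases hy : y ∈ Set.range (ι i) ∩ Set.range (ι j)
      · haveI := hdisc i j hij
        have hopen : IsOpen ({⟨y, hy⟩} : Set ↥(Set.range (ι i) ∩ Set.range (ι j))) :=
          isOpen_discrete _
        obtain ⟨t, ht, hpre⟩ := isOpen_induced_iff.mp hopen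
        refine ⟨⟨t, ht⟩, ?_, fun _ w hw hwS => ?_⟩
        · have : (⟨y, hy⟩ : ↥(Set.range (ι i) ∩ Set.range (ι j))) ∈ Subtype.val ⁻¹' t := by
            rw [hpre]; rfl
          exact this
        · have : (⟨w, hwS⟩ : ↥(Set.range (ι i) ∩ Set.range (ι j))) ∈ Subtype.val ⁻¹' t := hw
          rw [hpre] at this
          exact congrArg Subtype.val this
      · exact ⟨⟨_, hcl.isOpen_compl⟩, hy, fun _ w hw hwS => absurd hwS hw⟩
  choose V hyV hV using key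
  refine ⟨⟨{w | ∀ i j, w ∈ V i j}, ?_⟩, fun i j => hyV i j, ?_⟩
  · have : {w : X | ∀ i j, w ∈ V i j} = ⋂ i, ⋂ j, (V i j : Set X) := by
      ext w
      simp only [Set.mem_ofPred_eq, Set.mem_iInter, SetLike.mem_coe]
    rw [this]
    exact isOpen_iInter_of_finite (fun i => isOpen_iInter_of_finite (fun j => (V i j).2))
  · intro w hw hwU
    obtain ⟨i, j, hij, hwi, hwj⟩ := exists_ne_of_not_mem_U ι hcov hwU
    exact hV i j hij w (hw i j) ⟨hwi, hwj⟩


section Joint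

include hcov in
theorem isIso_restrict [IsReduced X] (i : Fin n) : IsIso (ι i ∣_ P ι i) := by
  haveI : IsClosedImmersion (ι i ∣_ P ι i) := inferInstance
  haveI : Surjective (ι i ∣_ P ι i) := by
    refine ⟨fun x => ?_⟩
    obtain ⟨z, hz⟩ := mem_range_of_mem_P ι hcov x.2
    have hzP : z ∈ ι i ⁻¹ᵁ P ι i := by
      change ι i z ∈ P ι i
      rw [hz]
      exact x.2
    refine ⟨⟨z, hzP⟩, Subtype.ext ?_⟩
    rw [morphismRestrict_base_coe]
    exact hz
  exact isIso_of_isClosedImmersion_of_surjective _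

include hcov in
/-- over opens inside `P i`, `ι i` is bijective on functions -/
theorem app_bijective [IsReduced X] (i : Fin n) {T : X.Opens} (hT : T ≤ P ι i) :
    Function.Bijective ((ι i).app T).hom := by
  haveI := isIso_restrict ι hcov i
  exact Groth.Agent.H54.FiniteIsoOff.app_bijective_of_le (ι i) (P ι i) hT

/-- over `U`, the preimage of an open is the preimage of its part in `P i` -/
theorem preimage_le (i : Fin n) {W : X.Opens} (hW : W ≤ U ι) :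
    ι i ⁻¹ᵁ W ≤ ι i ⁻¹ᵁ (W ⊓ P ι i) := by
  intro z hz
  exact ⟨hz, mem_P_of_mem_U ι (hW hz) ⟨z, rfl⟩⟩

include hcov in
/-- joint injectivity of the `ι i` on functions over opens inside `U` -/
theorem joint_injective [IsReduced X] {W : X.Opens} (hW : W ≤ U ι) (a a' : Γ(X, W))
    (h : ∀ i, ((ι i).app W).hom a = ((ι i).app W).hom a') : a = a' := by
  refine fun_eq_of_locally_eq a a' (fun x hx => ?_)
  obtain ⟨i, hi⟩ := (mem_U ι).1 (hW hx)
  refine ⟨W ⊓ P ι i, inf_le_left, ⟨hx, hi⟩, ?_⟩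
  apply (app_bijective ι hcov i (inf_le_right : W ⊓ P ι i ≤ P ι i)).1
  have h1 := congrArg (rres (Zs i) ((ι i).preimage_mono (inf_le_left : W ⊓ P ι i ≤ W))) (h i)
  rw [← app_rres (ι i) (inf_le_left : W ⊓ P ι i ≤ W),
    ← app_rres (ι i) (inf_le_left : W ⊓ P ι i ≤ W)] at h1
  exact h1

include hcov in
/-- joint surjectivity of the `ι i` on functions over opens inside `U` -/
theorem joint_surjective [IsReduced X] {W : X.Opens} (hW : W ≤ U ι)
    (c : ∀ i, Γ(Zs i, ι i ⁻¹ᵁ W)) : ∃ a : Γ(X, W), ∀ i, ((ι i).app W).hom a = c i := by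
  let A : ULift.{u} (Fin n) → X.Opens := fun i => W ⊓ P ι i.down
  have hA : ∀ i j, i ≠ j → A i ⊓ A j = ⊥ := by
    intro i j hij
    have hd : i.down ≠ j.down := fun h => hij (ULift.ext _ _ h)
    rw [eq_bot_iff]
    rintro x ⟨⟨_, hxi⟩, ⟨_, hxj⟩⟩
    have : x ∈ P ι i.down ⊓ P ι j.down := ⟨hxi, hxj⟩
    rw [P_disjoint ι hcov hd] at this
    exact this
  have hWA : W ≤ ⨆ i, A i := by
    intro x hx
    obtain ⟨i, hi⟩ := (mem_U ι).1 (hW hx)
    exact Opens.mem_iSup.mpr ⟨⟨i⟩, ⟨hx, hi⟩⟩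
  have hex : ∀ i : ULift.{u} (Fin n), ∃ σ : Γ(X, A i), ((ι i.down).app (A i)).hom σ =
      rres (Zs i.down) ((ι i.down).preimage_mono (inf_le_left : W ⊓ P ι i.down ≤ W)) (c i.down) :=
    fun i => (app_bijective ι hcov i.down (inf_le_right : W ⊓ P ι i.down ≤ P ι i.down)).2 _
  choose σ hσ using hex
  obtain ⟨s, hs⟩ := Groth.Agent.H54.DisjGlue.exists_glue_fun_disjoint A hA σ
  refine ⟨rres X hWA s, fun i => ?_⟩
  have h1 : rres (Zs i) ((ι i).preimage_mono (inf_le_left : W ⊓ P ι i ≤ W))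
      (((ι i).app W).hom (rres X hWA s)) =
      rres (Zs i) ((ι i).preimage_mono (inf_le_left : W ⊓ P ι i ≤ W)) (c i) := by
    rw [← app_rres (ι i) (inf_le_left : W ⊓ P ι i ≤ W), rres_rres]
    have h2 := hs ⟨i⟩
    have h3 : rres X ((inf_le_left : W ⊓ P ι i ≤ W).trans hWA) s = σ ⟨i⟩ := h2
    rw [h3]
    exact hσ ⟨i⟩
  have h4 := congrArg (rres (Zs i) (preimage_le ι i hW)) h1
  rw [rres_rres, rres_rres, rres_self, rres_self] at h4
  exact h4

end Joint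


section Units

include hcov in
/-- joint bijectivity on units -/
theorem joint_unit [IsReduced X] {W : X.Opens} (hW : W ≤ U ι)
    (c : ∀ i, (Γ(Zs i, ι i ⁻¹ᵁ W))ˣ) : ∃ a : (Γ(X, W))ˣ, ∀ i, fu (ι i) W a = c i := by
  obtain ⟨a, ha⟩ := joint_surjective ι hcov hW (fun i => (c i : Γ(Zs i, ι i ⁻¹ᵁ W)))
  obtain ⟨a', ha'⟩ := joint_surjective ι hcov hW
    (fun i => ((c i)⁻¹ : (Γ(Zs i, ι i ⁻¹ᵁ W))ˣ))
  have h1 : a * a' = 1 := by
    refine joint_injective ι hcov hW _ _ (fun i => ?_)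
    rw [map_mul, ha, ha', map_one]
    exact Units.mul_inv _
  refine ⟨⟨a, a', h1, by rw [mul_comm]; exact h1⟩, fun i => ?_⟩
  apply Units.ext
  rw [fu_val]
  exact ha i

include hcov in
theorem joint_unit_injective [IsReduced X] {W : X.Opens} (hW : W ≤ U ι) (a a' : (Γ(X, W))ˣ)
    (h : ∀ i, fu (ι i) W a = fu (ι i) W a') : a = a' := by
  apply Units.ext
  refine joint_injective ι hcov hW _ _ (fun i => ?_)
  have := congrArg Units.val (h i)
  rw [fu_val, fu_val] at this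
  exact this

end Units

section Bases

variable (L : ∀ i, (Zs i).Modules) (hL : ∀ i, PicF.IsInvertible (L i))

include hL in
/-- local bases of `L i` over preimages of opens of `X` -/
theorem exists_local_basis (y : X) (i : Fin n) :
    ∃ O' : X.Opens, y ∈ O' ∧ ∃ b : Γ(L i, ι i ⁻¹ᵁ O'), IsBasisOn (L i) (ι i ⁻¹ᵁ O') b := by
  by_cases hy : y ∈ Set.range (ι i)
  · obtain ⟨z, rfl⟩ := hy
    obtain ⟨W, t, hzW, ht⟩ := exists_basis_of_isInvertible (hL i) z
    obtain ⟨O', hO', hpre⟩ := (ι i).isClosedEmbedding.isInducing.isOpen_iff.mp W.2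
    have hW : ι i ⁻¹ᵁ (⟨O', hO'⟩ : X.Opens) = W := Opens.ext hpre
    refine ⟨⟨O', hO'⟩, ?_, ?_⟩
    · have : z ∈ ι i ⁻¹ᵁ (⟨O', hO'⟩ : X.Opens) := by rw [hW]; exact hzW
      exact this
    · have key : ∀ W' : (Zs i).Opens, W' = W → ∃ b : Γ(L i, W'), IsBasisOn (L i) W' b := by
        rintro W' rfl
        exact ⟨t, ht⟩
      exact key _ hW
  · refine ⟨⟨(Set.range (ι i))ᶜ, (ι i).isClosedEmbedding.isClosed_range.isOpen_compl⟩, hy, ?_⟩
    have hbot : ι i ⁻¹ᵁ (⟨(Set.range (ι i))ᶜ,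
        (ι i).isClosedEmbedding.isClosed_range.isOpen_compl⟩ : X.Opens) = ⊥ := by
      rw [eq_bot_iff]
      intro z hz
      exact absurd ⟨z, rfl⟩ hz
    refine ⟨0, fun V hV => ?_⟩
    have hVbot : V = ⊥ := eq_bot_iff.2 (hV.trans (le_of_eq hbot))
    constructor
    · intro r r' _
      exact Groth.Agent.H54.DisjGlue.fun_eq_of_eq_bot hVbot r r'
    · intro m
      exact ⟨0, Groth.Agent.H54.DiscLocal.modules_eq_of_eq_bot (L i) hVbot _ _⟩

include hcov hdisc hL in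
/-- good neighbourhoods: isolating, and trivialising all the `L i` -/
theorem exists_good_nhd (y : X) :
    ∃ O : X.Opens, y ∈ O ∧ (∀ w ∈ O, w ∉ U ι → w = y) ∧
      ∀ i, ∃ b : Γ(L i, ι i ⁻¹ᵁ O), IsBasisOn (L i) (ι i ⁻¹ᵁ O) b := by
  obtain ⟨O₀, hyO₀, hiso⟩ := exists_isolating ι hcov hdisc y
  choose O' hyO' b hb using exists_local_basis ι L hL y
  have hopen : IsOpen {w : X | w ∈ O₀ ∧ ∀ i, w ∈ O' i} := by
    have : {w : X | w ∈ O₀ ∧ ∀ i, w ∈ O' i} = (O₀ : Set X) ∩ ⋂ i, (O' i : Set X) := by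
      ext w
      simp only [Set.mem_ofPred_eq, Set.mem_inter_iff, Set.mem_iInter, SetLike.mem_coe]
    rw [this]
    exact O₀.2.inter (isOpen_iInter_of_finite (fun i => (O' i).2))
  refine ⟨⟨_, hopen⟩, ⟨hyO₀, hyO'⟩, fun w hw hwU => hiso w hw.1 hwU, fun i => ?_⟩
  have hle : (⟨_, hopen⟩ : X.Opens) ≤ O' i := fun w hw => hw.2 i
  exact ⟨mres (L i) ((ι i).preimage_mono hle) (b i), (hb i).mono _⟩

end Bases


section Main

variable (L : ∀ i, (Zs i).Modules) (hL : ∀ i, PicF.IsInvertible (L i))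

include hcov hdisc hL in
set_option maxHeartbeats 1600000 in
/-- **Gluing along a finite closed cover with discrete overlaps** -/
theorem main [IsReduced X] :
    ∃ M : X.Modules, PicF.IsInvertible M ∧
      ∀ i, Nonempty ((Scheme.Modules.pullback (ι i)).obj M ≅ L i) := by
  choose O hyO hOiso b hb using exists_good_nhd ι hcov hdisc L hL
  have hOU : ∀ y z : X, y ≠ z → O y ⊓ O z ≤ U ι := by
    intro y z hyz w hw
    by_contra hwU
    exact hyz ((hOiso y w hw.1 hwU).symm.trans (hOiso z w hw.2 hwU))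
  have hcovO : iSup O = ⊤ := by
    rw [eq_top_iff]
    intro y _
    exact Opens.mem_iSup.mpr ⟨y, hyO y⟩
  -- the unit cocycles of the bases on each piece
  have hcoc := fun i => exists_unit_cocycle_of_bases (L i) (fun y : X => ι i ⁻¹ᵁ O y)
    (fun y => b y i) (fun y => hb y i)
  choose u hurel hu1 hucoc using hcoc
  -- the opens on which the cocycle lives
  have hWU : ∀ y z : X, (O y ⊓ U ι) ⊓ (O z ⊓ U ι) ≤ U ι := fun y z =>
    inf_le_left.trans inf_le_right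
  have hWle : ∀ (i : Fin n) (y z : X),
      ι i ⁻¹ᵁ ((O y ⊓ U ι) ⊓ (O z ⊓ U ι)) ≤ ι i ⁻¹ᵁ O y ⊓ ι i ⁻¹ᵁ O z := fun i y z =>
    le_inf ((ι i).preimage_mono (inf_le_left.trans inf_le_left))
      ((ι i).preimage_mono (inf_le_right.trans inf_le_left))
  have hζex : ∀ y z : X, ∃ a : (Γ(X, (O y ⊓ U ι) ⊓ (O z ⊓ U ι)))ˣ,
      ∀ i, fu (ι i) _ a = umap (hWle i y z) (u i y z) := fun y z =>
    joint_unit ι hcov (hWU y z) (fun i => umap (hWle i y z) (u i y z))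
  choose ζ hζ using hζex
  have hζ1 : ∀ y, ζ y y = 1 := by
    intro y
    refine joint_unit_injective ι hcov (hWU y y) _ _ (fun i => ?_)
    rw [hζ, hu1, map_one, map_one]
  have hζc : ∀ x y z : X,
      rres X (inf_le_inf_right (O z ⊓ U ι) inf_le_left :
          (O x ⊓ U ι) ⊓ (O y ⊓ U ι) ⊓ (O z ⊓ U ι) ≤ (O x ⊓ U ι) ⊓ (O z ⊓ U ι))
          (ζ x z : Γ(X, (O x ⊓ U ι) ⊓ (O z ⊓ U ι))) =
        rres X (inf_le_left : (O x ⊓ U ι) ⊓ (O y ⊓ U ι) ⊓ (O z ⊓ U ι) ≤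
              (O x ⊓ U ι) ⊓ (O y ⊓ U ι))
            (ζ x y : Γ(X, (O x ⊓ U ι) ⊓ (O y ⊓ U ι))) *
          rres X (inf_le_inf_right (O z ⊓ U ι) inf_le_right :
            (O x ⊓ U ι) ⊓ (O y ⊓ U ι) ⊓ (O z ⊓ U ι) ≤ (O y ⊓ U ι) ⊓ (O z ⊓ U ι))
            (ζ y z : Γ(X, (O y ⊓ U ι) ⊓ (O z ⊓ U ι))) := by
    intro x y z
    have hT : (O x ⊓ U ι) ⊓ (O y ⊓ U ι) ⊓ (O z ⊓ U ι) ≤ U ι := inf_le_right.trans inf_le_right
    have key : umap (inf_le_inf_right (O z ⊓ U ι) inf_le_left :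
          (O x ⊓ U ι) ⊓ (O y ⊓ U ι) ⊓ (O z ⊓ U ι) ≤ (O x ⊓ U ι) ⊓ (O z ⊓ U ι)) (ζ x z) =
        umap (inf_le_left : (O x ⊓ U ι) ⊓ (O y ⊓ U ι) ⊓ (O z ⊓ U ι) ≤
              (O x ⊓ U ι) ⊓ (O y ⊓ U ι)) (ζ x y) *
          umap (inf_le_inf_right (O z ⊓ U ι) inf_le_right :
            (O x ⊓ U ι) ⊓ (O y ⊓ U ι) ⊓ (O z ⊓ U ι) ≤ (O y ⊓ U ι) ⊓ (O z ⊓ U ι)) (ζ y z) := by
      refine joint_unit_injective ι hcov hT _ _ (fun i => ?_)
      rw [map_mul, fu_umap, fu_umap, fu_umap, hζ, hζ, hζ, umap_umap, umap_umap, umap_umap]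
      -- the cocycle of the bases, as an identity of units
      have hc : umap (inf_le_inf_right (ι i ⁻¹ᵁ O z) inf_le_left :
            ι i ⁻¹ᵁ O x ⊓ ι i ⁻¹ᵁ O y ⊓ ι i ⁻¹ᵁ O z ≤ ι i ⁻¹ᵁ O x ⊓ ι i ⁻¹ᵁ O z) (u i x z) =
          umap (inf_le_left : ι i ⁻¹ᵁ O x ⊓ ι i ⁻¹ᵁ O y ⊓ ι i ⁻¹ᵁ O z ≤
              ι i ⁻¹ᵁ O x ⊓ ι i ⁻¹ᵁ O y) (u i x y) *
            umap (inf_le_inf_right (ι i ⁻¹ᵁ O z) inf_le_right :
              ι i ⁻¹ᵁ O x ⊓ ι i ⁻¹ᵁ O y ⊓ ι i ⁻¹ᵁ O z ≤ ι i ⁻¹ᵁ O y ⊓ ι i ⁻¹ᵁ O z) (u i y z) := by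
        apply Units.ext
        rw [Units.val_mul, umap_val, umap_val, umap_val]
        exact hucoc i x y z
      have hle3 : ι i ⁻¹ᵁ ((O x ⊓ U ι) ⊓ (O y ⊓ U ι) ⊓ (O z ⊓ U ι)) ≤
          ι i ⁻¹ᵁ O x ⊓ ι i ⁻¹ᵁ O y ⊓ ι i ⁻¹ᵁ O z :=
        le_inf (le_inf ((ι i).preimage_mono (inf_le_left.trans (inf_le_left.trans inf_le_left)))
          ((ι i).preimage_mono (inf_le_left.trans (inf_le_right.trans inf_le_left))))
          ((ι i).preimage_mono (inf_le_right.trans inf_le_left))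
      have hc' := congrArg (umap hle3) hc
      rw [map_mul, umap_umap, umap_umap, umap_umap] at hc'
      exact hc'
    have h' := congrArg Units.val key
    rw [Units.val_mul] at h'
    exact h'
  obtain ⟨N, hNinv, hN⟩ := Groth.Agent.H54.CommonPull.exists_common_of_partial_cocycle (U ι) O
    hcovO hOU ζ hζ1 hζc
  refine ⟨N, hNinv, fun i => ?_⟩
  refine hN (Zs i) (ι i) (L i) (fun y => b y i) (fun y => hb y i) (fun y z => ?_)
  have h1 := congrArg (mres (L i) (hWle i y z)) (hurel i y z)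
  rw [mres_smul, mres_mres, mres_mres] at h1
  have h2 : ((ι i).app ((O y ⊓ U ι) ⊓ (O z ⊓ U ι))).hom
      (ζ y z : Γ(X, (O y ⊓ U ι) ⊓ (O z ⊓ U ι))) =
      rres (Zs i) (hWle i y z) (u i y z : Γ(Zs i, ι i ⁻¹ᵁ O y ⊓ ι i ⁻¹ᵁ O z)) := by
    have := congrArg Units.val (hζ y z i)
    rw [fu_val, umap_val] at this
    exact this
  rw [h2]
  exact h1

end Main

end Groth.Agent.H54.ClosedCoverGlue
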