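import Mathlib
import Groth.Prelude.Def_ProjUP

set_option autoImplicit false
universe u
open CategoryTheory CategoryTheory.Limits AlgebraicGeometry TopologicalSpace Opposite
open HomogeneousLocalization

namespace Groth.Agent.H54.PC

variable {R A : Type u} [CommRing R] [CommRing A] [Algebra R A]
variable (𝒜 : ℕ → Submodule R A) [GradedAlgebra 𝒜]

theorem topIso_hom_ι_appTop {X : Scheme.{u}} (U : X.Opens) (s : Γ(X, ⊤)) :
    U.topIso.hom.hom (U.ι.appTop.hom s) = X.presheaf.map (homOfLE (le_top : U ≤ ⊤)).op s := by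
  have h : U.ι.appTop ≫ U.topIso.hom = X.presheaf.map (homOfLE (le_top : U ≤ ⊤)).op := by
    exact (X.presheaf.map_comp (homOfLE (le_top : U.ι ''ᵁ ⊤ ≤ ⊤)).op
      (eqToHom U.ι_image_top.symm).op).symm
  exact congr(($h).hom s)

theorem ι_comp_toSpecZero {m : ℕ} (f : A) (f_deg : f ∈ 𝒜 m) (hm : 0 < m) :
    (Proj.basicOpen 𝒜 f).ι ≫ Proj.toSpecZero 𝒜 =
      Proj.basicOpenToSpec 𝒜 f ≫ Spec.map (CommRingCat.ofHom (fromZeroRingHom 𝒜 _)) := by
  rw [← Proj.awayι_toSpecZero 𝒜 f f_deg hm, ← Proj.basicOpenIsoSpec_inv_ι, ← Proj.basicOpenIsoSpec_hom 𝒜 f f_deg hm,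
    Category.assoc, Iso.hom_inv_id_assoc]

/-- the restriction to `D₊(f)` of the global section of `Proj` attached to a degree zero element. -/
theorem toSpecZero_appTop_res {m : ℕ} (f : A) (f_deg : f ∈ 𝒜 m) (hm : 0 < m) (a : 𝒜 0) :
    (Proj 𝒜).presheaf.map (homOfLE (le_top : Proj.basicOpen 𝒜 f ≤ ⊤)).op
      ((Proj.toSpecZero 𝒜).appTop.hom ((Scheme.ΓSpecIso (.of (𝒜 0))).inv.hom a)) =
    (Proj.awayToSection 𝒜 f).hom (fromZeroRingHom 𝒜 _ a) := by
  have h := congrArg Scheme.Hom.appTop (ι_comp_toSpecZero 𝒜 f f_deg hm)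
  rw [Scheme.Hom.comp_appTop, Scheme.Hom.comp_appTop] at h
  have h2 := congr(($h).hom ((Scheme.ΓSpecIso (.of (𝒜 0))).inv.hom a))
  simp only [CommRingCat.hom_comp, RingHom.coe_comp, Function.comp_apply] at h2
  have h3 : (Spec.map (CommRingCat.ofHom (fromZeroRingHom 𝒜 (Submonoid.powers f)))).appTop.hom
      ((Scheme.ΓSpecIso (.of (𝒜 0))).inv.hom a) =
      (Scheme.ΓSpecIso _).inv.hom (fromZeroRingHom 𝒜 (Submonoid.powers f) a) := by
    have := Scheme.ΓSpecIso_inv_naturality (CommRingCat.ofHom (fromZeroRingHom 𝒜 (Submonoid.powers f)))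
    exact (congr(($this).hom a)).symm
  rw [h3] at h2
  have h4 : (Proj.basicOpenToSpec 𝒜 f).appTop = (Proj.basicOpenToSpec 𝒜 f).app ⊤ := rfl
  rw [h4, Proj.basicOpenToSpec_app_top] at h2
  simp only [CommRingCat.hom_comp, RingHom.coe_comp, Function.comp_apply] at h2
  have h5 : (Scheme.ΓSpecIso (CommRingCat.of (Away 𝒜 f))).hom.hom
      ((Scheme.ΓSpecIso (CommRingCat.of (HomogeneousLocalization 𝒜 (Submonoid.powers f)))).inv.hom
        ((fromZeroRingHom 𝒜 (Submonoid.powers f)) a)) = (fromZeroRingHom 𝒜 (Submonoid.powers f)) a :=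
    Iso.inv_hom_id_apply (Scheme.ΓSpecIso (CommRingCat.of (Away 𝒜 f))) _
  rw [h5] at h2
  have h6 := congrArg (Proj.basicOpen 𝒜 f).topIso.hom.hom h2
  rw [Iso.inv_hom_id_apply] at h6
  rw [← h6]
  exact (topIso_hom_ι_appTop (Proj.basicOpen 𝒜 f) _).symm

end Groth.Agent.H54.PC

namespace Groth.Agent.H54.PC

variable {R A : Type u} [CommRing R] [CommRing A] [Algebra R A]
variable (𝒜 : ℕ → Submodule R A) [GradedAlgebra 𝒜]

theorem germ_toSpecZero_appTop {m : ℕ} (f : A) (f_deg : f ∈ 𝒜 m) (hm : 0 < m) (a : 𝒜 0)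
    (y : Proj 𝒜) (hy : y ∈ Proj.basicOpen 𝒜 f) :
    (Proj 𝒜).presheaf.germ ⊤ y trivial
      ((Proj.toSpecZero 𝒜).appTop.hom ((Scheme.ΓSpecIso (.of (𝒜 0))).inv.hom a)) =
    (Proj.stalkIso' 𝒜 y).symm (fromZeroRingHom 𝒜 _ a) := by
  rw [← TopCat.Presheaf.germ_res_apply (Proj 𝒜).presheaf
    (homOfLE (le_top : Proj.basicOpen 𝒜 f ≤ ⊤)) y hy, toSpecZero_appTop_res 𝒜 f f_deg hm a]
  have h := ProjectiveSpectrum.Proj.awayToSection_germ 𝒜 f y hy
  have h2 := congr(($h).hom (fromZeroRingHom 𝒜 _ a))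
  refine h2.trans ?_
  rfl

end Groth.Agent.H54.PC
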