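import Mathlib
import Groth.Prelude.Def_ProjUP
import Groth.Agent.H18.TwistAmple2
import Groth.Agent.H54.PullbackSection
import Groth.Agent.H54.ProjConst
import Groth.Agent.H54.ProjClosedPt

set_option autoImplicit false
universe u
open CategoryTheory CategoryTheory.Limits AlgebraicGeometry TopologicalSpace Opposite
open HomogeneousLocalization

namespace Groth.Agent.H54.LS

open Groth.Agent.H18 Groth.Agent.H54.PB Groth.Agent.H54.PL Groth.Agent.H54.PC

section
variable (k : Type u) [Field k] (n : ℕ)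

local notation "𝒬" => CohB1.polyGrading n k
local notation "S" => MvPolynomial (Fin (n + 1)) k
local notation "M" => Twist.twist (CohB1.polyGrading n k) ((1 : ℕ) : ℤ)

variable (i : Fin (n + 1))

/-- on `D₊(X i)`, `X j = (X j / X i) • X i` as sections of `O(1)`. -/
theorem mres_coord (j : Fin (n + 1)) :
    mres M (le_top : Proj.basicOpen 𝒬 (MvPolynomial.X i : S) ≤ ⊤) (secN 𝒬 (X_mem k n j)) =
      fracO 𝒬 (X_mem k n j) (X_mem k n i) (Proj.basicOpen 𝒬 (MvPolynomial.X i : S)) (fun x hx => hx) •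
        mres M (le_top : Proj.basicOpen 𝒬 (MvPolynomial.X i : S) ≤ ⊤) (secN 𝒬 (X_mem k n i)) := by
  refine twist_sect_ext 𝒬 _ _ _ _ (fun z => ?_)
  rw [twist_smul_val, fracO_val]
  have h1 : ∀ j', ((((mres M (le_top : Proj.basicOpen 𝒬 (MvPolynomial.X i : S) ≤ ⊤)
      (secN 𝒬 (X_mem k n j')) : Γ(M, Proj.basicOpen 𝒬 (MvPolynomial.X i : S))) :
      Twist.sectN (𝒜 := 𝒬) ((1 : ℕ) : ℤ) (op (Proj.basicOpen 𝒬 (MvPolynomial.X i : S)))).1 z :
      Twist.twistAt 𝒬 ((1 : ℕ) : ℤ) z.1) : Twist.Loc 𝒬 z.1) =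
      Localization.mk (MvPolynomial.X j') 1 := fun j' => rfl
  rw [h1, h1, Localization.mk_mul, Localization.mk_eq_mk_iff, Localization.r_iff_exists]
  exact ⟨1, by simp only [OneMemClass.coe_one, one_mul, mul_one]; ring⟩


theorem germ_toGlobal {X : Scheme.{u}} (pX : X ⟶ Spec (CommRingCat.of k)) (f : X ⟶ Proj 𝒬)
    (hf : f ≫ (Proj.toSpecZero 𝒬 ≫
      Spec.map (CommRingCat.ofHom (algebraMap k (CohB1.polyGrading n k 0)))) = pX) (P : X) (hi : (MvPolynomial.X i : S) ∉ (show ProjectiveSpectrum 𝒬 from f P).asHomogeneousIdeal) (c : k) :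
    X.presheaf.germ ⊤ P trivial (ProjUP.toGlobal pX c) =
      (f.stalkMap P).hom ((Proj.stalkIso' 𝒬 (f P)).symm (cst k n _ c)) := by
  have h1 : ProjUP.toGlobal pX c = f.appTop.hom ((Proj.toSpecZero 𝒬).appTop.hom
      ((Scheme.ΓSpecIso (.of (CohB1.polyGrading n k 0))).inv.hom (algebraMap k (CohB1.polyGrading n k 0) c))) := by
    unfold ProjUP.toGlobal
    rw [← hf, Scheme.Hom.comp_appTop, Scheme.Hom.comp_appTop]
    simp only [CommRingCat.hom_comp, RingHom.coe_comp, Function.comp_apply]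
    congr 2
    have := Scheme.ΓSpecIso_inv_naturality (CommRingCat.ofHom (algebraMap k (CohB1.polyGrading n k 0)))
    exact (congr(($this).hom c)).symm
  rw [h1]
  have h2 := Scheme.Hom.germ_stalkMap_apply f ⊤ P trivial ((Proj.toSpecZero 𝒬).appTop.hom
      ((Scheme.ΓSpecIso (.of (CohB1.polyGrading n k 0))).inv.hom (algebraMap k (CohB1.polyGrading n k 0) c)))
  rw [germ_toSpecZero_appTop 𝒬 (MvPolynomial.X i : S) (X_mem k n i) (by norm_num) _ (f P) hi]
    at h2
  exact h2.symm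


theorem germ_fracO {d : ℕ} {a t : S} (ha : a ∈ 𝒬 d) (ht : t ∈ 𝒬 d) (V : (Proj 𝒬).Opens)
    (hV : ∀ x : ProjectiveSpectrum 𝒬, x ∈ V → t ∉ x.asHomogeneousIdeal)
    (y : ProjectiveSpectrum 𝒬) (hy : y ∈ V) :
    (Proj 𝒬).presheaf.germ V y hy (fracO 𝒬 ha ht V hV) =
      (Proj.stalkIso' 𝒬 y).symm (HomogeneousLocalization.mk ⟨d, ⟨a, ha⟩, ⟨t, ht⟩, hV y hy⟩) :=
  (Proj.stalkIso' 𝒬 y).eq_symm_apply.mpr (Proj.stalkIso'_germ 𝒬 V y hy (fracO 𝒬 ha ht V hV))

theorem sum_cst_mul_eq_bb (y : ProjectiveSpectrum 𝒬)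
    (hi : (MvPolynomial.X i : S) ∉ y.asHomogeneousIdeal) (c : Fin (n + 1) → k) :
    ∑ j, cst k n _ (c j) * (HomogeneousLocalization.mk ⟨1, ⟨MvPolynomial.X j, X_mem k n j⟩,
      ⟨MvPolynomial.X i, X_mem k n i⟩, hi⟩ : AtPrime 𝒬 y.asHomogeneousIdeal.toIdeal) =
      bb k n i y hi c := by
  apply val_injective
  rw [← HomogeneousLocalization.algebraMap_apply, map_sum, val_bb]
  simp only [map_mul, HomogeneousLocalization.algebraMap_apply, val_cst, val_mk,
    Localization.mk_mul, one_mul]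
  exact (Localization.mk_sum (fun j => MvPolynomial.C (c j) * MvPolynomial.X j) Finset.univ
    (⟨MvPolynomial.X i, hi⟩ : y.asHomogeneousIdeal.toIdeal.primeCompl)).symm


/-- the germ at `P` of the pulled-back coordinate `X i` is a basis of the stalk of `f^* O(1)` when
`X i` does not vanish at `f P`. -/
theorem bijective_smul_germ_coord {X : Scheme.{u}} (f : X ⟶ Proj 𝒬) (P : X)
    (hi : (MvPolynomial.X i : S) ∉ (show ProjectiveSpectrum 𝒬 from f P).asHomogeneousIdeal) :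
    Function.Bijective (fun a : X.presheaf.stalk P =>
      a • (((Scheme.Modules.pullback f).obj M).presheaf.germ ⊤ P trivial
        (pullSect f M ⊤ (secN 𝒬 (X_mem k n i))) :
          ((Scheme.Modules.pullback f).obj M).presheaf.stalk P)) := by
  have h1 := isIso_restrict_sectionHom_secN 𝒬 (X_mem k n i)
  have h2 := isIso_restrict_sectionHom_pullSect f M (secN 𝒬 (X_mem k n i))
    (Proj.basicOpen 𝒬 (MvPolynomial.X i : S)) h1
  exact bijective_smul_germ _ _ _ h2 P hi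

theorem germ_sec_eq {X : Scheme.{u}} (pX : X ⟶ Spec (CommRingCat.of k)) (f : X ⟶ Proj 𝒬)
    (hf : f ≫ (Proj.toSpecZero 𝒬 ≫
      Spec.map (CommRingCat.ofHom (algebraMap k (CohB1.polyGrading n k 0)))) = pX) (P : X)
    (hi : (MvPolynomial.X i : S) ∉ (show ProjectiveSpectrum 𝒬 from f P).asHomogeneousIdeal)
    (c : Fin (n + 1) → k) :
    ((Scheme.Modules.pullback f).obj M).presheaf.germ ⊤ P trivial
      (∑ j, ProjUP.toGlobal pX (c j) • ProjUP.pullSec f M (secN 𝒬 (X_mem k n j))) =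
    (f.stalkMap P).hom ((Proj.stalkIso' 𝒬 (f P)).symm (bb k n i (f P) hi c)) •
      (((Scheme.Modules.pullback f).obj M).presheaf.germ ⊤ P trivial
        (pullSect f M ⊤ (secN 𝒬 (X_mem k n i))) :
          ((Scheme.Modules.pullback f).obj M).presheaf.stalk P) := by
  rw [map_sum]
  have hterm : ∀ j, ((Scheme.Modules.pullback f).obj M).presheaf.germ ⊤ P trivial
      (ProjUP.toGlobal pX (c j) • ProjUP.pullSec f M (secN 𝒬 (X_mem k n j))) =
      (f.stalkMap P).hom ((Proj.stalkIso' 𝒬 (f P)).symm (cst k n _ (c j) *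
        (HomogeneousLocalization.mk ⟨1, ⟨MvPolynomial.X j, X_mem k n j⟩,
          ⟨MvPolynomial.X i, X_mem k n i⟩, hi⟩ :
            AtPrime 𝒬 (show ProjectiveSpectrum 𝒬 from f P).asHomogeneousIdeal.toIdeal))) •
      (((Scheme.Modules.pullback f).obj M).presheaf.germ ⊤ P trivial
        (pullSect f M ⊤ (secN 𝒬 (X_mem k n i))) :
          ((Scheme.Modules.pullback f).obj M).presheaf.stalk P) := by
    intro j
    rw [germ_smul', pullSec_eq, germ_toGlobal k n i pX f hf P hi (c j),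
      germ_pullSect_eq f M (secN 𝒬 (X_mem k n i)) (secN 𝒬 (X_mem k n j))
        (Proj.basicOpen 𝒬 (MvPolynomial.X i : S))
        (fracO 𝒬 (X_mem k n j) (X_mem k n i) (Proj.basicOpen 𝒬 (MvPolynomial.X i : S))
          (fun x hx => hx)) (mres_coord k n i j) P hi,
      germ_fracO k n (X_mem k n j) (X_mem k n i) _ _ (f P) hi, smul_smul, ← map_mul]
    congr 2
    exact (map_mul (Proj.stalkIso' 𝒬 (f P)).symm _ _).symm
  rw [Finset.sum_congr rfl (fun j _ => hterm j), ← Finset.sum_smul, ← map_sum]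
  congr 2
  refine (map_sum (Proj.stalkIso' 𝒬 (f P)).symm _ _).symm.trans ?_
  congr 1
  exact sum_cst_mul_eq_bb k n i (f P) hi c

end

end Groth.Agent.H54.LS
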