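import Mathlib
import Groth.Prelude.Def_ProjUP
import Groth.Agent.H54.ProjLinSys

set_option autoImplicit false
universe u
open CategoryTheory CategoryTheory.Limits AlgebraicGeometry TopologicalSpace Opposite
open HomogeneousLocalization

namespace Groth.Agent.H54.LS

section basis
variable {B N : Type*} [CommRing B] [AddCommGroup N] [Module B N] (e : N)
  (he : Function.Bijective (fun a : B => a • e))

/-- the linear equivalence `B ≃ N` attached to a basis vector -/
noncomputable def basisEquiv : B ≃ₗ[B] N :=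
  LinearEquiv.ofBijective (LinearMap.toSpanSingleton B N e) he

theorem basisEquiv_apply (a : B) : basisEquiv e he a = a • e := rfl

include he in
theorem smul_top_eq_map (I : Ideal B) :
    I • (⊤ : Submodule B N) = Submodule.map (basisEquiv e he).toLinearMap I := by
  have h1 : (⊤ : Submodule B N) = Submodule.map (basisEquiv e he).toLinearMap ⊤ := by
    rw [Submodule.map_top, LinearEquiv.range]
  rw [h1, ← Submodule.map_smul'', smul_eq_mul, Ideal.mul_top]

include he in
theorem smul_mem_smul_top_iff (I : Ideal B) (a : B) :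
    a • e ∈ I • (⊤ : Submodule B N) ↔ a ∈ I := by
  rw [smul_top_eq_map e he, ← basisEquiv_apply e he]
  constructor
  · rintro ⟨b, hb, hab⟩
    have := (basisEquiv e he).injective hab
    rwa [← this]
  · intro ha
    exact ⟨a, ha, rfl⟩

include he in
theorem smul_top_le_span_sup_iff (I J : Ideal B) (T : Set B) :
    I • (⊤ : Submodule B N) ≤ Submodule.span B ((fun a => a • e) '' T) ⊔ J • (⊤ : Submodule B N) ↔
      I ≤ Ideal.span T ⊔ J := by
  rw [smul_top_eq_map e he, smul_top_eq_map e he]
  have h1 : Submodule.span B ((fun a => a • e) '' T) =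
      Submodule.map (basisEquiv e he).toLinearMap (Ideal.span T) := by
    rw [Ideal.span, Submodule.map_span]
    rfl
  rw [h1, ← Submodule.map_sup]
  exact Submodule.map_le_map_iff_of_injective (basisEquiv e he).injective _ _

end basis


open Groth.Agent.H18 Groth.Agent.H54.PB Groth.Agent.H54.PL Groth.Agent.H54.PC

section crit
variable (k : Type u) [Field k] (n : ℕ)

local notation "𝒬" => CohB1.polyGrading n k
local notation "S" => MvPolynomial (Fin (n + 1)) k
local notation "M" => Twist.twist (CohB1.polyGrading n k) ((1 : ℕ) : ℤ)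

/-- the element of the local ring of projective space at `y` corresponding to `lin c / X i`. -/
noncomputable def β (i : Fin (n + 1)) (y : ProjectiveSpectrum 𝒬)
    (hi : (MvPolynomial.X i : S) ∉ y.asHomogeneousIdeal) (c : Fin (n + 1) → k) :
    (Proj 𝒬).presheaf.stalk y :=
  (Proj.stalkIso' 𝒬 y).symm (bb k n i y hi c)

theorem β_mem_maximalIdeal_iff (i : Fin (n + 1)) (y : ProjectiveSpectrum 𝒬)
    (hi : (MvPolynomial.X i : S) ∉ y.asHomogeneousIdeal) (c : Fin (n + 1) → k) :
    β k n i y hi c ∈ IsLocalRing.maximalIdeal ((Proj 𝒬).presheaf.stalk y) ↔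
      lin k n c ∈ y.asHomogeneousIdeal := by
  rw [← bb_mem_maximalIdeal_iff k n i y hi c, IsLocalRing.mem_maximalIdeal,
    IsLocalRing.mem_maximalIdeal, mem_nonunits_iff, mem_nonunits_iff]
  unfold β
  exact not_congr (MulEquiv.isUnit_map (Proj.stalkIso' 𝒬 y).symm)

theorem stalkMap_β_mem_iff {X : Scheme.{u}} (f : X ⟶ Proj 𝒬) (P : X) (i : Fin (n + 1))
    (hi : (MvPolynomial.X i : S) ∉ (show ProjectiveSpectrum 𝒬 from f P).asHomogeneousIdeal)
    (c : Fin (n + 1) → k) :
    (f.stalkMap P).hom (β k n i (f P) hi c) ∈ IsLocalRing.maximalIdeal (X.presheaf.stalk P) ↔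
      lin k n c ∈ (show ProjectiveSpectrum 𝒬 from f P).asHomogeneousIdeal := by
  rw [← β_mem_maximalIdeal_iff k n i (f P) hi c, IsLocalRing.mem_maximalIdeal,
    IsLocalRing.mem_maximalIdeal, mem_nonunits_iff, mem_nonunits_iff, isUnit_map_iff]

/-- K1: vanishing of a section of the linear system at `P`. -/
theorem vanish_iff {X : Scheme.{u}} (pX : X ⟶ Spec (CommRingCat.of k)) (f : X ⟶ Proj 𝒬)
    (hf : f ≫ (Proj.toSpecZero 𝒬 ≫
      Spec.map (CommRingCat.ofHom (algebraMap k (CohB1.polyGrading n k 0)))) = pX) (P : X)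
    (c : Fin (n + 1) → k) :
    ((Scheme.Modules.pullback f).obj M).presheaf.germ ⊤ P trivial
      (∑ j, ProjUP.toGlobal pX (c j) • ProjUP.pullSec f M (secN 𝒬 (X_mem k n j))) ∈
      (IsLocalRing.maximalIdeal (X.presheaf.stalk P) •
        (⊤ : Submodule (X.presheaf.stalk P) (((Scheme.Modules.pullback f).obj M).presheaf.stalk P))) ↔
      lin k n c ∈ (show ProjectiveSpectrum 𝒬 from f P).asHomogeneousIdeal := by
  obtain ⟨i, hi⟩ := exists_X_notMem k n (f P)
  rw [germ_sec_eq k n i pX f hf P hi c]
  have he := bijective_smul_germ_coord k n i f P hi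
  exact (smul_mem_smul_top_iff _ he _ _).trans (stalkMap_β_mem_iff k n f P i hi c)


/-- K2: the tangent condition at `P` in terms of the local ring. -/
theorem tangent_iff {X : Scheme.{u}} (pX : X ⟶ Spec (CommRingCat.of k)) (f : X ⟶ Proj 𝒬)
    (hf : f ≫ (Proj.toSpecZero 𝒬 ≫
      Spec.map (CommRingCat.ofHom (algebraMap k (CohB1.polyGrading n k 0)))) = pX) (P : X)
    (i : Fin (n + 1))
    (hi : (MvPolynomial.X i : S) ∉ (show ProjectiveSpectrum 𝒬 from f P).asHomogeneousIdeal) :
    ((IsLocalRing.maximalIdeal (X.presheaf.stalk P) •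
        (⊤ : Submodule (X.presheaf.stalk P) (((Scheme.Modules.pullback f).obj M).presheaf.stalk P))) ≤
      Submodule.span (X.presheaf.stalk P)
        {v | ∃ c : Fin (n + 1) → k,
          v = ((Scheme.Modules.pullback f).obj M).presheaf.germ ⊤ P trivial
            (∑ j, ProjUP.toGlobal pX (c j) • ProjUP.pullSec f M (secN 𝒬 (X_mem k n j))) ∧
          v ∈ (IsLocalRing.maximalIdeal (X.presheaf.stalk P) •
            (⊤ : Submodule (X.presheaf.stalk P)
              (((Scheme.Modules.pullback f).obj M).presheaf.stalk P)))} ⊔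
        (IsLocalRing.maximalIdeal (X.presheaf.stalk P) ^ 2 •
          (⊤ : Submodule (X.presheaf.stalk P)
            (((Scheme.Modules.pullback f).obj M).presheaf.stalk P)))) ↔
    IsLocalRing.maximalIdeal (X.presheaf.stalk P) ≤
      Ideal.span {a | ∃ c : Fin (n + 1) → k, a = (f.stalkMap P).hom (β k n i (f P) hi c) ∧
        lin k n c ∈ (show ProjectiveSpectrum 𝒬 from f P).asHomogeneousIdeal} ⊔
      IsLocalRing.maximalIdeal (X.presheaf.stalk P) ^ 2 := by
  have he := bijective_smul_germ_coord k n i f P hi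
  have hset : {v | ∃ c : Fin (n + 1) → k,
      v = ((Scheme.Modules.pullback f).obj M).presheaf.germ ⊤ P trivial
        (∑ j, ProjUP.toGlobal pX (c j) • ProjUP.pullSec f M (secN 𝒬 (X_mem k n j))) ∧
      v ∈ (IsLocalRing.maximalIdeal (X.presheaf.stalk P) •
        (⊤ : Submodule (X.presheaf.stalk P)
          (((Scheme.Modules.pullback f).obj M).presheaf.stalk P)))} =
      (fun a : X.presheaf.stalk P => a • (((Scheme.Modules.pullback f).obj M).presheaf.germ ⊤ P trivial
        (pullSect f M ⊤ (secN 𝒬 (X_mem k n i))) :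
          ((Scheme.Modules.pullback f).obj M).presheaf.stalk P)) ''
      {a | ∃ c : Fin (n + 1) → k, a = (f.stalkMap P).hom (β k n i (f P) hi c) ∧
        lin k n c ∈ (show ProjectiveSpectrum 𝒬 from f P).asHomogeneousIdeal} := by
    ext v
    constructor
    · rintro ⟨c, rfl, hv⟩
      exact ⟨_, ⟨c, rfl, (vanish_iff k n pX f hf P c).mp hv⟩, (germ_sec_eq k n i pX f hf P hi c).symm⟩
    · rintro ⟨a, ⟨c, rfl, hc⟩, rfl⟩
      refine ⟨c, (germ_sec_eq k n i pX f hf P hi c).symm, ?_⟩
      exact (smul_mem_smul_top_iff _ he _ _).mpr ((stalkMap_β_mem_iff k n f P i hi c).mpr hc)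
  rw [hset]
  exact smul_top_le_span_sup_iff _ he _ _ _

end crit

end Groth.Agent.H54.LS
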