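import Mathlib
import Groth.Prelude.Def_ProjUP
import Groth.Agent.H54.ProjLinSys2
import Groth.Agent.H21.ClImmTangent

set_option autoImplicit false
universe u
open CategoryTheory CategoryTheory.Limits AlgebraicGeometry TopologicalSpace Opposite

namespace Groth.Agent.H54.LS

section proper
variable (k : Type u) [Field k] (n : ℕ)

local notation "𝒬" => CohB1.polyGrading n k
local notation "Sk" => MvPolynomial (Fin (n + 1)) k

instance isScalarTower_zero : IsScalarTower k (CohB1.polyGrading n k 0) Sk :=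
  IsScalarTower.of_algebraMap_eq (R := k) (S := CohB1.polyGrading n k 0)
    (A := MvPolynomial (Fin (n + 1)) k) (fun _ => rfl)

instance finiteType_zero : Algebra.FiniteType (CohB1.polyGrading n k 0) Sk :=
  Algebra.FiniteType.of_restrictScalars_finiteType k (CohB1.polyGrading n k 0) Sk

theorem algebraMap_zero_bijective : Function.Bijective (algebraMap k (CohB1.polyGrading n k 0)) := by
  constructor
  · intro a b h
    exact MvPolynomial.C_injective _ _ (congrArg Subtype.val h)
  · rintro ⟨g, hg⟩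
    have hg' : g ∈ (1 : Submodule k Sk) := by
      rw [← MvPolynomial.homogeneousSubmodule_zero]
      exact hg
    rw [Submodule.mem_one] at hg'
    obtain ⟨a, rfl⟩ := hg'
    exact ⟨a, Subtype.ext rfl⟩

instance isIso_specMap_zero :
    IsIso (Spec.map (CommRingCat.ofHom (algebraMap k (CohB1.polyGrading n k 0)))) := by
  have : IsIso (CommRingCat.ofHom (algebraMap k (CohB1.polyGrading n k 0))) :=
    (ConcreteCategory.isIso_iff_bijective _).mpr (algebraMap_zero_bijective k n)
  infer_instance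

instance isProper_toSpec : IsProper (CohB1.ProjSpace.toSpec n k) := by
  unfold CohB1.ProjSpace.toSpec
  have h1 : IsProper (Proj.toSpecZero (CohB1.polyGrading n k)) := inferInstance
  have h2 : IsProper (Spec.map (CommRingCat.ofHom (algebraMap k (CohB1.polyGrading n k 0)))) :=
    inferInstance
  exact MorphismProperty.comp_mem _ _ _ h1 h2

end proper


open Groth.Agent.H18 Groth.Agent.H54.PB Groth.Agent.H54.PL Groth.Agent.H54.PC

section main
variable (k : Type u) [Field k] (n : ℕ)

local notation "𝒬" => CohB1.polyGrading n k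
local notation "Sk" => MvPolynomial (Fin (n + 1)) k

/-- the maximal ideal of the local ring of projective space at a closed point is generated by the
`β c` for the linear forms `lin c` vanishing at the point. -/
theorem maximalIdeal_stalk_le_span [IsAlgClosed k] (i : Fin (n + 1)) (y : ProjectiveSpectrum 𝒬)
    (hi : (MvPolynomial.X i : Sk) ∉ y.asHomogeneousIdeal)
    (hy : IsClosed ({y} : Set (ProjectiveSpectrum 𝒬))) :
    IsLocalRing.maximalIdeal ((Proj 𝒬).presheaf.stalk y) ≤
      Ideal.span {b | ∃ c, b = β k n i y hi c ∧ lin k n c ∈ y.asHomogeneousIdeal} := by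
  intro b hb
  have h1 : Proj.stalkIso' 𝒬 y b ∈
      IsLocalRing.maximalIdeal (HomogeneousLocalization.AtPrime 𝒬 y.asHomogeneousIdeal.toIdeal) := by
    rw [IsLocalRing.mem_maximalIdeal, mem_nonunits_iff] at hb ⊢
    exact fun h => hb ((MulEquiv.isUnit_map (Proj.stalkIso' 𝒬 y)).mp h)
  have h2 := maximalIdeal_le_span k n i y hi hy h1
  have h3 := Ideal.mem_map_of_mem (Proj.stalkIso' 𝒬 y).symm.toRingHom h2
  rw [Ideal.map_span] at h3
  have h4 : (Proj.stalkIso' 𝒬 y).symm.toRingHom (Proj.stalkIso' 𝒬 y b) = b :=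
    (Proj.stalkIso' 𝒬 y).symm_apply_apply b
  rw [h4] at h3
  refine Ideal.span_mono ?_ h3
  rintro _ ⟨_, ⟨c, rfl, hc⟩, rfl⟩
  exact ⟨c, rfl, hc⟩


/-- the germ at `P` of the section of the linear system with coefficients `c`. -/
noncomputable abbrev gsec {X : Scheme.{u}} (pX : X ⟶ Spec (CommRingCat.of k))
    (f : X ⟶ CohB1.ProjSpace n k) (c : Fin (n + 1) → k) (P : X) :
    ↑(((Scheme.Modules.pullback f).obj (Twist.twistProjSpace n k 1)).presheaf.stalk P) :=
  (((Scheme.Modules.pullback f).obj (Twist.twistProjSpace n k 1)).presheaf.germ ⊤ P trivial).hom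
    (∑ i, ProjUP.toGlobal pX (c i) •
      ProjUP.pullSec f (Twist.twistProjSpace n k 1) (ProjUP.coord n k i))

/-- `m_P L_P` -/
noncomputable abbrev mL {X : Scheme.{u}} (f : X ⟶ CohB1.ProjSpace n k) (P : X) :
    Submodule ↑(X.presheaf.stalk P)
      ↑(((Scheme.Modules.pullback f).obj (Twist.twistProjSpace n k 1)).presheaf.stalk P) :=
  IsLocalRing.maximalIdeal ↑(X.presheaf.stalk P) •
    (⊤ : Submodule ↑(X.presheaf.stalk P)
      ↑(((Scheme.Modules.pullback f).obj (Twist.twistProjSpace n k 1)).presheaf.stalk P))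

/-- `m_P² L_P` -/
noncomputable abbrev mL2 {X : Scheme.{u}} (f : X ⟶ CohB1.ProjSpace n k) (P : X) :
    Submodule ↑(X.presheaf.stalk P)
      ↑(((Scheme.Modules.pullback f).obj (Twist.twistProjSpace n k 1)).presheaf.stalk P) :=
  IsLocalRing.maximalIdeal ↑(X.presheaf.stalk P) ^ 2 •
    (⊤ : Submodule ↑(X.presheaf.stalk P)
      ↑(((Scheme.Modules.pullback f).obj (Twist.twistProjSpace n k 1)).presheaf.stalk P))

theorem gsec_mem_iff {X : Scheme.{u}} (pX : X ⟶ Spec (CommRingCat.of k))
    (f : X ⟶ CohB1.ProjSpace n k) (hf : f ≫ CohB1.ProjSpace.toSpec n k = pX)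
    (c : Fin (n + 1) → k) (P : X) :
    gsec k n pX f c P ∈ mL k n f P ↔
      lin k n c ∈ (show ProjectiveSpectrum 𝒬 from f P).asHomogeneousIdeal :=
  vanish_iff k n pX f hf P c

/-- a closed immersion into projective space separates points and tangent vectors. -/
theorem separates_of_isClosedImmersion [IsAlgClosed k] {X : Scheme.{u}}
    (pX : X ⟶ Spec (CommRingCat.of k)) (f : X ⟶ CohB1.ProjSpace n k)
    (hf : f ≫ CohB1.ProjSpace.toSpec n k = pX) [IsClosedImmersion f] :
    (∀ P Q : ↥X, IsClosed ({P} : Set ↥X) → IsClosed ({Q} : Set ↥X) → P ≠ Q →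
      ∃ c : Fin (n + 1) → k, gsec k n pX f c P ∈ mL k n f P ∧ gsec k n pX f c Q ∉ mL k n f Q) ∧
    ∀ P : ↥X, IsClosed ({P} : Set ↥X) →
      mL k n f P ≤ Submodule.span ↑(X.presheaf.stalk P)
        {v | ∃ c : Fin (n + 1) → k, v = gsec k n pX f c P ∧ v ∈ mL k n f P} ⊔ mL2 k n f P := by
  have hclosed : ∀ P : X, IsClosed ({P} : Set X) →
      IsClosed ({(show ProjectiveSpectrum 𝒬 from f P)} : Set (ProjectiveSpectrum 𝒬)) := by
    intro P hP
    have := f.isClosedEmbedding.isClosedMap _ hP
    rwa [Set.image_singleton] at this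
  refine ⟨?_, ?_⟩
  · intro P Q hP _ hne
    have hne' : (show ProjectiveSpectrum 𝒬 from f P) ≠ (show ProjectiveSpectrum 𝒬 from f Q) :=
      fun h => hne (f.isClosedEmbedding.injective h)
    obtain ⟨c, hc1, hc2⟩ := exists_lin_mem_notMem k n _ _ (hclosed P hP) hne'
    exact ⟨c, (gsec_mem_iff k n pX f hf c P).mpr hc1,
      fun h => hc2 ((gsec_mem_iff k n pX f hf c Q).mp h)⟩
  · intro P hP
    obtain ⟨i, hi⟩ := exists_X_notMem k n (show ProjectiveSpectrum 𝒬 from f P)
    refine (tangent_iff k n pX f hf P i hi).mpr ?_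
    refine le_trans ?_ le_sup_left
    intro a ha
    obtain ⟨b, rfl⟩ : ∃ b : (Proj 𝒬).presheaf.stalk (show ProjectiveSpectrum 𝒬 from f P),
        (f.stalkMap P).hom b = a := f.stalkMap_surjective P a
    have hb : b ∈ IsLocalRing.maximalIdeal
        ((Proj 𝒬).presheaf.stalk (show ProjectiveSpectrum 𝒬 from f P)) := by
      rw [IsLocalRing.mem_maximalIdeal, mem_nonunits_iff] at ha
      refine (IsLocalRing.mem_maximalIdeal
        (R := (Proj 𝒬).presheaf.stalk (show ProjectiveSpectrum 𝒬 from f P)) _).mpr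
          (mem_nonunits_iff.mpr ?_)
      exact fun h => ha (h.map (f.stalkMap P).hom)
    have h1 := maximalIdeal_stalk_le_span k n i _ hi (hclosed P hP) hb
    have h2 := Ideal.mem_map_of_mem (f.stalkMap P).hom h1
    have h3 := (Ideal.map_span (f.stalkMap P).hom _).le h2
    refine Ideal.span_mono ?_ h3
    rintro _ ⟨_, ⟨c, rfl, hc⟩, rfl⟩
    exact ⟨c, rfl, hc⟩

/-- a proper `k`-scheme mapping to projective space such that the linear system separates points
and tangent vectors is embedded as a closed subscheme. -/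
theorem isClosedImmersion_of_separates [IsAlgClosed k] {X : Scheme.{u}}
    (pX : X ⟶ Spec (CommRingCat.of k)) [IsProper pX] (f : X ⟶ CohB1.ProjSpace n k)
    (hf : f ≫ CohB1.ProjSpace.toSpec n k = pX)
    (hsep : ∀ P Q : ↥X, IsClosed ({P} : Set ↥X) → IsClosed ({Q} : Set ↥X) → P ≠ Q →
      ∃ c : Fin (n + 1) → k,
        ¬ (gsec k n pX f c P ∈ mL k n f P ↔ gsec k n pX f c Q ∈ mL k n f Q))
    (htan : ∀ P : ↥X, IsClosed ({P} : Set ↥X) →
      mL k n f P ≤ Submodule.span ↑(X.presheaf.stalk P)
        {v | ∃ c : Fin (n + 1) → k, v = gsec k n pX f c P ∧ v ∈ mL k n f P} ⊔ mL2 k n f P) :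
    IsClosedImmersion f := by
  have hfp : IsProper (f ≫ CohB1.ProjSpace.toSpec n k) := by rw [hf]; infer_instance
  have hpf : IsProper f := IsProper.of_comp f (CohB1.ProjSpace.toSpec n k)
  have h1 : LocallyOfFiniteType (CohB1.ProjSpace.toSpec n k) := inferInstance
  have h2 : LocallyOfFiniteType (f ≫ CohB1.ProjSpace.toSpec n k) := inferInstance
  refine Groth.Agent.H21.ClImmTangent.isClosedImmersion_of_injOn_closedPoints k f
    (CohB1.ProjSpace.toSpec n k) ?_ ?_
  · intro P hP Q hQ hPQ
    by_contra hne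
    obtain ⟨c, hc⟩ := hsep P Q hP hQ hne
    apply hc
    rw [gsec_mem_iff k n pX f hf c P, gsec_mem_iff k n pX f hf c Q]
    have hPQ' : (show ProjectiveSpectrum 𝒬 from f P) = (show ProjectiveSpectrum 𝒬 from f Q) := hPQ
    rw [hPQ']
  · intro P hP
    obtain ⟨i, hi⟩ := exists_X_notMem k n (show ProjectiveSpectrum 𝒬 from f P)
    have h3 := (tangent_iff k n pX f hf P i hi).mp (htan P hP)
    apply le_antisymm
    · refine sup_le ?_ (Ideal.pow_le_self two_ne_zero)
      exact IsLocalRing.map_maximalIdeal_le (f.stalkMap P).hom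
    · refine h3.trans (sup_le_sup_right ?_ _)
      rw [Ideal.span_le]
      rintro _ ⟨c, rfl, hc⟩
      exact Ideal.mem_map_of_mem _ ((β_mem_maximalIdeal_iff k n i _ hi c).mpr hc)

end main

end Groth.Agent.H54.LS
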