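import Mathlib

/-!
# Connected components of closed subsets of a Noetherian space (helper54)
-/

set_option autoImplicit false
universe u
open Topology TopologicalSpace

namespace Groth.Agent.H54.ConnComp

variable {α : Type u} [TopologicalSpace α]

/-- the connected component of a point in a closed set is closed -/
theorem isClosed_connectedComponentIn {C : Set α} (hC : IsClosed C) {x : α} (hx : x ∈ C) :
    IsClosed (connectedComponentIn C x) := by
  have h1 : closure (connectedComponentIn C x) ⊆ C :=
    closure_minimal (connectedComponentIn_subset C x) hC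
  have h2 : IsPreconnected (closure (connectedComponentIn C x)) :=
    isPreconnected_connectedComponentIn.closure
  have h3 : closure (connectedComponentIn C x) ⊆ connectedComponentIn C x :=
    h2.subset_connectedComponentIn (subset_closure (mem_connectedComponentIn hx)) h1
  have h4 : closure (connectedComponentIn C x) = connectedComponentIn C x :=
    Set.Subset.antisymm h3 subset_closure
  rw [← h4]
  exact isClosed_closure

/-- In a Noetherian space, the connected component of a point of a closed set `C` is closed,
connected, and its complement in `C` is closed. -/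
theorem exists_clopen_component [NoetherianSpace α] {C : Set α} (hC : IsClosed C) {x : α}
    (hx : x ∈ C) :
    ∃ K : Set α, x ∈ K ∧ K ⊆ C ∧ IsClosed K ∧ IsConnected K ∧ IsClosed (C \ K) := by
  refine ⟨connectedComponentIn C x, mem_connectedComponentIn hx, connectedComponentIn_subset C x,
    isClosed_connectedComponentIn hC hx, isConnected_connectedComponentIn_iff.mpr hx, ?_⟩
  obtain ⟨S, hSf, hSc, hSi, hSU⟩ := NoetherianSpace.exists_finite_set_isClosed_irreducible hC
  have key : C \ connectedComponentIn C x =
      ⋃ t ∈ {t ∈ S | ¬ t ⊆ connectedComponentIn C x}, t := by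
    ext y
    simp only [Set.mem_sdiff, Set.mem_iUnion, Set.mem_ofPred_eq, exists_prop]
    constructor
    · rintro ⟨hyC, hyK⟩
      rw [hSU] at hyC
      obtain ⟨t, htS, hyt⟩ := hyC
      exact ⟨t, ⟨htS, fun h => hyK (h hyt)⟩, hyt⟩
    · rintro ⟨t, ⟨htS, htK⟩, hyt⟩
      have htC : t ⊆ C := by
        rw [hSU]
        exact Set.subset_sUnion_of_mem htS
      refine ⟨htC hyt, fun hyK => htK ?_⟩
      have h1 : connectedComponentIn C x = connectedComponentIn C y := connectedComponentIn_eq hyK
      rw [h1]
      exact (hSi t htS).isPreirreducible.isPreconnected.subset_connectedComponentIn hyt htC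
  rw [key]
  exact (hSf.subset (fun t ht => ht.1)).isClosed_biUnion (fun t ht => hSc t ht.1)

/-- a connected set meeting an open set `W` only in the closed point `p` is contained in `{p}` -/
theorem subset_singleton_of_isPreconnected {S W : Set α} (hS : IsPreconnected S) (hW : IsOpen W)
    {p : α} (hp : IsClosed ({p} : Set α)) (hpS : p ∈ S) (hpW : p ∈ W)
    (h : ∀ y ∈ S, y ∈ W → y = p) : S ⊆ {p} := by
  intro y hy
  by_contra hne
  have hcov : S ⊆ W ∪ ({p} : Set α)ᶜ := by
    intro z hz
    by_cases hzp : z = p
    · exact Or.inl (hzp ▸ hpW)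
    · exact Or.inr hzp
  obtain ⟨z, hzS, hzW, hzp⟩ := hS W ({p} : Set α)ᶜ hW hp.isOpen_compl hcov ⟨p, hpS, hpW⟩
    ⟨y, hy, hne⟩
  exact hzp (h z hzS hzW)

end Groth.Agent.H54.ConnComp
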