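import Groth.Agent.H54.GlobGenBC
import Groth.Agent.H18.Counit.EpiCrit
import Groth.Agent.H8.QcqsPush
import Groth.Agent.H44.PullbackAffine

/-!
helper54: for `f` quasi-compact quasi-separated and `F` quasi-coherent, the counit
`f^* f_* F ⟶ F` is an epimorphism iff `F` is a quotient of a pullback of a quasi-coherent module,
iff `F` is globally generated over the preimages of the affine opens of the base.
-/

set_option autoImplicit false
set_option linter.style.haveILetI false
universe u
open CategoryTheory CategoryTheory.Limits AlgebraicGeometry Scheme.Modules Opposite TopologicalSpace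

namespace Groth.Agent.H54.CounitEpiQcqs

open Groth.Agent.H18 Groth.Agent.H8

section Affine
variable {X : Scheme.{u}}

/-- a quasi-coherent module on an affine scheme is globally generated -/
theorem isGloballyGenerated_of_isAffine [IsAffine X] (F : X.Modules) [F.IsQuasicoherent] :
    Curv2.IsGloballyGenerated F := by
  let s : Γ(F, (⊤ : X.Opens)) → SheafOfModules.sections F :=
    fun σ => Groth.Agent.H54.sectionOfTop F σ
  have hepi : Epi (F.freeHomEquiv.symm s) := by
    refine epi_freeHomEquiv_symm F s (fun V t => ?_)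
    let Sv : Sieve V :=
      { arrows := fun Y _ => ∃ r : Γ(X, (⊤ : X.Opens)), Y ≤ X.basicOpen r ∧ X.basicOpen r ≤ V
        downward_closed := by
          rintro Y Z f₁ ⟨r, hYr, hrV⟩ f₂
          exact ⟨r, (leOfHom f₂).trans hYr, hrV⟩ }
    refine ⟨Sv, ?_, ?_⟩
    · intro x hx
      obtain ⟨r, hrV, hxr⟩ := (isAffineOpen_top X).exists_basicOpen_le ⟨x, hx⟩ trivial
      exact ⟨X.basicOpen r, homOfLE hrV, ⟨r, le_rfl, hrV⟩, hxr⟩
    · rintro Y f₁ ⟨r, hYr, hrV⟩
      have hD := X.basicOpen_le r
      obtain ⟨n, x, hx⟩ := exists_pow_smul_eq_res_of_isQuasicoherent F (isAffineOpen_top X) r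
        (mres F hrV t)
      -- `r` is a unit on `D(r)`
      have hru : IsUnit (X.presheaf.map (homOfLE hD).op r) :=
        RingedSpace.isUnit_res_basicOpen X.toRingedSpace r
      obtain ⟨u, hu⟩ := hru.pow n
      have h1 : mres F hrV t = (↑u⁻¹ : Γ(X, X.basicOpen r)) • mres F hD x := by
        rw [← hx, smul_smul, ← hu, Units.inv_mul, one_smul]
      have h2 : mres F hrV t ∈ Submodule.span Γ(X, X.basicOpen r)
          (Set.range fun σ : Γ(F, (⊤ : X.Opens)) => mres F hD σ) := by
        rw [h1]
        exact Submodule.smul_mem _ _ (Submodule.subset_span ⟨x, rfl⟩)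
      have h3 := mres_mem_span F hYr _ _ h2
      rw [mres_mres] at h3
      have h4 : (fun σ : Γ(F, (⊤ : X.Opens)) => mres F hYr (mres F hD σ)) =
          fun σ : Γ(F, (⊤ : X.Opens)) =>
            (PresheafOfModules.sections.eval (s σ) (op Y) : F.val.obj (op Y)) := by
        funext σ
        exact mres_mres F hD hYr σ
      rw [h4] at h3
      exact h3
  exact ⟨Γ(F, (⊤ : X.Opens)), F.freeHomEquiv.symm s, hepi⟩

/-- a quotient of a globally generated module is globally generated -/
theorem isGloballyGenerated_of_epi {F G : X.Modules} (q : F ⟶ G) (hq : Epi q)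
    (h : Curv2.IsGloballyGenerated F) : Curv2.IsGloballyGenerated G := by
  obtain ⟨ι, p, hp⟩ := h
  exact ⟨ι, p ≫ q, @epi_comp _ _ _ _ _ p hp q hq⟩

end Affine

section Main
variable {X S : Scheme.{u}} (f : X ⟶ S)

/-- if `F` is a quotient of some `f^* G` then the counit is an epimorphism -/
theorem epi_counit_of_epi_pullback (F : X.Modules) (G : S.Modules)
    (φ : (Scheme.Modules.pullback f).obj G ⟶ F) (hφ : Epi φ) :
    Epi ((pullbackPushforwardAdjunction f).counit.app F) := by
  set adj := pullbackPushforwardAdjunction f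
  have h1 : φ = (Scheme.Modules.pullback f).map (adj.homEquiv G F φ) ≫ adj.counit.app F := by
    have := adj.homEquiv_counit (X := G) (Y := F) (g := adj.homEquiv G F φ)
    rw [Equiv.symm_apply_apply] at this
    exact this
  have h2 : Epi ((Scheme.Modules.pullback f).map (adj.homEquiv G F φ) ≫ adj.counit.app F) := by
    rw [← h1]; exact hφ
  exact epi_of_epi ((Scheme.Modules.pullback f).map (adj.homEquiv G F φ)) _

/-- an epimorphic counit gives global generation over preimages of affine opens -/
theorem isGloballyGenerated_restrict_of_epi_pullback (F : X.Modules) (G : S.Modules)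
    [G.IsQuasicoherent] (φ : (Scheme.Modules.pullback f).obj G ⟶ F) (hφ : Epi φ)
    (U : S.Opens) (hU : IsAffineOpen U) :
    Curv2.IsGloballyGenerated (F.restrict (f ⁻¹ᵁ U).ι) := by
  haveI : IsAffine (U : Scheme.{u}) := hU
  have hGU : Curv2.IsGloballyGenerated ((Scheme.Modules.pullback U.ι).obj G) :=
    isGloballyGenerated_of_isAffine _
  have h1 : Curv2.IsGloballyGenerated
      ((Scheme.Modules.pullback (f ∣_ U)).obj ((Scheme.Modules.pullback U.ι).obj G)) :=
    Groth.Agent.H54.GlobGenBC.isGloballyGenerated_pullback (f ∣_ U) _ hGU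
  let e : (Scheme.Modules.pullback (f ∣_ U)).obj ((Scheme.Modules.pullback U.ι).obj G) ≅
      (Scheme.Modules.pullback (f ⁻¹ᵁ U).ι).obj ((Scheme.Modules.pullback f).obj G) :=
    (Scheme.Modules.pullbackComp (f ∣_ U) U.ι).app G ≪≫
      (Scheme.Modules.pullbackCongr (morphismRestrict_ι f U)).app G ≪≫
      ((Scheme.Modules.pullbackComp (f ⁻¹ᵁ U).ι f).app G).symm
  haveI : (Scheme.Modules.pullback (f ⁻¹ᵁ U).ι).PreservesEpimorphisms :=
    Functor.preservesEpimorphisms_of_adjunction
      (Scheme.Modules.pullbackPushforwardAdjunction (f ⁻¹ᵁ U).ι)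
  have hφ' : Epi ((Scheme.Modules.pullback (f ⁻¹ᵁ U).ι).map φ) :=
    (Scheme.Modules.pullback (f ⁻¹ᵁ U).ι).map_epi φ
  let e2 : (Scheme.Modules.pullback (f ⁻¹ᵁ U).ι).obj F ≅ F.restrict (f ⁻¹ᵁ U).ι :=
    ((restrictFunctorIsoPullback (f ⁻¹ᵁ U).ι).app F).symm
  have hq : Epi (e.hom ≫ (Scheme.Modules.pullback (f ⁻¹ᵁ U).ι).map φ ≫ e2.hom) := by
    haveI : Epi e.hom := inferInstance
    haveI : Epi e2.hom := inferInstance
    haveI := hφ'
    exact epi_comp _ _
  exact isGloballyGenerated_of_epi _ hq h1

end Main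

end Groth.Agent.H54.CounitEpiQcqs
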