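import Mathlib
import Groth.Agent.H20.DimOneClosedPts

set_option autoImplicit false
universe u
open CategoryTheory CategoryTheory.Limits AlgebraicGeometry TopologicalSpace Opposite

namespace Groth.Agent.H54.CurveTop

/-- in a Noetherian quasi-sober space a closed set of closed points is finite -/
theorem finite_of_isClosed_of_forall_isClosed_singleton {α : Type*} [TopologicalSpace α]
    [NoetherianSpace α] [QuasiSober α] {S : Set α} (hS : IsClosed S)
    (hpt : ∀ x ∈ S, IsClosed ({x} : Set α)) : S.Finite := by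
  obtain ⟨T, hTf, hTc, hTi, hST⟩ := NoetherianSpace.exists_finite_set_isClosed_irreducible hS
  rw [hST]
  refine hTf.sUnion fun t ht => ?_
  obtain ⟨η, hη⟩ := QuasiSober.sober (hTi t ht) (hTc t ht)
  have hηt : η ∈ t := hη.mem
  have hηS : η ∈ S := by rw [hST]; exact ⟨t, ht, hηt⟩
  have h1 : t = {η} := by
    have := hη.def
    rw [(hpt η hηS).closure_eq] at this
    exact this.symm
  rw [h1]
  exact Set.finite_singleton η

variable {X : Scheme.{u}}

open Groth.Agent.H20.DimOne in
/-- on an absolute curve, a non-closed point has no proper generization -/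
theorem eq_of_specializes_of_not_isClosed [CompactSpace X]
    (hC : ∀ x : X, IsClosed ({x} : Set X) → ringKrullDim (X.presheaf.stalk x) = 1)
    {x y : X} (hx : ¬ IsClosed ({x} : Set X)) (hyx : y ⤳ x) : y = x := by
  obtain ⟨x₀, hx₀mem, hx₀⟩ := (isClosed_closure (s := ({x} : Set X))).exists_closed_singleton
    ⟨x, subset_closure rfl⟩
  have hxx₀ : x ⤳ x₀ := specializes_iff_mem_closure.mpr hx₀mem
  obtain ⟨φ, hle, hinj, hgen, hcl⟩ := stalk_spec_facts x₀
  obtain ⟨p, hp⟩ := (hgen x).mp hxx₀
  obtain ⟨q, hq⟩ := (hgen y).mp (hyx.trans hxx₀)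
  have hqp : q ≤ p := (hle q p).mpr (by rw [hp, hq]; exact hyx)
  have hpne : p ≠ IsLocalRing.closedPoint (X.presheaf.stalk x₀) := by
    intro h
    apply hx
    rw [← hp, h, hcl]
    exact hx₀
  have hdim : Order.krullDim (PrimeSpectrum (X.presheaf.stalk x₀)) ≤ 1 := (hC x₀ hx₀).le
  rcases Order.krullDim_le_one_iff.mp hdim p with hmin | hmax
  · have hpq : p ≤ q := hmin hqp
    rw [← hq, ← hp, le_antisymm hqp hpq]
  · exfalso
    apply hpne
    have hple : p ≤ IsLocalRing.closedPoint (X.presheaf.stalk x₀) :=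
      IsLocalRing.le_maximalIdeal p.2.ne_top
    exact le_antisymm hple (hmax hple)

open Groth.Agent.H20.DimOne in
/-- at a point without proper generizations every nonzerodivisor of the local ring is a unit -/
theorem isUnit_of_mem_nonZeroDivisors_of_forall_eq {x : X} (hx : ∀ y : X, y ⤳ x → y = x)
    {r : X.presheaf.stalk x} (hr : r ∈ nonZeroDivisors (X.presheaf.stalk x)) : IsUnit r := by
  obtain ⟨φ, hle, hinj, hgen, hcl⟩ := stalk_spec_facts x
  have hsub : ∀ p : PrimeSpectrum (X.presheaf.stalk x),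
      p = IsLocalRing.closedPoint (X.presheaf.stalk x) := by
    intro p
    apply hinj
    rw [hcl]
    exact hx _ ((hgen _).mpr ⟨p, rfl⟩)
  by_contra hnu
  have hm : r ∈ IsLocalRing.maximalIdeal (X.presheaf.stalk x) := hnu
  have hnil : r ∈ nilradical (X.presheaf.stalk x) := by
    rw [nilradical_eq_sInf, Ideal.mem_sInf]
    intro J hJ
    have := hsub ⟨J, hJ⟩
    have h2 : J = IsLocalRing.maximalIdeal (X.presheaf.stalk x) := congrArg PrimeSpectrum.asIdeal this
    rw [h2]
    exact hm
  obtain ⟨n, hn⟩ := hnil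
  have h1 : r ^ n ∈ nonZeroDivisors (X.presheaf.stalk x) := pow_mem hr n
  rw [hn] at h1
  exact zero_notMem_nonZeroDivisors h1

end Groth.Agent.H54.CurveTop
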