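import Mathlib
import Groth.Prelude.Def_MeroDiv
import Groth.Agent.H54.DivModInv
import Groth.Agent.H54.MeroChart

set_option autoImplicit false
universe u
open CategoryTheory CategoryTheory.Limits AlgebraicGeometry TopologicalSpace Opposite

namespace Groth.Agent.H54.DivFrac

open Mero Groth.Agent.H8 Groth.Agent.H54.MeroSec Groth.Agent.H54.DivModInv
  Groth.Agent.H54.MeroChart

variable {X : Scheme.{u}}

/-- the unit of `K_{X,y}` defined by a regular germ -/
noncomputable abbrev uOf {y : X} (a : regStalk X y) : (KStalk X y)ˣ :=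
  (IsLocalization.map_units (KStalk X y) a).unit

theorem uOf_val {y : X} (a : regStalk X y) :
    ((uOf a : (KStalk X y)ˣ) : KStalk X y) = algebraMap (X.presheaf.stalk y) (KStalk X y) a.1 := rfl

/-- the unit `a / b` of `K_{X,y}` -/
noncomputable abbrev fracOf {y : X} (a b : regStalk X y) : (KStalk X y)ˣ := uOf a * (uOf b)⁻¹

theorem fracOf_val_mul {y : X} (a b : regStalk X y) :
    ((fracOf a b : (KStalk X y)ˣ) : KStalk X y) *
      algebraMap (X.presheaf.stalk y) (KStalk X y) b.1 =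
      algebraMap (X.presheaf.stalk y) (KStalk X y) a.1 := by
  rw [← uOf_val b, ← uOf_val a, ← Units.val_mul, inv_mul_cancel_right]

theorem eq_fracOf_iff {y : X} (a b : regStalk X y) (g : (KStalk X y)ˣ) :
    g = fracOf a b ↔ (g : KStalk X y) * algebraMap (X.presheaf.stalk y) (KStalk X y) b.1 =
      algebraMap (X.presheaf.stalk y) (KStalk X y) a.1 := by
  constructor
  · rintro rfl
    exact fracOf_val_mul a b
  · intro h
    rw [fracOf, eq_mul_inv_iff_mul_eq]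
    apply Units.ext
    rw [Units.val_mul, uOf_val, uOf_val]
    exact h

/-- every divisor is locally `a / b` with `a`, `b` regular sections -/
theorem exists_frac (D : Divisor X) (x : X) :
    ∃ (V : X.Opens) (_ : x ∈ V) (a b : regSub X V), ∀ y : V,
      D.1 y.1 = QuotientGroup.mk (fracOf (regGerm y a) (regGerm y b)) := by
  obtain ⟨U, hxU, f, hf⟩ := D.2 x
  obtain ⟨W, hxW, i, m, b, hmb⟩ := (f : Γ(kmod X, U)).2 ⟨x, hxU⟩
  obtain ⟨W', hxW', i', m', b', hmb'⟩ := ((f⁻¹ : (Γ(kmod X, U))ˣ) : Γ(kmod X, U)).2 ⟨x, hxU⟩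
  let V : X.Opens := W ⊓ W'
  have hVW : V ≤ W := inf_le_left
  have hVW' : V ≤ W' := inf_le_right
  have hVU : V ≤ U := hVW.trans i.le
  have hxV : x ∈ V := ⟨hxW, hxW'⟩
  have hval : ∀ y : V, (f : Γ(kmod X, U)).1 ⟨y.1, hVU y.2⟩ =
      LocalizedModule.mk (X.presheaf.germ W y.1 (hVW y.2) m) (regGerm ⟨y.1, hVW y.2⟩ b) :=
    fun y => hmb ⟨y.1, hVW y.2⟩
  have hval' : ∀ y : V, ((f⁻¹ : (Γ(kmod X, U))ˣ) : Γ(kmod X, U)).1 ⟨y.1, hVU y.2⟩ =
      LocalizedModule.mk (X.presheaf.germ W' y.1 (hVW' y.2) m') (regGerm ⟨y.1, hVW' y.2⟩ b') :=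
    fun y => hmb' ⟨y.1, hVW' y.2⟩
  have hprod : ∀ y : V, X.presheaf.germ W y.1 (hVW y.2) m * X.presheaf.germ W' y.1 (hVW' y.2) m' =
      X.presheaf.germ W y.1 (hVW y.2) b.1 * X.presheaf.germ W' y.1 (hVW' y.2) b'.1 := by
    intro y
    have h1 := val_mul_inv f ⟨y.1, hVU y.2⟩
    rw [hval y, hval' y] at h1
    have e : (LocalizedModule.mk (X.presheaf.germ W y.1 (hVW y.2) m) (regGerm ⟨y.1, hVW y.2⟩ b) :
        KStalk X y.1) * (LocalizedModule.mk (X.presheaf.germ W' y.1 (hVW' y.2) m')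
          (regGerm ⟨y.1, hVW' y.2⟩ b') : KStalk X y.1) =
        LocalizedModule.mk (X.presheaf.germ W y.1 (hVW y.2) m * X.presheaf.germ W' y.1 (hVW' y.2) m')
          (regGerm ⟨y.1, hVW y.2⟩ b * regGerm ⟨y.1, hVW' y.2⟩ b') := LocalizedModule.mk_mul_mk
    rw [e] at h1
    have h2 := (mk_eq_algebraMap_iff _ _ 1).mp (h1.trans (map_one _).symm)
    rw [one_mul] at h2
    exact h2
  have hmreg : X.presheaf.map (homOfLE hVW).op m ∈ regSub X V := by
    intro y
    change X.presheaf.germ V y.1 y.2 (X.presheaf.map (homOfLE hVW).op m) ∈ _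
    rw [TopCat.Presheaf.germ_res_apply X.presheaf (homOfLE hVW) y.1 y.2 m]
    have h1 : X.presheaf.germ W y.1 (hVW y.2) m * X.presheaf.germ W' y.1 (hVW' y.2) m' ∈
        nonZeroDivisors (X.presheaf.stalk y.1) := by
      rw [hprod y]
      exact mul_mem (b.2 ⟨y.1, hVW y.2⟩) (b'.2 ⟨y.1, hVW' y.2⟩)
    exact (mul_mem_nonZeroDivisors.mp h1).1
  refine ⟨V, hxV, ⟨_, hmreg⟩, ⟨_, regSub_res (homOfLE hVW) b.2⟩, fun y => ?_⟩
  rw [hf ⟨y.1, hVU y.2⟩, germOf]
  congr 1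
  rw [eq_fracOf_iff]
  change (f : Γ(kmod X, U)).1 ⟨y.1, hVU y.2⟩ *
    algebraMap _ _ (X.presheaf.germ V y.1 y.2 (X.presheaf.map (homOfLE hVW).op b.1)) =
    algebraMap _ _ (X.presheaf.germ V y.1 y.2 (X.presheaf.map (homOfLE hVW).op m))
  rw [hval y, TopCat.Presheaf.germ_res_apply X.presheaf (homOfLE hVW) y.1 y.2 m,
    TopCat.Presheaf.germ_res_apply X.presheaf (homOfLE hVW) y.1 y.2 b.1]
  change Localization.mk _ _ * _ = _
  rw [Localization.mk_eq_mk']
  exact IsLocalization.mk'_spec _ _ _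

end Groth.Agent.H54.DivFrac
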