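import Mathlib
import Groth.Prelude.Def_MeroDiv
import Groth.Agent.H54.DivFrac

set_option autoImplicit false
universe u
open CategoryTheory CategoryTheory.Limits AlgebraicGeometry TopologicalSpace Opposite

namespace Groth.Agent.H54.DivCrit

open Mero Groth.Agent.H8 Groth.Agent.H54.MeroSec Groth.Agent.H54.DivModInv
  Groth.Agent.H54.MeroChart Groth.Agent.H54.DivFrac

variable {X : Scheme.{u}}

theorem mem_regStalk_of_mem_nonZeroDivisors (hreg : RegExt X) {y : X} {c : X.presheaf.stalk y}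
    (hc : c ∈ nonZeroDivisors (X.presheaf.stalk y)) : c ∈ regStalk X y := by
  obtain ⟨W, hyW, f, hf, hfc⟩ := hreg y c hc
  exact ⟨W, hyW, f, fun z => hf z.1 z.2, hfc⟩

/-- the germ `mk (a/b)` is trivial iff `a = u b` for a unit `u` -/
theorem mk_fracOf_eq_one_iff {y : X} (a b : regStalk X y) :
    (QuotientGroup.mk (fracOf a b) : Germ X y) = 1 ↔ ∃ u : (X.presheaf.stalk y)ˣ, a.1 = u * b.1 := by
  rw [QuotientGroup.eq_one_iff]
  constructor
  · rintro ⟨u, hu⟩
    refine ⟨u, ?_⟩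
    apply algebraMap_KStalk_injective y
    rw [map_mul, ← fracOf_val_mul a b, ← hu]
    rfl
  · rintro ⟨u, hu⟩
    refine ⟨u, ?_⟩
    rw [eq_fracOf_iff]
    change algebraMap _ _ (u : X.presheaf.stalk y) * algebraMap _ _ b.1 = _
    rw [← map_mul, ← hu]

theorem dvd_of_mk_fracOf_eq_one {y : X} (a b : regStalk X y)
    (h : (QuotientGroup.mk (fracOf a b) : Germ X y) = 1) : b.1 ∣ a.1 ∧ a.1 ∣ b.1 := by
  obtain ⟨u, hu⟩ := (mk_fracOf_eq_one_iff a b).mp h
  refine ⟨⟨u, by rw [hu, mul_comm]⟩, ⟨((u⁻¹ : (X.presheaf.stalk y)ˣ) : X.presheaf.stalk y), ?_⟩⟩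
  rw [hu, mul_comm, ← mul_assoc, Units.inv_mul, one_mul]

theorem mk_fracOf_eq_one_of_dvd {y : X} (a b : regStalk X y) (h1 : b.1 ∣ a.1) (h2 : a.1 ∣ b.1) :
    (QuotientGroup.mk (fracOf a b) : Germ X y) = 1 := by
  rw [mk_fracOf_eq_one_iff]
  obtain ⟨c, hc⟩ := h1
  obtain ⟨c', hc'⟩ := h2
  have ha : a.1 ∈ nonZeroDivisors (X.presheaf.stalk y) := regStalk_le_nonZeroDivisors y a.2
  have h3 : c' * c = 1 := by
    have h4 : a.1 * (c' * c) = a.1 * 1 := by
      rw [mul_one, ← mul_assoc, ← hc', ← hc]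
    exact (mul_cancel_left_mem_nonZeroDivisors ha).mp h4
  refine ⟨Units.mkOfMulEqOne c c' (by rw [mul_comm]; exact h3), ?_⟩
  rw [hc, mul_comm]
  rfl

/-- effectivity at a point in terms of a fraction representing the germ -/
theorem dvd_of_isEffectiveAt {D : Divisor X} {y : X} (a b : regStalk X y)
    (hD : D.1 y = QuotientGroup.mk (fracOf a b)) (h : IsEffectiveAt D y) : b.1 ∣ a.1 := by
  obtain ⟨c, hc⟩ := h
  have h1 : (QuotientGroup.mk (fracOf a b) : Germ X y) = QuotientGroup.mk (uOf c) := hD.symm.trans hc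
  rw [QuotientGroup.eq] at h1
  obtain ⟨u, hu⟩ := h1
  have h2 : (fracOf a b : (KStalk X y)ˣ) * Units.map
      (algebraMap (X.presheaf.stalk y) (KStalk X y)).toMonoidHom u = uOf c := by
    rw [hu, mul_inv_cancel_left]
  have h3 : algebraMap (X.presheaf.stalk y) (KStalk X y) (a.1 * u) =
      algebraMap (X.presheaf.stalk y) (KStalk X y) (c.1 * b.1) := by
    have h4 : ((fracOf a b : (KStalk X y)ˣ) : KStalk X y) *
        algebraMap (X.presheaf.stalk y) (KStalk X y) (u : X.presheaf.stalk y) =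
        algebraMap (X.presheaf.stalk y) (KStalk X y) c.1 := congrArg Units.val h2
    rw [map_mul, map_mul, ← fracOf_val_mul a b, ← h4]
    ring
  have h5 := algebraMap_KStalk_injective y h3
  refine ⟨c.1 * ((u⁻¹ : (X.presheaf.stalk y)ˣ) : X.presheaf.stalk y), ?_⟩
  have h6 : a.1 = a.1 * u * ((u⁻¹ : (X.presheaf.stalk y)ˣ) : X.presheaf.stalk y) := by
    rw [mul_assoc, Units.mul_inv, mul_one]
  rw [h6, h5]
  ring

theorem isEffectiveAt_of_dvd (hreg : RegExt X) {D : Divisor X} {y : X} (a b : regStalk X y)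
    (hD : D.1 y = QuotientGroup.mk (fracOf a b)) (h : b.1 ∣ a.1) : IsEffectiveAt D y := by
  obtain ⟨c, hc⟩ := h
  have ha : a.1 ∈ nonZeroDivisors (X.presheaf.stalk y) := regStalk_le_nonZeroDivisors y a.2
  have hcn : c ∈ nonZeroDivisors (X.presheaf.stalk y) := by
    rw [hc] at ha
    exact (mul_mem_nonZeroDivisors.mp ha).2
  refine ⟨⟨c, mem_regStalk_of_mem_nonZeroDivisors hreg hcn⟩, ?_⟩
  rw [hD]
  congr 1
  symm
  rw [eq_fracOf_iff, uOf_val, ← map_mul]
  change algebraMap _ _ (c * b.1) = _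
  rw [hc, mul_comm]

end Groth.Agent.H54.DivCrit
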