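import Mathlib
import Groth.Prelude.Def_MeroDiv
import Groth.Agent.H54.DivCrit

set_option autoImplicit false
universe u
open CategoryTheory CategoryTheory.Limits AlgebraicGeometry TopologicalSpace Opposite

namespace Groth.Agent.H54.DivOpen

open Mero Groth.Agent.H8 Groth.Agent.H54.MeroSec Groth.Agent.H54.DivModInv
  Groth.Agent.H54.MeroChart Groth.Agent.H54.DivFrac Groth.Agent.H54.DivCrit

variable {X : Scheme.{u}}

/-- if all regular germs at `x` are units, the group of germs of divisors at `x` is trivial -/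
theorem germ_eq_one_of_forall_isUnit {x : X}
    (h : ∀ r : X.presheaf.stalk x, r ∈ regStalk X x → IsUnit r) (γ : Germ X x) : γ = 1 := by
  obtain ⟨g, rfl⟩ := QuotientGroup.mk_surjective γ
  rw [QuotientGroup.eq_one_iff]
  have H : regStalk X x ≤ IsUnit.submonoid (X.presheaf.stalk x) := fun r hr => h r hr
  have hsurj : Function.Surjective (algebraMap (X.presheaf.stalk x) (KStalk X x)) :=
    (IsLocalization.atUnits (X.presheaf.stalk x) (regStalk X x) (S := KStalk X x) H).surjective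
  obtain ⟨u₀, hu₀⟩ := hsurj (g : KStalk X x)
  obtain ⟨v₀, hv₀⟩ := hsurj ((g⁻¹ : (KStalk X x)ˣ) : KStalk X x)
  have huv : u₀ * v₀ = 1 := by
    apply algebraMap_KStalk_injective x
    rw [map_mul, hu₀, hv₀, Units.mul_inv, map_one]
  refine ⟨Units.mkOfMulEqOne u₀ v₀ huv, ?_⟩
  apply Units.ext
  exact hu₀

/-- the locus where a divisor is trivial is open -/
theorem isOpen_setOf_eq_one (D : Divisor X) : IsOpen {x : X | D.1 x = 1} := by
  rw [isOpen_iff_forall_mem_open]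
  intro x hx
  obtain ⟨V, hxV, a, b, hab⟩ := exists_frac D x
  have h1 : (QuotientGroup.mk (fracOf (regGerm ⟨x, hxV⟩ a) (regGerm ⟨x, hxV⟩ b)) : Germ X x) = 1 :=
    (hab ⟨x, hxV⟩).symm.trans hx
  obtain ⟨u, hu⟩ := (mk_fracOf_eq_one_iff _ _).mp h1
  obtain ⟨W₁, hxW₁, ũ, hũ⟩ := X.presheaf.exists_germ_eq (u : X.presheaf.stalk x)
  let W₂ : X.Opens := V ⊓ W₁
  have hxW₂ : x ∈ W₂ := ⟨hxV, hxW₁⟩
  have hgerm : X.presheaf.germ W₂ x hxW₂ (X.presheaf.map (homOfLE (inf_le_left : W₂ ≤ V)).op a.1) =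
      X.presheaf.germ W₂ x hxW₂ (X.presheaf.map (homOfLE (inf_le_right : W₂ ≤ W₁)).op ũ *
        X.presheaf.map (homOfLE (inf_le_left : W₂ ≤ V)).op b.1) := by
    rw [map_mul, TopCat.Presheaf.germ_res_apply, TopCat.Presheaf.germ_res_apply,
      TopCat.Presheaf.germ_res_apply, hũ]
    exact hu
  obtain ⟨W₃, hxW₃, i₁, i₂, he⟩ := TopCat.Presheaf.germ_eq X.presheaf x hxW₂ hxW₂ _ _ hgerm
  have hW₃V : W₃ ≤ V := i₁.le.trans inf_le_left
  have hW₃W₁ : W₃ ≤ W₁ := i₁.le.trans inf_le_right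
  have hxb : x ∈ X.basicOpen ũ := by
    rw [X.mem_basicOpen ũ x hxW₁, hũ]
    exact u.isUnit
  refine ⟨(W₃ ⊓ X.basicOpen ũ : X.Opens), ?_, (W₃ ⊓ X.basicOpen ũ).2, ⟨hxW₃, hxb⟩⟩
  rintro y ⟨hyW₃, hyb⟩
  have hyu : IsUnit (X.presheaf.germ W₁ y (hW₃W₁ hyW₃) ũ) := (X.mem_basicOpen ũ y _).mp hyb
  have h2 := congrArg (X.presheaf.germ W₃ y hyW₃) he
  rw [TopCat.Presheaf.germ_res_apply, TopCat.Presheaf.germ_res_apply,
    TopCat.Presheaf.germ_res_apply, map_mul, TopCat.Presheaf.germ_res_apply,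
    TopCat.Presheaf.germ_res_apply] at h2
  change D.1 y = 1
  rw [hab ⟨y, hW₃V hyW₃⟩]
  apply mk_fracOf_eq_one_of_dvd
  · refine ⟨X.presheaf.germ W₁ y (hW₃W₁ hyW₃) ũ, ?_⟩
    change X.presheaf.germ V y _ a.1 = X.presheaf.germ V y _ b.1 * _
    rw [h2, mul_comm]
  · obtain ⟨v, hv⟩ := hyu.exists_left_inv
    refine ⟨v, ?_⟩
    change X.presheaf.germ V y _ b.1 = X.presheaf.germ V y _ a.1 * v
    rw [h2, mul_comm, ← mul_assoc, hv, one_mul]

end Groth.Agent.H54.DivOpen
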