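import Mathlib
import Groth.Prelude.Def_MeroDiv
import Groth.Agent.H54.DivOpen
import Groth.Agent.H54.CurveTop
import Groth.Agent.H8.MeroLoc

set_option autoImplicit false
universe u
open CategoryTheory CategoryTheory.Limits AlgebraicGeometry TopologicalSpace Opposite

namespace Groth.Agent.H54.CurveDiv

open Mero Groth.Agent.H8 Groth.Agent.H54.MeroSec Groth.Agent.H54.DivModInv
  Groth.Agent.H54.MeroChart Groth.Agent.H54.DivFrac Groth.Agent.H54.DivCrit
  Groth.Agent.H54.DivOpen Groth.Agent.H54.CurveTop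

variable {X : Scheme.{u}}

/-- the unit `a / b` of `Γ(U, K_X)` for regular sections `a`, `b` -/
noncomputable def fracSec {U : X.Opens} (a b : regSub X U) : (Γ(kmod X, U))ˣ :=
  Units.mkOfMulEqOne (toK X U a.1 * invK b) (toK X U b.1 * invK a) (by
    calc toK X U a.1 * invK b * (toK X U b.1 * invK a)
        = (toK X U a.1 * invK a) * (toK X U b.1 * invK b) := by ring
      _ = 1 := by rw [toK_mul_invK a, toK_mul_invK b, one_mul])

theorem fracSec_val {U : X.Opens} (a b : regSub X U) :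
    ((fracSec a b : (Γ(kmod X, U))ˣ) : Γ(kmod X, U)) = toK X U a.1 * invK b := rfl

theorem germOf_fracSec {U : X.Opens} (a b : regSub X U) (y : U) :
    germOf (fracSec a b) y = QuotientGroup.mk (fracOf (regGerm y a) (regGerm y b)) := by
  rw [germOf]
  congr 1
  rw [eq_fracOf_iff]
  change (toK X U a.1 * invK b).1 y * (toK X U b.1).1 y = (toK X U a.1).1 y
  rw [← kmod_mul_apply, mul_assoc, mul_comm (invK b), toK_mul_invK b, mul_one]

section Curve

variable {C : Scheme.{u}} [IsNoetherian C]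
  (hC : ∀ x : C, IsClosed ({x} : Set C) → ringKrullDim (C.presheaf.stalk x) = 1)

include hC in
theorem isUnit_of_not_isClosed {x : C} (hx : ¬ IsClosed ({x} : Set C))
    {r : C.presheaf.stalk x} (hr : r ∈ nonZeroDivisors (C.presheaf.stalk x)) : IsUnit r :=
  isUnit_of_mem_nonZeroDivisors_of_forall_eq
    (fun _ hy => eq_of_specializes_of_not_isClosed hC hx hy) hr

include hC in
theorem germ_eq_one_of_not_isClosed {x : C} (hx : ¬ IsClosed ({x} : Set C)) (γ : Germ C x) :
    γ = 1 :=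
  germ_eq_one_of_forall_isUnit
    (fun _ hr => isUnit_of_not_isClosed hC hx (regStalk_le_nonZeroDivisors x hr)) γ

include hC in
theorem finite_supp (D : Divisor C) : (Mero.supp D).Finite := by
  apply finite_of_isClosed_of_forall_isClosed_singleton
  · have h := isOpen_setOf_eq_one D
    have e : Mero.supp D = {x : C | D.1 x = 1}ᶜ := rfl
    rw [e]
    exact h.isClosed_compl
  · intro x hx
    by_contra hnc
    exact hx (germ_eq_one_of_not_isClosed hC hnc _)

/-- a finite set of closed points is closed -/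
theorem isClosed_of_finite_of_forall {α : Type*} [TopologicalSpace α] {F : Set α} (hF : F.Finite)
    (h : ∀ z ∈ F, IsClosed ({z} : Set α)) : IsClosed F := by
  have := hF.isClosed_biUnion h
  rwa [Set.biUnion_of_singleton] at this

include hC in
set_option maxHeartbeats 1000000 in
theorem mem_divisorGroup_of_finite (g : ∀ x : C, Germ C x) (hfin : {x : C | g x ≠ 1}.Finite)
    (hnc : ∀ x : C, ¬ IsClosed ({x} : Set C) → g x = 1) : g ∈ divisorGroup C := by
  intro x
  -- the closed set of other points of the support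
  have hF'closed : IsClosed ({z : C | g z ≠ 1} \ {x}) := by
    apply isClosed_of_finite_of_forall (hfin.subset Set.sdiff_subset)
    intro z hz
    by_contra hzc
    exact hz.1 (hnc z hzc)
  let W₀ : C.Opens := ⟨({z : C | g z ≠ 1} \ {x})ᶜ, hF'closed.isOpen_compl⟩
  have hxW₀ : x ∈ W₀ := fun h => h.2 rfl
  -- a representative of the germ at `x`
  obtain ⟨h, hh⟩ := QuotientGroup.mk_surjective (g x)
  obtain ⟨a₀, s, hmk⟩ := IsLocalization.exists_mk'_eq (regStalk C x) (h : KStalk C x)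
  have hspec : (h : KStalk C x) * algebraMap (C.presheaf.stalk x) (KStalk C x) s.1 =
      algebraMap (C.presheaf.stalk x) (KStalk C x) a₀ := by
    rw [← hmk]; exact IsLocalization.mk'_spec _ _ _
  have ha₀nzd : a₀ ∈ nonZeroDivisors (C.presheaf.stalk x) := by
    rw [mem_nonZeroDivisors_iff_right]
    intro z hz
    have h1 : (h : KStalk C x) * algebraMap (C.presheaf.stalk x) (KStalk C x) (z * s.1) = 0 := by
      rw [map_mul, mul_comm (algebraMap _ _ z), ← mul_assoc, hspec, ← map_mul, mul_comm, hz,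
        map_zero]
    have h2 : algebraMap (C.presheaf.stalk x) (KStalk C x) (z * s.1) = 0 :=
      (h.isUnit.mul_right_eq_zero).mp h1
    have h3 : z * s.1 = 0 := by
      apply algebraMap_KStalk_injective x
      rw [h2, map_zero]
    exact (mem_nonZeroDivisors_iff_right.mp (regStalk_le_nonZeroDivisors x s.2)) z h3
  obtain ⟨W₁, hxW₁, a, ha, haa₀⟩ :=
    mem_regStalk_of_mem_nonZeroDivisors (regExt_of_isLocallyNoetherian C) ha₀nzd
  obtain ⟨W₂, hxW₂, b, hb, hbs⟩ := s.2
  let W : C.Opens := W₁ ⊓ W₂ ⊓ W₀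
  have hWW₁ : W ≤ W₁ := inf_le_left.trans inf_le_left
  have hWW₂ : W ≤ W₂ := inf_le_left.trans inf_le_right
  have hWW₀ : W ≤ W₀ := inf_le_right
  have hxW : x ∈ W := ⟨⟨hxW₁, hxW₂⟩, hxW₀⟩
  -- the bad set in `W`
  let T' : Set W := {y | ¬ (IsUnit (C.presheaf.germ W₁ y.1 (hWW₁ y.2) a) ∧
    IsUnit (C.presheaf.germ W₂ y.1 (hWW₂ y.2) b))}
  have hT'closed : IsClosed T' := by
    have hopen : IsOpen (Subtype.val ⁻¹' ((C.basicOpen a ⊓ C.basicOpen b : C.Opens) : Set C) :
        Set W) := (C.basicOpen a ⊓ C.basicOpen b).2.preimage continuous_subtype_val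
    have e : T' = (Subtype.val ⁻¹' ((C.basicOpen a ⊓ C.basicOpen b : C.Opens) : Set C) : Set W)ᶜ := by
      ext y
      change ¬ _ ↔ ¬ (y.1 ∈ C.basicOpen a ∧ y.1 ∈ C.basicOpen b)
      rw [C.mem_basicOpen a y.1 (hWW₁ y.2), C.mem_basicOpen b y.1 (hWW₂ y.2)]
    rw [e]
    exact hopen.isClosed_compl
  have hT'pt : ∀ y ∈ T', IsClosed ({y.1} : Set C) := by
    intro y hy
    by_contra hyc
    apply hy
    exact ⟨isUnit_of_not_isClosed hC hyc (ha ⟨y.1, hWW₁ y.2⟩),
      isUnit_of_not_isClosed hC hyc (hb ⟨y.1, hWW₂ y.2⟩)⟩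
  haveI : QuasiSober W := W.isOpenEmbedding'.quasiSober
  haveI : NoetherianSpace C := IsNoetherian.noetherianSpace
  haveI : NoetherianSpace W := NoetherianSpace.set (W : Set C)
  have hT'fin : T'.Finite := by
    apply finite_of_isClosed_of_forall_isClosed_singleton hT'closed
    intro y hy
    have h1 := (hT'pt y hy).preimage (continuous_subtype_val (p := fun z => z ∈ W))
    have e : (Subtype.val ⁻¹' ({y.1} : Set C) : Set W) = {y} := by
      ext z
      exact ⟨fun hz => Subtype.ext hz, fun hz => congrArg Subtype.val hz⟩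
    rw [← e]
    exact h1
  let T : Set C := Subtype.val '' T'
  have hTclosed : IsClosed (T \ {x}) := by
    apply isClosed_of_finite_of_forall ((hT'fin.image _).subset Set.sdiff_subset)
    rintro z ⟨⟨y, hy, rfl⟩, -⟩
    exact hT'pt y hy
  let W' : C.Opens := W ⊓ ⟨(T \ {x})ᶜ, hTclosed.isOpen_compl⟩
  have hW'W : W' ≤ W := inf_le_left
  have hxW' : x ∈ W' := ⟨hxW, fun h => h.2 rfl⟩
  let a' : regSub C W' := ⟨C.presheaf.map (homOfLE (hW'W.trans hWW₁)).op a,
    regSub_res (homOfLE (hW'W.trans hWW₁)) ha⟩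
  let b' : regSub C W' := ⟨C.presheaf.map (homOfLE (hW'W.trans hWW₂)).op b,
    regSub_res (homOfLE (hW'W.trans hWW₂)) hb⟩
  have hga : ∀ y : W', C.presheaf.germ W' y.1 y.2 a'.1 =
      C.presheaf.germ W₁ y.1 (hWW₁ (hW'W y.2)) a := fun y =>
    TopCat.Presheaf.germ_res_apply C.presheaf (homOfLE (hW'W.trans hWW₁)) y.1 y.2 a
  have hgb : ∀ y : W', C.presheaf.germ W' y.1 y.2 b'.1 =
      C.presheaf.germ W₂ y.1 (hWW₂ (hW'W y.2)) b := fun y =>
    TopCat.Presheaf.germ_res_apply C.presheaf (homOfLE (hW'W.trans hWW₂)) y.1 y.2 b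
  refine ⟨W', hxW', fracSec a' b', fun y => ?_⟩
  rw [germOf_fracSec]
  by_cases hyx : y.1 = x
  · obtain ⟨y, hy⟩ := y
    change y = x at hyx
    subst hyx
    rw [← hh]
    congr 1
    rw [eq_fracOf_iff]
    change (h : KStalk C y) * algebraMap _ _ (C.presheaf.germ W' y hy b'.1) =
      algebraMap _ _ (C.presheaf.germ W' y hy a'.1)
    rw [hga ⟨y, hy⟩, hgb ⟨y, hy⟩, haa₀, hbs]
    exact hspec
  · have hgy : g y.1 = 1 := by
      by_contra hne
      exact (hWW₀ (hW'W y.2)) ⟨hne, hyx⟩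
    rw [hgy]
    symm
    have hyT : ¬ (⟨y.1, hW'W y.2⟩ : W) ∈ T' := by
      intro hmem
      exact y.2.2 ⟨⟨⟨y.1, hW'W y.2⟩, hmem, rfl⟩, hyx⟩
    have hunits : IsUnit (C.presheaf.germ W₁ y.1 (hWW₁ (hW'W y.2)) a) ∧
        IsUnit (C.presheaf.germ W₂ y.1 (hWW₂ (hW'W y.2)) b) := not_not.mp hyT
    apply mk_fracOf_eq_one_of_dvd
    · change C.presheaf.germ W' y.1 y.2 b'.1 ∣ _
      rw [hgb y]
      exact hunits.2.dvd
    · change C.presheaf.germ W' y.1 y.2 a'.1 ∣ _
      rw [hga y]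
      exact hunits.1.dvd

include hC in
theorem mem_divisorGroup_iff (g : ∀ x : C, Germ C x) :
    g ∈ divisorGroup C ↔
      ({x : C | g x ≠ 1}.Finite ∧ ∀ x : C, ¬ IsClosed ({x} : Set C) → g x = 1) := by
  constructor
  · intro hg
    exact ⟨finite_supp hC ⟨g, hg⟩, fun x hx => germ_eq_one_of_not_isClosed hC hx _⟩
  · rintro ⟨hfin, hnc⟩
    exact mem_divisorGroup_of_finite hC g hfin hnc

theorem uOf_one (x : X) : uOf (1 : regStalk X x) = 1 := by
  apply Units.ext
  rw [uOf_val]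
  exact map_one _

open scoped Classical in
include hC in
theorem exists_effective_decomp (D : Divisor C) :
    ∃ D₁ D₂ : Divisor C, IsEffective D₁ ∧ IsEffective D₂ ∧ D = D₁ * D₂⁻¹ ∧
      Mero.supp D₁ ⊆ Mero.supp D ∧ Mero.supp D₂ ⊆ Mero.supp D := by
  have hrep : ∀ x : C, ∃ a b : regStalk C x, D.1 x = QuotientGroup.mk (fracOf a b) := by
    intro x
    obtain ⟨V, hxV, a, b, hab⟩ := exists_frac D x
    exact ⟨regGerm ⟨x, hxV⟩ a, regGerm ⟨x, hxV⟩ b, hab ⟨x, hxV⟩⟩
  choose a b hab using hrep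
  let g₁ : ∀ x : C, Germ C x := fun x => if D.1 x = 1 then 1 else QuotientGroup.mk (uOf (a x))
  let g₂ : ∀ x : C, Germ C x := fun x => if D.1 x = 1 then 1 else QuotientGroup.mk (uOf (b x))
  have hs₁ : ∀ x : C, g₁ x ≠ 1 → D.1 x ≠ 1 := by
    intro x hx h1
    apply hx
    change (if D.1 x = 1 then 1 else _) = _
    rw [if_pos h1]
  have hs₂ : ∀ x : C, g₂ x ≠ 1 → D.1 x ≠ 1 := by
    intro x hx h1
    apply hx
    change (if D.1 x = 1 then 1 else _) = _
    rw [if_pos h1]
  have hfinD := finite_supp hC D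
  have hg₁ : g₁ ∈ divisorGroup C :=
    (mem_divisorGroup_iff hC g₁).mpr ⟨hfinD.subset hs₁,
      fun x hx => germ_eq_one_of_not_isClosed hC hx _⟩
  have hg₂ : g₂ ∈ divisorGroup C :=
    (mem_divisorGroup_iff hC g₂).mpr ⟨hfinD.subset hs₂,
      fun x hx => germ_eq_one_of_not_isClosed hC hx _⟩
  refine ⟨⟨g₁, hg₁⟩, ⟨g₂, hg₂⟩, ?_, ?_, ?_, hs₁, hs₂⟩
  · intro x
    by_cases h1 : D.1 x = 1
    · refine ⟨1, ?_⟩
      change (if D.1 x = 1 then 1 else _) = _
      rw [if_pos h1]
      change _ = QuotientGroup.mk (uOf (1 : regStalk C x))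
      rw [uOf_one, QuotientGroup.mk_one]
    · refine ⟨a x, ?_⟩
      change (if D.1 x = 1 then 1 else _) = _
      rw [if_neg h1]
  · intro x
    by_cases h1 : D.1 x = 1
    · refine ⟨1, ?_⟩
      change (if D.1 x = 1 then 1 else _) = _
      rw [if_pos h1]
      change _ = QuotientGroup.mk (uOf (1 : regStalk C x))
      rw [uOf_one, QuotientGroup.mk_one]
    · refine ⟨b x, ?_⟩
      change (if D.1 x = 1 then 1 else _) = _
      rw [if_neg h1]
  · apply Subtype.ext
    funext x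
    change D.1 x = g₁ x * (g₂ x)⁻¹
    by_cases h1 : D.1 x = 1
    · change _ = (if D.1 x = 1 then 1 else _) * (if D.1 x = 1 then 1 else _)⁻¹
      rw [if_pos h1, if_pos h1, h1, inv_one]
      exact (mul_one (1 : Germ C x)).symm
    · change _ = (if D.1 x = 1 then 1 else _) * (if D.1 x = 1 then 1 else _)⁻¹
      rw [if_neg h1, if_neg h1, hab x]
      rfl

end Curve

end Groth.Agent.H54.CurveDiv
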