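import Mathlib
import Groth.Prelude.Def_MeroDiv
import Groth.Agent.H54.CurveDiv
import Groth.Agent.H8.StructAss

set_option autoImplicit false
universe u
open CategoryTheory CategoryTheory.Limits AlgebraicGeometry TopologicalSpace Opposite

namespace Groth.Agent.H54.CurveEff

open Mero Groth.Agent.H8 Groth.Agent.H54.MeroSec Groth.Agent.H54.DivModInv
  Groth.Agent.H54.MeroChart Groth.Agent.H54.DivFrac Groth.Agent.H54.DivCrit
  Groth.Agent.H54.DivOpen Groth.Agent.H54.CurveTop Groth.Agent.H54.CurveDiv Curv2 IsLocalRing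

/-- a Noetherian local ring whose maximal ideal is not associated has a regular nonunit -/
theorem exists_regular_of_not_assoc {R : Type*} [CommRing R] [IsLocalRing R] [IsNoetherianRing R]
    (h : ¬ IsAssociatedPrime (maximalIdeal R) R) :
    ∃ t ∈ maximalIdeal R, t ∈ nonZeroDivisors R := by
  by_contra hcon
  push Not at hcon
  obtain ⟨Ia, hIa⟩ := associatedPrimes.nonempty R R
  have hex : ∃ p ∈ associatedPrimes R R, maximalIdeal R ≤ p := by
    apply (Ideal.subset_union_prime_finite (associatedPrimes.finite R R) Ia Ia _).mp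
    · rw [biUnion_associatedPrimes_eq_compl_regular R R]
      intro r hr hreg
      apply hcon r hr
      rw [mem_nonZeroDivisors_iff_right]
      intro z hz
      apply hreg
      change r * z = r * 0
      rw [mul_zero, mul_comm]
      exact hz
    · exact fun I hin _ _ => IsAssociatedPrime.isPrime hin
  obtain ⟨p, hp, hle⟩ := hex
  have hpp : p.IsPrime := IsAssociatedPrime.isPrime hp
  have e : maximalIdeal R = p := (maximalIdeal.isMaximal R).eq_of_le hpp.ne_top hle
  apply h
  rw [e]
  exact hp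

variable {X : Scheme.{u}}

/-- on a Noetherian scheme, finitely many points have an associated maximal ideal -/
theorem finite_assoc [IsNoetherian X] :
    {y : X | IsAssociatedPrime (maximalIdeal (X.presheaf.stalk y)) (X.presheaf.stalk y)}.Finite := by
  have hcov : ∀ x : X, ∃ U : X.Opens, IsAffineOpen U ∧ x ∈ U := by
    intro x
    obtain ⟨_, ⟨U, hU, rfl⟩, hxU, -⟩ :=
      X.isBasis_affineOpens.exists_subset_of_mem_open (Set.mem_univ x) isOpen_univ
    exact ⟨U, hU, hxU⟩
  choose U hU hxU using hcov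
  obtain ⟨t, ht⟩ := isCompact_univ.elim_finite_subcover (fun x => (U x : Set X))
    (fun x => (U x).2) (fun x _ => Set.mem_iUnion.mpr ⟨x, hxU x⟩)
  have hfin : (⋃ x ∈ t, {y : X | y ∈ U x ∧ IsWeakAssPoint (Coh.structureModule X) y}).Finite := by
    apply Set.Finite.biUnion t.finite_toSet
    intro x _
    haveI : IsNoetherianRing Γ(X, U x) := IsLocallyNoetherian.component_noetherian ⟨U x, hU x⟩
    exact finite_weakAssPoints_structure (hU x)
  refine hfin.subset fun y hy => ?_
  have hyU := ht (Set.mem_univ y)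
  rw [Set.mem_iUnion₂] at hyU
  obtain ⟨x, hxt, hyx⟩ := hyU
  rw [Set.mem_iUnion₂]
  exact ⟨x, hxt, hyx, (isWeakAssPoint_structure_iff y).mpr hy⟩

section Curve

variable {C : Scheme.{u}} [IsNoetherian C]
  (hC : ∀ x : C, IsClosed ({x} : Set C) → ringKrullDim (C.presheaf.stalk x) = 1)

include hC in
theorem exists_good_point (hpt : ∀ x : C, ¬ IsOpen ({x} : Set C)) (U : C.Opens)
    (hU : Dense (U : Set C)) (Z : Set C) (hZ : Z ∈ irreducibleComponents (C : Type u)) :
    ∃ z : C, z ∈ U ∧ z ∈ Z ∧ IsClosed ({z} : Set C) ∧ ∃ t : regStalk C z, ¬ IsUnit t.1 := by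
  haveI : NoetherianSpace C := IsNoetherian.noetherianSpace
  obtain ⟨o, ho, hone, hoZ⟩ :=
    NoetherianSpace.exists_isOpen_nonempty_subset_irreducibleComponent Z hZ
  have hZirr : IsIrreducible Z := hZ.1
  have hZcl : IsClosed Z := isClosed_of_mem_irreducibleComponents Z hZ
  obtain ⟨η, hη⟩ := QuasiSober.sober hZirr hZcl
  -- the finite closed set of bad closed points
  let Acl : Set C := {y : C | IsClosed ({y} : Set C) ∧
    IsAssociatedPrime (maximalIdeal (C.presheaf.stalk y)) (C.presheaf.stalk y)}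
  have hAfin : Acl.Finite := finite_assoc.subset fun y hy => hy.2
  have hsubcl : ∀ S : Set C, S ⊆ Acl → IsClosed S := fun S hS =>
    isClosed_of_finite_of_forall (hAfin.subset hS) fun z hz => (hS hz).1
  have hOopen : IsOpen (o ∩ (U : Set C)) := ho.inter U.2
  have hOne : (o ∩ (U : Set C)).Nonempty := hU.inter_open_nonempty o ho hone |>.imp fun _ h => h
  have hO'open : IsOpen ((o ∩ (U : Set C)) \ Acl) := hOopen.sdiff (hsubcl Acl subset_rfl)
  have hO'ne : ((o ∩ (U : Set C)) \ Acl).Nonempty := by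
    by_contra hemp
    rw [Set.not_nonempty_iff_eq_empty, Set.sdiff_eq_empty] at hemp
    obtain ⟨x, hx⟩ := hOne
    apply hpt x
    have e : ({x} : Set C) = (o ∩ (U : Set C)) \ (Acl \ {x}) := by
      ext y
      constructor
      · rintro rfl
        exact ⟨hx, fun h => h.2 rfl⟩
      · rintro ⟨hy, hny⟩
        by_contra hyx
        exact hny ⟨hemp hy, hyx⟩
    rw [e]
    exact hOopen.sdiff (hsubcl _ Set.sdiff_subset)
  have hex : ∃ z ∈ (o ∩ (U : Set C)) \ Acl, z ≠ η := by
    by_contra hcon
    push Not at hcon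
    obtain ⟨y, hy⟩ := hO'ne
    apply hpt η
    have e : ({η} : Set C) = (o ∩ (U : Set C)) \ Acl := by
      ext z
      constructor
      · rintro rfl
        rw [← hcon y hy]
        exact hy
      · intro hz
        exact hcon z hz
    rw [e]
    exact hO'open
  obtain ⟨z, ⟨⟨hzo, hzU⟩, hzA⟩, hzη⟩ := hex
  have hzZ : z ∈ Z := hoZ hzo
  have hηz : η ⤳ z := by
    rw [specializes_iff_mem_closure, hη.def]
    exact hzZ
  have hzcl : IsClosed ({z} : Set C) := by
    by_contra hnc
    exact hzη (eq_of_specializes_of_not_isClosed hC hnc hηz).symm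
  have hnass : ¬ IsAssociatedPrime (maximalIdeal (C.presheaf.stalk z)) (C.presheaf.stalk z) :=
    fun h => hzA ⟨hzcl, h⟩
  obtain ⟨t, htm, htreg⟩ := exists_regular_of_not_assoc hnass
  exact ⟨z, hzU, hzZ, hzcl,
    ⟨t, mem_regStalk_of_mem_nonZeroDivisors (regExt_of_isLocallyNoetherian C) htreg⟩, htm⟩

theorem isUnit_of_mk_uOf_eq_one {x : X} (t : regStalk X x)
    (h : (QuotientGroup.mk (uOf t) : Germ X x) = 1) : IsUnit t.1 := by
  rw [QuotientGroup.eq_one_iff] at h
  obtain ⟨u, hu⟩ := h
  have h1 : algebraMap (X.presheaf.stalk x) (KStalk X x) (u : X.presheaf.stalk x) =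
      algebraMap (X.presheaf.stalk x) (KStalk X x) t.1 := congrArg Units.val hu
  rw [← algebraMap_KStalk_injective x h1]
  exact u.isUnit

open scoped Classical in
include hC in
theorem exists_effective (hpt : ∀ x : C, ¬ IsOpen ({x} : Set C)) (U : C.Opens)
    (hU : Dense (U : Set C)) :
    ∃ D : Divisor C, IsEffective D ∧ Mero.supp D ⊆ (U : Set C) ∧
      ∀ Z ∈ irreducibleComponents (C : Type u), (Mero.supp D ∩ Z).Nonempty := by
  haveI : NoetherianSpace C := IsNoetherian.noetherianSpace
  have hgood := fun Z hZ => exists_good_point hC hpt U hU Z hZ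
  choose zf hzU hzZ hzcl ht using hgood
  let P : Set C := Set.range fun Z : irreducibleComponents (C : Type u) => zf Z.1 Z.2
  have hPfin : P.Finite := by
    haveI : Finite (irreducibleComponents (C : Type u)) :=
      (NoetherianSpace.finite_irreducibleComponents).to_subtype
    exact Set.finite_range _
  have hPgood : ∀ x ∈ P, x ∈ U ∧ IsClosed ({x} : Set C) ∧ ∃ t : regStalk C x, ¬ IsUnit t.1 := by
    rintro _ ⟨Z, rfl⟩
    exact ⟨hzU Z.1 Z.2, hzcl Z.1 Z.2, ht Z.1 Z.2⟩
  let g : ∀ x : C, Germ C x := fun x =>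
    if h : x ∈ P then QuotientGroup.mk (uOf (hPgood x h).2.2.choose) else 1
  have hsupp : ∀ x : C, g x ≠ 1 → x ∈ P := by
    intro x hx
    by_contra hxP
    apply hx
    change (if h : x ∈ P then _ else _) = _
    rw [dif_neg hxP]
  have hg : g ∈ divisorGroup C :=
    (mem_divisorGroup_iff hC g).mpr ⟨hPfin.subset hsupp,
      fun x hx => germ_eq_one_of_not_isClosed hC hx _⟩
  refine ⟨⟨g, hg⟩, ?_, ?_, ?_⟩
  · intro x
    by_cases hxP : x ∈ P
    · refine ⟨(hPgood x hxP).2.2.choose, ?_⟩
      change (if h : x ∈ P then _ else _) = _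
      rw [dif_pos hxP]
    · refine ⟨1, ?_⟩
      change (if h : x ∈ P then _ else _) = _
      rw [dif_neg hxP]
      change _ = QuotientGroup.mk (uOf (1 : regStalk C x))
      rw [uOf_one, QuotientGroup.mk_one]
  · intro x hx
    exact (hPgood x (hsupp x hx)).1
  · intro Z hZ
    have hxP : zf Z hZ ∈ P := ⟨⟨Z, hZ⟩, rfl⟩
    refine ⟨zf Z hZ, ?_, hzZ Z hZ⟩
    change g (zf Z hZ) ≠ 1
    intro h1
    change (if h : zf Z hZ ∈ P then _ else _) = _ at h1
    rw [dif_pos hxP] at h1
    exact (hPgood (zf Z hZ) hxP).2.2.choose_spec (isUnit_of_mk_uOf_eq_one _ h1)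

end Curve

end Groth.Agent.H54.CurveEff
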