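import Groth.Agent.H54.DiscGlue2
import Groth.Agent.H54.DiscLocal
import Groth.Agent.H54.AlliedIff
import Groth.Agent.H67.GlobGenPointwise
import Groth.Agent.S1640

/-!
helper54: a globally generated invertible module with prescribed locus of generation of a
section, on an integral separated scheme, for the complement of finitely many points with
one-dimensional Noetherian local rings.
-/

set_option autoImplicit false
set_option linter.style.haveILetI false
universe u
open CategoryTheory CategoryTheory.Limits AlgebraicGeometry TopologicalSpace Opposite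

namespace Groth.Agent.H54.CurveGG

open Groth.Agent.H18 Groth.Agent.H18.PUP Groth.Agent.H18.STL

section Top

/-- a finite subset without nontrivial specializations between its points is discrete -/
theorem discreteTopology_of_finite_of_no_specializes {T : Type*} [TopologicalSpace T] (Z : Set T)
    (hZ : Z.Finite) (hspec : ∀ x ∈ Z, ∀ x' ∈ Z, x' ⤳ x → x' = x) : DiscreteTopology ↥Z := by
  rw [discreteTopology_iff_isOpen_singleton]
  rintro ⟨x, hx⟩
  let C : Set T := ⋃ x' ∈ (Z \ {x}), closure {x'}
  have hC : IsClosed C :=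
    (hZ.subset Set.sdiff_subset).isClosed_biUnion (fun _ _ => isClosed_closure)
  have hxC : x ∉ C := by
    intro hmem
    obtain ⟨x', hx', hmem'⟩ := Set.mem_iUnion₂.mp hmem
    exact hx'.2 (hspec x hx x' hx'.1 (specializes_iff_mem_closure.mpr hmem'))
  refine isOpen_induced_iff.mpr ⟨Cᶜ, hC.isOpen_compl, ?_⟩
  ext ⟨w, hw⟩
  simp only [Set.mem_preimage, Set.mem_compl_iff, Set.mem_singleton_iff, Subtype.mk.injEq]
  constructor
  · intro hwC
    by_contra hne
    exact hwC (Set.mem_iUnion₂.mpr ⟨w, ⟨hw, hne⟩, subset_closure rfl⟩)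
  · rintro rfl
    exact hxC

end Top

section Spec
variable {X : Scheme.{u}} [IsIntegral X]

/-- the generic point lies in every nonempty open -/
theorem genericPoint_mem (U : X.Opens) (hne : (U : Set X).Nonempty) : genericPoint X ∈ U :=
  ((genericPoint_spec X).mem_open_set_iff U.isOpen).mpr (by
    obtain ⟨x, hx⟩ := hne
    exact ⟨x, trivial, hx⟩)

/-- no specializations between distinct points outside `U` with one-dimensional local rings -/
theorem eq_of_specializes (U : X.Opens) (hne : (U : Set X).Nonempty) {x x' : X}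
    (hdim : ringKrullDim (X.presheaf.stalk x) ≤ 1) (hx' : x' ∉ U) (h : x' ⤳ x) : x' = x := by
  have hmem : x' ∈ Set.range (X.fromSpecStalk x) := by
    rw [Scheme.range_fromSpecStalk]; exact h
  obtain ⟨q₁, hq₁⟩ := hmem
  have hηx : genericPoint X ⤳ x := (genericPoint_spec X).specializes trivial
  have hmemη : genericPoint X ∈ Set.range (X.fromSpecStalk x) := by
    rw [Scheme.range_fromSpecStalk]; exact hηx
  obtain ⟨qη, hqη⟩ := hmemη
  have hK : Ring.KrullDimLE 1 (X.presheaf.stalk x) := Ring.krullDimLE_iff.mpr hdim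
  have hmax := Ring.krullDimLE_one_iff_of_noZeroDivisors.mp hK q₁.asIdeal
  by_cases hbot : q₁.asIdeal = ⊥
  · -- then `x'` is the generic point
    exfalso
    have h1 : q₁ ⤳ qη := by
      refine (PrimeSpectrum.le_iff_specializes (R := X.presheaf.stalk x) q₁ qη).mp ?_
      change q₁.asIdeal ≤ qη.asIdeal
      rw [hbot]
      exact bot_le
    have h2 : x' ⤳ genericPoint X := by
      rw [← hq₁, ← hqη]
      exact h1.map (X.fromSpecStalk x).continuous
    have h3 : genericPoint X ⤳ x' := (genericPoint_spec X).specializes trivial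
    have h4 : x' = genericPoint X := (h2.antisymm h3).eq
    exact hx' (h4 ▸ genericPoint_mem U hne)
  · have h1 : q₁.asIdeal.IsMaximal := hmax hbot q₁.isPrime
    have h2 : q₁.asIdeal = IsLocalRing.maximalIdeal _ := IsLocalRing.eq_maximalIdeal h1
    have h3 : q₁ = IsLocalRing.closedPoint (X.presheaf.stalk x) := PrimeSpectrum.ext h2
    rw [← hq₁, h3, Scheme.fromSpecStalk_closedPoint]

end Spec

section Alg

/-- in a one-dimensional local domain every element of the fraction field is a fraction with
denominator a power of a given nonzero nonunit -/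
theorem exists_mul_pow_eq (R K : Type*) [CommRing R] [IsDomain R] [IsLocalRing R] [Field K]
    [Algebra R K] [IsFractionRing R K] (hdim : Ring.KrullDimLE 1 R) (t₀ : R)
    (ht₀ : t₀ ∈ IsLocalRing.maximalIdeal R) (f : K) :
    ∃ (b : R) (n : ℕ), f * algebraMap R K t₀ ^ n = algebraMap R K b := by
  obtain ⟨a, b, hb, rfl⟩ := IsFractionRing.div_surjective (A := R) f
  have hb0 : b ≠ 0 := nonZeroDivisors.ne_zero hb
  have hrad : t₀ ∈ (Ideal.span {b}).radical := by
    rw [Ideal.radical_eq_sInf]
    refine Submodule.mem_sInf.mpr ?_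
    rintro J ⟨hJ, hJp⟩
    have hJb : J ≠ ⊥ := by
      rintro rfl
      exact hb0 (by simpa using hJ (Ideal.mem_span_singleton_self b))
    have hmax := Ring.krullDimLE_one_iff_of_noZeroDivisors.mp hdim J hJb hJp
    rw [IsLocalRing.eq_maximalIdeal hmax]
    exact ht₀
  obtain ⟨n, hn⟩ := hrad
  obtain ⟨c, hc⟩ := Ideal.mem_span_singleton'.mp hn
  refine ⟨a * c, n, ?_⟩
  have hb' : algebraMap R K b ≠ 0 := by
    intro h
    exact hb0 ((IsFractionRing.injective R K) (by rw [h, map_zero]))
  rw [← map_pow, ← hc, map_mul, map_mul]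
  field_simp

end Alg

section RangeAlg
variable {R K : Type*} [CommRing R] [Field K] (φ : R →+* K)

theorem isFractionRing_range (h : ∀ z : K, ∃ x y, z = φ x / φ y) : IsFractionRing φ.range K := by
  apply IsFractionRing.of_field
  intro z
  obtain ⟨x, y, rfl⟩ := h z
  exact ⟨⟨φ x, x, rfl⟩, ⟨φ y, y, rfl⟩, rfl⟩

/-- an injective ring homomorphism is an isomorphism onto its range -/
noncomputable def rangeEquiv (hφ : Function.Injective φ) : R ≃+* φ.range :=
  RingEquiv.ofBijective φ.rangeRestrict
    ⟨fun _ _ h => hφ (congrArg Subtype.val h), φ.rangeRestrict_surjective⟩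

theorem rangeEquiv_apply (hφ : Function.Injective φ) (a : R) :
    ((rangeEquiv φ hφ a : φ.range) : K) = φ a := rfl

theorem finite_maximalSpectrum_of_isLocalRing (S : Type*) [CommRing S] [IsLocalRing S] :
    Finite (MaximalSpectrum S) := by
  haveI : Subsingleton (MaximalSpectrum S) := ⟨fun m m' => MaximalSpectrum.ext
    ((IsLocalRing.eq_maximalIdeal m.isMaximal).trans (IsLocalRing.eq_maximalIdeal m'.isMaximal).symm)⟩
  exact Finite.of_subsingleton

end RangeAlg

section Sup
variable {X : Scheme.{u}} [IsIntegral X]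

/-- the subring of the function field of germs of sections over `U` -/
noncomputable def subA (U : X.Opens) (hne : (U : Set X).Nonempty) : Subring X.functionField :=
  (X.presheaf.germ U (genericPoint X) (genericPoint_mem U hne)).hom.range

/-- the local ring at `x` as a subring of the function field -/
noncomputable def subB (x : X) : Subring X.functionField :=
  (algebraMap (X.presheaf.stalk x) X.functionField).range

theorem germ_mem_subA (U : X.Opens) (hne : (U : Set X).Nonempty) {W : X.Opens} (hWU : W ≤ U)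
    (hW : genericPoint X ∈ W) (a : Γ(X, U)) :
    X.presheaf.germ W (genericPoint X) hW (X.presheaf.map (homOfLE hWU).op a) ∈ subA U hne := by
  rw [X.presheaf.germ_res_apply]
  exact ⟨a, rfl⟩

theorem algebraMap_germ (x : X) {O : X.Opens} (hxO : x ∈ O) (hO : genericPoint X ∈ O) (b : Γ(X, O)) :
    algebraMap (X.presheaf.stalk x) X.functionField (X.presheaf.germ O x hxO b) =
      X.presheaf.germ O (genericPoint X) hO b := by
  haveI : Nonempty O := ⟨⟨x, hxO⟩⟩
  exact Scheme.algebraMap_germ_eq_germToFunctionField X hxO b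

theorem germ_mem_subB (x : X) {O W : X.Opens} (hxO : x ∈ O) (hWO : W ≤ O)
    (hW : genericPoint X ∈ W) (b : Γ(X, O)) :
    X.presheaf.germ W (genericPoint X) hW (X.presheaf.map (homOfLE hWO).op b) ∈ subB x := by
  rw [X.presheaf.germ_res_apply]
  exact ⟨X.presheaf.germ O x hxO b, algebraMap_germ x hxO (hWO hW) b⟩

variable [X.IsSeparated]

theorem sup_eq_top (U : X.Opens) (hU : IsAffineOpen U) (hne : (U : Set X).Nonempty)
    (hdisc : DiscreteTopology ↥((U : Set X)ᶜ)) {x : X} (hx : x ∉ U)
    [IsNoetherianRing (X.presheaf.stalk x)] (hdim : ringKrullDim (X.presheaf.stalk x) ≤ 1) :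
    subA U hne ⊔ subB x = ⊤ := by
  haveI : IsAffine ↑U := hU
  obtain ⟨O, t, hO, hxO, -, hbo⟩ := DiscLocal.exists_affine_nhd_basicOpen U hdisc hx hdim
  have hη : genericPoint X ∈ U := genericPoint_mem U hne
  have hηO : genericPoint X ∈ O := genericPoint_mem O ⟨x, hxO⟩
  have hηW : genericPoint X ∈ U ⊓ O := ⟨hη, hηO⟩
  obtain ⟨-, hgen⟩ := isAffineOpen_inf_and_genSubring_eq_top (alliedCond_of_isSeparated) hU hO
  -- all germs of sections over `U ⊓ O` lie in the join
  have hall : ∀ c : Γ(X, U ⊓ O),
      X.presheaf.germ (U ⊓ O) (genericPoint X) hηW c ∈ subA U hne ⊔ subB x := by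
    intro c
    have hc : c ∈ genSubring U O := by rw [hgen]; trivial
    unfold genSubring at hc
    induction hc using Subring.closure_induction with
    | mem c hc =>
      rcases hc with ⟨a, rfl⟩ | ⟨b, rfl⟩
      · exact (le_sup_left : subA U hne ≤ _) (germ_mem_subA U hne inf_le_left hηW a)
      · exact (le_sup_right : subB x ≤ _) (germ_mem_subB x hxO inf_le_right hηW b)
    | zero => rw [map_zero]; exact zero_mem _
    | one => rw [map_one]; exact one_mem _
    | add c d _ _ hc hd => rw [map_add]; exact add_mem hc hd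
    | neg c _ hc => rw [map_neg]; exact neg_mem hc
    | mul c d _ _ hc hd => rw [map_mul]; exact mul_mem hc hd
  -- the inverse of `t`
  have hunit : IsUnit (rres X (inf_le_right : U ⊓ O ≤ O) t) :=
    (isUnit_res_iff_le_basicOpen inf_le_right t).2 (by rw [hbo, inf_comm])
  obtain ⟨τ, hτ⟩ := isUnit_iff_exists_inv.mp hunit
  set t₀ := X.presheaf.germ O x hxO t with ht₀
  have hτ' : algebraMap (X.presheaf.stalk x) X.functionField t₀ *
      X.presheaf.germ (U ⊓ O) (genericPoint X) hηW τ = 1 := by
    rw [ht₀, algebraMap_germ x hxO hηO t,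
      ← X.presheaf.germ_res_apply (homOfLE (inf_le_right : U ⊓ O ≤ O)) (genericPoint X) hηW t,
      ← map_mul]
    change X.presheaf.germ (U ⊓ O) (genericPoint X) hηW (rres X inf_le_right t * τ) = 1
    rw [hτ, map_one]
  have ht₀m : t₀ ∈ IsLocalRing.maximalIdeal (X.presheaf.stalk x) := by
    rw [IsLocalRing.mem_maximalIdeal, mem_nonunits_iff]
    intro hu
    have : x ∈ X.basicOpen t := (X.mem_basicOpen t x hxO).mpr hu
    rw [hbo] at this
    exact hx this.2
  have hinv : (algebraMap (X.presheaf.stalk x) X.functionField t₀)⁻¹ ∈ subA U hne ⊔ subB x := by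
    have : (algebraMap (X.presheaf.stalk x) X.functionField t₀)⁻¹ =
        X.presheaf.germ (U ⊓ O) (genericPoint X) hηW τ := by
      exact inv_eq_of_mul_eq_one_right hτ'
    rw [this]
    exact hall τ
  rw [eq_top_iff]
  intro f _
  obtain ⟨b, n, hbn⟩ := exists_mul_pow_eq (X.presheaf.stalk x) X.functionField
    (Ring.krullDimLE_iff.mpr hdim) t₀ ht₀m f
  have h0 : algebraMap (X.presheaf.stalk x) X.functionField t₀ ≠ 0 := by
    intro h
    rw [h, zero_mul] at hτ'
    exact zero_ne_one hτ'
  have hf : f = algebraMap (X.presheaf.stalk x) X.functionField b *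
      ((algebraMap (X.presheaf.stalk x) X.functionField t₀)⁻¹) ^ n := by
    rw [← hbn, inv_pow, mul_assoc, mul_inv_cancel₀ (pow_ne_zero n h0), mul_one]
  rw [hf]
  exact mul_mem ((le_sup_right : subB x ≤ _) ⟨b, rfl⟩) (pow_mem hinv n)

omit [X.IsSeparated] in
theorem discreteTopology_compl (U : X.Opens) (hne : (U : Set X).Nonempty)
    (hfin : ((U : Set X)ᶜ).Finite)
    (hloc : ∀ x : X, x ∉ U → ringKrullDim (X.presheaf.stalk x) ≤ 1) :
    DiscreteTopology ↥((U : Set X)ᶜ) :=
  discreteTopology_of_finite_of_no_specializes _ hfin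
    (fun x hx _ hx' h => eq_of_specializes U hne (hloc x hx) hx' h)

omit [X.IsSeparated] in
theorem isFractionRing_subA (U : X.Opens) (hU : IsAffineOpen U) (hne : (U : Set X).Nonempty) :
    IsFractionRing (subA U hne) X.functionField := by
  haveI : Nonempty U := ⟨⟨_, genericPoint_mem U hne⟩⟩
  haveI := functionField_isFractionRing_of_isAffineOpen X U hU
  apply isFractionRing_range
  intro z
  obtain ⟨a, b, -, rfl⟩ := IsFractionRing.div_surjective (A := Γ(X, U)) z
  exact ⟨a, b, rfl⟩

omit [X.IsSeparated] in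
theorem isFractionRing_subB (x : X) : IsFractionRing (subB x) X.functionField := by
  apply isFractionRing_range
  intro z
  obtain ⟨a, b, -, rfl⟩ := IsFractionRing.div_surjective (A := X.presheaf.stalk x) z
  exact ⟨a, b, rfl⟩

/-- the local ring at `x` is isomorphic to its image in the function field -/
noncomputable def subBEquiv (x : X) : X.presheaf.stalk x ≃+* subB x :=
  rangeEquiv (algebraMap (X.presheaf.stalk x) X.functionField)
    (IsFractionRing.injective (X.presheaf.stalk x) X.functionField)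

theorem exists_kappa (U : X.Opens) (hU : IsAffineOpen U) (hne : (U : Set X).Nonempty)
    (hfin : ((U : Set X)ᶜ).Finite)
    (hloc : ∀ x : X, x ∉ U →
      IsNoetherianRing (X.presheaf.stalk x) ∧ ringKrullDim (X.presheaf.stalk x) = 1) :
    ∃ a : Γ(X, U), ∀ x : X, x ∉ U → ∃ β : X.presheaf.stalk x,
      β ∈ IsLocalRing.maximalIdeal (X.presheaf.stalk x) ∧
        algebraMap (X.presheaf.stalk x) X.functionField β *
          X.presheaf.germ U (genericPoint X) (genericPoint_mem U hne) a = 1 := by
  classical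
  have hdisc : DiscreteTopology ↥((U : Set X)ᶜ) :=
    discreteTopology_compl U hne hfin (fun x hx => (hloc x hx).2.le)
  haveI := hfin.fintype
  let r := Fintype.card ↥((U : Set X)ᶜ)
  let e : ↥((U : Set X)ᶜ) ≃ Fin r := Fintype.equivFin _
  let pts : Fin r → X := fun i => (e.symm i).1
  have hpts : ∀ i, pts i ∉ U := fun i => (e.symm i).2
  let B : Fin r → Subring X.functionField := fun i => subB (pts i)
  haveI hA : IsFractionRing (subA U hne) X.functionField := isFractionRing_subA U hU hne
  haveI hBN : ∀ i, IsNoetherianRing (B i) := fun i => by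
    haveI := (hloc _ (hpts i)).1
    exact isNoetherianRing_of_ringEquiv _ (subBEquiv (pts i))
  haveI hBF : ∀ i, IsFractionRing (B i) X.functionField := fun i => isFractionRing_subB (pts i)
  have hBL : ∀ i, IsLocalRing (B i) := fun i => (subBEquiv (pts i)).isLocalRing
  have hdim : ∀ i, ringKrullDim (B i) = 1 := fun i => by
    rw [← (hloc _ (hpts i)).2]
    exact (ringKrullDim_eq_of_ringEquiv (subBEquiv (pts i))).symm
  have hsl : ∀ i, Finite (MaximalSpectrum (B i)) := fun i => by
    haveI := hBL i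
    exact finite_maximalSpectrum_of_isLocalRing _
  have hgen : ∀ i, subA U hne ⊔ B i = ⊤ := fun i => by
    haveI := (hloc _ (hpts i)).1
    exact sup_eq_top U hU hne hdisc (hpts i) (hloc _ (hpts i)).2.le
  obtain ⟨κ, hκA, hκ0, hκ⟩ := Groth.Agent.S1640.result X.functionField (subA U hne) r B hdim hsl hgen
  obtain ⟨a, rfl⟩ := hκA
  refine ⟨a, fun x hx => ?_⟩
  obtain ⟨i, rfl⟩ : ∃ i, pts i = x := ⟨e ⟨x, hx⟩, by simp [pts]⟩
  obtain ⟨hmem, hjac⟩ := hκ i
  haveI := hBL i
  rw [IsLocalRing.jacobson_eq_maximalIdeal ⊥ bot_ne_top] at hjac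
  refine ⟨(subBEquiv (pts i)).symm ⟨_, hmem⟩, ?_, ?_⟩
  · rw [IsLocalRing.mem_maximalIdeal, mem_nonunits_iff] at hjac ⊢
    intro hu
    apply hjac
    have := hu.map (subBEquiv (pts i))
    rwa [RingEquiv.apply_symm_apply] at this
  · have h1 : algebraMap (X.presheaf.stalk (pts i)) X.functionField
        ((subBEquiv (pts i)).symm ⟨_, hmem⟩) =
        ((subBEquiv (pts i)) ((subBEquiv (pts i)).symm ⟨_, hmem⟩) : subB (pts i)).1 := rfl
    rw [h1, RingEquiv.apply_symm_apply]
    exact inv_mul_cancel₀ hκ0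

omit [IsIntegral X] [X.IsSeparated] in
theorem germ_rres {W W' : X.Opens} (h : W' ≤ W) (x : X) (hx : x ∈ W') (s : Γ(X, W)) :
    X.presheaf.germ W' x hx (rres X h s) = X.presheaf.germ W x (h hx) s :=
  X.presheaf.germ_res_apply (homOfLE h) x hx s

theorem main (U : X.Opens) (hU : IsAffineOpen U) (hne : (U : Set X).Nonempty)
    (hfin : ((U : Set X)ᶜ).Finite)
    (hloc : ∀ x : X, x ∉ U →
      IsNoetherianRing (X.presheaf.stalk x) ∧ ringKrullDim (X.presheaf.stalk x) = 1) :
    ∃ (L : X.Modules) (s : Coh.structureModule X ⟶ L), PicF.IsInvertible L ∧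
      Curv2.IsGloballyGenerated L ∧ CohB1.genLocus L s = U := by
  classical
  obtain ⟨a, ha⟩ := exists_kappa U hU hne hfin hloc
  have hdisc : DiscreteTopology ↥((U : Set X)ᶜ) :=
    discreteTopology_compl U hne hfin (fun x hx => (hloc x hx).2.le)
  have hη : genericPoint X ∈ U := genericPoint_mem U hne
  set κ := X.presheaf.germ U (genericPoint X) (genericPoint_mem U hne) a with hκ
  have key : ∀ y : X, ∃ (O : X.Opens) (r t : Γ(X, O)), y ∈ O ∧ (∀ w ∈ O, w ∉ U → w = y) ∧
      X.basicOpen r = O ⊓ U ∧
      (∃ hηO : genericPoint X ∈ O, X.presheaf.germ O (genericPoint X) hηO t =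
        κ * X.presheaf.germ O (genericPoint X) hηO r) ∧ (y ∈ U ∨ y ∈ X.basicOpen t) := by
    intro y
    by_cases hy : y ∈ U
    · refine ⟨U, 1, a, hy, fun w hw hwU => absurd hw hwU, ?_, ⟨hη, ?_⟩, Or.inl hy⟩
      · rw [X.basicOpen_of_isUnit isUnit_one, inf_idem]
      · rw [map_one, mul_one]
    · obtain ⟨β, hβm, hβ⟩ := ha y hy
      obtain ⟨W, hyW, b, hb⟩ := X.presheaf.exists_germ_eq β
      obtain ⟨N, hyN, hN⟩ := DiscLocal.exists_isolating_open U hdisc hy
      have hηW : genericPoint X ∈ W := genericPoint_mem W ⟨y, hyW⟩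
      have hηN : genericPoint X ∈ N := genericPoint_mem N ⟨y, hyN⟩
      have hgb : X.presheaf.germ W (genericPoint X) hηW b * κ = 1 := by
        rw [← algebraMap_germ y hyW hηW b, hb]
        exact hβ
      have h1 : rres X (inf_le_left : W ⊓ U ≤ W) b * rres X (inf_le_right : W ⊓ U ≤ U) a = 1 := by
        apply germ_injective_of_isIntegral X (genericPoint X) (⟨hηW, hη⟩ : genericPoint X ∈ W ⊓ U)
        rw [map_mul, map_one, germ_rres, germ_rres]
        exact hgb
      have h2 : W ⊓ U ≤ X.basicOpen b :=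
        (isUnit_res_iff_le_basicOpen inf_le_left b).1 (isUnit_iff_exists_inv.mpr ⟨_, h1⟩)
      refine ⟨W ⊓ N, rres X (inf_le_left : W ⊓ N ≤ W) b, 1, ⟨hyW, hyN⟩,
        fun w hw hwU => hN w hw.2 hwU, ?_, ⟨⟨hηW, hηN⟩, ?_⟩, Or.inr ?_⟩
      · rw [rres, Scheme.basicOpen_res]
        ext w
        constructor
        · rintro ⟨hwO, hwb⟩
          refine ⟨hwO, ?_⟩
          by_contra hwU
          have hwy : w = y := hN w hwO.2 hwU
          subst hwy
          have hu := (X.mem_basicOpen b w hyW).mp hwb
          rw [hb] at hu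
          exact (IsLocalRing.mem_maximalIdeal _).mp hβm hu
        · rintro ⟨hwO, hwU⟩
          exact ⟨hwO, h2 ⟨hwO.1, hwU⟩⟩
      · rw [map_one, germ_rres, mul_comm, hgb]
      · rw [X.basicOpen_of_isUnit isUnit_one]
        exact ⟨hyW, hyN⟩
  choose O r t hyO hiso hr hgerm hpt using key
  have hηO : ∀ y, genericPoint X ∈ O y := fun y => (hgerm y).1
  have hOU : ∀ y z, y ≠ z → O y ⊓ O z ≤ U := by
    intro y z hyz w hw
    by_contra hwU
    exact hyz ((hiso y w hw.1 hwU).symm.trans (hiso z w hw.2 hwU))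
  have hrt : ∀ y z, rres X (inf_le_left : O y ⊓ O z ≤ O y) (r y) *
        rres X (inf_le_right : O y ⊓ O z ≤ O z) (t z) =
      rres X (inf_le_right : O y ⊓ O z ≤ O z) (r z) *
        rres X (inf_le_left : O y ⊓ O z ≤ O y) (t y) := by
    intro y z
    apply germ_injective_of_isIntegral X (genericPoint X)
      (⟨hηO y, hηO z⟩ : genericPoint X ∈ O y ⊓ O z)
    rw [map_mul, map_mul, germ_rres, germ_rres, germ_rres, germ_rres, (hgerm y).2, (hgerm z).2]
    ring
  obtain ⟨L, a', b', hinv, hga, hgb⟩ :=
    DiscGlue.exists_invertible_two_sections U O hyO hOU r t hr hrt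
  refine ⟨L, a', hinv, ?_, hga⟩
  refine Groth.Agent.H67.GlobGenPointwise.isGloballyGenerated_of_pointwise hinv (fun y => ?_)
  rcases hpt y with h | h
  · exact ⟨a', hga ▸ h⟩
  · exact ⟨b', ((hgb y).symm ▸ h : y ∈ CohB1.genLocus L b' ⊓ O y).1⟩

end Sup

end Groth.Agent.H54.CurveGG
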