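import Mathlib.RingTheory.DedekindDomain.Dvr
import Mathlib.RingTheory.Localization.Ideal

set_option autoImplicit false

namespace Groth.Agent.H54

/-- In a Dedekind domain, an ideal is principal near every prime containing it. -/
theorem exists_mul_mem_span_singleton_of_dedekind {A : Type*} [CommRing A] [IsDedekindDomain A]
    (I : Ideal A) (hI : I ≠ ⊥) (p : Ideal A) [hp : p.IsPrime] (hIp : I ≤ p) :
    ∃ a ∈ I, ∃ f : A, f ∉ p ∧ ∀ x ∈ I, f * x ∈ Ideal.span {a} := by
  classical
  have hpbot : p ≠ ⊥ := fun h => hI (le_bot_iff.mp (h ▸ hIp))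
  let Ap := Localization.AtPrime p
  have hdvr : IsDiscreteValuationRing Ap :=
    IsLocalization.AtPrime.isDiscreteValuationRing_of_dedekind_domain A hpbot Ap
  obtain ⟨z, hz⟩ := (IsPrincipalIdealRing.principal (I.map (algebraMap A Ap))).principal
  -- z = x / s with x ∈ I
  have hzmem : z ∈ I.map (algebraMap A Ap) := by rw [hz]; exact Submodule.mem_span_singleton_self z
  rw [IsLocalization.mem_map_algebraMap_iff p.primeCompl] at hzmem
  obtain ⟨⟨⟨a, haI⟩, s⟩, hs⟩ := hzmem
  have hsunit : IsUnit (algebraMap A Ap (s : A)) := IsLocalization.map_units Ap s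
  have hspan : I.map (algebraMap A Ap) = Ideal.span {algebraMap A Ap a} := by
    rw [hz]
    apply le_antisymm
    · rw [Ideal.span_singleton_le_iff_mem, Ideal.mem_span_singleton']
      refine ⟨((hsunit.unit⁻¹ : Apˣ) : Ap), ?_⟩
      have : z * algebraMap A Ap (s : A) = algebraMap A Ap a := hs
      rw [← this, mul_comm z, ← mul_assoc, IsUnit.val_inv_mul, one_mul]
    · rw [Ideal.span_singleton_le_iff_mem, ← hs]
      exact Ideal.mul_mem_right _ _ (Submodule.mem_span_singleton_self z)
  refine ⟨a, haI, ?_⟩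
  -- each element of I is killed into (a) by something outside p
  have hone : ∀ x ∈ I, ∃ g : A, g ∉ p ∧ g * x ∈ Ideal.span {a} := by
    intro x hx
    have hx' : algebraMap A Ap x ∈ (Ideal.span {a}).map (algebraMap A Ap) := by
      rw [Ideal.map_span, Set.image_singleton, ← hspan]
      exact Ideal.mem_map_of_mem _ hx
    rw [IsLocalization.mem_map_algebraMap_iff p.primeCompl] at hx'
    obtain ⟨⟨⟨y, hy⟩, t⟩, ht⟩ := hx'
    rw [← map_mul] at ht
    obtain ⟨u, hu⟩ := (IsLocalization.eq_iff_exists p.primeCompl Ap).mp ht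
    refine ⟨(u : A) * (t : A), ?_, ?_⟩
    · intro h
      rcases hp.mem_or_mem h with h | h
      · exact u.2 h
      · exact t.2 h
    · have : (u : A) * (t : A) * x = (u : A) * y := by
        rw [← hu]; ring
      rw [this]
      exact Ideal.mul_mem_left _ _ hy
  -- finitely many generators
  obtain ⟨S, hS⟩ := (IsNoetherian.noetherian I : I.FG)
  have hfin : ∀ T : Finset A, (∀ x ∈ T, x ∈ I) →
      ∃ f : A, f ∉ p ∧ ∀ x ∈ T, f * x ∈ Ideal.span {a} := by
    intro T
    induction T using Finset.induction_on with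
    | empty => exact fun _ => ⟨1, fun h => hp.ne_top ((Ideal.eq_top_iff_one _).mpr h), by simp⟩
    | insert x T _ ih =>
      intro hT
      obtain ⟨f, hfp, hf⟩ := ih (fun y hy => hT y (Finset.mem_insert_of_mem hy))
      obtain ⟨g, hgp, hg⟩ := hone x (hT x (Finset.mem_insert_self _ _))
      refine ⟨f * g, ?_, ?_⟩
      · intro h
        rcases hp.mem_or_mem h with h | h
        · exact hfp h
        · exact hgp h
      · intro y hy
        rcases Finset.mem_insert.mp hy with rfl | hy
        · rw [mul_assoc]; exact Ideal.mul_mem_left _ _ hg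
        · rw [mul_comm f g, mul_assoc]; exact Ideal.mul_mem_left _ _ (hf y hy)
  obtain ⟨f, hfp, hf⟩ := hfin S (fun x hx => hS ▸ Ideal.subset_span hx)
  refine ⟨f, hfp, ?_⟩
  intro x hx
  rw [← hS] at hx
  refine Submodule.span_induction (p := fun x _ => f * x ∈ Ideal.span {a}) ?_ ?_ ?_ ?_ hx
  · intro y hy; exact hf y hy
  · simp
  · intro y z _ _ hy hz; rw [mul_add]; exact Ideal.add_mem _ hy hz
  · intro c y _ hy
    rw [smul_eq_mul, mul_left_comm]
    exact Ideal.mul_mem_left _ _ hy

end Groth.Agent.H54
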