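import Mathlib

set_option autoImplicit false
universe u
open CategoryTheory CategoryTheory.Limits

namespace Groth.Agent.H54.DirUnion

variable {A : Type u} [CommRing A] {P : Type u} [AddCommGroup P] [Module A P]
  {ι : Type u} [Preorder ι]

/-- the functor of a monotone family of submodules -/
noncomputable def subFunctor (N : ι →o Submodule A P) : ι ⥤ ModuleCat.{u} A where
  obj i := ModuleCat.of A (N i)
  map {i j} f := ModuleCat.ofHom (Submodule.inclusion (N.monotone (leOfHom f)))
  map_id i := by
    ext x
    rfl
  map_comp f g := by
    ext x
    rfl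

/-- the cocone of inclusions -/
noncomputable def subCocone (N : ι →o Submodule A P) : Cocone (subFunctor N) where
  pt := ModuleCat.of A P
  ι :=
    { app := fun i => ModuleCat.ofHom (N i).subtype
      naturality := by
        intro i j f
        ext x
        rfl }

/-- a directed exhaustive family of submodules gives a colimit cocone -/
noncomputable def isColimitSubCocone [IsDirected ι (· ≤ ·)] [Nonempty ι] (N : ι →o Submodule A P)
    (h : ∀ x : P, ∃ i, x ∈ N i) : IsColimit (subCocone N) := by
  apply isColimitOfReflects (forget (ModuleCat.{u} A))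
  apply Types.FilteredColimit.isColimitOf
  · intro x
    obtain ⟨i, hi⟩ := h x
    exact ⟨i, ⟨x, hi⟩, rfl⟩
  · intro i j xi xj hx
    obtain ⟨k, hik, hjk⟩ := exists_ge_ge i j
    refine ⟨k, homOfLE hik, homOfLE hjk, ?_⟩
    apply Subtype.ext
    exact hx

end Groth.Agent.H54.DirUnion
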