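import Groth.Agent.H54.DiscGlue

/-!
helper54: variant of `DiscGlue.exists_invertible_section` with a second global section.
-/

set_option autoImplicit false
universe u
open CategoryTheory CategoryTheory.Limits AlgebraicGeometry TopologicalSpace Opposite

namespace Groth.Agent.H54.DiscGlue

open Groth.Agent.H18 Groth.Agent.H18.PUP Groth.Agent.H18.STL

variable {X : Scheme.{u}}

set_option maxHeartbeats 1600000 in
/-- an invertible module with two sections `a`, `b`: the locus of generation of `a` is `U`, and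
`b` has the local equations `t y`; from local equations `r y` of the complement of `U` and
functions `t y` with `r y * t z = r z * t y` on overlaps -/
theorem exists_invertible_two_sections (U : X.Opens) (O : X → X.Opens) (hyO : ∀ y, y ∈ O y)
    (hOU : ∀ y z, y ≠ z → O y ⊓ O z ≤ U) (r t : ∀ y, Γ(X, O y))
    (hr : ∀ y, X.basicOpen (r y) = O y ⊓ U)
    (hrt : ∀ y z, rres X (inf_le_left : O y ⊓ O z ≤ O y) (r y) *
        rres X (inf_le_right : O y ⊓ O z ≤ O z) (t z) =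
      rres X (inf_le_right : O y ⊓ O z ≤ O z) (r z) *
        rres X (inf_le_left : O y ⊓ O z ≤ O y) (t y)) :
    ∃ (L : X.Modules) (a b : Coh.structureModule X ⟶ L),
      PicF.IsInvertible L ∧ CohB1.genLocus L a = U ∧
        ∀ y, CohB1.genLocus L b ⊓ O y = X.basicOpen (t y) := by
  have hu : ∀ y, IsUnit (rres X (inf_le_left : O y ⊓ U ≤ O y) (r y)) := fun y =>
    (isUnit_res_iff_le_basicOpen inf_le_left (r y)).2 (by rw [hr])
  let u : ∀ y, (Γ(X, O y ⊓ U))ˣ := fun y => (hu y).unit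
  have hu_val : ∀ y, ((u y : (Γ(X, O y ⊓ U))ˣ) : Γ(X, O y ⊓ U)) =
      rres X (inf_le_left : O y ⊓ U ≤ O y) (r y) := fun y => (hu y).unit_spec
  let ζ : ∀ y z, (Γ(X, (O y ⊓ U) ⊓ (O z ⊓ U)))ˣ := fun y z =>
    umap (inf_le_right : (O y ⊓ U) ⊓ (O z ⊓ U) ≤ O z ⊓ U) (u z) *
      (umap (inf_le_left : (O y ⊓ U) ⊓ (O z ⊓ U) ≤ O y ⊓ U) (u y))⁻¹
  have hζ1 : ∀ y, ζ y y = 1 := fun y => mul_inv_cancel _
  have hζres : ∀ y z (T : X.Opens) (hT : T ≤ (O y ⊓ U) ⊓ (O z ⊓ U)),
      umap hT (ζ y z) = umap (hT.trans inf_le_right) (u z) *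
        (umap (hT.trans inf_le_left) (u y))⁻¹ := by
    intro y z T hT
    rw [map_mul, map_inv, umap_umap, umap_umap]
  have hζc : ∀ i j k,
      rres X (inf_le_inf_right (O k ⊓ U) inf_le_left :
          (O i ⊓ U) ⊓ (O j ⊓ U) ⊓ (O k ⊓ U) ≤ (O i ⊓ U) ⊓ (O k ⊓ U))
          (ζ i k : Γ(X, (O i ⊓ U) ⊓ (O k ⊓ U))) =
        rres X (inf_le_left : (O i ⊓ U) ⊓ (O j ⊓ U) ⊓ (O k ⊓ U) ≤ (O i ⊓ U) ⊓ (O j ⊓ U))
            (ζ i j : Γ(X, (O i ⊓ U) ⊓ (O j ⊓ U))) *
          rres X (inf_le_inf_right (O k ⊓ U) inf_le_right :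
            (O i ⊓ U) ⊓ (O j ⊓ U) ⊓ (O k ⊓ U) ≤ (O j ⊓ U) ⊓ (O k ⊓ U))
            (ζ j k : Γ(X, (O j ⊓ U) ⊓ (O k ⊓ U))) := by
    intro i j k
    rw [← umap_val, ← umap_val, ← umap_val, ← Units.val_mul]
    congr 1
    rw [hζres, hζres, hζres]
    have key : ∀ a b c : (Γ(X, (O i ⊓ U) ⊓ (O j ⊓ U) ⊓ (O k ⊓ U)))ˣ,
        c * a⁻¹ = (b * a⁻¹) * (c * b⁻¹) := by
      intro a b c
      rw [mul_comm (b * a⁻¹), mul_assoc, inv_mul_cancel_left]
    exact key _ _ _
  have hcov : iSup O = ⊤ := by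
    rw [eq_top_iff]
    intro y _
    exact Opens.mem_iSup.mpr ⟨y, hyO y⟩
  obtain ⟨L', s, hinv, hbij, hrel⟩ := CocycleGlue.main O (ext U O hOU ζ)
    (ext_cocycle U O hOU ζ hζ1 hζc) hcov
  have hsb : ∀ y, IsBasisOn L' (O y) (s y) := fun y V h => hbij y V h
  -- the coordinates are compatible
  have hcoord : ∀ y z, rres X (inf_le_left : O y ⊓ O z ≤ O y) (r y) *
      (ext U O hOU ζ y z : Γ(X, O y ⊓ O z)) = rres X (inf_le_right : O y ⊓ O z ≤ O z) (r z) := by
    intro y z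
    by_cases hyz : y = z
    · subst hyz
      rw [ext_self]
      simp only [Units.val_one, mul_one]
    · have hle : O y ⊓ O z ≤ (O y ⊓ U) ⊓ (O z ⊓ U) := le_of_ne U O hOU hyz
      have hle' : (O y ⊓ U) ⊓ (O z ⊓ U) ≤ O y ⊓ O z := inf_le_inf inf_le_left inf_le_left
      apply rres_injective_of_le hle' hle
      rw [map_mul, rres_ext_eq U O hOU ζ hζ1 y z, rres_rres, rres_rres]
      have e1 : rres X (hle'.trans inf_le_left) (r y) =
          ((umap (inf_le_left : (O y ⊓ U) ⊓ (O z ⊓ U) ≤ O y ⊓ U) (u y) :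
            (Γ(X, (O y ⊓ U) ⊓ (O z ⊓ U)))ˣ) : Γ(X, (O y ⊓ U) ⊓ (O z ⊓ U))) := by
        rw [umap_val, hu_val, rres_rres]
      have e2 : rres X (hle'.trans inf_le_right) (r z) =
          ((umap (inf_le_right : (O y ⊓ U) ⊓ (O z ⊓ U) ≤ O z ⊓ U) (u z) :
            (Γ(X, (O y ⊓ U) ⊓ (O z ⊓ U)))ˣ) : Γ(X, (O y ⊓ U) ⊓ (O z ⊓ U))) := by
        rw [umap_val, hu_val, rres_rres]
      rw [e1, e2, ← Units.val_mul]
      congr 1
      rw [mul_comm, mul_assoc, inv_mul_cancel, mul_one]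
  -- the same for `t`
  have hcoord' : ∀ y z, rres X (inf_le_left : O y ⊓ O z ≤ O y) (t y) *
      (ext U O hOU ζ y z : Γ(X, O y ⊓ O z)) = rres X (inf_le_right : O y ⊓ O z ≤ O z) (t z) := by
    intro y z
    by_cases hyz : y = z
    · subst hyz
      rw [ext_self]
      simp only [Units.val_one, mul_one]
    · have hle : O y ⊓ O z ≤ O y ⊓ U := le_inf inf_le_left (hOU y z hyz)
      have hunit : IsUnit (rres X (inf_le_left : O y ⊓ O z ≤ O y) (r y)) :=
        (isUnit_res_iff_le_basicOpen inf_le_left (r y)).2 (by rw [hr]; exact hle)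
      apply hunit.mul_left_cancel
      rw [← mul_assoc, mul_comm (rres X _ (r y)) (rres X _ (t y)), mul_assoc, hcoord y z,
        mul_comm, hrt y z]
  -- glue the local sections
  obtain ⟨σ₀, hσ₀⟩ := exists_glue L' O ⊤ (fun _ => le_top) (fun y _ => ⟨y, hyO y⟩)
    (fun y => r y • s y) (by
      intro y z
      rw [mres_smul, mres_smul]
      have := hrel y z
      change mres L' _ (s y) = _ • mres L' _ (s z) at this
      rw [this, ← mul_smul, hcoord y z])
  obtain ⟨τ₀, hτ₀⟩ := exists_glue L' O ⊤ (fun _ => le_top) (fun y _ => ⟨y, hyO y⟩)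
    (fun y => t y • s y) (by
      intro y z
      rw [mres_smul, mres_smul]
      have := hrel y z
      change mres L' _ (s y) = _ • mres L' _ (s z) at this
      rw [this, ← mul_smul, hcoord' y z])
  refine ⟨L', sectionHom L' σ₀, sectionHom L' τ₀, hinv, ?_, ?_⟩
  · have hloc : ∀ y, CohB1.genLocus L' (sectionHom L' σ₀) ⊓ O y = O y ⊓ U := by
      intro y
      rw [← hr y]
      refine genLocus_inf_eq_basicOpen (sectionHom L' σ₀) (hsb y) (r y) ?_
      rw [val_sectionHom]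
      exact hσ₀ y
    ext w
    constructor
    · intro hw
      have : w ∈ CohB1.genLocus L' (sectionHom L' σ₀) ⊓ O w := ⟨hw, hyO w⟩
      rw [hloc w] at this
      exact this.2
    · intro hw
      have : w ∈ O w ⊓ U := ⟨hyO w, hw⟩
      rw [← hloc w] at this
      exact this.1
  · intro y
    refine genLocus_inf_eq_basicOpen (sectionHom L' τ₀) (hsb y) (t y) ?_
    rw [val_sectionHom]
    exact hτ₀ y

end Groth.Agent.H54.DiscGlue
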