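import Mathlib
import Groth.Agent.H54.DiscLocal
import Groth.Agent.H54.DiscGlue
import Groth.Agent.H54.PullbackSection

/-!
# Retrocompact opens with discrete complement and one-dimensional Noetherian local rings (helper54)

`U ⊆ X` retrocompact open, `X ∖ U` discrete, the local rings at the points outside `U` Noetherian of
dimension at most one.  Then `U = X_s` for a section `s` of an invertible module, and every
invertible module on `U` extends to `X`.
-/

set_option autoImplicit false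
universe u
open CategoryTheory CategoryTheory.Limits AlgebraicGeometry TopologicalSpace Opposite

namespace Groth.Agent.H54.DiscPic

open Groth.Agent.H18 Groth.Agent.H18.PUP Groth.Agent.H18.STL

variable {X : Scheme.{u}} (U : X.Opens)

/-- a basis of a module on `U` gives a basis of its direct image -/
theorem isBasisOn_pushforward (N : (U : Scheme.{u}).Modules) {V' : (U : Scheme.{u}).Opens}
    {t : Γ(N, V')} (ht : IsBasisOn N V' t) :
    IsBasisOn ((Scheme.Modules.pushforward U.ι).obj N) (U.ι ''ᵁ V')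
      (show Γ(N, U.ι ⁻¹ᵁ (U.ι ''ᵁ V')) from
        mres N (le_of_eq (U.ι.preimage_image_eq V')) t) := by
  intro W hW
  have hWU : W ≤ U.ι.opensRange := hW.trans (U.ι.image_le_opensRange V')
  haveI : IsIso (U.ι.app W) := U.ι.isIso_app W hWU
  have hb1 : Function.Bijective ((U.ι.app W).hom : Γ(X, W) → Γ(U, U.ι ⁻¹ᵁ W)) :=
    ConcreteCategory.bijective_of_isIso (U.ι.app W)
  have hle : U.ι ⁻¹ᵁ W ≤ V' := by
    have := U.ι.preimage_mono hW
    rwa [U.ι.preimage_image_eq] at this
  have hb2 := ht (U.ι ⁻¹ᵁ W) hle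
  have : (fun r : Γ(X, W) => r • mres ((Scheme.Modules.pushforward U.ι).obj N) hW
      (show Γ(N, U.ι ⁻¹ᵁ (U.ι ''ᵁ V')) from mres N (le_of_eq (U.ι.preimage_image_eq V')) t)) =
      (fun r' : Γ(U, U.ι ⁻¹ᵁ W) => r' • mres N hle t) ∘
        ((U.ι.app W).hom : Γ(X, W) → Γ(U, U.ι ⁻¹ᵁ W)) := by
    funext r
    change (U.ι.app W).hom r • mres N (U.ι.preimage_mono hW)
      (mres N (le_of_eq (U.ι.preimage_image_eq V')) t) = _
    rw [mres_mres]
    rfl
  rw [this]
  exact hb2.comp hb1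

theorem le_of_isolated {O : X → X.Opens} (hOx : ∀ y, ∀ w ∈ O y, w ∉ U → w = y) (y z : X)
    (hyz : y ≠ z) : O y ⊓ O z ≤ U := by
  rintro w ⟨hwy, hwz⟩
  by_contra hwU
  exact hyz ((hOx y w hwy hwU).symm.trans (hOx z w hwz hwU))

theorem main [QuasiCompact U.ι] (hdisc : DiscreteTopology ↥((U : Set X)ᶜ))
    (hloc : ∀ x : X, x ∉ U →
      IsNoetherianRing (X.presheaf.stalk x) ∧ ringKrullDim (X.presheaf.stalk x) ≤ 1) :
    (∃ (L : X.Modules) (s : Coh.structureModule X ⟶ L),
      PicF.IsInvertible L ∧ CohB1.genLocus L s = U) ∧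
      ∀ N : (↑U : Scheme.{u}).Modules, PicF.IsInvertible N →
        ∃ L : X.Modules, PicF.IsInvertible L ∧ Nonempty (L.restrict U.ι ≅ N) := by
  constructor
  · have key : ∀ y : X, ∃ (O : X.Opens) (r : Γ(X, O)), y ∈ O ∧ (∀ w ∈ O, w ∉ U → w = y) ∧
        X.basicOpen r = O ⊓ U := by
      intro y
      by_cases hy : y ∈ U
      · refine ⟨U, 1, hy, fun w hw hwU => absurd hw hwU, ?_⟩
        rw [Scheme.basicOpen_one, inf_idem]
      · haveI := (hloc y hy).1
        obtain ⟨O, t, -, hyO, hOy, ht⟩ :=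
          DiscLocal.exists_affine_nhd_basicOpen U hdisc hy (hloc y hy).2
        exact ⟨O, t, hyO, hOy, ht⟩
    choose O r hyO hOx hr using key
    exact DiscGlue.exists_invertible_section U O hyO (le_of_isolated U hOx) r hr
  · intro N hN
    set M := (Scheme.Modules.pushforward U.ι).obj N with hM_def
    have hM : ∀ y ∈ U, ∃ (D : X.Opens) (β : Γ(M, D)), y ∈ D ∧ IsBasisOn M D β := by
      intro y hy
      obtain ⟨V', t, hyV', ht⟩ := exists_basis_of_isInvertible hN ⟨y, hy⟩
      exact ⟨U.ι ''ᵁ V', _, ⟨⟨y, hy⟩, hyV', rfl⟩, isBasisOn_pushforward U N ht⟩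
    have key : ∀ y : X, ∃ (O : X.Opens) (b : Γ(M, O ⊓ U)), y ∈ O ∧ (∀ w ∈ O, w ∉ U → w = y) ∧
        IsBasisOn M (O ⊓ U) b := by
      intro y
      by_cases hy : y ∈ U
      · obtain ⟨D, β, hyD, hβ⟩ := hM y hy
        refine ⟨D ⊓ U, mres M (inf_le_left.trans inf_le_left) β, ⟨hyD, hy⟩,
          fun w hw hwU => absurd hw.2 hwU, hβ.mono _⟩
      · haveI := (hloc y hy).1
        obtain ⟨O, t, hO, hyO, hOy, ht⟩ :=
          DiscLocal.exists_affine_nhd_basicOpen U hdisc hy (hloc y hy).2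
        obtain ⟨O', b, hO'O, hyO', hb⟩ :=
          DiscLocal.exists_nhd_isBasisOn U hy (hloc y hy).2 hO hyO hOy t ht M hM
        exact ⟨O', b, hyO', fun w hw hwU => hOy w (hO'O hw) hwU, hb⟩
    choose O b hyO hOx hb using key
    obtain ⟨L', hL', ⟨e⟩⟩ := DiscGlue.exists_invertible_extension U M O hyO
      (le_of_isolated U hOx) b hb
    exact ⟨L', hL', ⟨e ≪≫ (Scheme.Modules.restrictFunctorAdjCounitIso U.ι).app N⟩⟩

end Groth.Agent.H54.DiscPic
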