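import Mathlib

set_option autoImplicit false
universe u
open CategoryTheory AlgebraicGeometry Topology TopologicalSpace Opposite

namespace Groth.Agent.H54

theorem bijective_germ_of_discreteTopology (X : Scheme.{u}) [DiscreteTopology X] :
    Function.Bijective (fun s : Γ(X, ⊤) => fun x : X => X.presheaf.germ ⊤ x trivial s) := by
  constructor
  · intro s t h
    exact TopCat.Presheaf.section_ext X.sheaf ⊤ s t (fun x _ => congrFun h x)
  · intro t
    choose V hxV s hs using fun x : X => TopCat.Presheaf.exists_germ_eq X.presheaf (x := x) (t x)
    let U : X → X.Opens := fun x => ⟨{x}, isOpen_discrete _⟩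
    have hUV : ∀ x, U x ≤ V x := fun x y hy => by
      have : y = x := hy
      rw [this]; exact hxV x
    let sf : ∀ x : X, Γ(X, U x) := fun x => X.presheaf.map (homOfLE (hUV x)).op (s x)
    have hcompat : TopCat.Presheaf.IsCompatible X.presheaf U sf := by
      intro i j
      by_cases hij : i = j
      · subst hij
        rfl
      · have hbot : U i ⊓ U j = ⊥ := by
          ext y
          simp only [Opens.coe_inf, Set.mem_inter_iff, SetLike.mem_coe, Opens.coe_bot,
            Set.mem_empty_iff_false, iff_false, not_and]
          intro h1 h2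
          have h1' : y = i := h1
          have h2' : y = j := h2
          exact hij (h1'.symm.trans h2')
        have : Subsingleton Γ(X, U i ⊓ U j) := by rw [hbot]; infer_instance
        exact Subsingleton.elim _ _
    obtain ⟨g, hg, -⟩ := X.sheaf.existsUnique_gluing' U ⊤ (fun x => homOfLE le_top)
      (fun x _ => Opens.mem_iSup.mpr ⟨x, rfl⟩) sf hcompat
    refine ⟨g, ?_⟩
    funext x
    have hxU : x ∈ U x := rfl
    have h1 : X.presheaf.germ ⊤ x trivial g = X.presheaf.germ (U x) x hxU (sf x) := by
      rw [← hg x]
      exact (TopCat.Presheaf.germ_res_apply X.presheaf (homOfLE le_top) x hxU g).symm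
    have h2 : X.presheaf.germ (U x) x hxU (sf x) = X.presheaf.germ (V x) x (hxV x) (s x) :=
      TopCat.Presheaf.germ_res_apply X.presheaf (homOfLE (hUV x)) x hxU (s x)
    change X.presheaf.germ ⊤ x trivial g = t x
    rw [h1, h2, hs]

end Groth.Agent.H54
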