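import Mathlib
import Groth.Prelude.Def_CAlg
import Groth.Agent.H15.CDivAlg

set_option autoImplicit false
universe u

namespace Groth.Agent.H54.DivDepthAlg

open Groth.Agent.H15.CDivAlg IsLocalRing

/-- If `q = (bR : a)` is prime and `b` is regular in `S = R_q`, then `S` has depth one and
`b ∤ a` in `S`. -/
theorem depth_eq_one_of_colon_prime {R S : Type u} [CommRing R] [CommRing S] [Algebra R S]
    (q : Ideal R) [hqp : q.IsPrime] [IsLocalization.AtPrime S q] [IsLocalRing S]
    [IsNoetherianRing S]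
    (a b : R) (hq : ∀ z, z ∈ q ↔ z * a ∈ Ideal.span {b})
    (hreg : IsSMulRegular S (algebraMap R S b)) :
    LocCoh.depth S S = 1 ∧ ¬ (algebraMap R S b ∣ algebraMap R S a) := by
  have hbq : b ∈ q := by
    rw [hq, Ideal.mem_span_singleton']
    exact ⟨a, mul_comm _ _⟩
  have hb : algebraMap R S b ∈ maximalIdeal S :=
    (IsLocalization.AtPrime.to_map_mem_maximal_iff S q b ‹_›).mpr hbq
  have hc : algebraMap R S a ∉ Ideal.span {algebraMap R S b} := by
    intro h
    rw [Ideal.mem_span_singleton'] at h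
    obtain ⟨s, hs⟩ := h
    obtain ⟨r, t, rfl⟩ := IsLocalization.exists_mk'_eq q.primeCompl s
    have h1 : algebraMap R S (r * b) = algebraMap R S (t * a) := by
      rw [map_mul, map_mul, ← hs, ← mul_assoc, mul_comm (algebraMap R S t), IsLocalization.mk'_spec]
    obtain ⟨t', ht'⟩ := (IsLocalization.eq_iff_exists q.primeCompl S).mp h1
    have h2 : (t' : R) * t ∈ q := by
      rw [hq, Ideal.mem_span_singleton']
      exact ⟨t' * r, by rw [mul_assoc, ht', mul_assoc]⟩
    rcases hqp.mem_or_mem h2 with h3 | h3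
    · exact t'.2 h3
    · exact t.2 h3
  have hm : ∀ s ∈ maximalIdeal S, s * algebraMap R S a ∈ Ideal.span {algebraMap R S b} := by
    intro s hs
    obtain ⟨r, t, rfl⟩ := IsLocalization.exists_mk'_eq q.primeCompl s
    have hr : r ∈ q := (IsLocalization.AtPrime.mk'_mem_maximal_iff S q r t ‹_›).mp hs
    rw [hq, Ideal.mem_span_singleton'] at hr
    obtain ⟨w, hw⟩ := hr
    rw [Ideal.mem_span_singleton']
    refine ⟨IsLocalization.mk' S w t, ?_⟩
    apply (IsLocalization.map_units S t).mul_left_inj.mp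
    rw [mul_assoc, mul_comm (algebraMap R S b), ← mul_assoc, IsLocalization.mk'_spec,
      mul_assoc, mul_comm (algebraMap R S a), ← mul_assoc, IsLocalization.mk'_spec,
      ← map_mul, ← map_mul, hw]
  refine ⟨depth_eq_one_of_mem _ _ hb hreg hc hm, ?_⟩
  rintro ⟨s, hs⟩
  apply hc
  rw [Ideal.mem_span_singleton']
  exact ⟨s, by rw [hs, mul_comm]⟩

end Groth.Agent.H54.DivDepthAlg
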