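import Mathlib
import Groth.Prelude.Def_MeroDiv
import Groth.Prelude.Def_CAlg
import Groth.Agent.H54.DivCrit
import Groth.Agent.H54.DivDepthAlg

set_option autoImplicit false
universe u
open CategoryTheory CategoryTheory.Limits AlgebraicGeometry TopologicalSpace Opposite

namespace Groth.Agent.H54.DivDepth

open Mero Groth.Agent.H8 Groth.Agent.H54.MeroSec Groth.Agent.H54.DivModInv
  Groth.Agent.H54.MeroChart Groth.Agent.H54.DivFrac Groth.Agent.H54.DivCrit
  Groth.Agent.H54.DivDepthAlg Groth.Agent.H15.CDivAlg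

variable {X : Scheme.{u}}

set_option backward.isDefEq.respectTransparency false in
/-- If `b_x ∤ a_x` then there is a generization `y` of `x` of depth one with `b_y ∤ a_y`. -/
theorem exists_depth_one_of_not_dvd [IsLocallyNoetherian X] {V : X.Opens} (a b : Γ(X, V))
    (hb : b ∈ regSub X V) (x : X) (hxV : x ∈ V)
    (h : ¬ (X.presheaf.germ V x hxV b ∣ X.presheaf.germ V x hxV a)) :
    ∃ (y : X) (hyV : y ∈ V), y ⤳ x ∧
      LocCoh.depth (X.presheaf.stalk y) (X.presheaf.stalk y) = 1 ∧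
      ¬ (X.presheaf.germ V y hyV b ∣ X.presheaf.germ V y hyV a) := by
  obtain ⟨V', hV', hxV', hV'V⟩ := exists_isAffineOpen_mem_and_subset (x := x) (U := V) hxV
  have hV'V : V' ≤ V := hV'V
  haveI : IsNoetherianRing Γ(X, V') := IsLocallyNoetherian.component_noetherian ⟨V', hV'⟩
  let a' : Γ(X, V') := X.presheaf.map (homOfLE hV'V).op a
  let b' : Γ(X, V') := X.presheaf.map (homOfLE hV'V).op b
  let p := hV'.primeIdealOf ⟨x, hxV'⟩
  have hcolon : colon (Ideal.span {b'}) a' ≤ p.asIdeal := by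
    intro t ht
    by_contra htp
    apply h
    rw [mem_colon, Ideal.mem_span_singleton'] at ht
    obtain ⟨w, hw⟩ := ht
    let _ : Algebra Γ(X, V') (X.presheaf.stalk x) :=
      TopCat.Presheaf.algebra_section_stalk X.presheaf ⟨x, hxV'⟩
    have hloc : IsLocalization.AtPrime (X.presheaf.stalk x) p.asIdeal :=
      hV'.isLocalization_stalk ⟨x, hxV'⟩
    have hu : IsUnit (X.presheaf.germ V' x hxV' t) :=
      (IsLocalization.AtPrime.isUnit_to_map_iff (X.presheaf.stalk x) p.asIdeal t).mpr htp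
    have h1 := congrArg (X.presheaf.germ V' x hxV') hw
    rw [map_mul, map_mul, TopCat.Presheaf.germ_res_apply X.presheaf (homOfLE hV'V) x hxV' a,
      TopCat.Presheaf.germ_res_apply X.presheaf (homOfLE hV'V) x hxV' b] at h1
    obtain ⟨ti, hti⟩ := hu.exists_left_inv
    refine ⟨ti * X.presheaf.germ V' x hxV' w, ?_⟩
    calc X.presheaf.germ V x hxV a
        = (ti * X.presheaf.germ V' x hxV' t) * X.presheaf.germ V x hxV a := by rw [hti, one_mul]
      _ = ti * (X.presheaf.germ V' x hxV' w * X.presheaf.germ V x hxV b) := by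
          rw [mul_assoc, h1]
      _ = X.presheaf.germ V x hxV b * (ti * X.presheaf.germ V' x hxV' w) := by ring
  obtain ⟨c, hcp, hcle⟩ := exists_prime_colon (Ideal.span {b'}) a' p.asIdeal hcolon
  let q : PrimeSpectrum Γ(X, V') := ⟨colon (Ideal.span {b'}) (c * a'), hcp⟩
  have hyV' : hV'.fromSpec q ∈ V' := by
    have h1 : hV'.fromSpec q ∈ Set.range hV'.fromSpec := ⟨q, rfl⟩
    rw [hV'.range_fromSpec] at h1
    exact h1
  have hqp : q ⤳ p := (PrimeSpectrum.le_iff_specializes q p).mp hcle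
  have hspec : hV'.fromSpec q ⤳ x := by
    have := hqp.map hV'.fromSpec.continuous
    rwa [hV'.fromSpec_primeIdealOf ⟨x, hxV'⟩] at this
  let _ : Algebra Γ(X, V') (X.presheaf.stalk (hV'.fromSpec q)) :=
    TopCat.Presheaf.algebra_section_stalk X.presheaf ⟨hV'.fromSpec q, hyV'⟩
  haveI hloc : IsLocalization.AtPrime (X.presheaf.stalk (hV'.fromSpec q)) q.asIdeal :=
    hV'.isLocalization_stalk' q hyV'
  have hbreg : IsSMulRegular (X.presheaf.stalk (hV'.fromSpec q))
      (algebraMap Γ(X, V') (X.presheaf.stalk (hV'.fromSpec q)) b') := by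
    have h1 : X.presheaf.germ V' (hV'.fromSpec q) hyV' b' ∈
        nonZeroDivisors (X.presheaf.stalk (hV'.fromSpec q)) :=
      regSub_res (homOfLE hV'V) hb ⟨hV'.fromSpec q, hyV'⟩
    exact (isSMulRegular_iff_right_eq_zero_of_smul.mpr fun z hz =>
      (mem_nonZeroDivisors_iff_right.mp h1) z (by rwa [smul_eq_mul, mul_comm] at hz))
  obtain ⟨hdepth, hndvd⟩ := depth_eq_one_of_colon_prime (S := X.presheaf.stalk (hV'.fromSpec q))
    q.asIdeal (c * a') b' (fun z => Iff.rfl) hbreg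
  refine ⟨hV'.fromSpec q, hV'V hyV', hspec, hdepth, ?_⟩
  rintro ⟨s, hs⟩
  apply hndvd
  refine ⟨algebraMap Γ(X, V') (X.presheaf.stalk (hV'.fromSpec q)) c * s, ?_⟩
  change X.presheaf.germ V' (hV'.fromSpec q) hyV' (c * a') =
    X.presheaf.germ V' (hV'.fromSpec q) hyV' b' * (X.presheaf.germ V' (hV'.fromSpec q) hyV' c * s)
  rw [map_mul, TopCat.Presheaf.germ_res_apply X.presheaf (homOfLE hV'V) _ hyV' a,
    TopCat.Presheaf.germ_res_apply X.presheaf (homOfLE hV'V) _ hyV' b, hs]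
  ring

/-- a divisor not effective at `x` is not effective at some depth-one generization of `x` -/
theorem exists_depth_one_not_isEffectiveAt [IsLocallyNoetherian X] (D : Divisor X) (x : X)
    (hne : ¬ IsEffectiveAt D x) :
    ∃ y : X, y ⤳ x ∧ LocCoh.depth (X.presheaf.stalk y) (X.presheaf.stalk y) = 1 ∧
      ¬ IsEffectiveAt D y := by
  obtain ⟨V, hxV, a, b, hab⟩ := exists_frac D x
  have hnd : ¬ (X.presheaf.germ V x hxV b.1 ∣ X.presheaf.germ V x hxV a.1) := fun hd =>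
    hne (isEffectiveAt_of_dvd (regExt_of_isLocallyNoetherian X) (regGerm ⟨x, hxV⟩ a)
      (regGerm ⟨x, hxV⟩ b) (hab ⟨x, hxV⟩) hd)
  obtain ⟨y, hyV, hyx, hdepth, hnd'⟩ := exists_depth_one_of_not_dvd a.1 b.1 b.2 x hxV hnd
  exact ⟨y, hyx, hdepth, fun he => hnd' (dvd_of_isEffectiveAt (regGerm ⟨y, hyV⟩ a)
    (regGerm ⟨y, hyV⟩ b) (hab ⟨y, hyV⟩) he)⟩

/-- a divisor nontrivial at `x` is nontrivial at some depth-one generization of `x` -/
theorem exists_depth_one_ne_one [IsLocallyNoetherian X] (D : Divisor X) (x : X)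
    (hne : D.1 x ≠ 1) :
    ∃ y : X, y ⤳ x ∧ LocCoh.depth (X.presheaf.stalk y) (X.presheaf.stalk y) = 1 ∧
      D.1 y ≠ 1 := by
  obtain ⟨V, hxV, a, b, hab⟩ := exists_frac D x
  have hor : ¬ (X.presheaf.germ V x hxV b.1 ∣ X.presheaf.germ V x hxV a.1) ∨
      ¬ (X.presheaf.germ V x hxV a.1 ∣ X.presheaf.germ V x hxV b.1) := by
    by_contra hcon
    push Not at hcon
    exact hne ((hab ⟨x, hxV⟩).trans (mk_fracOf_eq_one_of_dvd (regGerm ⟨x, hxV⟩ a)
      (regGerm ⟨x, hxV⟩ b) hcon.1 hcon.2))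
  rcases hor with hnd | hnd
  · obtain ⟨y, hyV, hyx, hdepth, hnd'⟩ := exists_depth_one_of_not_dvd a.1 b.1 b.2 x hxV hnd
    refine ⟨y, hyx, hdepth, fun h1 => ?_⟩
    rw [hab ⟨y, hyV⟩] at h1
    exact hnd' (dvd_of_mk_fracOf_eq_one (regGerm ⟨y, hyV⟩ a) (regGerm ⟨y, hyV⟩ b) h1).1
  · obtain ⟨y, hyV, hyx, hdepth, hnd'⟩ := exists_depth_one_of_not_dvd b.1 a.1 a.2 x hxV hnd
    refine ⟨y, hyx, hdepth, fun h1 => ?_⟩
    rw [hab ⟨y, hyV⟩] at h1
    exact hnd' (dvd_of_mk_fracOf_eq_one (regGerm ⟨y, hyV⟩ a) (regGerm ⟨y, hyV⟩ b) h1).2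

theorem isEffective_of_depth_one [IsLocallyNoetherian X] (D : Divisor X)
    (h : ∀ x : X, LocCoh.depth (X.presheaf.stalk x) (X.presheaf.stalk x) = 1 →
      IsEffectiveAt D x) : IsEffective D := by
  intro x
  by_contra hne
  obtain ⟨y, -, hdepth, hy⟩ := exists_depth_one_not_isEffectiveAt D x hne
  exact hy (h y hdepth)

theorem eq_one_of_depth_one [IsLocallyNoetherian X] (D : Divisor X)
    (h : ∀ x : X, LocCoh.depth (X.presheaf.stalk x) (X.presheaf.stalk x) = 1 → D.1 x = 1) :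
    D = 1 := by
  apply Subtype.ext
  funext x
  change D.1 x = 1
  by_contra hne
  obtain ⟨y, -, hdepth, hy⟩ := exists_depth_one_ne_one D x hne
  exact hy (h y hdepth)

theorem depth_eq_one_of_maximal [IsLocallyNoetherian X] (D : Divisor X) (x : X)
    (hx : x ∈ Mero.supp D) (hmax : ∀ z : X, z ∈ Mero.supp D → z ⤳ x → z = x) :
    LocCoh.depth (X.presheaf.stalk x) (X.presheaf.stalk x) = 1 := by
  obtain ⟨y, hyx, hdepth, hy⟩ := exists_depth_one_ne_one D x hx
  have := hmax y hy hyx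
  subst this
  exact hdepth

end Groth.Agent.H54.DivDepth
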