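import Mathlib
import Groth.Prelude.Def_MeroDiv
import Groth.Prelude.Def_CAlg
import Groth.Agent.H54.DivCrit
import Groth.Agent.H15.Depth
import Groth.Agent.H8.MeroLoc

set_option autoImplicit false
universe u
open CategoryTheory CategoryTheory.Limits AlgebraicGeometry TopologicalSpace Opposite

namespace Groth.Agent.H54.DivDepthZero

open Mero Groth.Agent.H8 Groth.Agent.H54.MeroSec Groth.Agent.H54.DivModInv
  Groth.Agent.H54.MeroChart Groth.Agent.H54.DivFrac Groth.Agent.H54.DivCrit
  Groth.Agent.H15 IsLocalRing RingTheory.Sequence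

variable {X : Scheme.{u}}

/-- regular sections are nonzerodivisors of the ring of sections -/
theorem mem_nonZeroDivisors_of_mem_regSub {U : X.Opens} {a : Γ(X, U)} (ha : a ∈ regSub X U) :
    a ∈ nonZeroDivisors Γ(X, U) := by
  rw [mem_nonZeroDivisors_iff_right]
  intro z hz
  apply TopCat.Presheaf.section_ext X.sheaf
  intro y hy
  have h1 := congrArg (X.presheaf.germ U y hy) hz
  rw [map_mul, map_zero] at h1
  change X.presheaf.germ U y hy z = X.presheaf.germ U y hy 0
  rw [map_zero]
  exact (mem_nonZeroDivisors_iff_right.mp (ha ⟨y, hy⟩)) _ h1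

section
variable (A : Type u) [CommRing A] [IsLocalRing A]

theorem smul_top_ne_top : maximalIdeal A • (⊤ : Submodule A A) ≠ ⊤ := by
  rw [Ideal.smul_top_eq_map, Algebra.algebraMap_self, Ideal.map_id]
  intro h
  have := congrArg (Submodule.restrictScalars A) h
  simp only [Submodule.restrictScalars_self] at this
  exact (maximalIdeal.isMaximal A).ne_top this

theorem not_isSMulRegular_of_depth_eq_zero (h : LocCoh.depth A A = 0) {r : A}
    (hr : r ∈ maximalIdeal A) : ¬ IsSMulRegular A r := by
  intro hreg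
  have h1 : IsWeaklyRegular A [r] := by
    rw [isWeaklyRegular_cons_iff]
    exact ⟨hreg, IsWeaklyRegular.nil _ _⟩
  have h2 := le_idealDepth (maximalIdeal A) A h1 (by simpa using hr)
  have h3 : (1 : ℕ∞) ≤ LocCoh.depth A A := by simpa [LocCoh.depth] using h2
  rw [h] at h3
  exact absurd h3 (by simp)

theorem exists_isSMulRegular_of_depth_ne_zero (h : LocCoh.depth A A ≠ 0) :
    ∃ r ∈ maximalIdeal A, IsSMulRegular A r := by
  have h1 : ((1 : ℕ) : ℕ∞) ≤ LocCoh.depth A A := by
    rw [Nat.cast_one]
    exact Order.one_le_iff_pos.mpr (pos_iff_ne_zero.mpr h)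
  obtain ⟨rs, hlen, hmem, hrs⟩ :=
    exists_isRegular_of_le_idealDepth (maximalIdeal A) A (smul_top_ne_top A) 1 h1
  match rs, hlen with
  | [r], _ =>
    refine ⟨r, hmem r (by simp), ?_⟩
    have := hrs.toIsWeaklyRegular
    rw [isWeaklyRegular_cons_iff] at this
    exact this.1

end

theorem germ_isUnit_of_isUnit {U : X.Opens} {a : Γ(X, U)} (ha : IsUnit a) (y : X) (hy : y ∈ U) :
    IsUnit (X.presheaf.germ U y hy a) := ha.map (X.presheaf.germ U y hy).hom

set_option backward.isDefEq.respectTransparency false in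
theorem main (A : Type u) [CommRing A] [IsNoetherianRing A] [IsLocalRing A] :
    (∀ D : Mero.Divisor (Spec (CommRingCat.of A)), D = 1) ↔ LocCoh.depth A A = 0 := by
  constructor
  · intro hall
    by_contra hne
    obtain ⟨r, hrm, hreg⟩ := exists_isSMulRegular_of_depth_ne_zero A hne
    let r' : Γ(Spec (CommRingCat.of A), ⊤) := (Scheme.ΓSpecIso (CommRingCat.of A)).inv r
    have hr'nzd : r' ∈ nonZeroDivisors Γ(Spec (CommRingCat.of A), ⊤) := by
      rw [mem_nonZeroDivisors_iff_right]
      intro z hz
      have h1 := congrArg (Scheme.ΓSpecIso (CommRingCat.of A)).hom hz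
      rw [map_mul, map_zero] at h1
      have h1' : (Scheme.ΓSpecIso (CommRingCat.of A)).hom z * r = 0 := by
        have e : (Scheme.ΓSpecIso (CommRingCat.of A)).hom r' = r :=
          Iso.inv_hom_id_apply (Scheme.ΓSpecIso (CommRingCat.of A)) r
        rw [e] at h1
        exact h1
      have h2 : (Scheme.ΓSpecIso (CommRingCat.of A)).hom z = 0 := by
        apply hreg
        change r • _ = r • (0 : A)
        rw [smul_zero, smul_eq_mul, mul_comm]
        exact h1'
      have h3 := congrArg (Scheme.ΓSpecIso (CommRingCat.of A)).inv h2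
      rw [map_zero] at h3
      rw [← h3]
      exact (Iso.hom_inv_id_apply (Scheme.ΓSpecIso (CommRingCat.of A)) z).symm
    have hr'reg : r' ∈ regSub (Spec (CommRingCat.of A)) ⊤ :=
      mem_regSub_of_mem_nonZeroDivisors (isAffineOpen_top _) hr'nzd
    let f : (Γ(kmod (Spec (CommRingCat.of A)), ⊤))ˣ :=
      (isUnit_toK_of_mem_regSub ⟨r', hr'reg⟩).unit
    have hD := hall (div f)
    let x₀ : Spec (CommRingCat.of A) := closedPoint A
    have h1 : (div f).1 x₀ = 1 := by rw [hD]; rfl
    change germOf f ⟨x₀, Opens.mem_top x₀⟩ = 1 at h1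
    rw [germOf, QuotientGroup.eq_one_iff] at h1
    obtain ⟨u, hu⟩ := h1
    have h2 : algebraMap _ (KStalk (Spec (CommRingCat.of A)) x₀)
        (u : (Spec (CommRingCat.of A)).presheaf.stalk x₀) =
        algebraMap _ _ ((Spec (CommRingCat.of A)).presheaf.germ ⊤ x₀ (Opens.mem_top x₀) r') :=
      congrArg Units.val hu
    have h3 := algebraMap_KStalk_injective x₀ h2
    have h4 : x₀ ∈ (Spec (CommRingCat.of A)).basicOpen r' := by
      rw [Scheme.mem_basicOpen_top]
      have h5 : IsUnit ((Spec (CommRingCat.of A)).presheaf.germ ⊤ x₀ (Opens.mem_top x₀) r') := by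
        rw [← h3]; exact u.isUnit
      exact h5
    rw [basicOpen_eq_of_affine] at h4
    exact h4 hrm
  · intro hdepth D
    apply Subtype.ext
    funext y
    change D.1 y = 1
    obtain ⟨V, hxV, a, b, hab⟩ := exists_frac D (closedPoint A : Spec (CommRingCat.of A))
    obtain rfl : V = ⊤ := (closedPoint_mem_iff V).mp hxV
    have key : ∀ a : Γ(Spec (CommRingCat.of A), ⊤), a ∈ regSub (Spec (CommRingCat.of A)) ⊤ →
        IsUnit a := by
      intro a ha
      have hnzd := mem_nonZeroDivisors_of_mem_regSub ha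
      have h1 : IsUnit ((Scheme.ΓSpecIso (CommRingCat.of A)).hom a) := by
        by_contra hnu
        have hm : (Scheme.ΓSpecIso (CommRingCat.of A)).hom a ∈ maximalIdeal A := hnu
        apply not_isSMulRegular_of_depth_eq_zero A hdepth hm
        intro z w hzw
        have hzw' : (Scheme.ΓSpecIso (CommRingCat.of A)).hom a * z =
            (Scheme.ΓSpecIso (CommRingCat.of A)).hom a * w := hzw
        have h2 := congrArg (Scheme.ΓSpecIso (CommRingCat.of A)).inv hzw'
        rw [map_mul, map_mul, Iso.hom_inv_id_apply] at h2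
        have h3 := (mul_cancel_left_mem_nonZeroDivisors hnzd).mp h2
        have h4 := congrArg (Scheme.ΓSpecIso (CommRingCat.of A)).hom h3
        rw [Iso.inv_hom_id_apply, Iso.inv_hom_id_apply] at h4
        exact h4
      have h2 := h1.map (Scheme.ΓSpecIso (CommRingCat.of A)).inv.hom
      have e : (Scheme.ΓSpecIso (CommRingCat.of A)).inv
          ((Scheme.ΓSpecIso (CommRingCat.of A)).hom a) = a :=
        Iso.hom_inv_id_apply (Scheme.ΓSpecIso (CommRingCat.of A)) a
      rw [← e]
      exact h2
    rw [hab ⟨y, Opens.mem_top y⟩]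
    have hua := germ_isUnit_of_isUnit (key a.1 a.2) y (Opens.mem_top y)
    have hub := germ_isUnit_of_isUnit (key b.1 b.2) y (Opens.mem_top y)
    apply mk_fracOf_eq_one_of_dvd
    · exact hub.dvd
    · exact hua.dvd

end Groth.Agent.H54.DivDepthZero
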