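import Mathlib
import Groth.Prelude.Def_MeroDiv
import Groth.Agent.H54.DivCrit

set_option autoImplicit false
universe u
open CategoryTheory CategoryTheory.Limits AlgebraicGeometry TopologicalSpace Opposite

namespace Groth.Agent.H54.DivIdeal

open Mero Groth.Agent.H8 Groth.Agent.H54.DivFrac Groth.Agent.H54.DivCrit

variable {X : Scheme.{u}}

theorem mk_uOf_eq_of_dvd {y : X} (a b : regStalk X y) (h1 : b.1 ∣ a.1) (h2 : a.1 ∣ b.1) :
    (QuotientGroup.mk (uOf a) : Germ X y) = QuotientGroup.mk (uOf b) := by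
  have h := mk_fracOf_eq_one_of_dvd a b h1 h2
  rw [fracOf, QuotientGroup.mk_mul, QuotientGroup.mk_inv, mul_inv_eq_one] at h
  exact h

theorem germ_dvd_of_span_eq (I : X.IdealSheafData) (W W' : X.affineOpens) (h : W = W')
    (p : Γ(X, W.1)) (q : Γ(X, W'.1)) (hp : I.ideal W = Ideal.span {p})
    (hq : I.ideal W' = Ideal.span {q}) (y : X) (hy : y ∈ W.1) (hy' : y ∈ W'.1) :
    X.presheaf.germ W.1 y hy p ∣ X.presheaf.germ W'.1 y hy' q := by
  subst h
  have h1 : q ∈ Ideal.span {p} := by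
    rw [← hp, hq]; exact Ideal.mem_span_singleton_self q
  rw [Ideal.mem_span_singleton'] at h1
  obtain ⟨c, hc⟩ := h1
  refine ⟨X.presheaf.germ W.1 y hy c, ?_⟩
  rw [← hc, map_mul, mul_comm]

/-- the divisor of an ideal sheaf is determined on every affine open where the ideal is principal -/
theorem germ_eq_of_isDivOfIdeal {D : Divisor X} {I : X.IdealSheafData} (hD : IsDivOfIdeal D I)
    (U : X.affineOpens) (f : regSub X U.1) (hI : I.ideal U = Ideal.span {f.1}) (y : U.1) :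
    D.1 y.1 = QuotientGroup.mk (uOf (regGerm y f)) := by
  obtain ⟨U', hyU', g, hg, hI', hDg⟩ := hD y.1
  obtain ⟨a, a', haa', hya⟩ := exists_basicOpen_le_affine_inter U.2 U'.2 y.1 ⟨y.2, hyU'⟩
  have hya' : y.1 ∈ X.basicOpen a' := haa' ▸ hya
  have hW : X.affineBasicOpen a = X.affineBasicOpen a' := Subtype.ext haa'
  have h1 : I.ideal (X.affineBasicOpen a) =
      Ideal.span {X.presheaf.map (homOfLE (X.basicOpen_le a)).op f.1} := by
    rw [← I.map_ideal_basicOpen U a, hI, Ideal.map_span, Set.image_singleton]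
  have h2 : I.ideal (X.affineBasicOpen a') =
      Ideal.span {X.presheaf.map (homOfLE (X.basicOpen_le a')).op g} := by
    rw [← I.map_ideal_basicOpen U' a', hI', Ideal.map_span, Set.image_singleton]
  have d1 := germ_dvd_of_span_eq I _ _ hW _ _ h1 h2 y.1 hya hya'
  have d2 := germ_dvd_of_span_eq I _ _ hW.symm _ _ h2 h1 y.1 hya' hya
  have e1 : X.presheaf.germ (X.basicOpen a) y.1 hya
      (X.presheaf.map (homOfLE (X.basicOpen_le a)).op f.1) = X.presheaf.germ U.1 y.1 y.2 f.1 :=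
    TopCat.Presheaf.germ_res_apply X.presheaf (homOfLE (X.basicOpen_le a)) y.1 hya f.1
  have e2 : X.presheaf.germ (X.basicOpen a') y.1 hya'
      (X.presheaf.map (homOfLE (X.basicOpen_le a')).op g) = X.presheaf.germ U'.1 y.1 hyU' g :=
    TopCat.Presheaf.germ_res_apply X.presheaf (homOfLE (X.basicOpen_le a')) y.1 hya' g
  have d1' : X.presheaf.germ U.1 y.1 y.2 f.1 ∣ X.presheaf.germ U'.1 y.1 hyU' g := by
    rw [← e1, ← e2]; exact d1
  have d2' : X.presheaf.germ U'.1 y.1 hyU' g ∣ X.presheaf.germ U.1 y.1 y.2 f.1 := by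
    rw [← e1, ← e2]; exact d2
  rw [hDg ⟨y.1, hyU'⟩]
  exact mk_uOf_eq_of_dvd (regGerm ⟨y.1, hyU'⟩ ⟨g, hg⟩) (regGerm y f) d1' d2'

end Groth.Agent.H54.DivIdeal
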