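import Mathlib
import Groth.Prelude.Def_MeroDiv
import Groth.Agent.H54.DivModInv

set_option autoImplicit false
universe u
open CategoryTheory CategoryTheory.Limits AlgebraicGeometry TopologicalSpace Opposite

namespace Groth.Agent.H54.DivModInj

open Mero Groth.Agent.H8 Groth.Agent.H18 Groth.Agent.H54.MeroSec Groth.Agent.H54.DivModInv

variable {X : Scheme.{u}}

/-- the class of `g` in `K_x^× / O_x^×` equals that of `g'` as soon as `g⁻¹ g'` and `g'⁻¹ g` are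
regular -/
theorem mk_eq_mk_of_mem_range {x : X} (g g' : (KStalk X x)ˣ)
    (h1 : ((g⁻¹ : (KStalk X x)ˣ) : KStalk X x) * g' ∈
      (algebraMap (X.presheaf.stalk x) (KStalk X x)).range)
    (h2 : ((g'⁻¹ : (KStalk X x)ˣ) : KStalk X x) * g ∈
      (algebraMap (X.presheaf.stalk x) (KStalk X x)).range) :
    (QuotientGroup.mk g : Germ X x) = QuotientGroup.mk g' := by
  obtain ⟨a, ha⟩ := h1
  obtain ⟨a', ha'⟩ := h2
  have haa' : a * a' = 1 := by
    apply algebraMap_KStalk_injective x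
    rw [map_mul, ha, ha', map_one]
    calc ((g⁻¹ : (KStalk X x)ˣ) : KStalk X x) * g' * (((g'⁻¹ : (KStalk X x)ˣ) : KStalk X x) * g)
        = (((g⁻¹ * g' * (g'⁻¹ * g) : (KStalk X x)ˣ)) : KStalk X x) := by
          simp only [Units.val_mul]
      _ = 1 := by
          rw [mul_assoc, mul_inv_cancel_left, inv_mul_cancel, Units.val_one]
  have hunit : IsUnit a := IsUnit.of_mul_eq_one a' haa'
  rw [QuotientGroup.eq]
  refine ⟨hunit.unit, Units.ext ?_⟩
  change algebraMap (X.presheaf.stalk x) (KStalk X x) a = _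
  rw [ha, Units.val_mul]

theorem eq_of_divCond_iff (D D' : Divisor X)
    (h : ∀ (U : X.Opens) (t : Γ(kmod X, U)),
      (∀ x : ↥U, DivCond D x.1 (t.1 x)) ↔ (∀ x : ↥U, DivCond D' x.1 (t.1 x))) :
    D = D' := by
  apply Subtype.ext
  funext x
  obtain ⟨U, hxU, f, hf⟩ := D.2 x
  obtain ⟨U', hxU', f', hf'⟩ := D'.2 x
  let W : X.Opens := U ⊓ U'
  have hxW : x ∈ W := ⟨hxU, hxU'⟩
  -- restrict the units to `W`
  let fW : (Γ(kmod X, W))ˣ :=
    Units.map ((kring X).obj.map (homOfLE (inf_le_left : W ≤ U)).op).hom.toMonoidHom f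
  let fW' : (Γ(kmod X, W))ˣ :=
    Units.map ((kring X).obj.map (homOfLE (inf_le_right : W ≤ U')).op).hom.toMonoidHom f'
  have hfW : ∀ y : W, D.1 y.1 = germOf fW y := fun y => by
    rw [hf ⟨y.1, y.2.1⟩]
    exact congrArg _ (Units.ext rfl)
  have hfW' : ∀ y : W, D'.1 y.1 = germOf fW' y := fun y => by
    rw [hf' ⟨y.1, y.2.2⟩]
    exact congrArg _ (Units.ext rfl)
  have hc1 : ∀ y : W, DivCond D y.1 (((fW⁻¹ : (Γ(kmod X, W))ˣ) : Γ(kmod X, W)).1 y) := by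
    intro y
    rw [divCond_iff D y.1 (unitAt fW y) (hfW y), unitAt_val, inv_val_mul]
    exact one_mem _
  have hc2 : ∀ y : W, DivCond D' y.1 (((fW'⁻¹ : (Γ(kmod X, W))ˣ) : Γ(kmod X, W)).1 y) := by
    intro y
    rw [divCond_iff D' y.1 (unitAt fW' y) (hfW' y), unitAt_val, inv_val_mul]
    exact one_mem _
  have h1 := ((h W _).mp hc1 ⟨x, hxW⟩) (unitAt fW' ⟨x, hxW⟩) (hfW' ⟨x, hxW⟩)
  have h2 := ((h W _).mpr hc2 ⟨x, hxW⟩) (unitAt fW ⟨x, hxW⟩) (hfW ⟨x, hxW⟩)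
  rw [hfW ⟨x, hxW⟩, hfW' ⟨x, hxW⟩]
  exact mk_eq_mk_of_mem_range (unitAt fW ⟨x, hxW⟩) (unitAt fW' ⟨x, hxW⟩) h1 h2

end Groth.Agent.H54.DivModInj
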