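import Mathlib
import Groth.Prelude.Def_MeroDiv
import Groth.Agent.H54.DivModInv

set_option autoImplicit false
universe u
open CategoryTheory CategoryTheory.Limits AlgebraicGeometry TopologicalSpace Opposite

namespace Groth.Agent.H54.DivModLin

open Mero Groth.Agent.H8 Groth.Agent.H18 Groth.Agent.H54.MeroSec Groth.Agent.H54.DivModInv

variable {X : Scheme.{u}}

section modOfHom

variable {T T' : X → Type u} [∀ x, AddCommGroup (T x)] [∀ x, Module (X.presheaf.stalk x) (T x)]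
  [∀ x, AddCommGroup (T' x)] [∀ x, Module (X.presheaf.stalk x) (T' x)]
  (P : TopCat.LocalPredicate T) [IsModPred P] (Q : TopCat.LocalPredicate T') [IsModPred Q]

/-- a morphism between the modules of two module predicates, from pointwise linear maps -/
noncomputable def modOfHom (φ : ∀ x : X, T x →ₗ[X.presheaf.stalk x] T' x)
    (h : ∀ (U : X.Opens) (f : ∀ x : U, T x.1), P.pred f → Q.pred (fun x => φ x.1 (f x))) :
    modOf P ⟶ modOf Q :=
  ⟨PresheafOfModules.homMk (M₁ := (modOf P).val) (M₂ := (modOf Q).val)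
    { app := fun U => AddCommGrpCat.ofHom
        { toFun := fun (f : Γ(modOf P, U.unop)) =>
            (⟨fun x => φ x.1 (f.1 x), h U.unop f.1 f.2⟩ : Γ(modOf Q, U.unop))
          map_zero' := Subtype.ext (funext fun x => (φ x.1).map_zero)
          map_add' := fun f g => Subtype.ext (funext fun x => (φ x.1).map_add _ _) }
      naturality := by intros; rfl }
    (fun U r f => Subtype.ext (funext fun x => (φ x.1).map_smul _ _))⟩

theorem modOfHom_app_apply (φ : ∀ x : X, T x →ₗ[X.presheaf.stalk x] T' x)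
    (h : ∀ (U : X.Opens) (f : ∀ x : U, T x.1), P.pred f → Q.pred (fun x => φ x.1 (f x)))
    (U : X.Opens) (f : Γ(modOf P, U)) (x : U) :
    ((modOfHom P Q φ h).app U f).1 x = φ x.1 (f.1 x) := rfl

end modOfHom


/-- evaluating an equality of divisors `D * D'⁻¹ = div φ` at a point -/
theorem germ_eq_of_mul_inv_eq_div {D D' : Divisor X} {φ : (Γ(kmod X, ⊤))ˣ}
    (hφ : D * D'⁻¹ = div φ) (x : X) (g' : (KStalk X x)ˣ) (hg' : D'.1 x = QuotientGroup.mk g') :
    D.1 x = QuotientGroup.mk (unitAt φ ⟨x, Opens.mem_top x⟩ * g') := by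
  have h1 : D.1 x * (D'.1 x)⁻¹ = QuotientGroup.mk (unitAt φ ⟨x, Opens.mem_top x⟩) :=
    congrArg (fun E : Divisor X => E.1 x) hφ
  rw [QuotientGroup.mk_mul, ← hg', ← h1, inv_mul_cancel_right]

theorem divLoc_mul_pred {D D' : Divisor X} {φ : (Γ(kmod X, ⊤))ˣ} (hφ : D * D'⁻¹ = div φ)
    (U : X.Opens) (f : ∀ x : U, KStalk X x.1) (hf : (divLoc X D).pred f) :
    (divLoc X D').pred
      (fun x => f x * (φ : Γ(kmod X, ⊤)).1 ⟨x.1, Opens.mem_top x.1⟩) := by
  let g : Γ(kmod X, U) := (kmod X).presheaf.map (homOfLE (le_top : U ≤ ⊤)).op (φ : Γ(kmod X, ⊤))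
  refine ⟨kLoc_mul X U f g.1 hf.1 g.2, fun x g' hg' => ?_⟩
  have h1 := germ_eq_of_mul_inv_eq_div hφ x.1 g' hg'
  have h2 := hf.2 x _ h1
  rw [mul_assoc]
  exact h2

/-- multiplication by `φ`, as a morphism `O_X(D) ⟶ O_X(D')` when `D = D' · div φ` -/
noncomputable def mulHom {D D' : Divisor X} {φ : (Γ(kmod X, ⊤))ˣ} (hφ : D * D'⁻¹ = div φ) :
    divMod D ⟶ divMod D' :=
  modOfHom (divLoc X D) (divLoc X D')
    (fun x => LinearMap.mulRight (X.presheaf.stalk x) ((φ : Γ(kmod X, ⊤)).1 ⟨x, Opens.mem_top x⟩))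
    (fun U f hf => divLoc_mul_pred hφ U f hf)

theorem mulHom_app_apply {D D' : Divisor X} {φ : (Γ(kmod X, ⊤))ˣ} (hφ : D * D'⁻¹ = div φ)
    (U : X.Opens) (f : Γ(divMod D, U)) (x : U) :
    ((mulHom hφ).app U f).1 x = f.1 x * (φ : Γ(kmod X, ⊤)).1 ⟨x.1, Opens.mem_top x.1⟩ := rfl

theorem isIso_mulHom {D D' : Divisor X} {φ : (Γ(kmod X, ⊤))ˣ} (hφ : D * D'⁻¹ = div φ) :
    IsIso (mulHom hφ) := by
  rw [Scheme.Modules.Hom.isIso_iff_isIso_app]
  intro U
  rw [ConcreteCategory.isIso_iff_bijective]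
  have hφ' : D' * D⁻¹ = div φ⁻¹ := by
    have h1 : (D * D'⁻¹)⁻¹ = (div φ)⁻¹ := congrArg _ hφ
    rw [mul_inv_rev, inv_inv] at h1
    rw [h1]
    apply Subtype.ext
    funext x
    change (germOf φ ⟨x, Opens.mem_top x⟩)⁻¹ = germOf φ⁻¹ ⟨x, Opens.mem_top x⟩
    rw [germOf, germOf, map_inv, QuotientGroup.mk_inv]
  constructor
  · intro f f' hff'
    apply divMod_ext
    intro x
    have h1 := congrArg (fun s : Γ(divMod D', U) => s.1 x) hff'
    have h2 : f.1 x * (φ : Γ(kmod X, ⊤)).1 ⟨x.1, Opens.mem_top x.1⟩ =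
        f'.1 x * (φ : Γ(kmod X, ⊤)).1 ⟨x.1, Opens.mem_top x.1⟩ := h1
    have h3 := congrArg (fun w => w * ((φ⁻¹ : (Γ(kmod X, ⊤))ˣ) : Γ(kmod X, ⊤)).1
      ⟨x.1, Opens.mem_top x.1⟩) h2
    dsimp only at h3
    rw [mul_assoc, mul_assoc, val_mul_inv φ ⟨x.1, Opens.mem_top x.1⟩, mul_one, mul_one] at h3
    exact h3
  · intro t
    refine ⟨(mulHom hφ').app U t, divMod_ext (fun x => ?_)⟩
    rw [mulHom_app_apply, mulHom_app_apply, mul_assoc, inv_val_mul φ ⟨x.1, Opens.mem_top x.1⟩,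
      mul_one]

/-- linearly equivalent divisors have isomorphic modules -/
theorem nonempty_iso_of_linEquiv (D D' : Divisor X) (h : LinEquiv D D') :
    Nonempty (divMod D ≅ divMod D') := by
  obtain ⟨φ, hφ⟩ := h
  haveI := isIso_mulHom hφ
  exact ⟨asIso (mulHom hφ)⟩

end Groth.Agent.H54.DivModLin
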