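import Mathlib
import Groth.Prelude.Def_MeroDiv
import Groth.Prelude.Def_Pic
import Groth.Agent.H54.MeroDivIso

set_option autoImplicit false
universe u
open CategoryTheory CategoryTheory.Limits AlgebraicGeometry TopologicalSpace Opposite

namespace Groth.Agent.H54.MeroDivReg

open Mero Groth.Agent.H8 Groth.Agent.H18 Groth.Agent.H54.MeroSec Groth.Agent.H54.DivModInv
  Groth.Agent.H54.FracIdeal Groth.Agent.H54.MeroChart

variable {X : Scheme.{u}}

/-- the image of a free generator under an isomorphism is a free generator -/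
theorem isFreeGen_of_iso {N L : X.Modules} (ψ : N ⟶ L) [IsIso ψ] {U : X.Opens} {t : Γ(N, U)}
    (ht : IsFreeGen N U t) : IsFreeGen L U (ψ.app U t) := by
  intro V hV
  have hb : Function.Bijective (ψ.app V) := ConcreteCategory.bijective_of_isIso (ψ.app V)
  have hfun : (fun r : Γ(X, V) => r • L.presheaf.map (homOfLE hV).op (ψ.app U t)) =
      (ψ.app V) ∘ (fun r : Γ(X, V) => r • N.presheaf.map (homOfLE hV).op t) := by
    funext r
    change r • mres L hV (ψ.app U t) = ψ.app V (r • mres N hV t)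
    rw [Scheme.Modules.Hom.app_smul, hom_app_mres]
  rw [hfun]
  exact hb.comp (ht V hV)

/-- local data for `O_X(D)`: an open, a unit `f` with `D = div f` there, and the generator `f⁻¹` -/
structure DData (D : Divisor X) (U : X.Opens) where
  f : (Γ(kmod X, U))ˣ
  hf : ∀ y : U, D.1 y.1 = germOf f y
  t : Γ(divMod D, U)
  htval : ∀ y : U, t.1 y = ((f⁻¹ : (Γ(kmod X, U))ˣ) : Γ(kmod X, U)).1 y
  ht : IsFreeGen (divMod D) U t

theorem exists_ddata (D : Divisor X) (x : X) : ∃ (U : X.Opens) (_ : x ∈ U), Nonempty (DData D U) := by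
  obtain ⟨U, hxU, f, hf⟩ := D.2 x
  obtain ⟨t, htval, ht⟩ := exists_free_gen D U f hf
  exact ⟨U, hxU, ⟨⟨f, hf, t, htval, ht⟩⟩⟩

variable {D : Divisor X} {L : X.Modules} (ψ : divMod D ⟶ L) [IsIso ψ]

/-- the value at `y` of the meromorphic section `1` of `L ≅ O_X(D)`, computed in a chart -/
noncomputable def val {U : X.Opens} (d : DData D U) (y : X) (hy : y ∈ U) : MStalk L y :=
  (d.f : Γ(kmod X, U)).1 ⟨y, hy⟩ • (LocalizedModule.mk (L.presheaf.germ U y hy (ψ.app U d.t)) 1 :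
    MStalk L y)

omit [IsIso ψ] in
theorem val_eq {U U' : X.Opens} (d : DData D U) (d' : DData D U') (y : X) (hy : y ∈ U)
    (hy' : y ∈ U') : val ψ d y hy = val ψ d' y hy' := by
  let W : X.Opens := U ⊓ U'
  have hyW : y ∈ W := ⟨hy, hy'⟩
  obtain ⟨cc, hcc⟩ := d'.ht.exists_smul_eq (inf_le_right : W ≤ U')
    ((divMod D).presheaf.map (homOfLE (inf_le_left : W ≤ U)).op d.t)
  have hcc' : cc • mres (divMod D) (inf_le_right : W ≤ U') d'.t =
      mres (divMod D) (inf_le_left : W ≤ U) d.t := hcc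
  -- values at `y`
  have h1 := congrArg (fun τ : Γ(divMod D, W) => τ.1 ⟨y, hyW⟩) hcc'
  have h2 : X.presheaf.germ W y hyW cc • d'.t.1 ⟨y, hy'⟩ = d.t.1 ⟨y, hy⟩ := h1
  rw [d.htval ⟨y, hy⟩, d'.htval ⟨y, hy'⟩, Algebra.smul_def] at h2
  -- images under `ψ`
  have h3 := congrArg (ψ.app W) hcc'
  rw [Scheme.Modules.Hom.app_smul, hom_app_mres, hom_app_mres] at h3
  have h4 := congrArg (L.presheaf.germ W y hyW) h3
  rw [Mero.germ_smul,
    TopCat.Presheaf.germ_res_apply L.presheaf (homOfLE (inf_le_right : W ≤ U')) y hyW,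
    TopCat.Presheaf.germ_res_apply L.presheaf (homOfLE (inf_le_left : W ≤ U)) y hyW] at h4
  unfold val
  rw [← h4, mk_smul_one, ← mul_smul]
  congr 1
  have hFi := inv_val_mul d.f ⟨y, hy⟩
  have hFi' := inv_val_mul d'.f ⟨y, hy'⟩
  generalize (d.f : Γ(kmod X, U)).1 ⟨y, hy⟩ = F at hFi ⊢
  generalize ((d.f⁻¹ : (Γ(kmod X, U))ˣ) : Γ(kmod X, U)).1 ⟨y, hy⟩ = Fi at h2 hFi
  generalize (d'.f : Γ(kmod X, U')).1 ⟨y, hy'⟩ = F' at hFi' ⊢
  generalize ((d'.f⁻¹ : (Γ(kmod X, U'))ˣ) : Γ(kmod X, U')).1 ⟨y, hy'⟩ = Fi' at h2 hFi'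
  change KStalk X y at F Fi F' Fi'
  linear_combination (F * F') * h2 - F * (algebraMap (X.presheaf.stalk y) (KStalk X y)
    (X.presheaf.germ W y hyW cc)) * hFi' + F' * hFi

theorem hasRegularMero_of_iso (ψ : divMod D ⟶ L) [IsIso ψ] : HasRegularMero L := by
  choose U hxU d₀ using fun x => exists_ddata D x
  let d : ∀ x, DData D (U x) := fun x => (d₀ x).some
  let sfun : ∀ y : (⊤ : X.Opens), MStalk L y.1 := fun y => val ψ (d y.1) y.1 (hxU y.1)
  have hpred : (mLoc L).pred sfun := by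
    intro y₀
    obtain ⟨W, hy₀W, i, a, b, hab⟩ := ((d y₀.1).f : Γ(kmod X, U y₀.1)).2 ⟨y₀.1, hxU y₀.1⟩
    have hWU : W ≤ U y₀.1 := i.le
    refine ⟨W, hy₀W, homOfLE le_top,
      a • L.presheaf.map (homOfLE hWU).op (ψ.app (U y₀.1) (d y₀.1).t), b, fun z => ?_⟩
    change val ψ (d z.1) z.1 (hxU z.1) = _
    rw [val_eq ψ (d z.1) (d y₀.1) z.1 (hxU z.1) (hWU z.2)]
    unfold val
    have h1 : ((d y₀.1).f : Γ(kmod X, U y₀.1)).1 ⟨z.1, hWU z.2⟩ =
        LocalizedModule.mk (X.presheaf.germ W z.1 z.2 a) (regGerm z b) := hab z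
    rw [h1, mk_smul_mk']
    refine mk_congr ?_ (by rw [mul_one])
    rw [Mero.germ_smul, TopCat.Presheaf.germ_res_apply L.presheaf (homOfLE hWU) z.1 z.2]
  refine ⟨⟨sfun, hpred⟩, fun x q hq => ?_⟩
  change q • val ψ (d x) x (hxU x) = 0 at hq
  unfold val at hq
  rw [← mul_smul] at hq
  have hfree := isFreeGen_of_iso ψ (d x).ht
  have h0 : q * ((d x).f : Γ(kmod X, U x)).1 ⟨x, hxU x⟩ = 0 := by
    apply (hfree.mstalk_bijective (hxU x)).1
    change _ • _ = (0 : KStalk X x) • _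
    rw [zero_smul]
    exact hq
  have h1 := congrArg (fun w => w * (((d x).f⁻¹ : (Γ(kmod X, U x))ˣ) : Γ(kmod X, U x)).1
    ⟨x, hxU x⟩) h0
  dsimp only at h1
  rw [mul_assoc, val_mul_inv (d x).f ⟨x, hxU x⟩, mul_one, zero_mul] at h1
  exact h1

end Groth.Agent.H54.MeroDivReg
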