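import Mathlib
import Groth.Prelude.Def_MeroDiv
import Groth.Prelude.Def_SecTwist
import Groth.Agent.H54.MeroDivReg
import Groth.Agent.H18.STL.Basic
import Groth.Agent.H18.SheafifyIso

set_option autoImplicit false
universe u
open CategoryTheory CategoryTheory.Limits AlgebraicGeometry TopologicalSpace Opposite TensorProduct

namespace Groth.Agent.H54.DivTensor

open Mero Groth.Agent.H8 Groth.Agent.H18 Groth.Agent.H54.MeroSec Groth.Agent.H54.DivModInv
  Groth.Agent.H54.FracIdeal Groth.Agent.H54.MeroChart Groth.Agent.H54.MeroDivReg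

variable {X : Scheme.{u}}

theorem divModι_app_val (D : Divisor X) (U : X.Opens) (t : Γ(divMod D, U)) (y : U) :
    ((divModι D).app U t : Γ(kmod X, U)).1 y = t.1 y := rfl

theorem divCond_mul (D E : Divisor X) (y : X) {t t' : KStalk X y} (h : DivCond D y t)
    (h' : DivCond E y t') : DivCond (D * E) y (t * t') := by
  obtain ⟨gD, hgD⟩ := QuotientGroup.mk_surjective (D.1 y)
  obtain ⟨gE, hgE⟩ := QuotientGroup.mk_surjective (E.1 y)
  have hDE : (D * E).1 y = QuotientGroup.mk (gD * gE) := by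
    change D.1 y * E.1 y = _
    rw [← hgD, ← hgE]
    rfl
  rw [divCond_iff (D * E) y (gD * gE) hDE]
  have e : t * t' * ((gD * gE : (KStalk X y)ˣ) : KStalk X y) = (t * gD) * (t' * gE) := by
    rw [Units.val_mul]; ring
  rw [e]
  exact mul_mem (h gD hgD.symm) (h' gE hgE.symm)

/-- the product of sections of `O(D)` and `O(E)`, a section of `O(D E)` -/
noncomputable def mulSec (D E : Divisor X) (U : X.Opens) (t : Γ(divMod D, U))
    (t' : Γ(divMod E, U)) : Γ(divMod (D * E), U) :=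
  divSec (D * E) ((divModι D).app U t * (divModι E).app U t')
    (fun y => divCond_mul D E y.1 (t.2.2 y) (t'.2.2 y))

theorem mulSec_val (D E : Divisor X) (U : X.Opens) (t : Γ(divMod D, U)) (t' : Γ(divMod E, U))
    (y : U) : (mulSec D E U t t').1 y = t.1 y * t'.1 y := rfl

theorem divModι_mulSec (D E : Divisor X) (U : X.Opens) (t : Γ(divMod D, U))
    (t' : Γ(divMod E, U)) :
    (divModι (D * E)).app U (mulSec D E U t t') = (divModι D).app U t * (divModι E).app U t' := rfl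

theorem mulSec_add_left (D E : Divisor X) (U : X.Opens) (t₁ t₂ : Γ(divMod D, U))
    (t' : Γ(divMod E, U)) :
    mulSec D E U (t₁ + t₂) t' = mulSec D E U t₁ t' + mulSec D E U t₂ t' :=
  divMod_ext fun y => add_mul (t₁.1 y) (t₂.1 y) (t'.1 y)

theorem mulSec_add_right (D E : Divisor X) (U : X.Opens) (t : Γ(divMod D, U))
    (t₁' t₂' : Γ(divMod E, U)) :
    mulSec D E U t (t₁' + t₂') = mulSec D E U t t₁' + mulSec D E U t t₂' :=
  divMod_ext fun y => mul_add (t.1 y) (t₁'.1 y) (t₂'.1 y)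

theorem mulSec_smul_left (D E : Divisor X) (U : X.Opens) (r : Γ(X, U)) (t : Γ(divMod D, U))
    (t' : Γ(divMod E, U)) :
    mulSec D E U (r • t) t' = r • mulSec D E U t t' :=
  divMod_ext fun y => by
    change (X.presheaf.germ U y.1 y.2 r • t.1 y) * t'.1 y =
      X.presheaf.germ U y.1 y.2 r • (t.1 y * t'.1 y)
    rw [smul_mul_assoc]

theorem mulSec_smul_right (D E : Divisor X) (U : X.Opens) (r : Γ(X, U)) (t : Γ(divMod D, U))
    (t' : Γ(divMod E, U)) :
    mulSec D E U t (r • t') = r • mulSec D E U t t' :=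
  divMod_ext fun y => by
    change t.1 y * (X.presheaf.germ U y.1 y.2 r • t'.1 y) =
      X.presheaf.germ U y.1 y.2 r • (t.1 y * t'.1 y)
    rw [mul_smul_comm]

/-- the multiplication map `O(D) ⊗ O(E) → O(D E)` on the presheaf tensor product -/
noncomputable def mulPre (D E : Divisor X) :
    CohB1.tensorPre (divMod D) (divMod E) ⟶ CohB1.toPMod (divMod (D * E)) where
  app U := ModuleCat.MonoidalCategory.tensorLift
    (fun (t : Γ(divMod D, U.unop)) (t' : Γ(divMod E, U.unop)) =>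
      (mulSec D E U.unop t t' : Γ(divMod (D * E), U.unop)))
    (fun t₁ t₂ t' => mulSec_add_left D E U.unop t₁ t₂ t')
    (fun r t t' => mulSec_smul_left D E U.unop r t t')
    (fun t t₁' t₂' => mulSec_add_right D E U.unop t t₁' t₂')
    (fun r t t' => mulSec_smul_right D E U.unop r t t')
  naturality _ := ModuleCat.MonoidalCategory.tensor_ext (fun _ _ => rfl)

theorem mulPre_app_tmul (D E : Divisor X) (V : X.Opens) (t : (divMod D).val.obj (op V))
    (t' : (divMod E).val.obj (op V)) :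
    ((mulPre D E).app (op V)).hom (t ⊗ₜ t') = mulSec D E V t t' := rfl

/-- the multiplication map `O(D) ⊗ O(E) → O(D E)` -/
noncomputable def mulHom (D E : Divisor X) :
    CohB1.tensorMod (divMod D) (divMod E) ⟶ divMod (D * E) :=
  (PresheafOfModules.sheafificationHomEquiv (R := X.ringCatSheaf) (𝟙 X.ringCatSheaf.obj)
    (P := (CohB1.tensorPre (divMod D) (divMod E) : X.PresheafOfModules))
    (F := divMod (D * E))).symm (mulPre D E)

theorem mulHom_tmul (D E : Divisor X) (U : X.Opens) (t : Γ(divMod D, U)) (t' : Γ(divMod E, U)) :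
    (mulHom D E).app U (SecTwist.tmul (divMod D) (divMod E) U t t') = mulSec D E U t t' := by
  have h0 : PresheafOfModules.sheafificationHomEquiv (R := X.ringCatSheaf) (𝟙 X.ringCatSheaf.obj)
      (P := (CohB1.tensorPre (divMod D) (divMod E) : X.PresheafOfModules))
      (F := divMod (D * E)) (mulHom D E) = mulPre D E := Equiv.apply_symm_apply _ _
  have h1 := PresheafOfModules.toPresheaf_map_sheafificationHomEquiv_def (R := X.ringCatSheaf)
    (𝟙 X.ringCatSheaf.obj) (P := (CohB1.tensorPre (divMod D) (divMod E) : X.PresheafOfModules))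
    (mulHom D E)
  rw [h0] at h1
  have h3 := h1.trans (congrArg (fun ψ => ψ ≫ (PresheafOfModules.toPresheaf
    X.ringCatSheaf.obj).map (mulHom D E).val)
    (STL.toPresheaf_map_toTensor (divMod D) (divMod E)).symm)
  have h2 := congrArg (fun φ => (φ.app (op U)) (t ⊗ₜ t')) h3
  exact h2.symm

/-- restriction of a unit of `Γ(U, K_X)` -/
noncomputable def resUnitK {U V : X.Opens} (h : V ≤ U) (f : (Γ(kmod X, U))ˣ) : (Γ(kmod X, V))ˣ :=
  Units.map ((kring X).obj.map (homOfLE h).op).hom.toMonoidHom f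

theorem resUnitK_val {U V : X.Opens} (h : V ≤ U) (f : (Γ(kmod X, U))ˣ) (z : V) :
    ((resUnitK h f : (Γ(kmod X, V))ˣ) : Γ(kmod X, V)).1 z = (f : Γ(kmod X, U)).1 ⟨z.1, h z.2⟩ := rfl

theorem germOf_resUnitK {U V : X.Opens} (h : V ≤ U) (f : (Γ(kmod X, U))ˣ) (z : V) :
    germOf (resUnitK h f) z = germOf f ⟨z.1, h z.2⟩ := by
  rw [germOf, germOf]
  exact congrArg _ (Units.ext rfl)

theorem isIso_mulHom (D E : Divisor X) : IsIso (mulHom D E) := by
  apply Groth.Agent.H54.MeroDivIso.isIso_of_local_bases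
  intro y
  obtain ⟨U₁, hy₁, f₁, hf₁⟩ := D.2 y
  obtain ⟨U₂, hy₂, f₂, hf₂⟩ := E.2 y
  let U : X.Opens := U₁ ⊓ U₂
  have hyU : y ∈ U := ⟨hy₁, hy₂⟩
  let g₁ : (Γ(kmod X, U))ˣ := resUnitK (inf_le_left : U ≤ U₁) f₁
  let g₂ : (Γ(kmod X, U))ˣ := resUnitK (inf_le_right : U ≤ U₂) f₂
  have hg₁ : ∀ z : U, D.1 z.1 = germOf g₁ z := fun z => by
    rw [germOf_resUnitK]; exact hf₁ ⟨z.1, z.2.1⟩
  have hg₂ : ∀ z : U, E.1 z.1 = germOf g₂ z := fun z => by
    rw [germOf_resUnitK]; exact hf₂ ⟨z.1, z.2.2⟩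
  have hg₃ : ∀ z : U, (D * E).1 z.1 = germOf (g₁ * g₂) z := fun z => by
    change D.1 z.1 * E.1 z.1 = _
    rw [hg₁ z, hg₂ z, germOf, germOf, germOf, map_mul]
    rfl
  obtain ⟨σ₁, hσ₁val, hσ₁⟩ := exists_free_gen D U g₁ hg₁
  obtain ⟨σ₂, hσ₂val, hσ₂⟩ := exists_free_gen E U g₂ hg₂
  obtain ⟨σ₃, hσ₃val, hσ₃⟩ := exists_free_gen (D * E) U (g₁ * g₂) hg₃
  have hb : PUP.IsBasisOn (CohB1.tensorMod (divMod D) (divMod E)) U
      (SecTwist.tmul (divMod D) (divMod E) U σ₁ σ₂) := STL.isBasisOn_tmul hσ₁ hσ₂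
  have hb' : IsFreeGen (CohB1.tensorMod (divMod D) (divMod E)) U
      (SecTwist.tmul (divMod D) (divMod E) U σ₁ σ₂) := fun V hV => hb V hV
  have hσ₃' : IsFreeGen (divMod (D * E)) U σ₃ := fun V hV => hσ₃ V hV
  refine ⟨U, hyU, SecTwist.tmul (divMod D) (divMod E) U σ₁ σ₂, hb'.germ_bijective hyU, ?_⟩
  rw [mulHom_tmul]
  have e : mulSec D E U σ₁ σ₂ = σ₃ := by
    apply divMod_ext
    intro z
    rw [mulSec_val, hσ₁val, hσ₂val, hσ₃val, mul_inv, Units.val_mul, kmod_mul_apply]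
  rw [e]
  exact hσ₃'.germ_bijective hyU

theorem main (D E : Divisor X) :
    ∃ μ : CohB1.tensorMod (divMod D) (divMod E) ⟶ divMod (D * E),
      (∀ (U : X.Opens) (t : Γ(divMod D, U)) (t' : Γ(divMod E, U)),
        (divModι (D * E)).app U (μ.app U (SecTwist.tmul (divMod D) (divMod E) U t t')) =
          (divModι D).app U t * (divModι E).app U t') ∧
      IsIso μ :=
  ⟨mulHom D E, fun U t t' => by rw [mulHom_tmul, divModι_mulSec], isIso_mulHom D E⟩

end Groth.Agent.H54.DivTensor
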