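import Groth.Agent.H54.FibrationNormal
import Groth.Agent.H54.FpqcLocTriv4

set_option autoImplicit false
set_option linter.style.haveILetI false
universe u
open CategoryTheory CategoryTheory.Limits AlgebraicGeometry TopologicalSpace Opposite

namespace Groth.Agent.H54.FibrationIntegral

variable {X Y : Scheme.{u}}

/-- a surjective morphism with `O_Y → f_* O_X` injective from an integral scheme has integral
target. -/
theorem isIntegral_of_fibration (f : X ⟶ Y) (hsurj : Function.Surjective f)
    (hinj : ∀ V : Y.Opens, Function.Injective (f.app V)) [IsIntegral X] : IsIntegral Y := by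
  haveI : IsReduced Y := ⟨fun V => isReduced_of_injective (f.app V).hom (hinj V)⟩
  haveI : IrreducibleSpace Y := by
    have h1 : IsIrreducible (Set.univ : Set X) := IrreducibleSpace.isIrreducible_univ X
    have h2 := h1.image f f.continuous.continuousOn
    rw [Set.image_univ_of_surjective hsurj] at h2
    haveI : PreirreducibleSpace Y := ⟨h2.isPreirreducible⟩
    exact ⟨(inferInstance : Nonempty X).map f⟩
  haveI : Nonempty Y := (inferInstance : Nonempty X).map f
  exact isIntegral_of_irreducibleSpace_of_isReduced Y

/-- any morphism `Spec K ⟶ Spec k` of spectra of fields is flat -/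
theorem flat_of_field (k K : Type u) [Field k] [Field K]
    (y : Spec (CommRingCat.of K) ⟶ Spec (CommRingCat.of k)) : Flat y := by
  rw [← Spec.map_preimage y, Flat.SpecMap_iff]
  letI := (Spec.preimage y).hom.toAlgebra
  exact (RingHom.flat_algebraMap_iff (R := k) (S := K)).2 inferInstance

/-- base change of a proper fibration along a field extension is a (closed, surjective) fibration -/
theorem baseChange_fibration (k : Type u) [Field k] [X.Over (Spec (CommRingCat.of k))]
    [Y.Over (Spec (CommRingCat.of k))] (f : X ⟶ Y) [IsProper f]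
    (hf : f ≫ (Y ↘ Spec (CommRingCat.of k)) = X ↘ Spec (CommRingCat.of k))
    (hfib : ∀ V : Y.Opens, IsIso (f.app V)) (K : Type u) [Field K]
    (y : Spec (CommRingCat.of K) ⟶ Spec (CommRingCat.of k)) {Z : Scheme.{u}} (fst : Z ⟶ Y)
    (snd : Z ⟶ Spec (CommRingCat.of K)) (h : IsPullback fst snd (Y ↘ Spec (CommRingCat.of k)) y) :
    ∃ fK : pullback (X ↘ Spec (CommRingCat.of k)) y ⟶ Z, IsProper fK ∧
      (∀ V : Z.Opens, IsIso (fK.app V)) ∧ Function.Surjective fK := by
  have hw : (pullback.fst (X ↘ Spec (CommRingCat.of k)) y ≫ f) ≫ (Y ↘ Spec (CommRingCat.of k)) =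
      pullback.snd (X ↘ Spec (CommRingCat.of k)) y ≫ y := by
    rw [Category.assoc, hf, pullback.condition]
  let fK : pullback (X ↘ Spec (CommRingCat.of k)) y ⟶ Z := h.lift _ _ hw
  have hfst : fK ≫ fst = pullback.fst _ _ ≫ f := h.lift_fst _ _ hw
  have hsnd : fK ≫ snd = pullback.snd _ _ := h.lift_snd _ _ hw
  have hpb : IsPullback (pullback.fst (X ↘ Spec (CommRingCat.of k)) y) fK f fst := by
    refine IsPullback.of_bot ?_ hfst.symm h
    rw [hsnd, hf]
    exact IsPullback.of_hasPullback _ _
  haveI : Flat y := flat_of_field k K y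
  haveI : Flat fst := MorphismProperty.of_isPullback h.flip (inferInstance : Flat y)
  have hfib' := Groth.Agent.H54.FpqcLocTriv.bijective_app_baseChange hpb
    (fun V => ConcreteCategory.bijective_of_isIso (f.app V))
  haveI : IsProper fK := MorphismProperty.of_isPullback hpb (inferInstance : IsProper f)
  have hiso : ∀ V : Z.Opens, IsIso (fK.app V) := fun V =>
    (ConcreteCategory.isIso_iff_bijective _).2 (hfib' V)
  exact ⟨fK, inferInstance, hiso,
    Groth.Agent.H54.FibrationNormal.surjective_of_fibration fK fK.isClosedMap hiso⟩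

end Groth.Agent.H54.FibrationIntegral
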