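import Groth.Agent.H18.STL.Basic
import Groth.Agent.H84.LocNoeth
import Groth.Prelude.Def_Pi1

set_option autoImplicit false
universe u
open CategoryTheory CategoryTheory.Limits AlgebraicGeometry TopologicalSpace Opposite

namespace Groth.Agent.H54.FibrationNormal

open Groth.Agent.H18 Groth.Agent.H18.PUP Groth.Agent.H18.STL

section Alg

/-- pure algebra: an integral fraction `a/b` over `R` becomes an honest element after an injective
map to an integrally closed domain. -/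
theorem dvd_map_of_isIntegral_mk' {R S : Type*} [CommRing R] [IsDomain R] [CommRing S] [IsDomain S]
    [IsIntegrallyClosed S] (φ : R →+* S) (hφ : Function.Injective φ) (a : R)
    (b : nonZeroDivisors R)
    (h : IsIntegral R (IsLocalization.mk' (FractionRing R) a b)) : φ b ∣ φ a := by
  have hle : nonZeroDivisors R ≤ (nonZeroDivisors S).comap φ :=
    nonZeroDivisors_le_comap_nonZeroDivisors_of_injective φ hφ
  let ψ : FractionRing R →+* FractionRing S := IsLocalization.map (FractionRing S) φ hle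
  have hcomp : (algebraMap S (FractionRing S)).comp φ = ψ.comp (algebraMap R (FractionRing R)) :=
    (IsLocalization.map_comp hle).symm
  have hint : IsIntegral S (ψ (IsLocalization.mk' (FractionRing R) a b)) :=
    IsIntegral.map_of_comp_eq φ ψ hcomp h
  obtain ⟨c, hc⟩ := IsIntegrallyClosed.isIntegral_iff.mp hint
  have hψ : ψ (IsLocalization.mk' (FractionRing R) a b) =
      IsLocalization.mk' (FractionRing S) (φ a) ⟨φ b, hle b.2⟩ := IsLocalization.map_mk' hle a b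
  rw [hψ, IsLocalization.eq_mk'_iff_mul_eq] at hc
  refine ⟨c, ?_⟩
  apply IsFractionRing.injective S (FractionRing S)
  rw [← hc, map_mul, mul_comm]

end Alg

variable {X : Scheme.{u}}

theorem germ_injective_of_isIntegral_opens (N : X.Opens) [IsIntegral (N : Scheme.{u})] (x : X)
    (hx : x ∈ N) : Function.Injective (X.presheaf.germ N x hx) := by
  have key : ∀ (N' : X.Opens) (_ : N' = N) (hx' : x ∈ N'),
      Function.Injective (X.presheaf.germ N' x hx') → Function.Injective (X.presheaf.germ N x hx) := by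
    rintro _ rfl _ h
    exact h
  have h1 := germ_injective_of_isIntegral (N : Scheme.{u}) ⟨x, hx⟩ (U := ⊤) trivial
  have e := N.germ_stalkIso_hom (V := ⊤) (x := ⟨x, hx⟩) trivial
  refine key (N.ι ''ᵁ ⊤) N.ι_image_top ⟨⟨x, hx⟩, trivial, rfl⟩ ?_
  rw [← e]
  intro a b hab
  apply h1
  have h2 : Function.Injective (N.stalkIso ⟨x, hx⟩).hom :=
    (ConcreteCategory.bijective_of_isIso (N.stalkIso ⟨x, hx⟩).hom).1
  exact h2 hab

theorem germ_rres {W W' : X.Opens} (h : W' ≤ W) (x : X) (hx : x ∈ W') (a : Γ(X, W)) :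
    X.presheaf.germ W' x hx (rres X h a) = X.presheaf.germ W x (h hx) a :=
  TopCat.Presheaf.germ_res_apply X.presheaf (homOfLE h) x hx a

theorem isOpen_germ_eq_zero (W : X.Opens) (a : Γ(X, W)) :
    IsOpen {x : X | ∃ hx : x ∈ W, X.presheaf.germ W x hx a = 0} := by
  rw [isOpen_iff_forall_mem_open]
  rintro x ⟨hx, h0⟩
  rw [← map_zero (X.presheaf.germ W x hx).hom] at h0
  obtain ⟨N, hxN, i, _, h⟩ := X.presheaf.germ_eq x hx hx a 0 h0
  refine ⟨N, ?_, N.isOpen, hxN⟩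
  intro x' hx'
  refine ⟨i.le hx', ?_⟩
  have := congrArg (X.presheaf.germ N x' hx') h
  rw [TopCat.Presheaf.germ_res_apply, TopCat.Presheaf.germ_res_apply] at this
  rw [this, map_zero]

theorem isOpen_germ_ne_zero [IsLocallyNoetherian X] (hX : ∀ x : X, IsDomain (X.presheaf.stalk x))
    (W : X.Opens) (a : Γ(X, W)) :
    IsOpen {x : X | ∃ hx : x ∈ W, X.presheaf.germ W x hx a ≠ 0} := by
  rw [isOpen_iff_forall_mem_open]
  rintro x ⟨hx, h0⟩
  haveI := hX x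
  obtain ⟨N, hxN, hN⟩ := Groth.Agent.H84.LocNoeth.exists_integral_nhd X x
  have hxN' : x ∈ N ⊓ W := ⟨hxN, hx⟩
  haveI : Nonempty ((N ⊓ W : X.Opens) : Scheme.{u}) := ⟨⟨x, hxN'⟩⟩
  haveI : IsIntegral ((N ⊓ W : X.Opens) : Scheme.{u}) :=
    isIntegral_of_isOpenImmersion (X.homOfLE (inf_le_left : N ⊓ W ≤ N))
  refine ⟨(N ⊓ W : X.Opens), ?_, (N ⊓ W).isOpen, hxN'⟩
  intro x' hx'
  refine ⟨hx'.2, fun h1 => h0 ?_⟩
  rw [← germ_rres (inf_le_right : N ⊓ W ≤ W) x' hx'] at h1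
  rw [← map_zero (X.presheaf.germ (N ⊓ W) x' hx').hom] at h1
  have h2 := germ_injective_of_isIntegral_opens (N ⊓ W) x' hx' h1
  rw [← germ_rres (inf_le_right : N ⊓ W ≤ W) x hxN', h2, map_zero]

/-- the locus where `b` divides `a` locally. -/
theorem isOpen_dvd (W : X.Opens) (a b : Γ(X, W)) :
    IsOpen {x : X | ∃ (N : X.Opens) (hN : N ≤ W) (γ : Γ(X, N)), x ∈ N ∧
      rres X hN a = rres X hN b * γ} := by
  rw [isOpen_iff_forall_mem_open]
  rintro x ⟨N, hN, γ, hxN, h⟩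
  exact ⟨N, fun x' hx' => ⟨N, hN, γ, hx', h⟩, N.isOpen, hxN⟩

theorem mem_dvd_of_germ_dvd (W : X.Opens) (a b : Γ(X, W)) (x : X) (hx : x ∈ W)
    (h : X.presheaf.germ W x hx b ∣ X.presheaf.germ W x hx a) :
    ∃ (N : X.Opens) (hN : N ≤ W) (γ : Γ(X, N)), x ∈ N ∧ rres X hN a = rres X hN b * γ := by
  obtain ⟨c, hc⟩ := h
  obtain ⟨N, hxN, γ, rfl⟩ := X.presheaf.exists_germ_eq c
  have hxN' : x ∈ N ⊓ W := ⟨hxN, hx⟩
  have h1 : X.presheaf.germ (N ⊓ W) x hxN' (rres X (inf_le_right : N ⊓ W ≤ W) a) =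
      X.presheaf.germ (N ⊓ W) x hxN' (rres X (inf_le_right : N ⊓ W ≤ W) b *
        rres X (inf_le_left : N ⊓ W ≤ N) γ) := by
    rw [map_mul, germ_rres, germ_rres, germ_rres]
    exact hc
  obtain ⟨N', hxN', i₁, i₂, h2⟩ := X.presheaf.germ_eq x _ _ _ _ h1
  have hN' : N' ≤ W := i₁.le.trans inf_le_right
  refine ⟨N', hN', rres X (i₁.le.trans inf_le_left) γ, hxN', ?_⟩
  have h3 : rres X i₁.le (rres X (inf_le_right : N ⊓ W ≤ W) a) =
      rres X i₁.le (rres X (inf_le_right : N ⊓ W ≤ W) b * rres X (inf_le_left : N ⊓ W ≤ N) γ) := h2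
  rw [map_mul, rres_rres, rres_rres, rres_rres] at h3
  exact h3

/-- indicator function of a clopen decomposition -/
theorem exists_indicator (W Z₁ Z₂ : X.Opens) (h₁ : Z₁ ≤ W) (h₂ : Z₂ ≤ W)
    (hcov : ∀ x ∈ W, x ∈ Z₁ ∨ x ∈ Z₂) (hdisj : Z₁ ⊓ Z₂ = ⊥) :
    ∃ e : Γ(X, W), (∀ x (hx : x ∈ Z₁), X.presheaf.germ W x (h₁ hx) e = 1) ∧
      (∀ x (hx : x ∈ Z₂), X.presheaf.germ W x (h₂ hx) e = 0) := by
  let Wf : ULift.{u} Bool → X.Opens := fun i => if i.down then Z₁ else Z₂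
  have hWf : ∀ i, Wf i ≤ W := by
    rintro ⟨_ | _⟩
    · exact h₂
    · exact h₁
  let σ : ∀ i, Γ(X, Wf i) := fun i => if i.down then 1 else 0
  have hsub : ∀ i j : ULift.{u} Bool, i.down ≠ j.down → Subsingleton Γ(X, Wf i ⊓ Wf j) := by
    rintro ⟨_ | _⟩ ⟨_ | _⟩ hij
    · exact absurd rfl hij
    · have : Wf ⟨false⟩ ⊓ Wf ⟨true⟩ = ⊥ := by
        change Z₂ ⊓ Z₁ = ⊥
        rw [inf_comm]; exact hdisj
      rw [this]; infer_instance
    · have : Wf ⟨true⟩ ⊓ Wf ⟨false⟩ = ⊥ := hdisj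
      rw [this]; infer_instance
    · exact absurd rfl hij
  obtain ⟨e, he⟩ := exists_glue_fun Wf W hWf (fun x hx => by
      rcases hcov x hx with h | h
      · exact ⟨⟨true⟩, h⟩
      · exact ⟨⟨false⟩, h⟩) σ (by
      intro i j
      by_cases hij : i.down = j.down
      · have : i = j := by
          cases i; cases j; simp_all
        subst this
        rfl
      · haveI := hsub i j hij
        exact Subsingleton.elim _ _)
  refine ⟨e, fun x hx => ?_, fun x hx => ?_⟩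
  · have := he ⟨true⟩
    rw [← germ_rres h₁ x hx]
    erw [this]
    exact map_one _
  · have := he ⟨false⟩
    rw [← germ_rres h₂ x hx]
    erw [this]
    exact map_zero _

variable {Y : Scheme.{u}}

/-- a closed fibration is surjective -/
theorem surjective_of_fibration (f : X ⟶ Y) (hcl : IsClosedMap f)
    (hfib : ∀ V : Y.Opens, IsIso (f.app V)) : Function.Surjective f := by
  intro y
  by_contra hy
  have hy' : y ∉ Set.range f := fun ⟨x, hx⟩ => hy ⟨x, hx⟩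
  let V : Y.Opens := ⟨(Set.range f)ᶜ, hcl.isClosed_range.isOpen_compl⟩
  have hyV : y ∈ V := hy'
  have hbot : f ⁻¹ᵁ V = ⊥ := by
    ext x
    simp only [Opens.coe_bot, Set.mem_empty_iff_false, iff_false]
    intro hx
    exact hx ⟨x, rfl⟩
  haveI : Subsingleton Γ(X, f ⁻¹ᵁ V) := by
    rw [hbot]; infer_instance
  haveI := hfib V
  have hinj : Function.Injective (f.app V) := (ConcreteCategory.bijective_of_isIso (f.app V)).1
  have h10 : (1 : Γ(Y, V)) = 0 := hinj (Subsingleton.elim _ _)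
  have := congrArg (Y.presheaf.germ V y hyV) h10
  rw [map_one, map_zero] at this
  exact one_ne_zero this

/-- for a fibration from a locally Noetherian scheme with domain stalks, the stalk maps are
injective. -/
theorem stalkMap_injective [IsLocallyNoetherian X] (f : X ⟶ Y)
    (hfib : ∀ V : Y.Opens, IsIso (f.app V)) (hX : ∀ x : X, IsDomain (X.presheaf.stalk x)) (x : X) :
    Function.Injective (f.stalkMap x) := by
  rw [injective_iff_map_eq_zero]
  intro r hr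
  obtain ⟨V, hxV, ρ, rfl⟩ := Y.presheaf.exists_germ_eq r
  have hxW : x ∈ f ⁻¹ᵁ V := hxV
  have hgerm : ∀ (t : Γ(Y, V)), f.stalkMap x (Y.presheaf.germ V (f x) hxV t) =
      X.presheaf.germ (f ⁻¹ᵁ V) x hxW (f.app V t) := fun t =>
    Scheme.Hom.germ_stalkMap_apply f V x hxV t
  rw [hgerm] at hr
  set a' := f.app V ρ with ha'
  let Z : X.Opens := ⟨_, isOpen_germ_eq_zero (f ⁻¹ᵁ V) a'⟩
  let NZ : X.Opens := ⟨_, isOpen_germ_ne_zero hX (f ⁻¹ᵁ V) a'⟩
  have hZ : Z ≤ f ⁻¹ᵁ V := fun z hz => hz.1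
  have hNZ : NZ ≤ f ⁻¹ᵁ V := fun z hz => hz.1
  obtain ⟨e, he1, he0⟩ := exists_indicator (f ⁻¹ᵁ V) Z NZ hZ hNZ (fun z hz => by
      by_cases h : X.presheaf.germ (f ⁻¹ᵁ V) z hz a' = 0
      · exact Or.inl ⟨hz, h⟩
      · exact Or.inr ⟨hz, h⟩) (by
      ext z
      simp only [Opens.coe_inf, Set.mem_inter_iff, SetLike.mem_coe, Opens.coe_bot,
        Set.mem_empty_iff_false, iff_false, not_and]
      rintro ⟨hz, h⟩ ⟨_, h'⟩
      exact h' h)
  have hea : e * a' = 0 := by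
    refine TopCat.Presheaf.section_ext X.sheaf _ _ _ (fun z hz => ?_)
    change X.presheaf.germ _ z hz (e * a') = X.presheaf.germ _ z hz 0
    rw [map_mul, map_zero]
    by_cases h : X.presheaf.germ (f ⁻¹ᵁ V) z hz a' = 0
    · rw [h, mul_zero]
    · rw [he0 z ⟨hz, h⟩, zero_mul]
  haveI := hfib V
  have hbij : Function.Bijective (f.app V) := ConcreteCategory.bijective_of_isIso (f.app V)
  obtain ⟨ε, hε⟩ := hbij.2 e
  have hερ : ε * ρ = 0 := by
    apply hbij.1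
    rw [map_mul, map_zero, hε]
    exact hea
  have hsum : Y.presheaf.germ V (f x) hxV ε + Y.presheaf.germ V (f x) hxV (1 - ε) = 1 := by
    rw [← map_add, add_sub_cancel, map_one]
  rcases IsLocalRing.isUnit_or_isUnit_of_add_one hsum with hu | hu
  · have := congrArg (Y.presheaf.germ V (f x) hxV) hερ
    rw [map_mul, map_zero] at this
    exact (hu.mul_right_eq_zero).mp this
  · exfalso
    have h1 : IsUnit (f.stalkMap x (Y.presheaf.germ V (f x) hxV (1 - ε))) := hu.map _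
    rw [hgerm, map_sub, map_one, hε, map_sub, map_one, he1 x ⟨hxW, hr⟩, sub_self] at h1
    exact not_isUnit_zero h1

theorem fiber_mem [IsLocallyNoetherian X] (f : X ⟶ Y)
    (hfib : ∀ V : Y.Opens, IsIso (f.app V)) (hX : Pi1.IsNormalScheme X) (x : X) (y : Y)
    (hxy : f x = y) [IsDomain (Y.presheaf.stalk y)] (V : Y.Opens) (hyV : y ∈ V) (α β : Γ(Y, V))
    (hβ : Y.presheaf.germ V y hyV β ∈ nonZeroDivisors (Y.presheaf.stalk y))
    (hq : IsIntegral (Y.presheaf.stalk y)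
      (IsLocalization.mk' (FractionRing (Y.presheaf.stalk y)) (Y.presheaf.germ V y hyV α)
        ⟨Y.presheaf.germ V y hyV β, hβ⟩)) :
    ∃ hx : x ∈ f ⁻¹ᵁ V, X.presheaf.germ (f ⁻¹ᵁ V) x hx (f.app V β) ≠ 0 ∧
      X.presheaf.germ (f ⁻¹ᵁ V) x hx (f.app V β) ∣ X.presheaf.germ (f ⁻¹ᵁ V) x hx (f.app V α) := by
  subst hxy
  have hxW : x ∈ f ⁻¹ᵁ V := hyV
  refine ⟨hxW, ?_⟩
  haveI := (hX x).1
  haveI := (hX x).2
  have hinj := stalkMap_injective f hfib (fun x => (hX x).1) x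
  have hgerm : ∀ (t : Γ(Y, V)), f.stalkMap x (Y.presheaf.germ V (f x) hyV t) =
      X.presheaf.germ (f ⁻¹ᵁ V) x hxW (f.app V t) := fun t =>
    Scheme.Hom.germ_stalkMap_apply f V x hyV t
  have h1 := dvd_map_of_isIntegral_mk' (f.stalkMap x).hom hinj _ _ hq
  constructor
  · rw [← hgerm]
    intro h0
    rw [← map_zero (f.stalkMap x).hom] at h0
    exact nonZeroDivisors.ne_zero hβ (hinj h0)
  · rw [← hgerm, ← hgerm]
    exact h1


theorem app_rres (f : X ⟶ Y) {V V' : Y.Opens} (h : V' ≤ V) (t : Γ(Y, V)) :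
    f.app V' (rres Y h t) =
      rres X (show f ⁻¹ᵁ V' ≤ f ⁻¹ᵁ V from fun _ hx => h hx) (f.app V t) := by
  have := f.naturality (homOfLE h).op
  exact ConcreteCategory.congr_hom this t

theorem isIntegrallyClosed_stalk [IsLocallyNoetherian X] (f : X ⟶ Y) (hcl : IsClosedMap f)
    (hfib : ∀ V : Y.Opens, IsIso (f.app V)) (hX : Pi1.IsNormalScheme X) (y : Y)
    [IsDomain (Y.presheaf.stalk y)] : IsIntegrallyClosed (Y.presheaf.stalk y) := by
  have hXd : ∀ x : X, IsDomain (X.presheaf.stalk x) := fun x => (hX x).1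
  rw [isIntegrallyClosed_iff (FractionRing (Y.presheaf.stalk y))]
  intro q hq
  obtain ⟨a, ⟨b, hb⟩, rfl⟩ :=
    IsLocalization.exists_mk'_eq (nonZeroDivisors (Y.presheaf.stalk y)) q
  obtain ⟨V₁, hy₁, α₁, rfl⟩ := Y.presheaf.exists_germ_eq a
  obtain ⟨V₂, hy₂, β₂, rfl⟩ := Y.presheaf.exists_germ_eq b
  have hyV : y ∈ V₁ ⊓ V₂ := ⟨hy₁, hy₂⟩
  obtain ⟨V, hV⟩ : ∃ V : Y.Opens, V = V₁ ⊓ V₂ := ⟨_, rfl⟩
  have hV₁ : V ≤ V₁ := hV ▸ inf_le_left
  have hV₂ : V ≤ V₂ := hV ▸ inf_le_right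
  replace hyV : y ∈ V := hV ▸ hyV
  clear hV
  obtain ⟨α, hα⟩ : ∃ α : Γ(Y, V), α = rres Y hV₁ α₁ := ⟨_, rfl⟩
  obtain ⟨β, hβ⟩ : ∃ β : Γ(Y, V), β = rres Y hV₂ β₂ := ⟨_, rfl⟩
  have hgα : Y.presheaf.germ V y hyV α = Y.presheaf.germ V₁ y hy₁ α₁ := by
    rw [hα, germ_rres]
  have hgβ : Y.presheaf.germ V y hyV β = Y.presheaf.germ V₂ y hy₂ β₂ := by
    rw [hβ, germ_rres]
  have hb' : Y.presheaf.germ V y hyV β ∈ nonZeroDivisors (Y.presheaf.stalk y) := hgβ ▸ hb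
  have hq' : IsIntegral (Y.presheaf.stalk y)
      (IsLocalization.mk' (FractionRing (Y.presheaf.stalk y)) (Y.presheaf.germ V y hyV α)
        ⟨Y.presheaf.germ V y hyV β, hb'⟩) := by
    have key : ∀ (a₁ a₂ : Y.presheaf.stalk y) (_ : a₁ = a₂) (b₁ b₂ : Y.presheaf.stalk y)
        (_ : b₁ = b₂) (hb₁ : b₁ ∈ nonZeroDivisors (Y.presheaf.stalk y))
        (hb₂ : b₂ ∈ nonZeroDivisors (Y.presheaf.stalk y)),
        IsLocalization.mk' (FractionRing (Y.presheaf.stalk y)) a₁ ⟨b₁, hb₁⟩ =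
          IsLocalization.mk' (FractionRing (Y.presheaf.stalk y)) a₂ ⟨b₂, hb₂⟩ := by
      rintro _ _ rfl _ _ rfl _ _; rfl
    rw [key _ _ hgα _ _ hgβ hb' hb]
    exact hq
  -- it suffices to find `r` with `germ α = germ β * r`
  suffices h : ∃ r, Y.presheaf.germ V y hyV α = Y.presheaf.germ V y hyV β * r by
    obtain ⟨r, hr⟩ := h
    refine ⟨r, ?_⟩
    rw [IsLocalization.eq_mk'_iff_mul_eq, ← map_mul]
    congr 1
    change r * Y.presheaf.germ V₂ y hy₂ β₂ = _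
    rw [← hgα, ← hgβ, hr, mul_comm]
  clear hq hgα hgβ hα hβ hb
  -- the good locus upstairs
  set a' := f.app V α with ha'
  set b' := f.app V β with hb''
  let D₁ : X.Opens := ⟨_, isOpen_germ_ne_zero hXd (f ⁻¹ᵁ V) b'⟩
  let D₂ : X.Opens := ⟨_, isOpen_dvd (f ⁻¹ᵁ V) a' b'⟩
  have hfiber : ∀ x (_ : f x = y), x ∈ D₁ ⊓ D₂ := fun x hxy => by
    obtain ⟨hx, h1, h2⟩ := fiber_mem f hfib hX x y hxy V hyV α β hb' hq'
    exact ⟨⟨hx, h1⟩, mem_dvd_of_germ_dvd _ _ _ x hx h2⟩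
  let C : Set X := ((D₁ ⊓ D₂ : X.Opens) : Set X)ᶜ
  have hC : IsClosed C := (D₁ ⊓ D₂).isOpen.isClosed_compl
  have hfC : IsClosed (f '' C) := hcl C hC
  let V' : Y.Opens := V ⊓ ⟨(f '' C)ᶜ, hfC.isOpen_compl⟩
  have hyV' : y ∈ V' := ⟨hyV, fun ⟨x, hxC, hxy⟩ => hxC (hfiber x hxy)⟩
  have hV'V : V' ≤ V := inf_le_left
  have hV'D : ∀ x ∈ f ⁻¹ᵁ V', x ∈ D₁ ⊓ D₂ := fun x hx => by
    by_contra h
    exact hx.2 ⟨x, h, rfl⟩
  have hWW : f ⁻¹ᵁ V' ≤ f ⁻¹ᵁ V := fun _ hx => hV'V hx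
  -- local quotients
  choose N hN γ hxN hγ using fun (x : ↥(f ⁻¹ᵁ V')) => (hV'D x.1 x.2).2
  have hgermγ : ∀ (i : ↥(f ⁻¹ᵁ V')) (z : X) (hz : z ∈ N i),
      X.presheaf.germ (f ⁻¹ᵁ V) z (hN i hz) a' =
        X.presheaf.germ (f ⁻¹ᵁ V) z (hN i hz) b' * X.presheaf.germ (N i) z hz (γ i) := by
    intro i z hz
    have := congrArg (X.presheaf.germ (N i) z hz) (hγ i)
    rw [map_mul, germ_rres, germ_rres] at this
    exact this
  have hWf : ∀ i, N i ⊓ f ⁻¹ᵁ V' ≤ f ⁻¹ᵁ V' := fun i => inf_le_right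
  obtain ⟨c, hc⟩ := exists_glue_fun (fun i => N i ⊓ f ⁻¹ᵁ V') (f ⁻¹ᵁ V') hWf
    (fun x hx => ⟨⟨x, hx⟩, hxN ⟨x, hx⟩, hx⟩)
    (fun i => rres X (inf_le_left : N i ⊓ f ⁻¹ᵁ V' ≤ N i) (γ i)) (by
      intro i j
      refine TopCat.Presheaf.section_ext X.sheaf _ _ _ (fun z hz => ?_)
      change X.presheaf.germ _ z hz _ = X.presheaf.germ _ z hz _
      rw [germ_rres, germ_rres, germ_rres, germ_rres]
      have hzi : z ∈ N i := hz.1.1
      have hzj : z ∈ N j := hz.2.1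
      have hzW' : z ∈ f ⁻¹ᵁ V' := hz.1.2
      have h1 := hgermγ i z hzi
      have h2 := hgermγ j z hzj
      haveI := hXd z
      have hne : X.presheaf.germ (f ⁻¹ᵁ V) z (hWW hzW') b' ≠ 0 := (hV'D z hzW').1.2
      exact mul_left_cancel₀ hne (h1.symm.trans h2))
  have hac : rres X hWW a' = rres X hWW b' * c := by
    refine TopCat.Presheaf.section_ext X.sheaf _ _ _ (fun z hz => ?_)
    change X.presheaf.germ _ z hz _ = X.presheaf.germ _ z hz _
    rw [map_mul, germ_rres, germ_rres]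
    have hzi : z ∈ N ⟨z, hz⟩ ⊓ f ⁻¹ᵁ V' := ⟨hxN ⟨z, hz⟩, hz⟩
    have h1 := congrArg (X.presheaf.germ _ z hzi) (hc ⟨z, hz⟩)
    rw [germ_rres, germ_rres] at h1
    rw [h1]
    exact hgermγ ⟨z, hz⟩ z hzi.1
  haveI := hfib V'
  have hbij : Function.Bijective (f.app V') := ConcreteCategory.bijective_of_isIso (f.app V')
  obtain ⟨κ, hκ⟩ := hbij.2 c
  have hακ : rres Y hV'V α = rres Y hV'V β * κ := by
    apply hbij.1
    rw [map_mul, app_rres, app_rres, hκ]
    exact hac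
  refine ⟨Y.presheaf.germ V' y hyV' κ, ?_⟩
  have := congrArg (Y.presheaf.germ V' y hyV') hακ
  rw [map_mul, germ_rres, germ_rres] at this
  exact this


/-- **Main theorem**: a closed fibration `f : X ⟶ Y` (`O_Y → f_* O_X` an isomorphism) from a locally
Noetherian normal scheme has normal target. -/
theorem isNormalScheme_of_fibration [IsLocallyNoetherian X] (f : X ⟶ Y) (hcl : IsClosedMap f)
    (hfib : ∀ V : Y.Opens, IsIso (f.app V)) (hX : Pi1.IsNormalScheme X) : Pi1.IsNormalScheme Y := by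
  intro y
  obtain ⟨x, rfl⟩ := surjective_of_fibration f hcl hfib y
  have hinj := stalkMap_injective f hfib (fun x => (hX x).1) x
  haveI := (hX x).1
  haveI : IsDomain (Y.presheaf.stalk (f x)) := hinj.isDomain (f.stalkMap x).hom
  exact ⟨inferInstance, isIntegrallyClosed_stalk f hcl hfib hX (f x)⟩

end Groth.Agent.H54.FibrationNormal
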