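import Mathlib

set_option autoImplicit false

open MvPowerSeries Finsupp

namespace Groth.Agent.H54.FormalInverse

variable {σ : Type*} {R : Type*} [CommRing R]

/-- Power series all of whose coefficients of degree `< k` vanish. -/
def I (σ : Type*) (R : Type*) [CommRing R] (k : ℕ) : Ideal (MvPowerSeries σ R) where
  carrier := {f | ∀ d : σ →₀ ℕ, d.degree < k → coeff d f = 0}
  add_mem' := by
    intro f g hf hg d hd
    rw [map_add, hf d hd, hg d hd, add_zero]
  zero_mem' := by
    intro d _
    rfl
  smul_mem' := by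
    classical
    intro c f hf d hd
    rw [smul_eq_mul, coeff_mul]
    apply Finset.sum_eq_zero
    rintro ⟨a, b⟩ hab
    rw [Finset.HasAntidiagonal.mem_antidiagonal] at hab
    have hb : b.degree < k := by
      have : a.degree + b.degree = d.degree := by rw [← map_add, hab]
      omega
    rw [hf b hb, mul_zero]

theorem mem_I {k : ℕ} {f : MvPowerSeries σ R} :
    f ∈ I σ R k ↔ ∀ d : σ →₀ ℕ, d.degree < k → coeff d f = 0 := Iff.rfl

theorem I_zero : I σ R 0 = ⊤ := by
  rw [eq_top_iff]
  intro f _ d hd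
  exact absurd hd (Nat.not_lt_zero _)

theorem I_anti {k l : ℕ} (h : k ≤ l) : I σ R l ≤ I σ R k :=
  fun _ hf d hd => hf d (lt_of_lt_of_le hd h)

theorem mul_mem_I {a b : ℕ} {f g : MvPowerSeries σ R} (hf : f ∈ I σ R a) (hg : g ∈ I σ R b) :
    f * g ∈ I σ R (a + b) := by
  classical
  intro d hd
  rw [coeff_mul]
  apply Finset.sum_eq_zero
  rintro ⟨p, q⟩ hpq
  rw [Finset.HasAntidiagonal.mem_antidiagonal] at hpq
  have hdeg : p.degree + q.degree = d.degree := by rw [← map_add, hpq]
  by_cases hp : p.degree < a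
  · rw [hf p hp, zero_mul]
  · have hq : q.degree < b := by omega
    rw [hg q hq, mul_zero]

theorem eq_zero_of_forall_mem_I {f : MvPowerSeries σ R} (h : ∀ k, f ∈ I σ R k) : f = 0 := by
  ext d
  exact h (d.degree + 1) d (Nat.lt_succ_self _)

theorem X_mem_I (i : σ) : (X i : MvPowerSeries σ R) ∈ I σ R 1 := by
  classical
  intro d hd
  have hd0 : d = 0 := (degree_eq_zero_iff d).mp (by omega)
  rw [hd0, coeff_zero_X]

theorem mem_I_one_iff {f : MvPowerSeries σ R} : f ∈ I σ R 1 ↔ constantCoeff f = 0 := by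
  constructor
  · intro h
    have := h 0 (by simp)
    rwa [coeff_zero_eq_constantCoeff_apply] at this
  · intro h d hd
    have hd0 : d = 0 := (degree_eq_zero_iff d).mp (by omega)
    rw [hd0, coeff_zero_eq_constantCoeff_apply, h]

end Groth.Agent.H54.FormalInverse
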