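import Mathlib
import Groth.Agent.H54.FormalInverse1

set_option autoImplicit false

open MvPowerSeries Finsupp

namespace Groth.Agent.H54.FormalInverse

variable {σ : Type*} {R : Type*} [CommRing R]

open scoped Classical in
/-- the `i`-th piece of the decomposition `f = ∑ X i * piece f i`: the monomials of `f`
whose first variable is `X i`, divided by `X i`. -/
noncomputable def piece [LinearOrder σ] (f : MvPowerSeries σ R) (i : σ) : MvPowerSeries σ R :=
  fun e => if (∀ j < i, e j = 0) then coeff (e + single i 1) f else 0

open scoped Classical in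
theorem coeff_piece [LinearOrder σ] (f : MvPowerSeries σ R) (i : σ) (e : σ →₀ ℕ) :
    coeff e (piece f i) = if (∀ j < i, e j = 0) then coeff (e + single i 1) f else 0 := by
  rw [coeff_apply]
  rfl

theorem piece_mem_I [LinearOrder σ] {k : ℕ} {f : MvPowerSeries σ R} (hf : f ∈ I σ R (k + 1))
    (i : σ) : piece f i ∈ I σ R k := by
  intro e he
  rw [coeff_piece]
  split_ifs
  · apply hf
    rw [map_add, degree_single]
    omega
  · rfl

theorem sum_X_mul_piece [LinearOrder σ] [Fintype σ] {f : MvPowerSeries σ R}
    (hf : constantCoeff f = 0) : f = ∑ i, X i * piece f i := by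
  classical
  ext d
  rw [map_sum]
  by_cases hd : d = 0
  · subst hd
    rw [coeff_zero_eq_constantCoeff_apply, hf]
    symm
    apply Finset.sum_eq_zero
    intro i _
    exact coeff_zero_X_mul _ _
  · have hsupp : d.support.Nonempty := by
      rwa [Finsupp.support_nonempty_iff]
    set i₀ := d.support.min' hsupp with hi₀
    have hi₀mem : i₀ ∈ d.support := Finset.min'_mem _ _
    have hi₀ne : d i₀ ≠ 0 := Finsupp.mem_support_iff.mp hi₀mem
    have hlt : ∀ j < i₀, d j = 0 := by
      intro j hj
      by_contra hne
      have : j ∈ d.support := Finsupp.mem_support_iff.mpr hne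
      exact absurd (Finset.min'_le _ j this) (not_le.mpr hj)
    have hterm : ∀ i, coeff d (X i * piece f i) =
        if single i 1 ≤ d then coeff (d - single i 1) (piece f i) else 0 := by
      intro i
      rw [X_def, coeff_monomial_mul, one_mul]
    rw [Finset.sum_eq_single i₀]
    · rw [hterm, if_pos, coeff_piece, if_pos]
      · congr 1
        rw [tsub_add_cancel_of_le]
        rw [Finsupp.single_le_iff]
        omega
      · intro j hj
        rw [Finsupp.tsub_apply, Finsupp.single_apply, if_neg (ne_of_gt hj), hlt j hj, Nat.sub_zero]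
      · rw [Finsupp.single_le_iff]
        omega
    · intro i _ hi
      rw [hterm]
      split_ifs with hle
      · rw [coeff_piece, if_neg]
        push Not
        have hdi : d i ≠ 0 := by
          have := hle i
          rw [Finsupp.single_eq_same] at this
          omega
        have hi₀i : i₀ < i := by
          have : i ∈ d.support := Finsupp.mem_support_iff.mpr hdi
          exact lt_of_le_of_ne (Finset.min'_le _ i this) (Ne.symm hi)
        refine ⟨i₀, hi₀i, ?_⟩
        rw [Finsupp.tsub_apply, Finsupp.single_apply, if_neg (ne_of_gt hi₀i)]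
        simpa using hi₀ne
      · rfl
    · intro h
      exact absurd (Finset.mem_univ _) h

theorem exists_decomposition [LinearOrder σ] [Fintype σ] {k : ℕ} {f : MvPowerSeries σ R}
    (hf : f ∈ I σ R (k + 1)) :
    ∃ g : σ → MvPowerSeries σ R, (∀ i, g i ∈ I σ R k) ∧ f = ∑ i, X i * g i :=
  ⟨piece f, piece_mem_I hf, sum_X_mul_piece (mem_I_one_iff.mp (I_anti (Nat.le_add_left 1 k) hf))⟩

end Groth.Agent.H54.FormalInverse
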