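import Mathlib
import Groth.Agent.H54.FormalInverse2

set_option autoImplicit false

open MvPowerSeries Finsupp

namespace Groth.Agent.H54.FormalInverse

variable {σ : Type*} {R : Type*} [CommRing R]

/-- A ring endomorphism of the power series ring (finitely many variables) sending the
variables into `I 1` preserves the filtration. -/
theorem map_mem_I [LinearOrder σ] [Fintype σ] (φ : MvPowerSeries σ R →+* MvPowerSeries σ R)
    (h0 : ∀ i, φ (X i) ∈ I σ R 1) (k : ℕ) {f : MvPowerSeries σ R} (hf : f ∈ I σ R k) :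
    φ f ∈ I σ R k := by
  induction k generalizing f with
  | zero => rw [I_zero]; trivial
  | succ k ih =>
    obtain ⟨g, hg, rfl⟩ := exists_decomposition hf
    rw [map_sum]
    refine Ideal.sum_mem _ fun i _ => ?_
    rw [map_mul, add_comm]
    exact mul_mem_I (h0 i) (ih (hg i))

section twoHoms

variable {S : Type*} [CommRing S] (F : ℕ → Ideal S)
  (hF0 : F 0 = ⊤) (hFmul : ∀ a b (x y : S), x ∈ F a → y ∈ F b → x * y ∈ F (a + b))
  (ψ₁ ψ₂ : MvPolynomial σ R →+* S)
  (hC : ∀ r, ψ₁ (MvPolynomial.C r) = ψ₂ (MvPolynomial.C r))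
  (h₁ : ∀ i, ψ₁ (MvPolynomial.X i) ∈ F 1) (h₂ : ∀ i, ψ₂ (MvPolynomial.X i) ∈ F 1)
  (h₁₂ : ∀ i, ψ₁ (MvPolynomial.X i) - ψ₂ (MvPolynomial.X i) ∈ F 2)

include hF0 hFmul hC h₁ h₂ h₁₂ in
theorem monomial_claim (k : ℕ) : ∀ (s : σ →₀ ℕ) (a : R), s.degree = k →
    ψ₁ (MvPolynomial.monomial s a) ∈ F k ∧ ψ₂ (MvPolynomial.monomial s a) ∈ F k ∧
      ψ₁ (MvPolynomial.monomial s a) - ψ₂ (MvPolynomial.monomial s a) ∈ F (k + 1) := by
  classical
  induction k with
  | zero =>
    intro s a hs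
    have hs0 : s = 0 := (degree_eq_zero_iff s).mp hs
    subst hs0
    have : (MvPolynomial.monomial (0 : σ →₀ ℕ) a) = MvPolynomial.C a := rfl
    rw [this, hC a, sub_self, hF0]
    exact ⟨trivial, trivial, Ideal.zero_mem _⟩
  | succ k ih =>
    intro s a hs
    have hs0 : s ≠ 0 := by
      intro h
      rw [h, map_zero] at hs
      omega
    obtain ⟨i, hi⟩ : ∃ i, s i ≠ 0 := by
      by_contra hcon
      push Not at hcon
      exact hs0 (Finsupp.ext hcon)
    set s' := s - single i 1 with hs'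
    have hss' : s = s' + single i 1 := by
      rw [hs', tsub_add_cancel_of_le]
      rw [Finsupp.single_le_iff]
      omega
    have hdeg : s'.degree = k := by
      have : s.degree = s'.degree + 1 := by rw [hss', map_add, degree_single]
      omega
    obtain ⟨ih1, ih2, ih3⟩ := ih s' a hdeg
    have hmon : MvPolynomial.monomial s a = MvPolynomial.monomial s' a * MvPolynomial.X i := by
      rw [hss', MvPolynomial.monomial_add_single, pow_one]
    rw [hmon, map_mul, map_mul]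
    refine ⟨hFmul _ _ _ _ ih1 (h₁ i), hFmul _ _ _ _ ih2 (h₂ i), ?_⟩
    have : ψ₁ (MvPolynomial.monomial s' a) * ψ₁ (MvPolynomial.X i) -
        ψ₂ (MvPolynomial.monomial s' a) * ψ₂ (MvPolynomial.X i) =
        (ψ₁ (MvPolynomial.monomial s' a) - ψ₂ (MvPolynomial.monomial s' a)) * ψ₁ (MvPolynomial.X i) +
        ψ₂ (MvPolynomial.monomial s' a) * (ψ₁ (MvPolynomial.X i) - ψ₂ (MvPolynomial.X i)) := by
      ring
    rw [this]
    have h2' : ψ₂ (MvPolynomial.monomial s' a) * (ψ₁ (MvPolynomial.X i) - ψ₂ (MvPolynomial.X i)) ∈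
        F (k + 2) := hFmul k 2 _ _ ih2 (h₁₂ i)
    exact Ideal.add_mem _ (hFmul _ _ _ _ ih3 (h₁ i)) h2'

include hF0 hFmul hC h₁ h₂ h₁₂ in
theorem homogeneous_claim {k : ℕ} {P : MvPolynomial σ R} (hP : P.IsHomogeneous k) :
    ψ₁ P - ψ₂ P ∈ F (k + 1) := by
  classical
  rw [← MvPolynomial.support_sum_monomial_coeff P, map_sum, map_sum, ← Finset.sum_sub_distrib]
  refine Ideal.sum_mem _ fun s hs => ?_
  have hsdeg : s.degree = k := by
    have := hP (MvPolynomial.mem_support_iff.mp hs)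
    rw [degree_eq_weight_one]
    exact this
  exact (monomial_claim F hF0 hFmul ψ₁ ψ₂ hC h₁ h₂ h₁₂ k s _ hsdeg).2.2

end twoHoms

end Groth.Agent.H54.FormalInverse
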