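import Mathlib
import Groth.Agent.H54.FormalInverse3

set_option autoImplicit false

open MvPowerSeries Finsupp

namespace Groth.Agent.H54.FormalInverse

variable {σ : Type*} {R : Type*} [CommRing R]

section linSubst

variable [Fintype σ]

/-- Linear substitution `X i ↦ ∑ j, M i j X j`. -/
noncomputable def linSubst (M : Matrix σ σ R) : MvPolynomial σ R →ₐ[R] MvPolynomial σ R :=
  MvPolynomial.aeval (fun i => ∑ j, MvPolynomial.C (M i j) * MvPolynomial.X j)

theorem linSubst_X (M : Matrix σ σ R) (i : σ) :
    linSubst M (MvPolynomial.X i) = ∑ j, MvPolynomial.C (M i j) * MvPolynomial.X j :=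
  MvPolynomial.aeval_X _ _

theorem linSubst_comp [DecidableEq σ] (M N : Matrix σ σ R) :
    (linSubst M).comp (linSubst N) = linSubst (N * M) := by
  apply MvPolynomial.algHom_ext
  intro i
  rw [AlgHom.comp_apply, linSubst_X, linSubst_X, map_sum]
  simp only [map_mul, MvPolynomial.algHom_C, linSubst_X, Matrix.mul_apply, map_sum,
    MvPolynomial.algebraMap_eq]
  simp_rw [Finset.mul_sum, Finset.sum_mul]
  rw [Finset.sum_comm]
  apply Finset.sum_congr rfl
  intro l _
  apply Finset.sum_congr rfl
  intro j _
  ring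

theorem linSubst_one [DecidableEq σ] : linSubst (1 : Matrix σ σ R) = AlgHom.id R _ := by
  apply MvPolynomial.algHom_ext
  intro i
  rw [linSubst_X, AlgHom.id_apply]
  rw [Finset.sum_eq_single i]
  · simp
  · intro j _ hj
    rw [Matrix.one_apply_ne (Ne.symm hj)]
    simp
  · intro h
    exact absurd (Finset.mem_univ _) h

theorem linSubst_isHomogeneous (M : Matrix σ σ R) {k : ℕ} {P : MvPolynomial σ R}
    (hP : P.IsHomogeneous k) : (linSubst M P).IsHomogeneous k := by
  have := hP.aeval (fun i => ∑ j, MvPolynomial.C (M i j) * MvPolynomial.X j) (n := 1)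
    (fun i => MvPolynomial.IsHomogeneous.sum _ _ _
      (fun j _ => MvPolynomial.isHomogeneous_C_mul_X (M i j) j))
  rwa [one_mul] at this

end linSubst

theorem coe_mem_I_of_isHomogeneous {k : ℕ} {P : MvPolynomial σ R} (hP : P.IsHomogeneous k) :
    (P : MvPowerSeries σ R) ∈ I σ R k := by
  intro d hd
  rw [MvPolynomial.coeff_coe]
  apply hP.coeff_eq_zero
  omega

theorem eq_zero_of_isHomogeneous_of_coe_mem_I {k : ℕ} {P : MvPolynomial σ R}
    (hP : P.IsHomogeneous k) (h : (P : MvPowerSeries σ R) ∈ I σ R (k + 1)) : P = 0 := by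
  ext d
  rw [MvPolynomial.coeff_zero]
  by_cases hd : d.degree = k
  · have := h d (by omega)
    rwa [MvPolynomial.coeff_coe] at this
  · exact hP.coeff_eq_zero hd

section trunc

variable [Finite σ]

theorem truncTotal_isHomogeneous {k : ℕ} {f : MvPowerSeries σ R} (hf : f ∈ I σ R k) :
    (truncTotal (k + 1) f).IsHomogeneous k := by
  intro d hd
  rw [coeff_truncTotal_eq_ite] at hd
  have hw : (weight 1) d = d.degree := by rw [degree_eq_weight_one]; rfl
  rw [hw]
  split_ifs at hd with h
  · by_contra hne
    have hlt : d.degree < k := by omega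
    exact hd (hf d hlt)
  · exact absurd rfl hd

theorem sub_truncTotal_mem_I (k : ℕ) (f : MvPowerSeries σ R) :
    f - (truncTotal k f : MvPowerSeries σ R) ∈ I σ R k := by
  intro d hd
  rw [map_sub, MvPolynomial.coeff_coe, coeff_truncTotal _ hd, sub_self]

end trunc

end Groth.Agent.H54.FormalInverse
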