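import Mathlib
import Groth.Agent.H54.FormalInverse4

set_option autoImplicit false

open MvPowerSeries Finsupp

namespace Groth.Agent.H54.FormalInverse

variable {σ : Type*} {R : Type*} [CommRing R] [Fintype σ] [LinearOrder σ]

section main

variable (φ : MvPowerSeries σ R →ₐ[R] MvPowerSeries σ R)
  (h0 : ∀ i, MvPowerSeries.constantCoeff (φ (MvPowerSeries.X i)) = 0)

/-- the Jacobian matrix at the origin -/
noncomputable def jac : Matrix σ σ R :=
  Matrix.of fun i j => MvPowerSeries.coeff (Finsupp.single j 1) (φ (MvPowerSeries.X i))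

include h0 in
theorem map_mem_I' (k : ℕ) {f : MvPowerSeries σ R} (hf : f ∈ I σ R k) : φ f ∈ I σ R k :=
  map_mem_I φ.toRingHom (fun i => mem_I_one_iff.mpr (h0 i)) k hf

include h0 in
/-- the key comparison: on homogeneous polynomials `φ` agrees with the linear substitution
by the Jacobian matrix up to higher order terms. -/
theorem map_coe_sub_coe_linSubst_mem_I {k : ℕ} {P : MvPolynomial σ R} (hP : P.IsHomogeneous k) :
    φ (P : MvPowerSeries σ R) - ((linSubst (jac φ) P : MvPolynomial σ R) : MvPowerSeries σ R) ∈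
      I σ R (k + 1) := by
  classical
  let ψ₁ : MvPolynomial σ R →+* MvPowerSeries σ R :=
    φ.toRingHom.comp MvPolynomial.coeToMvPowerSeries.ringHom
  let ψ₂ : MvPolynomial σ R →+* MvPowerSeries σ R :=
    MvPolynomial.coeToMvPowerSeries.ringHom.comp (linSubst (jac φ)).toRingHom
  have hlin : ∀ i, (∑ j, MvPolynomial.C (jac φ i j) * MvPolynomial.X j :
      MvPolynomial σ R).IsHomogeneous 1 := fun i =>
    MvPolynomial.IsHomogeneous.sum _ _ _
      (fun j _ => MvPolynomial.isHomogeneous_C_mul_X (jac φ i j) j)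
  have hψ₂X : ∀ i, ψ₂ (MvPolynomial.X i) =
      ((∑ j, MvPolynomial.C (jac φ i j) * MvPolynomial.X j : MvPolynomial σ R) :
        MvPowerSeries σ R) := by
    intro i
    change ((linSubst (jac φ) (MvPolynomial.X i) : MvPolynomial σ R) : MvPowerSeries σ R) = _
    rw [linSubst_X]
  have hψ₁X : ∀ i, ψ₁ (MvPolynomial.X i) = φ (MvPowerSeries.X i) := by
    intro i
    change φ ((MvPolynomial.X i : MvPolynomial σ R) : MvPowerSeries σ R) = _
    rw [MvPolynomial.coe_X]
  have key := homogeneous_claim (I σ R) I_zero (fun a b x y hx hy => mul_mem_I hx hy) ψ₁ ψ₂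
    ?_ ?_ ?_ ?_ hP
  · exact key
  · intro r
    change φ ((MvPolynomial.C r : MvPolynomial σ R) : MvPowerSeries σ R) =
      ((linSubst (jac φ) (MvPolynomial.C r) : MvPolynomial σ R) : MvPowerSeries σ R)
    rw [MvPolynomial.algHom_C, MvPolynomial.algebraMap_eq, MvPolynomial.coe_C,
      MvPowerSeries.c_eq_algebraMap, φ.commutes]
  · intro i
    rw [hψ₁X]
    exact mem_I_one_iff.mpr (h0 i)
  · intro i
    rw [hψ₂X]
    exact coe_mem_I_of_isHomogeneous (hlin i)
  · intro i
    rw [hψ₁X, hψ₂X]
    intro d hd
    rw [map_sub, MvPolynomial.coeff_coe]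
    by_cases hd0 : d.degree = 0
    · have hd0' : d = 0 := (degree_eq_zero_iff d).mp hd0
      subst hd0'
      rw [coeff_zero_eq_constantCoeff_apply, h0 i, zero_sub, neg_eq_zero]
      exact (hlin i).coeff_eq_zero (by simp)
    · have hd1 : d.degree = 1 := by omega
      have : d ∈ Set.range (fun a : σ => Finsupp.single a 1) := by
        rw [range_single_one]
        exact hd1
      obtain ⟨j, hj⟩ := this
      have hj' : d = Finsupp.single j 1 := hj.symm
      subst hj'
      rw [sub_eq_zero, MvPolynomial.coeff_sum]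
      rw [Finset.sum_eq_single j]
      · rw [MvPolynomial.coeff_C_mul, MvPolynomial.coeff_X, if_pos rfl, mul_one]
        rfl
      · intro l _ hl
        rw [MvPolynomial.coeff_C_mul, MvPolynomial.coeff_X, if_neg, mul_zero]
        intro h
        exact hl (Finsupp.single_left_injective one_ne_zero h)
      · intro h
        exact absurd (Finset.mem_univ _) h

end main

end Groth.Agent.H54.FormalInverse
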