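import Mathlib
import Groth.Agent.H54.FormalInverse5

set_option autoImplicit false

open MvPowerSeries Finsupp

namespace Groth.Agent.H54.FormalInverse

variable {σ : Type*} {R : Type*} [CommRing R] [Fintype σ] [LinearOrder σ]

section main

variable (φ : MvPowerSeries σ R →ₐ[R] MvPowerSeries σ R)
  (h0 : ∀ i, MvPowerSeries.constantCoeff (φ (MvPowerSeries.X i)) = 0)
  (hJ : IsUnit (jac φ).det)

include hJ in
theorem linSubst_inv_linSubst (P : MvPolynomial σ R) :
    linSubst (jac φ)⁻¹ (linSubst (jac φ) P) = P := by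
  have := linSubst_comp (jac φ)⁻¹ (jac φ)
  rw [Matrix.mul_nonsing_inv _ hJ, linSubst_one] at this
  exact congrArg (fun F => F P) this

include hJ in
theorem linSubst_linSubst_inv (P : MvPolynomial σ R) :
    linSubst (jac φ) (linSubst (jac φ)⁻¹ P) = P := by
  have := linSubst_comp (jac φ) (jac φ)⁻¹
  rw [Matrix.nonsing_inv_mul _ hJ, linSubst_one] at this
  exact congrArg (fun F => F P) this

include h0 hJ in
/-- injectivity step -/
theorem mem_I_succ_of_map_mem {k : ℕ} {f : MvPowerSeries σ R} (hf : f ∈ I σ R k)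
    (hφf : φ f ∈ I σ R (k + 1)) : f ∈ I σ R (k + 1) := by
  set P := truncTotal (k + 1) f with hPdef
  have hP : P.IsHomogeneous k := truncTotal_isHomogeneous hf
  have h1 : f - (P : MvPowerSeries σ R) ∈ I σ R (k + 1) := sub_truncTotal_mem_I (k + 1) f
  have h2 : φ (P : MvPowerSeries σ R) ∈ I σ R (k + 1) := by
    have : φ (P : MvPowerSeries σ R) = φ f - φ (f - (P : MvPowerSeries σ R)) := by
      rw [map_sub]; ring
    rw [this]
    exact Ideal.sub_mem _ hφf (map_mem_I' φ h0 _ h1)
  have h3 := map_coe_sub_coe_linSubst_mem_I φ h0 hP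
  have h4 : ((linSubst (jac φ) P : MvPolynomial σ R) : MvPowerSeries σ R) ∈ I σ R (k + 1) := by
    have : ((linSubst (jac φ) P : MvPolynomial σ R) : MvPowerSeries σ R) =
        φ (P : MvPowerSeries σ R) - (φ (P : MvPowerSeries σ R) -
          ((linSubst (jac φ) P : MvPolynomial σ R) : MvPowerSeries σ R)) := by ring
    rw [this]
    exact Ideal.sub_mem _ h2 h3
  have h5 : linSubst (jac φ) P = 0 :=
    eq_zero_of_isHomogeneous_of_coe_mem_I (linSubst_isHomogeneous _ hP) h4
  have h6 : P = 0 := by
    rw [← linSubst_inv_linSubst φ hJ P, h5, map_zero]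
  rw [h6, MvPolynomial.coe_zero, sub_zero] at h1
  exact h1

include h0 hJ in
theorem injective : Function.Injective φ := by
  rw [injective_iff_map_eq_zero]
  intro f hf
  apply eq_zero_of_forall_mem_I
  intro k
  induction k with
  | zero => rw [I_zero]; trivial
  | succ k ih =>
    apply mem_I_succ_of_map_mem φ h0 hJ ih
    rw [hf]
    exact Ideal.zero_mem _

/-- the correction term -/
noncomputable def corr (k : ℕ) (h : MvPowerSeries σ R) : MvPolynomial σ R :=
  linSubst (jac φ)⁻¹ (truncTotal (k + 1) h)

theorem corr_isHomogeneous {k : ℕ} {h : MvPowerSeries σ R} (hh : h ∈ I σ R k) :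
    (corr φ k h).IsHomogeneous k :=
  linSubst_isHomogeneous _ (truncTotal_isHomogeneous hh)

include h0 hJ in
/-- surjectivity step -/
theorem sub_map_corr_mem_I {k : ℕ} {h : MvPowerSeries σ R} (hh : h ∈ I σ R k) :
    h - φ (corr φ k h : MvPowerSeries σ R) ∈ I σ R (k + 1) := by
  have hQ := corr_isHomogeneous φ hh
  have h1 := map_coe_sub_coe_linSubst_mem_I φ h0 hQ
  have h2 : linSubst (jac φ) (corr φ k h) = truncTotal (k + 1) h :=
    linSubst_linSubst_inv φ hJ _
  rw [h2] at h1
  have h3 := sub_truncTotal_mem_I (k + 1) h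
  have : h - φ (corr φ k h : MvPowerSeries σ R) =
      (h - (truncTotal (k + 1) h : MvPowerSeries σ R)) -
        (φ (corr φ k h : MvPowerSeries σ R) - (truncTotal (k + 1) h : MvPowerSeries σ R)) := by
    ring
  rw [this]
  exact Ideal.sub_mem _ h3 h1

/-- partial sums of the preimage -/
noncomputable def partialSum (g : MvPowerSeries σ R) : ℕ → MvPolynomial σ R
  | 0 => 0
  | k + 1 => partialSum g k + corr φ k (g - φ (partialSum g k : MvPowerSeries σ R))

include h0 hJ in
theorem sub_map_partialSum_mem_I (g : MvPowerSeries σ R) (k : ℕ) :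
    g - φ (partialSum φ g k : MvPowerSeries σ R) ∈ I σ R k := by
  induction k with
  | zero => rw [I_zero]; trivial
  | succ k ih =>
    have := sub_map_corr_mem_I φ h0 hJ ih
    have heq : g - φ (partialSum φ g (k + 1) : MvPowerSeries σ R) =
        (g - φ (partialSum φ g k : MvPowerSeries σ R)) -
          φ (corr φ k (g - φ (partialSum φ g k : MvPowerSeries σ R)) : MvPowerSeries σ R) := by
      rw [partialSum, MvPolynomial.coe_add, map_add]
      ring
    rw [heq]
    exact this

include h0 hJ in
theorem coeff_partialSum_eq (g : MvPowerSeries σ R) (d : σ →₀ ℕ) (k : ℕ) (hk : d.degree + 1 ≤ k) :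
    (partialSum φ g k).coeff d = (partialSum φ g (d.degree + 1)).coeff d := by
  induction k, hk using Nat.le_induction with
  | base => rfl
  | succ k hk ih =>
    rw [partialSum, MvPolynomial.coeff_add, ih]
    have hhom := corr_isHomogeneous φ (sub_map_partialSum_mem_I φ h0 hJ g k)
    rw [hhom.coeff_eq_zero (by omega), add_zero]

include h0 hJ in
theorem surjective : Function.Surjective φ := by
  intro g
  let f : MvPowerSeries σ R := fun d => (partialSum φ g (d.degree + 1)).coeff d
  have hf : ∀ k, f - (partialSum φ g k : MvPowerSeries σ R) ∈ I σ R k := by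
    intro k d hd
    rw [map_sub, MvPolynomial.coeff_coe, coeff_partialSum_eq φ h0 hJ g d k (by omega), sub_eq_zero]
    rfl
  refine ⟨f, ?_⟩
  rw [← sub_eq_zero]
  apply eq_zero_of_forall_mem_I
  intro k
  have h1 := map_mem_I' φ h0 k (hf k)
  have h2 := sub_map_partialSum_mem_I φ h0 hJ g k
  have : φ f - g = φ (f - (partialSum φ g k : MvPowerSeries σ R)) -
      (g - φ (partialSum φ g k : MvPowerSeries σ R)) := by
    rw [map_sub]; ring
  rw [this]
  exact Ideal.sub_mem _ h1 h2

include h0 hJ in
theorem bijective : Function.Bijective φ := ⟨injective φ h0 hJ, surjective φ h0 hJ⟩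

end main

end Groth.Agent.H54.FormalInverse
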