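import Mathlib

set_option autoImplicit false
universe u

namespace Groth.Agent.H54

section avoid
variable {A σ : Type*} [CommRing A] [SetLike σ A] [AddSubgroupClass σ A] (𝒜 : ℕ → σ) [GradedRing 𝒜]

/-- A homogeneous ideal not contained in an ideal `Q` has a homogeneous element outside `Q`. -/
theorem exists_homogeneous_mem_notMem {K Q : Ideal A} (hK : K.IsHomogeneous 𝒜) (hKQ : ¬ K ≤ Q) :
    ∃ (i : ℕ) (x : A), x ∈ 𝒜 i ∧ x ∈ K ∧ x ∉ Q := by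
  classical
  obtain ⟨x, hxK, hxQ⟩ := SetLike.not_le_iff_exists.mp hKQ
  by_contra hcon
  push Not at hcon
  apply hxQ
  rw [← DirectSum.sum_support_decompose 𝒜 x]
  refine Ideal.sum_mem _ fun i _ => ?_
  exact hcon i _ (SetLike.coe_mem _) (hK i hxK)

/-- Homogeneous prime avoidance for pairwise incomparable relevant primes. -/
theorem exists_homogeneous_mem_forall_notMem (I : Ideal A) (hI : I.IsHomogeneous 𝒜)
    (S : Finset (Ideal A)) (hprime : ∀ Q ∈ S, Q.IsPrime) (hhom : ∀ Q ∈ S, Q.IsHomogeneous 𝒜)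
    (hIQ : ∀ Q ∈ S, ¬ I ≤ Q)
    (hrel : ∀ Q ∈ S, ¬ (HomogeneousIdeal.irrelevant 𝒜).toIdeal ≤ Q)
    (hinc : ∀ Q ∈ S, ∀ Q' ∈ S, Q' ≤ Q → Q' = Q) :
    ∃ (d : ℕ) (h : A), 0 < d ∧ h ∈ 𝒜 d ∧ h ∈ I ∧ ∀ Q ∈ S, h ∉ Q := by
  classical
  -- for each `Q ∈ S` a homogeneous element of positive degree
  have key : ∀ Q ∈ S, ∃ (e : ℕ) (a : A), 0 < e ∧ a ∈ 𝒜 e ∧ a ∈ I ∧ a ∉ Q ∧
      ∀ Q' ∈ S, Q' ≠ Q → a ∈ Q' := by
    intro Q hQ
    have hQp : Q.IsPrime := hprime Q hQ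
    obtain ⟨i₁, x₁, hx₁, hx₁I, hx₁Q⟩ := exists_homogeneous_mem_notMem 𝒜 hI (hIQ Q hQ)
    obtain ⟨i₂, x₂, hx₂, hx₂I, hx₂Q⟩ := exists_homogeneous_mem_notMem 𝒜
      (HomogeneousIdeal.irrelevant 𝒜).isHomogeneous (hrel Q hQ)
    have hy : ∀ Q' ∈ S, Q' ≠ Q → ∃ (i : ℕ) (y : A), y ∈ 𝒜 i ∧ y ∈ Q' ∧ y ∉ Q := by
      intro Q' hQ' hne
      exact exists_homogeneous_mem_notMem 𝒜 (hhom Q' hQ') (fun hle => hne (hinc Q hQ Q' hQ' hle))
    choose! iy y hy1 hy2 hy3 using hy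
    set T := S.erase Q with hT
    set a := x₁ * x₂ * ∏ Q' ∈ T, y Q' with ha
    have hprod_mem : (∏ Q' ∈ T, y Q') ∈ 𝒜 (∑ Q' ∈ T, iy Q') := by
      apply SetLike.prod_mem_graded
      intro Q' hQ'
      rw [hT, Finset.mem_erase] at hQ'
      exact hy1 Q' hQ'.2 hQ'.1
    have hamem : a ∈ 𝒜 (i₁ + i₂ + ∑ Q' ∈ T, iy Q') :=
      SetLike.mul_mem_graded (SetLike.mul_mem_graded hx₁ hx₂) hprod_mem
    have haQ : a ∉ Q := by
      intro h
      rcases hQp.mem_or_mem h with h12 | hp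
      · rcases hQp.mem_or_mem h12 with h1 | h2
        · exact hx₁Q h1
        · exact hx₂Q h2
      · obtain ⟨Q', hQ', hyQ'⟩ := (hQp.prod_mem_iff).mp hp
        rw [hT, Finset.mem_erase] at hQ'
        exact hy3 Q' hQ'.2 hQ'.1 hyQ'
    have haI : a ∈ I := by
      rw [ha, mul_assoc]
      exact I.mul_mem_right _ hx₁I
    have hairr : a ∈ (HomogeneousIdeal.irrelevant 𝒜).toIdeal := by
      rw [ha, mul_comm x₁ x₂, mul_assoc]
      exact Ideal.mul_mem_right _ _ hx₂I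
    have hpos : 0 < i₁ + i₂ + ∑ Q' ∈ T, iy Q' := by
      by_contra hzero
      have hz : i₁ + i₂ + ∑ Q' ∈ T, iy Q' = 0 := by omega
      rw [hz] at hamem
      have h0 : GradedRing.proj 𝒜 0 a = a := by
        rw [GradedRing.proj_apply, DirectSum.decompose_of_mem_same 𝒜 hamem]
      have h1 : GradedRing.proj 𝒜 0 a = 0 := (HomogeneousIdeal.mem_irrelevant_iff 𝒜 a).mp hairr
      apply haQ
      rw [← h0, h1]
      exact Q.zero_mem
    refine ⟨_, a, hpos, hamem, haI, haQ, ?_⟩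
    intro Q' hQ' hne
    rw [ha]
    apply Ideal.mul_mem_left
    have hQ'T : Q' ∈ T := by rw [hT, Finset.mem_erase]; exact ⟨hne, hQ'⟩
    rw [← Finset.mul_prod_erase T y hQ'T]
    exact Ideal.mul_mem_right _ _ (hy2 Q' hQ' hne)
  choose! e a he1 he2 he3 he4 he5 using key
  -- common degree
  set D := ∏ Q ∈ S, e Q with hD
  have hDpos : 0 < D := Finset.prod_pos fun Q hQ => he1 Q hQ
  have hdiv : ∀ Q ∈ S, e Q * (D / e Q) = D := by
    intro Q hQ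
    exact Nat.mul_div_cancel' (Finset.dvd_prod_of_mem e hQ)
  have hexp_pos : ∀ Q ∈ S, 0 < D / e Q := by
    intro Q hQ
    have := hdiv Q hQ
    by_contra h0
    have h00 : D / e Q = 0 := Nat.eq_zero_of_not_pos h0
    rw [h00, mul_zero] at this
    omega
  set b : Ideal A → A := fun Q => a Q ^ (D / e Q) with hb
  have hbmem : ∀ Q ∈ S, b Q ∈ 𝒜 D := by
    intro Q hQ
    have := SetLike.pow_mem_graded (D / e Q) (he2 Q hQ)
    rw [smul_eq_mul, mul_comm, hdiv Q hQ] at this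
    exact this
  refine ⟨D, ∑ Q ∈ S, b Q, hDpos, ?_, ?_, ?_⟩
  · exact sum_mem fun Q hQ => hbmem Q hQ
  · refine Ideal.sum_mem _ fun Q hQ => ?_
    exact Ideal.pow_mem_of_mem _ (he3 Q hQ) _ (hexp_pos Q hQ)
  · intro Q hQ hmem
    have hQp : Q.IsPrime := hprime Q hQ
    rw [← Finset.add_sum_erase S b hQ] at hmem
    have hrest : ∑ Q' ∈ S.erase Q, b Q' ∈ Q := by
      refine Ideal.sum_mem _ fun Q' hQ' => ?_
      rw [Finset.mem_erase] at hQ'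
      exact Ideal.pow_mem_of_mem _ (he5 Q' hQ'.2 Q hQ (Ne.symm hQ'.1)) _ (hexp_pos Q' hQ'.2)
    have hbQ : b Q ∈ Q := (Ideal.add_mem_iff_left _ hrest).mp hmem
    exact he4 Q hQ (hQp.mem_of_pow_mem _ hbQ)

end avoid

end Groth.Agent.H54
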