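import Mathlib
import Groth.Agent.H54.LinearForms
import Groth.Agent.H54.HomAvoid

set_option autoImplicit false
universe u
open AlgebraicGeometry TopologicalSpace

namespace Groth.Agent.H54

section poly
variable (k : Type u) [Field k] (n : ℕ)

local notation "𝒜" => CohB1.polyGrading n k
local notation "A" => MvPolynomial (Fin (n + 1)) k
local notation "m₊" => HomogeneousIdeal.toIdeal (HomogeneousIdeal.irrelevant (CohB1.polyGrading n k))

/-- One step: a hypersurface through `V₊(IY)` dropping the dimension away from `V₊(IY)`. -/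
theorem exists_form_dim_drop_away (J IY : Ideal A) (hJ : J.IsHomogeneous 𝒜)
    (hIY : IY.IsHomogeneous 𝒜) (e : ℕ)
    (hinv : ∀ P : Ideal A, P.IsPrime → J ≤ P → ¬ IY ≤ P →
      ringKrullDim (A ⧸ P) ≤ ((e + 1 : ℕ) : WithBot ℕ∞)) :
    ∃ (d : ℕ) (h : A), 0 < d ∧ h.IsHomogeneous d ∧ h ∈ IY ∧
      ∀ P : Ideal A, P.IsPrime → J ⊔ Ideal.span {h} ≤ P → ¬ IY ≤ P →
        ringKrullDim (A ⧸ P) ≤ (e : WithBot ℕ∞) := by
  classical
  have hfin : J.minimalPrimes.Finite := Ideal.finite_minimalPrimes_of_isNoetherianRing A J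
  set S : Finset (Ideal A) := hfin.toFinset.filter (fun Q => ¬ IY ≤ Q ∧ Q ≠ m₊) with hS
  have hSmem : ∀ Q, Q ∈ S ↔ Q ∈ J.minimalPrimes ∧ ¬ IY ≤ Q ∧ Q ≠ m₊ := by
    intro Q
    rw [hS, Finset.mem_filter, Set.Finite.mem_toFinset]
  have hQhom : ∀ Q ∈ S, Q.IsHomogeneous 𝒜 := fun Q hQ =>
    isHomogeneous_of_mem_minimalPrimes 𝒜 hJ ((hSmem Q).mp hQ).1
  have hQprime : ∀ Q ∈ S, Q.IsPrime := fun Q hQ => ((hSmem Q).mp hQ).1.1.1
  obtain ⟨d, h, hd, hh, hhI, hhQ⟩ := exists_homogeneous_mem_forall_notMem 𝒜 IY hIY S hQprime hQhom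
    (fun Q hQ => ((hSmem Q).mp hQ).2.1)
    (fun Q hQ hle => ((hSmem Q).mp hQ).2.2
      (le_antisymm (le_irrelevant_of_isHomogeneous k n (hQhom Q hQ) (hQprime Q hQ).ne_top) hle))
    (fun Q hQ Q' hQ' hle =>
      le_antisymm hle (((hSmem Q).mp hQ).1.2 ((hSmem Q').mp hQ').1.1 hle))
  refine ⟨d, h, hd, (MvPolynomial.mem_homogeneousSubmodule d h).mp hh, hhI, ?_⟩
  intro P hP hle hIYP
  have hJP : J ≤ P := le_trans le_sup_left hle
  have hhP : h ∈ P := hle (Ideal.mem_sup_right (Ideal.mem_span_singleton_self _))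
  obtain ⟨Q, hQ, hQP⟩ := Ideal.exists_minimalPrimes_le hJP
  have hIYQ : ¬ IY ≤ Q := fun hle' => hIYP (le_trans hle' hQP)
  by_cases hQm : Q = m₊
  · have hmax := irrelevant_isMaximal k n
    have hPeq : P = m₊ := (hmax.eq_of_le hP.ne_top (hQm ▸ hQP)).symm
    rw [hPeq, ringKrullDim_quotient_irrelevant]
    exact_mod_cast Nat.zero_le e
  · have hQS : Q ∈ S := (hSmem Q).mpr ⟨hQ, hIYQ, hQm⟩
    have hhQ' : h ∉ Q := hhQ Q hQS
    have hQprime' : Q.IsPrime := hQ.1.1
    have hlt : Q < P := lt_of_le_of_ne hQP (fun heq => hhQ' (heq ▸ hhP))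
    have h1 := ringKrullDim_quotient_add_one_le_of_lt hlt
    have h2 := hinv Q hQprime' hQ.1.2 hIYQ
    apply withBot_enat_le_of_add_one_le_add_one
    refine le_trans h1 (le_trans h2 ?_)
    push_cast
    exact le_refl _

/-- Iterating the previous step. -/
theorem exists_forms_away (IY : Ideal A) (hIY : IY.IsHomogeneous 𝒜) :
    ∀ (e : ℕ) (J : Ideal A), J.IsHomogeneous 𝒜 →
    (∀ P : Ideal A, P.IsPrime → J ≤ P → ¬ IY ≤ P → ringKrullDim (A ⧸ P) ≤ (e : WithBot ℕ∞)) →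
    ∃ h : Fin e → A, (∀ i, h i ∈ IY ∧ ∃ d : ℕ, 0 < d ∧ (h i).IsHomogeneous d) ∧
      ∀ P : Ideal A, P.IsPrime → J ⊔ Ideal.span (Set.range h) ≤ P → ¬ IY ≤ P →
        ringKrullDim (A ⧸ P) ≤ 0 := by
  intro e
  induction e with
  | zero =>
    intro J hJ hinv
    refine ⟨Fin.elim0, fun i => i.elim0, ?_⟩
    intro P hP hle hIYP
    have := hinv P hP (le_trans le_sup_left hle) hIYP
    simpa using this
  | succ e ih =>
    intro J hJ hinv
    obtain ⟨d, h₀, hd, hh₀, hh₀I, hinv'⟩ := exists_form_dim_drop_away k n J IY hJ hIY e hinv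
    have hJ' : (J ⊔ Ideal.span {h₀}).IsHomogeneous 𝒜 :=
      hJ.sup (Ideal.homogeneous_span 𝒜 _ (by
        rintro _ rfl
        exact ⟨d, (MvPolynomial.mem_homogeneousSubmodule d _).mpr hh₀⟩))
    obtain ⟨h', hh', hfin⟩ := ih _ hJ' hinv'
    refine ⟨Fin.cons h₀ h', ?_, ?_⟩
    · intro i
      refine Fin.cases ?_ ?_ i
      · simpa using ⟨hh₀I, d, hd, hh₀⟩
      · intro j
        simpa using hh' j
    · intro P hP hle hIYP
      apply hfin P hP _ hIYP
      refine le_trans ?_ hle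
      rw [Fin.range_cons, Ideal.span_insert, sup_assoc]

/-- Hypersurfaces through a closed subset `Y` cutting a closed subset `X` of projective space down
to `Y`. -/
theorem exists_forms_inter_subset (r : ℕ) (X Y : Set (ProjectiveSpectrum 𝒜)) (hX : IsClosed X)
    (hY : IsClosed Y) (hdim : topologicalKrullDim ↥X ≤ (r : WithBot ℕ∞)) :
    ∃ h : Fin (r + 1) → A, (∀ i, ∃ d : ℕ, 0 < d ∧ (h i).IsHomogeneous d) ∧
      (∀ i, Y ⊆ ProjectiveSpectrum.zeroLocus 𝒜 {h i}) ∧
      X ∩ ProjectiveSpectrum.zeroLocus 𝒜 (Set.range h) ⊆ Y := by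
  classical
  set IX := (ProjectiveSpectrum.vanishingIdeal X).toIdeal with hIX
  set IY := (ProjectiveSpectrum.vanishingIdeal Y).toIdeal with hIYdef
  have hIXhom : IX.IsHomogeneous 𝒜 := (ProjectiveSpectrum.vanishingIdeal X).isHomogeneous
  have hIYhom : IY.IsHomogeneous 𝒜 := (ProjectiveSpectrum.vanishingIdeal Y).isHomogeneous
  have hXeq : ProjectiveSpectrum.zeroLocus 𝒜 (IX : Set A) = X := by
    rw [hIX]
    exact (ProjectiveSpectrum.zeroLocus_vanishingIdeal_eq_closure 𝒜 X).trans hX.closure_eq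
  have hYeq : ProjectiveSpectrum.zeroLocus 𝒜 (IY : Set A) = Y := by
    rw [hIYdef]
    exact (ProjectiveSpectrum.zeroLocus_vanishingIdeal_eq_closure 𝒜 Y).trans hY.closure_eq
  -- initial bound
  have hinv : ∀ P : Ideal A, P.IsPrime → IX ≤ P → ¬ IY ≤ P →
      ringKrullDim (A ⧸ P) ≤ ((r + 1 : ℕ) : WithBot ℕ∞) := by
    intro P hP hle _
    obtain ⟨Q, hQ, hQP⟩ := Ideal.exists_minimalPrimes_le hle
    have hQprime : Q.IsPrime := hQ.1.1
    have hQhom : Q.IsHomogeneous 𝒜 := isHomogeneous_of_mem_minimalPrimes 𝒜 hIXhom hQ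
    have h1 : ringKrullDim (A ⧸ P) ≤ ringKrullDim (A ⧸ Q) :=
      ringKrullDim_le_of_surjective (Ideal.Quotient.factor hQP) (Ideal.Quotient.factor_surjective hQP)
    refine le_trans h1 ?_
    by_cases hQm : Q = m₊
    · rw [hQm, ringKrullDim_quotient_irrelevant]
      exact_mod_cast Nat.zero_le _
    · have hrel : ¬ m₊ ≤ Q := fun hle' => hQm
        (le_antisymm (le_irrelevant_of_isHomogeneous k n hQhom hQprime.ne_top) hle')
      rw [ringKrullDim_quotient_eq_topologicalKrullDim_add_one k n Q hQprime hQhom hrel]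
      have hsub : ProjectiveSpectrum.zeroLocus 𝒜 (Q : Set A) ⊆ X := by
        rw [← hXeq]
        exact ProjectiveSpectrum.zeroLocus_anti_mono_ideal 𝒜 hQ.1.2
      have h2 : topologicalKrullDim ↥(ProjectiveSpectrum.zeroLocus 𝒜 (Q : Set A)) ≤
          topologicalKrullDim ↥X :=
        (Topology.IsEmbedding.inclusion hsub).isInducing.topologicalKrullDim_le
      push_cast
      gcongr
      exact le_trans h2 hdim
  obtain ⟨h, hh, hfin⟩ := exists_forms_away k n IY hIYhom (r + 1) IX hIXhom hinv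
  refine ⟨h, fun i => (hh i).2, ?_, ?_⟩
  · intro i y hy
    rw [← hYeq] at hy
    intro a ha
    rw [Set.mem_singleton_iff] at ha
    subst ha
    exact hy (hh i).1
  · rintro x ⟨hxX, hxh⟩
    rw [← hYeq]
    by_contra hxY
    have hIYx : ¬ IY ≤ x.asHomogeneousIdeal.toIdeal := fun hle => hxY hle
    have hJx : IX ⊔ Ideal.span (Set.range h) ≤ x.asHomogeneousIdeal.toIdeal := by
      apply sup_le
      · rw [← hXeq] at hxX
        exact hxX
      · rw [Ideal.span_le]
        exact hxh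
    have h1 := hfin _ x.isPrime hJx hIYx
    have hlt := toIdeal_lt_irrelevant k n x
    have := x.isPrime
    have h2 := ringKrullDim_quotient_add_one_le_of_lt hlt
    rw [ringKrullDim_quotient_irrelevant, zero_add] at h2
    have : (1 : WithBot ℕ∞) ≤ 0 := le_trans h2 h1
    exact absurd this (by norm_num)

end poly

end Groth.Agent.H54
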