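import Groth.Agent.H54.FpqcLocTriv4
import Groth.Agent.H67.PullGenLocus
import Groth.Agent.H67.GlobGenPointwise
import Groth.Agent.H67.ParaMono
import Groth.Agent.H18.STL.GenAt
import Groth.Agent.H18.STL.GlobGen
import Groth.Agent.H51.FlatValLift

/-!
helper54: for a proper morphism `f : X ⟶ Y` and an invertible module `L` on `X` whose pullback to
`X ×_Y Spec O_{Y,y}` is globally generated, `L` is globally generated over a neighbourhood of `y`.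
-/

set_option autoImplicit false
set_option linter.style.haveILetI false
universe u
open CategoryTheory CategoryTheory.Limits AlgebraicGeometry Scheme.Modules Opposite TopologicalSpace
  TensorProduct

namespace Groth.Agent.H54.GGNear

open Groth.Agent.H44 Groth.Agent.H71.PushBC Groth.Agent.H18 Groth.Agent.H18.PUP
  Groth.Agent.H18.STL

section GenAt
variable {X : Scheme.{u}} {M : X.Modules}

/-- generation near a point in terms of the coordinate with respect to a local basis -/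
theorem isGenAt_iff_coord {U V : X.Opens} (hVU : V ≤ U) {β : Γ(M, V)} (hβ : IsBasisOn M V β)
    (τ : Γ(M, U)) (c : Γ(X, V)) (hc : mres M hVU τ = c • β) {x : X} (hx : x ∈ V) :
    IsGenAt M τ x ↔ x ∈ X.basicOpen c := by
  rw [← isGenAt_mres_iff hVU τ hx, hc]
  exact isGenAt_smul_basis_iff hβ c hx

theorem exists_coord {U V : X.Opens} (hVU : V ≤ U) {β : Γ(M, V)} (hβ : IsBasisOn M V β)
    (τ : Γ(M, U)) : ∃ c : Γ(X, V), mres M hVU τ = c • β := by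
  refine ⟨hβ.coord le_rfl (mres M hVU τ), ?_⟩
  have := hβ.coord_smul le_rfl (mres M hVU τ)
  rw [mres_self] at this
  exact this.symm

theorem isGenAt_add (hM : PicF.IsInvertible M) {U : X.Opens} (τ₁ τ₂ : Γ(M, U)) {x : X}
    (hx : x ∈ U) (h : IsGenAt M (τ₁ + τ₂) x) : IsGenAt M τ₁ x ∨ IsGenAt M τ₂ x := by
  obtain ⟨V₀, β₀, hxV₀, hβ₀⟩ := exists_basis_of_isInvertible hM x
  have hVU : V₀ ⊓ U ≤ U := inf_le_right
  have hβ : IsBasisOn M (V₀ ⊓ U) (mres M inf_le_left β₀) := hβ₀.mono _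
  have hxV : x ∈ V₀ ⊓ U := ⟨hxV₀, hx⟩
  obtain ⟨c₁, hc₁⟩ := exists_coord hVU hβ τ₁
  obtain ⟨c₂, hc₂⟩ := exists_coord hVU hβ τ₂
  have hc : mres M hVU (τ₁ + τ₂) = (c₁ + c₂) • mres M inf_le_left β₀ := by
    rw [map_add, hc₁, hc₂, add_smul]
  rw [isGenAt_iff_coord hVU hβ _ _ hc hxV, X.mem_basicOpen _ x hxV, map_add] at h
  rcases IsLocalRing.isUnit_or_isUnit_of_isUnit_add h with h' | h'
  · left
    rw [isGenAt_iff_coord hVU hβ _ _ hc₁ hxV, X.mem_basicOpen _ x hxV]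
    exact h'
  · right
    rw [isGenAt_iff_coord hVU hβ _ _ hc₂ hxV, X.mem_basicOpen _ x hxV]
    exact h'

theorem isGenAt_of_smul (hM : PicF.IsInvertible M) {U : X.Opens} (r : Γ(X, U)) (τ : Γ(M, U))
    {x : X} (hx : x ∈ U) (h : IsGenAt M (r • τ) x) : IsGenAt M τ x := by
  obtain ⟨V₀, β₀, hxV₀, hβ₀⟩ := exists_basis_of_isInvertible hM x
  have hVU : V₀ ⊓ U ≤ U := inf_le_right
  have hβ : IsBasisOn M (V₀ ⊓ U) (mres M inf_le_left β₀) := hβ₀.mono _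
  have hxV : x ∈ V₀ ⊓ U := ⟨hxV₀, hx⟩
  obtain ⟨c, hc⟩ := exists_coord hVU hβ τ
  have hc' : mres M hVU (r • τ) =
      (X.presheaf.map (homOfLE hVU).op r * c) • mres M inf_le_left β₀ := by
    rw [mres_smul, hc, smul_smul]
  rw [isGenAt_iff_coord hVU hβ _ _ hc' hxV, Scheme.basicOpen_mul] at h
  rw [isGenAt_iff_coord hVU hβ _ _ hc hxV]
  exact h.2

theorem not_isGenAt_zero (hM : PicF.IsInvertible M) {U : X.Opens} {x : X} (hx : x ∈ U) :
    ¬ IsGenAt M (0 : Γ(M, U)) x := by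
  obtain ⟨V₀, β₀, hxV₀, hβ₀⟩ := exists_basis_of_isInvertible hM x
  have hVU : V₀ ⊓ U ≤ U := inf_le_right
  have hβ : IsBasisOn M (V₀ ⊓ U) (mres M inf_le_left β₀) := hβ₀.mono _
  have hxV : x ∈ V₀ ⊓ U := ⟨hxV₀, hx⟩
  have hc : mres M hVU (0 : Γ(M, U)) = (0 : Γ(X, V₀ ⊓ U)) • mres M inf_le_left β₀ := by
    rw [map_zero, zero_smul]
  rw [isGenAt_iff_coord hVU hβ _ _ hc hxV, Scheme.basicOpen_zero]
  exact fun h => h

end GenAt

section Pull
variable {X' X : Scheme.{u}} (g' : X' ⟶ X)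

/-- if the pullback of a local section generates near `x'` then the section generates near the
image of `x'` -/
theorem isGenAt_of_pullSectLE (L : X.Modules) (hL : PicF.IsInvertible L) {W : X.Opens}
    {W' : X'.Opens} (le : W' ≤ g' ⁻¹ᵁ W) (m : Γ(L, W)) {x' : X'} (hx' : x' ∈ W')
    (h : IsGenAt ((Scheme.Modules.pullback g').obj L) (pullSectLE g' L W W' le m) x') :
    IsGenAt L m (g' x') := by
  obtain ⟨V₀, e₀, hV₀, he₀⟩ := exists_basis_of_isInvertible hL (g' x')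
  have hVW : V₀ ⊓ W ≤ W := inf_le_right
  have hβ : IsBasisOn L (V₀ ⊓ W) (mres L inf_le_left e₀) := he₀.mono _
  have hxV : g' x' ∈ V₀ ⊓ W := ⟨hV₀, le hx'⟩
  obtain ⟨c, hc⟩ := exists_coord hVW hβ m
  have hV'W' : W' ⊓ g' ⁻¹ᵁ (V₀ ⊓ W) ≤ W' := inf_le_left
  have hV'V : W' ⊓ g' ⁻¹ᵁ (V₀ ⊓ W) ≤ g' ⁻¹ᵁ (V₀ ⊓ W) := inf_le_right
  have hx'V' : x' ∈ W' ⊓ g' ⁻¹ᵁ (V₀ ⊓ W) := ⟨hx', hxV⟩
  have hβ' : IsBasisOn ((Scheme.Modules.pullback g').obj L) (W' ⊓ g' ⁻¹ᵁ (V₀ ⊓ W))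
      (pullSectLE g' L (V₀ ⊓ W) (W' ⊓ g' ⁻¹ᵁ (V₀ ⊓ W)) hV'V (mres L inf_le_left e₀)) :=
    (Groth.Agent.H67.PullBasis.isBasisOn_pullSect g' L (V₀ ⊓ W) _ hβ).mono hV'V
  have key : mres ((Scheme.Modules.pullback g').obj L) hV'W' (pullSectLE g' L W W' le m) =
      (g'.appLE (V₀ ⊓ W) (W' ⊓ g' ⁻¹ᵁ (V₀ ⊓ W)) hV'V).hom c •
        pullSectLE g' L (V₀ ⊓ W) (W' ⊓ g' ⁻¹ᵁ (V₀ ⊓ W)) hV'V (mres L inf_le_left e₀) := by
    rw [← pullSectLE_smul, ← hc]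
    have h1 := pullSectLE_of_res g' L hVW (W' ⊓ g' ⁻¹ᵁ (V₀ ⊓ W)) hV'V m
    rw [h1]
    exact pullSectLE_res g' L W W' _ le hV'W' m
  rw [isGenAt_iff_coord hV'W' hβ' _ _ key hx'V', Scheme.basicOpen_appLE] at h
  rw [isGenAt_iff_coord hVW hβ m c hc hxV]
  exact h.2

end Pull

section Claim
variable {X S X' S' : Scheme.{u}} {f : X ⟶ S} {g : S' ⟶ S} {g' : X' ⟶ X} {f' : X' ⟶ S'}
  (w : g' ≫ f = f' ≫ g) (M : X.Modules) {V : S.Opens} {V' : S'.Opens} (e₁ : V' ≤ g ⁻¹ᵁ V)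
  (W : X.Opens) (hW : W ≤ f ⁻¹ᵁ V)

/-- if the image of a tensor generates near `x'` then so does the pullback of some section -/
theorem exists_isGenAt_pullSectLE (hM' : PicF.IsInvertible ((Scheme.Modules.pullback g').obj M))
    {x' : X'} (hx' : x' ∈ g' ⁻¹ᵁ W ⊓ f' ⁻¹ᵁ V') :
    letI := algAB (g := g) e₁
    letI := modW (f := f) M W hW
    ∀ t : Γ(S', V') ⊗[Γ(S, V)] Γ(M, W),
      IsGenAt ((Scheme.Modules.pullback g').obj M) (cmap w M e₁ W hW t) x' →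
      ∃ m : Γ(M, W), IsGenAt ((Scheme.Modules.pullback g').obj M)
        (pullSectLE g' M W (g' ⁻¹ᵁ W ⊓ f' ⁻¹ᵁ V') inf_le_left m) x' := by
  letI := algAB (g := g) e₁
  letI := modW (f := f) M W hW
  intro t
  induction t using TensorProduct.induction_on with
  | zero =>
    intro h
    rw [map_zero] at h
    exact absurd h (not_isGenAt_zero hM' hx')
  | tmul b' m =>
    intro h
    rw [cmap_tmul] at h
    exact ⟨m, isGenAt_of_smul hM' _ _ hx' h⟩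
  | add t₁ t₂ h₁ h₂ =>
    intro h
    rw [map_add] at h
    rcases isGenAt_add hM' _ _ hx' h with h' | h'
    · exact h₁ h'
    · exact h₂ h'

end Claim

section Main
variable {X Y : Scheme.{u}} (f : X ⟶ Y)

set_option maxHeartbeats 1600000 in
theorem main [IsProper f] (L : X.Modules) (hL : PicF.IsInvertible L) (y : Y)
    (h : Curv2.IsGloballyGenerated
      ((Scheme.Modules.pullback (pullback.fst f (Y.fromSpecStalk y))).obj L)) :
    ∃ V : Y.Opens, y ∈ V ∧ Curv2.IsGloballyGenerated (L.restrict (f ⁻¹ᵁ V).ι) := by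
  haveI : L.IsQuasicoherent := isQuasicoherent_of_isInvertible hL
  obtain ⟨_, ⟨V₀, hV₀, rfl⟩, hyV₀, -⟩ :=
    Y.isBasis_affineOpens.exists_subset_of_mem_open (Set.mem_univ y) isOpen_univ
  have hflat : Flat (Y.fromSpecStalk y) := Groth.Agent.H51.flat_fromSpecStalk Y y
  have hrange : ∀ p : Spec (Y.presheaf.stalk y), Y.fromSpecStalk y p ∈ V₀ := by
    intro p
    have h1 : Y.fromSpecStalk y p ∈ Set.range (Y.fromSpecStalk y) := ⟨p, rfl⟩
    rw [Scheme.range_fromSpecStalk] at h1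
    exact (h1 : _ ⤳ y).mem_open V₀.isOpen hyV₀
  have hclosed : Y.fromSpecStalk y (IsLocalRing.closedPoint (Y.presheaf.stalk y)) = y :=
    Scheme.fromSpecStalk_closedPoint
  have hpb : IsPullback (pullback.fst f (Y.fromSpecStalk y)) (pullback.snd f (Y.fromSpecStalk y))
      f (Y.fromSpecStalk y) := IsPullback.of_hasPullback f _
  generalize Y.fromSpecStalk y = g at hpb h hflat hrange hclosed
  generalize hg' : pullback.fst f g = g' at hpb h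
  generalize hf' : pullback.snd f g = f' at hpb
  haveI := hflat
  have e₁ : (⊤ : (Spec (Y.presheaf.stalk y)).Opens) ≤ g ⁻¹ᵁ V₀ := fun p _ => hrange p
  have hW : f ⁻¹ᵁ V₀ ≤ f ⁻¹ᵁ V₀ := le_rfl
  letI algB := algAB (g := g) e₁
  letI modL := modW (f := f) L (f ⁻¹ᵁ V₀) hW
  have hqs : IsQuasiSeparated ((f ⁻¹ᵁ V₀ : X.Opens) : Set X) :=
    f.isQuasiSeparated_preimage hV₀.isQuasiSeparated
  have hcpt : IsCompact ((f ⁻¹ᵁ V₀ : X.Opens) : Set X) :=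
    QuasiCompact.isCompact_preimage (f := f) _ V₀.isOpen hV₀.isCompact
  have hc : Function.Bijective (cmap hpb.w L e₁ (f ⁻¹ᵁ V₀) hW) :=
    cmap_bijective_of_isCompact L e₁ hpb hV₀ (isAffineOpen_top _)
      (Flat.flat_appLE g hV₀ (isAffineOpen_top _) e₁) hqs (f ⁻¹ᵁ V₀) hW hcpt
  have hM' : PicF.IsInvertible ((Scheme.Modules.pullback g').obj L) :=
    Groth.Agent.H54.FiniteLocalPic.isInvertible_pullback g' hL
  have hW'mem : ∀ x' : ↥(pullback f g), x' ∈ g' ⁻¹ᵁ (f ⁻¹ᵁ V₀) ⊓ f' ⁻¹ᵁ ⊤ := by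
    intro x'
    refine ⟨?_, trivial⟩
    have h1 : f (g' x') = g (f' x') := congrArg (fun φ : pullback f g ⟶ Y => φ x') hpb.w
    change f (g' x') ∈ V₀
    rw [h1]
    exact hrange _
  -- every point in the image of `g'` has a section generating near it
  have hgen : ∀ x' : ↥(pullback f g), ∃ m : Γ(L, f ⁻¹ᵁ V₀), IsGenAt L m (g' x') := by
    intro x'
    obtain ⟨σ', hσ'⟩ := exists_mem_genLocus_of_isGloballyGenerated hM' h x'
    have h1 := (mem_genLocus_iff_isGenAt σ' (hW'mem x')).mp hσ'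
    obtain ⟨t, ht⟩ := hc.2 (SecTwist.val σ' (g' ⁻¹ᵁ (f ⁻¹ᵁ V₀) ⊓ f' ⁻¹ᵁ ⊤))
    rw [← ht] at h1
    obtain ⟨m, hm⟩ := exists_isGenAt_pullSectLE hpb.w L e₁ (f ⁻¹ᵁ V₀) hW hM' (hW'mem x') t h1
    exact ⟨m, isGenAt_of_pullSectLE g' L hL inf_le_left m (hW'mem x') hm⟩
  -- the open set of points near which some section over `f⁻¹ V₀` generates
  have hGopen : IsOpen {x : X | ∃ m : Γ(L, f ⁻¹ᵁ V₀), IsGenAt L m x} := by
    rw [isOpen_iff_forall_mem_open]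
    rintro x ⟨m, V, hV, hxV, hb⟩
    exact ⟨V, fun z hz => ⟨m, V, hV, hz, hb⟩, V.isOpen, hxV⟩
  let G : X.Opens := ⟨{x : X | ∃ m : Γ(L, f ⁻¹ᵁ V₀), IsGenAt L m x}, hGopen⟩
  have hfibre : ∀ x : X, f x = y → x ∈ G := by
    intro x hx
    obtain ⟨x', hx'1, -⟩ := Scheme.Pullback.exists_preimage_pullback (f := f) (g := g) x
      (IsLocalRing.closedPoint (Y.presheaf.stalk y)) (by rw [hclosed, hx])
    rw [hg'] at hx'1
    rw [← hx'1]
    exact hgen x'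
  have hclosedImg : IsClosed (f '' ((G : Set X)ᶜ)) :=
    f.isClosedMap _ G.isOpen.isClosed_compl
  let V : Y.Opens := V₀ ⊓ ⟨(f '' ((G : Set X)ᶜ))ᶜ, hclosedImg.isOpen_compl⟩
  have hyV : y ∈ V := by
    refine ⟨hyV₀, ?_⟩
    rintro ⟨x, hxG, hx⟩
    exact hxG (hfibre x hx)
  have hVG : f ⁻¹ᵁ V ≤ G := by
    intro x hx
    by_contra hxG
    exact hx.2 ⟨x, hxG, rfl⟩
  refine ⟨V, hyV, ?_⟩
  have hinv : PicF.IsInvertible (L.restrict (f ⁻¹ᵁ V).ι) :=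
    Groth.Agent.H67.ParaMono.isInvertible_restrict _ L hL
  refine Groth.Agent.H67.GlobGenPointwise.isGloballyGenerated_of_pointwise hinv (fun u => ?_)
  obtain ⟨m, hm⟩ := hVG u.2
  have hle : (f ⁻¹ᵁ V).ι ''ᵁ ⊤ ≤ f ⁻¹ᵁ V₀ := by
    rw [Scheme.Opens.ι_image_top]
    exact f.preimage_mono inf_le_left
  have hu : (f ⁻¹ᵁ V).ι u ∈ (f ⁻¹ᵁ V).ι ''ᵁ ⊤ := ⟨u, trivial, rfl⟩
  refine ⟨sectionHom (L.restrict (f ⁻¹ᵁ V).ι)
    (OI.toRestrict (f ⁻¹ᵁ V).ι L ⊤ (mres L hle m)), ?_⟩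
  rw [mem_genLocus_iff_isGenAt _ (W := ⊤) trivial, val_sectionHom, mres_self,
    isGenAt_restrict_iff, isGenAt_mres_iff hle m hu]
  exact hm

end Main

end Groth.Agent.H54.GGNear
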