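import Groth.Agent.H71.PushBC.Final
import Groth.Agent.H5.PullbackUnit
import Groth.Agent.H8.GlobGenAffine
import Groth.Agent.H18.FTypeEpi
import Groth.Agent.H54.GlobGen
import Groth.Prelude.Def_Curv2

/-!
helper54: global generation of quasi-coherent modules and faithfully flat base change.
-/

set_option autoImplicit false
set_option linter.style.haveILetI false
universe u
open CategoryTheory CategoryTheory.Limits AlgebraicGeometry Scheme.Modules Opposite TopologicalSpace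
  TensorProduct

namespace Groth.Agent.H54.GlobGenBC

open Groth.Agent.H44 Groth.Agent.H71.PushBC Groth.Agent.H18 Groth.Agent.H8

section Pull
variable {X X' : Scheme.{u}} (g : X' ⟶ X)

/-- the pullback of a globally generated module is globally generated -/
theorem isGloballyGenerated_pullback (F : X.Modules) (h : Curv2.IsGloballyGenerated F) :
    Curv2.IsGloballyGenerated ((Scheme.Modules.pullback g).obj F) := by
  obtain ⟨ι, p, hp⟩ := h
  haveI : (Scheme.Modules.pullback g).PreservesEpimorphisms :=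
    Functor.preservesEpimorphisms_of_adjunction (Scheme.Modules.pullbackPushforwardAdjunction g)
  have hp' : Epi (C := X.Modules) p := hp
  have hpe : Epi ((Scheme.Modules.pullback g).map p) := (Scheme.Modules.pullback g).map_epi p
  let e : (Scheme.Modules.pullback g).obj (SheafOfModules.free ι : X.Modules) ≅
      (SheafOfModules.free ι : X'.Modules) :=
    SheafOfModules.pullbackObjFreeIso g.toRingCatSheafHom ι
  haveI : Epi e.inv := inferInstance
  exact ⟨ι, e.inv ≫ (Scheme.Modules.pullback g).map p,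
    @epi_comp _ _ _ _ _ e.inv _ ((Scheme.Modules.pullback g).map p) hpe⟩

/-- a flat surjective morphism is faithfully flat on affine opens -/
theorem faithfullyFlat_appLE [Flat g] (hg : Function.Surjective g) {W : X.Opens}
    (hW : IsAffineOpen W) (hW' : IsAffineOpen (g ⁻¹ᵁ W)) :
    (g.appLE W (g ⁻¹ᵁ W) le_rfl).hom.FaithfullyFlat := by
  rw [RingHom.FaithfullyFlat.iff_flat_and_comap_surjective]
  refine ⟨Scheme.Hom.flat_appLE g hW hW' le_rfl, ?_⟩
  intro p
  have hpW : hW.fromSpec p ∈ (W : Set X) := by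
    rw [← hW.range_fromSpec]
    exact ⟨p, rfl⟩
  obtain ⟨x', hx'⟩ := hg (hW.fromSpec p)
  have hx'W : x' ∈ g ⁻¹ᵁ W := by
    change g x' ∈ (W : Set X)
    rw [hx']
    exact hpW
  refine ⟨hW'.primeIdealOf ⟨x', hx'W⟩, ?_⟩
  have h1 := IsAffineOpen.SpecMap_appLE_fromSpec g hW hW' le_rfl
  have h2 : hW.fromSpec (Spec.map (g.appLE W (g ⁻¹ᵁ W) le_rfl) (hW'.primeIdealOf ⟨x', hx'W⟩)) =
      hW.fromSpec p := by
    rw [← Scheme.Hom.comp_apply, h1, Scheme.Hom.comp_apply, hW'.fromSpec_primeIdealOf]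
    exact hx'
  exact hW.fromSpec.isOpenEmbedding.injective h2

end Pull


section Main
variable {X S X' S' : Scheme.{u}} {f : X ⟶ S} {g : S' ⟶ S} {g' : X' ⟶ X} {f' : X' ⟶ S'}

set_option maxHeartbeats 1600000 in
/-- key lemma: if the pullback of `F` along a faithfully flat affine base change is globally
generated, then the sections of `F` over an affine open are spanned by global sections -/
theorem mem_span_of_pullback_globallyGenerated (h : IsPullback g' f' f g) [IsAffine S] [IsAffine S']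
    [CompactSpace X] [QuasiSeparatedSpace X] [Flat g] [Surjective g]
    (F : X.Modules) [F.IsQuasicoherent]
    (hgg : Curv2.IsGloballyGenerated ((Scheme.Modules.pullback g').obj F))
    {W : X.Opens} (hW : IsAffineOpen W) (t : Γ(F, W)) :
    t ∈ Submodule.span Γ(X, W) (Set.range fun σ : Γ(F, (⊤ : X.Opens)) => mres F (le_top : W ≤ ⊤) σ) := by
  set F' : X'.Modules := (Scheme.Modules.pullback g').obj F with hF'
  -- base change properties
  haveI : Flat g' := MorphismProperty.of_isPullback h.flip (inferInstance : Flat g)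
  haveI : Surjective g' := MorphismProperty.of_isPullback h.flip (inferInstance : Surjective g)
  haveI : IsAffineHom g' := MorphismProperty.of_isPullback h.flip (inferInstance : IsAffineHom g)
  have hW' : IsAffineOpen (g' ⁻¹ᵁ W) := hW.preimage g'
  -- the comparison map on global sections
  have e₁ : (⊤ : S'.Opens) ≤ g ⁻¹ᵁ (⊤ : S.Opens) := fun _ _ => trivial
  have hWt : (⊤ : X.Opens) ≤ f ⁻¹ᵁ (⊤ : S.Opens) := fun _ _ => trivial
  have hfl : (g.appLE ⊤ ⊤ e₁).hom.Flat := Scheme.Hom.flat_appLE g (isAffineOpen_top S)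
    (isAffineOpen_top S') e₁
  have hqs : IsQuasiSeparated ((f ⁻¹ᵁ (⊤ : S.Opens) : X.Opens) : Set X) :=
    IsQuasiSeparated.of_quasiSeparatedSpace _
  have hcpt : IsCompact ((⊤ : X.Opens) : Set X) := isCompact_univ
  letI algAB' : Algebra Γ(S, ⊤) Γ(S', ⊤) := algAB (g := g) e₁
  letI modF : Module Γ(S, ⊤) Γ(F, (⊤ : X.Opens)) := modW (f := f) F ⊤ hWt
  have hcF := cmap_bijective_of_isCompact F e₁ h (isAffineOpen_top S) (isAffineOpen_top S') hfl hqs
    ⊤ hWt hcpt
  set W'' : X'.Opens := g' ⁻¹ᵁ (⊤ : X.Opens) ⊓ f' ⁻¹ᵁ (⊤ : S'.Opens) with hW''_def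
  have hW'W'' : g' ⁻¹ᵁ W ≤ W'' := fun _ _ => ⟨trivial, trivial⟩
  -- the affine base change
  letI algCC' : Algebra Γ(X, W) Γ(X', g' ⁻¹ᵁ W) := (g'.appLE W (g' ⁻¹ᵁ W) le_rfl).hom.toAlgebra
  haveI hff : Module.FaithfullyFlat Γ(X, W) Γ(X', g' ⁻¹ᵁ W) :=
    faithfullyFlat_appLE g' (Surjective.surj (f := g')) hW hW'
  obtain ⟨E, hEp⟩ : ∃ E : Γ(F', g' ⁻¹ᵁ W) ≃ₗ[Γ(X', g' ⁻¹ᵁ W)]
      Γ(X', g' ⁻¹ᵁ W) ⊗[Γ(X, W)] Γ(F, W),
      ∀ m : Γ(F, W), E (pullSectLE g' F W (g' ⁻¹ᵁ W) le_rfl m) =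
        (1 : Γ(X', g' ⁻¹ᵁ W)) ⊗ₜ[Γ(X, W)] m :=
    ⟨pullbackSectionsEquiv g' F hW' hW le_rfl,
      fun m => pullbackSectionsEquiv_pullSectLE g' F hW' hW le_rfl m⟩
  obtain ⟨N₀, hN₀⟩ : ∃ N₀ : Submodule Γ(X, W) Γ(F, W), N₀ =
      Submodule.span Γ(X, W) (Set.range fun σ : Γ(F, (⊤ : X.Opens)) => mres F (le_top : W ≤ ⊤) σ) :=
    ⟨_, rfl⟩
  rw [← hN₀]
  have hN₀mem : ∀ σ : Γ(F, (⊤ : X.Opens)), mres F (le_top : W ≤ ⊤) σ ∈ N₀ := by
    intro σ
    rw [hN₀]
    exact Submodule.subset_span ⟨σ, rfl⟩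
  clear hN₀
  obtain ⟨Q, hQ⟩ : ∃ Q : Submodule Γ(X', g' ⁻¹ᵁ W) (Γ(X', g' ⁻¹ᵁ W) ⊗[Γ(X, W)] Γ(F, W)), Q =
      LinearMap.range (TensorProduct.AlgebraTensorModule.lTensor Γ(X', g' ⁻¹ᵁ W)
        Γ(X', g' ⁻¹ᵁ W) N₀.subtype) := ⟨_, rfl⟩
  have hQ1 : ∀ n ∈ N₀, ((1 : Γ(X', g' ⁻¹ᵁ W)) ⊗ₜ[Γ(X, W)] n) ∈ Q := by
    intro n hn
    rw [hQ]
    exact ⟨(1 : Γ(X', g' ⁻¹ᵁ W)) ⊗ₜ[Γ(X, W)] (⟨n, hn⟩ : N₀), rfl⟩
  have hQ2 : ∀ y ∈ Q, ∃ z, (LinearMap.lTensor Γ(X', g' ⁻¹ᵁ W) N₀.subtype) z = y := by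
    intro y hy
    rw [hQ] at hy
    obtain ⟨z, hz⟩ := hy
    exact ⟨z, hz⟩
  clear hQ
  -- sections coming from the comparison map land in `Q`
  have hA : ∀ x : Γ(S', ⊤) ⊗[Γ(S, ⊤)] Γ(F, (⊤ : X.Opens)),
      E (mres F' hW'W'' (cmap h.w F e₁ ⊤ hWt x)) ∈ Q := by
    intro x
    induction x using TensorProduct.induction_on with
    | zero => rw [map_zero, map_zero, map_zero]; exact Submodule.zero_mem _
    | tmul b m =>
      rw [cmap_tmul, mres_smul, _root_.map_smul]
      refine Submodule.smul_mem _ _ ?_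
      have h1 : mres F' hW'W'' (pullSectLE g' F ⊤ W'' inf_le_left m) =
          pullSectLE g' F W (g' ⁻¹ᵁ W) le_rfl (mres F (le_top : W ≤ ⊤) m) := by
        rw [pullSectLE_of_res]
        exact pullSectLE_res g' F ⊤ W'' (g' ⁻¹ᵁ W) inf_le_left hW'W'' m
      rw [h1, hEp]
      exact hQ1 _ (hN₀mem m)
    | add x y hx hy =>
      rw [map_add, map_add, map_add]
      exact Submodule.add_mem _ hx hy
  -- generating sections of the pullback
  obtain ⟨ι', p', hp'⟩ := hgg
  let s' : ι' → SheafOfModules.sections F' := F'.freeHomEquiv p'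
  haveI : Epi (F'.freeHomEquiv.symm s') := by
    simp only [s', Equiv.symm_apply_apply]; exact hp'
  have hB : ∀ i, E (gsec F' (s' i) (g' ⁻¹ᵁ W)) ∈ Q := by
    intro i
    obtain ⟨x, hx⟩ := hcF.2 (gsec F' (s' i) W'')
    have : gsec F' (s' i) (g' ⁻¹ᵁ W) = mres F' hW'W'' (cmap h.w F e₁ ⊤ hWt x) := by
      rw [hx, mres_gsec]
    rw [this]
    exact hA x
  have hC : ∀ τ : Γ(F', g' ⁻¹ᵁ W), E τ ∈ Q := by
    intro τ
    have hτ := mem_span_gsec_of_isAffineOpen F' s' hW' τ
    induction hτ using Submodule.span_induction with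
    | mem y hy =>
      obtain ⟨i, rfl⟩ := hy
      exact hB i
    | zero => rw [map_zero]; exact Submodule.zero_mem _
    | add y z _ _ hy hz => rw [map_add]; exact Submodule.add_mem _ hy hz
    | smul c y _ hy => rw [_root_.map_smul]; exact Submodule.smul_mem _ _ hy
  have hQtop : Function.Surjective (LinearMap.lTensor Γ(X', g' ⁻¹ᵁ W) N₀.subtype) := by
    intro y
    have h1 := hC (E.symm y)
    rw [LinearEquiv.apply_symm_apply] at h1
    exact hQ2 y h1
  have hsurj : Function.Surjective N₀.subtype :=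
    (Module.FaithfullyFlat.lTensor_surjective_iff_surjective Γ(X, W) Γ(X', g' ⁻¹ᵁ W) _).1 hQtop
  obtain ⟨n, hn⟩ := hsurj t
  rw [← hn]
  exact n.2

end Main


section Main2
variable {X S X' S' : Scheme.{u}} {f : X ⟶ S} {g : S' ⟶ S} {g' : X' ⟶ X} {f' : X' ⟶ S'}

/-- descent of global generation along a faithfully flat affine base change -/
theorem isGloballyGenerated_of_pullback (h : IsPullback g' f' f g) [IsAffine S] [IsAffine S']
    [CompactSpace X] [QuasiSeparatedSpace X] [Flat g] [Surjective g]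
    (F : X.Modules) [F.IsQuasicoherent]
    (hgg : Curv2.IsGloballyGenerated ((Scheme.Modules.pullback g').obj F)) :
    Curv2.IsGloballyGenerated F := by
  let s : Γ(F, (⊤ : X.Opens)) → SheafOfModules.sections F :=
    fun σ => Groth.Agent.H54.sectionOfTop F σ
  have hepi : Epi (F.freeHomEquiv.symm s) := by
    refine epi_freeHomEquiv_symm F s (fun V t => ?_)
    let Sv : Sieve V :=
      { arrows := fun Y _ => ∃ W : X.Opens, IsAffineOpen W ∧ Y ≤ W ∧ W ≤ V
        downward_closed := by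
          rintro Y Z f₁ ⟨W, hW, hYW, hWV⟩ f₂
          exact ⟨W, hW, (leOfHom f₂).trans hYW, hWV⟩ }
    refine ⟨Sv, ?_, ?_⟩
    · intro x hx
      obtain ⟨W, hW, hxW, hWV⟩ := exists_isAffineOpen_mem_and_subset (x := x) (U := V) hx
      exact ⟨W, homOfLE hWV, ⟨W, hW, le_rfl, hWV⟩, hxW⟩
    · rintro Y f₁ ⟨W, hW, hYW, hWV⟩
      have h1 := mem_span_of_pullback_globallyGenerated h F hgg hW (mres F hWV t)
      have h2 := mres_mem_span F hYW _ _ h1
      rw [mres_mres] at h2
      have h3 : (fun σ : Γ(F, (⊤ : X.Opens)) => mres F hYW (mres F (le_top : W ≤ ⊤) σ)) =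
          fun σ : Γ(F, (⊤ : X.Opens)) =>
            (PresheafOfModules.sections.eval (s σ) (op Y) : F.val.obj (op Y)) := by
        funext σ
        exact mres_mres F le_top hYW σ
      rw [h3] at h2
      exact h2
  exact ⟨Γ(F, (⊤ : X.Opens)), F.freeHomEquiv.symm s, hepi⟩

/-- global generation is invariant under a faithfully flat affine base change (quasi-coherent
modules on a quasi-compact quasi-separated scheme) -/
theorem isGloballyGenerated_iff_pullback (h : IsPullback g' f' f g) [IsAffine S] [IsAffine S']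
    [CompactSpace X] [QuasiSeparatedSpace X] [Flat g] [Surjective g]
    (F : X.Modules) [F.IsQuasicoherent] :
    Curv2.IsGloballyGenerated F ↔
      Curv2.IsGloballyGenerated ((Scheme.Modules.pullback g').obj F) :=
  ⟨isGloballyGenerated_pullback g' F, isGloballyGenerated_of_pullback h F⟩

end Main2

end Groth.Agent.H54.GlobGenBC
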