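import Groth.Agent.H18.STL.Invertible
import Groth.Agent.H6.Hartogs
import Groth.Agent.H6.NormalDepth
import Groth.Agent.H67.UnitIsoCor

set_option autoImplicit false
universe u
open CategoryTheory CategoryTheory.Limits AlgebraicGeometry TopologicalSpace Opposite

namespace Groth.Agent.H54.HartogsInv

open Groth.Agent.H18 Groth.Agent.H18.PUP Groth.Agent.H18.STL

variable {X : Scheme.{u}}

/-- Hartogs for invertible modules, given Hartogs for functions: injectivity. -/
theorem mres_injective (L : X.Modules) (hL : PicF.IsInvertible L) (U : X.Opens)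
    (hO : ∀ V : X.Opens, Function.Injective (rres X (inf_le_left : V ⊓ U ≤ V))) (V : X.Opens) :
    Function.Injective (mres L (inf_le_left : V ⊓ U ≤ V)) := by
  intro s s' hss
  refine modules_eq_of_locally_eq L s s' (fun x hx => ?_)
  obtain ⟨W, e, hxW, he⟩ := exists_basis_of_isInvertible hL x
  refine ⟨V ⊓ W, inf_le_left, ⟨hx, hxW⟩, ?_⟩
  have hW' : V ⊓ W ≤ W := inf_le_right
  rw [← he.coord_smul hW' (mres L inf_le_left s), ← he.coord_smul hW' (mres L inf_le_left s')]
  congr 1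
  apply hO (V ⊓ W)
  rw [← he.coord_res hW' (inf_le_left : (V ⊓ W) ⊓ U ≤ V ⊓ W),
    ← he.coord_res hW' (inf_le_left : (V ⊓ W) ⊓ U ≤ V ⊓ W)]
  congr 1
  rw [mres_mres, mres_mres]
  have h1 : (V ⊓ W) ⊓ U ≤ V ⊓ U := inf_le_inf_right U inf_le_left
  rw [← mres_mres L (inf_le_left : V ⊓ U ≤ V) h1, ← mres_mres L (inf_le_left : V ⊓ U ≤ V) h1, hss]

/-- Hartogs for invertible modules, given Hartogs for functions: surjectivity. -/
theorem mres_surjective (L : X.Modules) (hL : PicF.IsInvertible L) (U : X.Opens)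
    (hO : ∀ V : X.Opens, Function.Bijective (rres X (inf_le_left : V ⊓ U ≤ V))) (V : X.Opens) :
    Function.Surjective (mres L (inf_le_left : V ⊓ U ≤ V)) := by
  intro t
  have hinj := fun V' => mres_injective L hL U (fun V'' => (hO V'').1) V'
  have hloc : ∀ x : V, ∃ (W : X.Opens) (hW : W ≤ V) (s : Γ(L, W)), x.1 ∈ W ∧
      mres L (inf_le_left : W ⊓ U ≤ W) s = mres L (inf_le_inf_right U hW : W ⊓ U ≤ V ⊓ U) t := by
    intro x
    obtain ⟨W, e, hxW, he⟩ := exists_basis_of_isInvertible hL x.1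
    have hle : (V ⊓ W) ⊓ U ≤ W := inf_le_left.trans inf_le_right
    obtain ⟨c, hc⟩ := (hO (V ⊓ W)).2
      (he.coord hle (mres L (inf_le_inf_right U inf_le_left : (V ⊓ W) ⊓ U ≤ V ⊓ U) t))
    refine ⟨V ⊓ W, inf_le_left, c • mres L inf_le_right e, ⟨x.2, hxW⟩, ?_⟩
    rw [mres_smul, hc, mres_mres, he.coord_smul]
  choose W hW s hxW hs using hloc
  obtain ⟨σ, hσ⟩ := exists_glue L W V hW (fun x hx => ⟨⟨x, hx⟩, hxW _⟩) s (by
    intro i j
    apply hinj (W i ⊓ W j)
    rw [mres_mres, mres_mres]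
    have h1 : (W i ⊓ W j) ⊓ U ≤ W i ⊓ U := inf_le_inf_right U inf_le_left
    have h2 : (W i ⊓ W j) ⊓ U ≤ W j ⊓ U := inf_le_inf_right U inf_le_right
    rw [← mres_mres L (inf_le_left : W i ⊓ U ≤ W i) h1, hs i,
      ← mres_mres L (inf_le_left : W j ⊓ U ≤ W j) h2, hs j, mres_mres, mres_mres])
  refine ⟨σ, ?_⟩
  refine modules_eq_of_locally_eq L _ _ (fun x hx => ?_)
  refine ⟨W ⟨x, hx.1⟩ ⊓ U, inf_le_inf_right U (hW _), ⟨hxW _, hx.2⟩, ?_⟩
  rw [mres_mres, ← mres_mres L (hW ⟨x, hx.1⟩) (inf_le_left : W ⟨x, hx.1⟩ ⊓ U ≤ W ⟨x, hx.1⟩), hσ, hs]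

theorem bijective_val_map_of_eq (L : X.Modules) {A B A' B' : X.Opens} (hA : A = A') (hB : B = B')
    (k : A ⟶ B) (l : A' ⟶ B') (h : Function.Bijective (L.presheaf.map k.op)) :
    Function.Bijective (L.val.map l.op) := by
  subst hA hB
  rw [Subsingleton.elim l k]
  exact h

theorem bijective_map_of_eq' {A B A' B' : X.Opens} (hA : A = A') (hB : B = B')
    (k : A ⟶ B) (l : A' ⟶ B') (h : Function.Bijective (X.presheaf.map k.op)) :
    Function.Bijective (X.presheaf.map l.op) := by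
  subst hA hB
  rw [Subsingleton.elim l k]
  exact h

/-- "big" opens: restriction of functions is bijective; then so is `U.ι.app V`. -/
theorem bijective_ι_app (U : X.Opens)
    (hO : ∀ V : X.Opens, Function.Bijective (rres X (inf_le_left : V ⊓ U ≤ V))) (V : X.Opens) :
    Function.Bijective (U.ι.app V) := by
  rw [Scheme.Opens.ι_app]
  have himg : U.ι ''ᵁ U.ι ⁻¹ᵁ V = V ⊓ U := by
    rw [Scheme.Hom.image_preimage_eq_opensRange_inf, Scheme.Opens.opensRange_ι, inf_comm]
  exact bijective_map_of_eq' himg.symm rfl (homOfLE (inf_le_left : V ⊓ U ≤ V)) _ (hO V)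

/-- depth at least two from normality and dimension at least two -/
theorem two_le_depth_of_normal (T : Scheme.{u}) [IsLocallyNoetherian T]
    (hT : ∀ x : T, IsDomain (T.presheaf.stalk x) ∧ IsIntegrallyClosed (T.presheaf.stalk x))
    (U : T.Opens) (hU : ∀ x : T, x ∉ (U : Set T) → 2 ≤ ringKrullDim (T.presheaf.stalk x)) :
    ∀ x : T, x ∉ U → (2 : ℕ∞) ≤ LocCoh.depth (T.presheaf.stalk x) (T.presheaf.stalk x) := by
  intro x hx
  haveI := (hT x).1
  haveI := (hT x).2
  exact Groth.Agent.H6.NormalDepth.two_le_depth_of_normal _ (hU x hx)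

theorem main (T : Scheme.{u}) [IsLocallyNoetherian T] (U : T.Opens)
    (hdepth : ∀ x : T, x ∉ U → (2 : ℕ∞) ≤ LocCoh.depth (T.presheaf.stalk x) (T.presheaf.stalk x))
    (L : T.Modules) (hL : PicF.IsInvertible L) :
    Function.Bijective (L.val.map (homOfLE (le_top (a := U))).op) ∧
      (Nonempty (L.restrict U.ι ≅ Coh.structureModule (U : Scheme.{u})) →
        Nonempty (L ≅ Coh.structureModule T)) := by
  have hO : ∀ V : T.Opens, Function.Bijective (rres T (inf_le_left : V ⊓ U ≤ V)) := fun V =>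
    Groth.Agent.H6.Hartogs.bijective_res T U hdepth V (V ⊓ U) rfl inf_le_left
  constructor
  · have h1 : Function.Bijective (mres L (inf_le_left : ⊤ ⊓ U ≤ ⊤)) :=
      ⟨mres_injective L hL U (fun V => (hO V).1) ⊤, mres_surjective L hL U hO ⊤⟩
    exact bijective_val_map_of_eq L (top_inf_eq U) rfl _ _ h1
  · rintro ⟨e⟩
    have e' : (Scheme.Modules.pullback U.ι).obj L ≅ Coh.structureModule (U : Scheme.{u}) :=
      ((Scheme.Modules.restrictFunctorIsoPullback U.ι).app L).symm ≪≫ e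
    exact Groth.Agent.H67.UnitIso.trivial_of_pullback_trivial U.ι (bijective_ι_app U hO) L hL e'

end Groth.Agent.H54.HartogsInv
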