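import Mathlib
import Groth.Prelude.Def_CohB1
import Groth.Agent.H54.HilbertSamuel2
import Groth.Agent.S3405

set_option autoImplicit false
universe u
open Module

namespace Groth.Agent.H54

section polysum
open Polynomial

/-- If the forward difference of `PS` agrees with `P ≠ 0` at all large naturals, then
`deg PS = deg P + 1` and `lc PS * (deg P + 1) = lc P`. -/
theorem natDegree_of_forward_diff (PS P : ℚ[X]) (hP0 : P ≠ 0) (m₁ : ℕ)
    (h : ∀ m : ℕ, m₁ ≤ m → PS.eval ((m : ℚ) + 1) - PS.eval (m : ℚ) = P.eval (m : ℚ)) :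
    PS.natDegree = P.natDegree + 1 ∧ PS.leadingCoeff * ((P.natDegree : ℚ) + 1) = P.leadingCoeff := by
  set Q := P.comp (X - C (1 : ℚ)) with hQ
  have hQeq : Q = PS - PS.comp (X - C ((1 : ℕ) : ℚ)) := by
    apply eq_sub_comp_of_eval PS Q 1 (m₁ + 1)
    intro m hm
    obtain ⟨m', rfl⟩ : ∃ m', m = m' + 1 := ⟨m - 1, by omega⟩
    have := h m' (by omega)
    rw [hQ, eval_comp, eval_sub, eval_X, eval_C]
    push_cast
    rw [add_sub_cancel_right]
    exact this.symm
  rw [Nat.cast_one] at hQeq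
  have hXC : (X - C (1 : ℚ)).natDegree = 1 := natDegree_X_sub_C 1
  have hQdeg : Q.natDegree = P.natDegree := by
    rw [hQ, natDegree_comp, hXC, mul_one]
  have hQlc : Q.leadingCoeff = P.leadingCoeff := by
    rw [hQ, leadingCoeff_comp (by rw [hXC]; exact one_ne_zero), leadingCoeff_X_sub_C, one_pow, mul_one]
  have hQ0 : Q ≠ 0 := by
    intro h0
    apply hP0
    rw [← leadingCoeff_eq_zero, ← hQlc, h0, leadingCoeff_zero]
  rcases Nat.eq_zero_or_pos PS.natDegree with h0 | hpos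
  · exfalso
    apply hQ0
    rw [hQeq, eq_C_of_natDegree_eq_zero h0, C_comp, sub_self]
  · obtain ⟨t, ht⟩ : ∃ t, PS.natDegree = t + 1 := ⟨PS.natDegree - 1, by omega⟩
    obtain ⟨h1, h2⟩ := natDegree_leadingCoeff_sub_comp PS 1 one_ne_zero t ht
    rw [← hQeq] at h1 h2
    rw [hQdeg] at h1
    rw [hQlc] at h2
    refine ⟨by omega, ?_⟩
    rw [h2, h1]
    ring


theorem eq_zero_of_eval_nat_eq_zero (P : ℚ[X]) (m₀ : ℕ)
    (h : ∀ m : ℕ, m₀ ≤ m → P.eval (m : ℚ) = 0) : P = 0 := by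
  apply Polynomial.eq_of_infinite_eval_eq
  have hinf : (Set.range (fun m : ℕ => ((m + m₀ : ℕ) : ℚ))).Infinite := by
    apply Set.infinite_range_of_injective
    intro a b hab
    have hab' : ((a + m₀ : ℕ) : ℚ) = ((b + m₀ : ℕ) : ℚ) := hab
    have : a + m₀ = b + m₀ := by exact_mod_cast hab'
    omega
  refine hinf.mono ?_
  rintro _ ⟨m, rfl⟩
  simp only [Set.mem_ofPred_eq, eval_zero]
  exact h (m + m₀) (by omega)

end polysum

section main
open Polynomial
variable (k : Type u) [Field k] (n : ℕ)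

local notation "𝒜" => CohB1.polyGrading n k
local notation "R" => MvPolynomial (Fin (n + 1)) k
local notation "𝔪" => MvPolynomial.idealOfVars (Fin (n + 1)) k
local notation "Aₘ" => Localization.AtPrime 𝔪

/-- Existence of the Samuel polynomial of a graded quotient, with degree the dimension. -/
theorem exists_samuel_poly (K : Ideal R) (hK : K.IsHomogeneous 𝒜) (hne : K ≠ ⊤) :
    ∃ PS : ℚ[X],
      (∃ N : ℕ, ∀ t : ℕ, N ≤ t →
        ((∑ j ∈ Finset.range t, hilbFn k n K j : ℕ) : ℚ) = PS.eval (t : ℚ)) ∧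
      (PS.natDegree : WithBot ℕ∞) = ringKrullDim (R ⧸ K) := by
  have hnt : Nontrivial (Aₘ ⧸ K.map (algebraMap R Aₘ)) := by
    apply Ideal.Quotient.nontrivial_iff.mpr
    intro h
    have := map_le_maximalIdeal k n hK hne
    rw [h] at this
    exact (IsLocalRing.maximalIdeal.isMaximal Aₘ).ne_top (top_le_iff.mp this)
  obtain ⟨PS, ⟨N, hN⟩, hdeg⟩ := Groth.Agent.S3405.result Aₘ (Aₘ ⧸ K.map (algebraMap R Aₘ))
  refine ⟨PS, ⟨N, ?_⟩, ?_⟩
  · intro t ht
    obtain ⟨ℓ, hℓ, hℓ'⟩ := hN t ht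
    have hjac : Ring.jacobson Aₘ = IsLocalRing.maximalIdeal Aₘ := by
      rw [← Ideal.jacobson_bot]
      exact IsLocalRing.jacobson_eq_maximalIdeal ⊥ bot_ne_top
    rw [hjac, length_localization_quotient k n K hK t] at hℓ
    have : (∑ j ∈ Finset.range t, hilbFn k n K j : ℕ) = ℓ := by exact_mod_cast hℓ
    rw [this, hℓ']
  · rw [hdeg, Module.supportDim_quotient_eq_ringKrullDim,
      ringKrullDim_quotient_map_localization k n K hK hne]

/-- The Krull dimension of `R/I` is one more than the degree of the Hilbert polynomial. -/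
theorem ringKrullDim_eq_natDegree_hilbertPoly_add_one
    (I : Ideal R) (hIh : I.IsHomogeneous 𝒜) (P : ℚ[X]) (hP0 : P ≠ 0)
    (hP : ∃ m₀ : ℕ, ∀ m : ℕ, m₀ ≤ m → P.eval (m : ℚ) =
      (Module.finrank k ↥(𝒜 m) : ℚ) -
        Module.finrank k ↥(Submodule.restrictScalars k I ⊓ 𝒜 m)) :
    ringKrullDim (R ⧸ I) = (P.natDegree : WithBot ℕ∞) + 1 := by
  obtain ⟨m₀, hm₀⟩ := hP
  have hH : ∀ m : ℕ, m₀ ≤ m → P.eval (m : ℚ) = (hilbFn k n I m : ℚ) := by
    intro m hm
    rw [hm₀ m hm, ← hilbFn_add k n I m]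
    push_cast
    ring
  have hne : I ≠ ⊤ := by
    rintro rfl
    apply hP0
    apply eq_zero_of_eval_nat_eq_zero P m₀
    intro m hm
    rw [hH m hm]
    have : hilbFn k n ⊤ m = 0 := by
      unfold hilbFn
      rw [Submodule.restrictScalars_top, top_inf_eq, Nat.sub_self]
    rw [this, Nat.cast_zero]
  obtain ⟨PS, ⟨N, hN⟩, hdeg⟩ := exists_samuel_poly k n I hIh hne
  have hdiff : ∀ m : ℕ, max N m₀ ≤ m →
      PS.eval ((m : ℚ) + 1) - PS.eval (m : ℚ) = P.eval (m : ℚ) := by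
    intro m hm
    have h1 := hN m (le_trans (le_max_left _ _) hm)
    have h2 := hN (m + 1) (by have := le_trans (le_max_left _ _) hm; omega)
    rw [Finset.sum_range_succ] at h2
    push_cast at h1 h2
    rw [← h1, ← h2, hH m (le_trans (le_max_right _ _) hm)]
    ring
  obtain ⟨hd, -⟩ := natDegree_of_forward_diff PS P hP0 _ hdiff
  rw [← hdeg, hd]
  rfl

end main

end Groth.Agent.H54
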