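import Mathlib
import Groth.Prelude.Def_CohB1
import Groth.Agent.H54.HilbertSamuel3
import Groth.Agent.S12212
import Groth.Agent.H17.HS.Limit

set_option autoImplicit false
universe u
open Module

namespace Groth.Agent.H54

section general

theorem length_localizedModule_quotient {B : Type u} [CommRing B] (q : Ideal B) [q.IsPrime]
    (J : Ideal B) :
    Module.length (Localization.AtPrime q) (LocalizedModule q.primeCompl (B ⧸ J)) =
      Module.length (Localization.AtPrime q)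
        (Localization.AtPrime q ⧸ J.map (algebraMap B (Localization.AtPrime q))) :=
  (IsLocalizedModule.mapEquiv q.primeCompl
    (LocalizedModule.mkLinearMap q.primeCompl (B ⧸ J))
    (IsScalarTower.toAlgHom B (B ⧸ J)
      (Localization.AtPrime q ⧸ J.map (algebraMap B (Localization.AtPrime q)))).toLinearMap
    (Localization.AtPrime q) (LinearEquiv.refl B (B ⧸ J))).length_eq

/-- Ring length is invariant under ring isomorphism, quotient form. -/
theorem length_quotient_eq_of_ringEquiv {B₁ B₂ : Type*} [CommRing B₁] [CommRing B₂] (σ : B₁ ≃+* B₂)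
    (J₁ : Ideal B₁) (J₂ : Ideal B₂) (h : J₂ = J₁.map (σ : B₁ →+* B₂)) :
    Module.length B₁ (B₁ ⧸ J₁) = Module.length B₂ (B₂ ⧸ J₂) := by
  rw [Module.length_eq_of_surjective (S := B₁) (R := B₁ ⧸ J₁) (M := B₁ ⧸ J₁)
      Ideal.Quotient.mk_surjective,
    Module.length_eq_of_surjective (S := B₂) (R := B₂ ⧸ J₂) (M := B₂ ⧸ J₂)
      Ideal.Quotient.mk_surjective]
  let ρ : (B₁ ⧸ J₁) ≃+* (B₂ ⧸ J₂) := Ideal.quotientEquiv J₁ J₂ σ h
  rw [Module.length, Module.length, WithBot.unbot_inj]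
  exact Order.krullDim_eq_of_orderIso ρ.idealComapOrderIso.symm

/-- Multiplicities at primes are unchanged by first localizing at a bigger prime. -/
theorem length_localizedModule_localization {R : Type u} [CommRing R] (𝔪 : Ideal R) [𝔪.IsPrime]
    (I : Ideal R) (𝔭 : Ideal (Localization.AtPrime 𝔪)) [𝔭.IsPrime] :
    Module.length (Localization.AtPrime 𝔭)
        (LocalizedModule 𝔭.primeCompl
          (Localization.AtPrime 𝔪 ⧸ I.map (algebraMap R (Localization.AtPrime 𝔪)))) =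
      Module.length (Localization.AtPrime (𝔭.comap (algebraMap R (Localization.AtPrime 𝔪))))
        (LocalizedModule (𝔭.comap (algebraMap R (Localization.AtPrime 𝔪))).primeCompl (R ⧸ I)) := by
  rw [length_localizedModule_quotient 𝔭, length_localizedModule_quotient
    (𝔭.comap (algebraMap R (Localization.AtPrime 𝔪)))]
  symm
  let σ := IsLocalization.localizationLocalizationAtPrimeIsoLocalization 𝔪.primeCompl 𝔭
  apply length_quotient_eq_of_ringEquiv σ.toRingEquiv
  rw [Ideal.map_map, Ideal.map_map]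
  congr 1
  ext x
  simp [IsScalarTower.algebraMap_apply R (Localization.AtPrime 𝔪) (Localization.AtPrime 𝔭)]

/-- Variant with the contraction named. -/
theorem length_localizedModule_localization' {R : Type u} [CommRing R] (𝔪 : Ideal R) [𝔪.IsPrime]
    (I : Ideal R) (𝔭 : Ideal (Localization.AtPrime 𝔪)) [𝔭.IsPrime] (p : Ideal R) [p.IsPrime]
    (hp : 𝔭.comap (algebraMap R (Localization.AtPrime 𝔪)) = p) :
    Module.length (Localization.AtPrime 𝔭)
        (LocalizedModule 𝔭.primeCompl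
          (Localization.AtPrime 𝔪 ⧸ I.map (algebraMap R (Localization.AtPrime 𝔪)))) =
      Module.length (Localization.AtPrime p) (LocalizedModule p.primeCompl (R ⧸ I)) := by
  subst hp
  exact length_localizedModule_localization 𝔪 I 𝔭

/-- The localization of `B/J` at a prime not containing `J` vanishes. -/
theorem length_localizedModule_quotient_eq_zero {B : Type u} [CommRing B] (q : Ideal B) [q.IsPrime]
    (J : Ideal B) (h : ¬ J ≤ q) :
    Module.length (Localization.AtPrime q) (LocalizedModule q.primeCompl (B ⧸ J)) = 0 := by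
  rw [Module.length_eq_zero_iff, LocalizedModule.subsingleton_iff]
  obtain ⟨r, hrJ, hrq⟩ := Set.not_subset.mp h
  intro m
  refine ⟨r, hrq, ?_⟩
  obtain ⟨b, rfl⟩ := Ideal.Quotient.mk_surjective m
  rw [← Ideal.Quotient.mk_eq_mk, ← Submodule.Quotient.mk_smul, Submodule.Quotient.mk_eq_zero]
  exact J.mul_mem_right b hrJ

end general

section polysum
open Polynomial

/-- If the forward difference of `PS` vanishes at all large naturals then `PS` is constant. -/
theorem natDegree_eq_zero_of_forward_diff_eq_zero (PS : ℚ[X]) (m₁ : ℕ)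
    (h : ∀ m : ℕ, m₁ ≤ m → PS.eval ((m : ℚ) + 1) - PS.eval (m : ℚ) = 0) :
    PS.natDegree = 0 := by
  have hQeq : (0 : ℚ[X]) = PS - PS.comp (X - C ((1 : ℕ) : ℚ)) := by
    apply eq_sub_comp_of_eval PS 0 1 (m₁ + 1)
    intro m hm
    obtain ⟨m', rfl⟩ : ∃ m', m = m' + 1 := ⟨m - 1, by omega⟩
    have := h m' (by omega)
    rw [eval_zero]
    push_cast
    rw [add_sub_cancel_right]
    exact this.symm
  rw [Nat.cast_one] at hQeq
  by_contra hne
  obtain ⟨t, ht⟩ : ∃ t, PS.natDegree = t + 1 := ⟨PS.natDegree - 1, by omega⟩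
  obtain ⟨-, h2⟩ := natDegree_leadingCoeff_sub_comp PS 1 one_ne_zero t ht
  rw [← hQeq, leadingCoeff_zero] at h2
  have hlc : PS.leadingCoeff ≠ 0 := by
    rw [Ne, leadingCoeff_eq_zero]
    rintro rfl
    simp at ht
  have : ((t : ℚ) + 1) * 1 * PS.leadingCoeff ≠ 0 := by
    have : ((t : ℚ) + 1) ≠ 0 := by positivity
    exact mul_ne_zero (mul_ne_zero this one_ne_zero) hlc
  exact this h2.symm

end polysum

section main
open Polynomial
variable (k : Type u) [Field k] (n : ℕ)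

local notation "𝒜" => CohB1.polyGrading n k
local notation "R" => MvPolynomial (Fin (n + 1)) k
local notation "𝔪" => MvPolynomial.idealOfVars (Fin (n + 1)) k
local notation "Aₘ" => Localization.AtPrime 𝔪

theorem eval_eq_hilbFn (K : Ideal R) (Q : ℚ[X]) (m₀ : ℕ)
    (hQ : ∀ m : ℕ, m₀ ≤ m → Q.eval (m : ℚ) =
      (Module.finrank k ↥(𝒜 m) : ℚ) - Module.finrank k ↥(Submodule.restrictScalars k K ⊓ 𝒜 m))
    (m : ℕ) (hm : m₀ ≤ m) : Q.eval (m : ℚ) = (hilbFn k n K m : ℚ) := by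
  rw [hQ m hm, ← hilbFn_add k n K m]
  push_cast
  ring

/-- Samuel polynomial data of a graded quotient in terms of its Hilbert polynomial. -/
theorem samuel_data (K : Ideal R) (hK : K.IsHomogeneous 𝒜) (hne : K ≠ ⊤) (Q : ℚ[X])
    (hQ : ∃ m₀ : ℕ, ∀ m : ℕ, m₀ ≤ m → Q.eval (m : ℚ) =
      (Module.finrank k ↥(𝒜 m) : ℚ) - Module.finrank k ↥(Submodule.restrictScalars k K ⊓ 𝒜 m)) :
    ∃ PS : ℚ[X],
      (∃ N : ℕ, ∀ t : ℕ, N ≤ t →
        ((∑ j ∈ Finset.range t, hilbFn k n K j : ℕ) : ℚ) = PS.eval (t : ℚ)) ∧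
      (PS.natDegree : WithBot ℕ∞) = ringKrullDim (R ⧸ K) ∧
      (Q = 0 → PS.natDegree = 0) ∧
      (Q ≠ 0 → PS.natDegree = Q.natDegree + 1 ∧
        PS.leadingCoeff * ((Q.natDegree : ℚ) + 1) = Q.leadingCoeff) := by
  obtain ⟨m₀, hm₀⟩ := hQ
  obtain ⟨PS, ⟨N, hN⟩, hdeg⟩ := exists_samuel_poly k n K hK hne
  have hdiff : ∀ m : ℕ, max N m₀ ≤ m →
      PS.eval ((m : ℚ) + 1) - PS.eval (m : ℚ) = Q.eval (m : ℚ) := by
    intro m hm
    have h1 := hN m (le_trans (le_max_left _ _) hm)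
    have h2 := hN (m + 1) (by have := le_trans (le_max_left _ _) hm; omega)
    rw [Finset.sum_range_succ] at h2
    push_cast at h1 h2
    rw [← h1, ← h2, eval_eq_hilbFn k n K Q m₀ hm₀ m (le_trans (le_max_right _ _) hm)]
    ring
  refine ⟨PS, ⟨N, hN⟩, hdeg, ?_, ?_⟩
  · intro hQ0
    apply natDegree_eq_zero_of_forward_diff_eq_zero PS (max N m₀)
    intro m hm
    rw [hdiff m hm, hQ0, eval_zero]
  · intro hQ0
    exact natDegree_of_forward_diff PS Q hQ0 _ hdiff


theorem ne_top_of_hilbertPoly_ne_zero (I : Ideal R) (P : ℚ[X]) (hP0 : P ≠ 0)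
    (hP : ∃ m₀ : ℕ, ∀ m : ℕ, m₀ ≤ m → P.eval (m : ℚ) =
      (Module.finrank k ↥(𝒜 m) : ℚ) - Module.finrank k ↥(Submodule.restrictScalars k I ⊓ 𝒜 m)) :
    I ≠ ⊤ := by
  obtain ⟨m₀, hm₀⟩ := hP
  rintro rfl
  apply hP0
  apply eq_zero_of_eval_nat_eq_zero P m₀
  intro m hm
  rw [eval_eq_hilbFn k n ⊤ P m₀ hm₀ m hm]
  have : hilbFn k n ⊤ m = 0 := by
    unfold hilbFn
    rw [Submodule.restrictScalars_top, top_inf_eq, Nat.sub_self]
  rw [this, Nat.cast_zero]

theorem hilbFn_anti {K K' : Ideal R} (h : K ≤ K') (m : ℕ) : hilbFn k n K' m ≤ hilbFn k n K m := by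
  unfold hilbFn
  apply Nat.sub_le_sub_left
  apply Submodule.finrank_mono
  exact inf_le_inf_right _ (fun x hx => h hx)

/-- The chi function of the localized graded quotient. -/
theorem chi_localization_quotient (K : Ideal R) (hK : K.IsHomogeneous 𝒜) (t : ℕ) :
    Groth.Agent.H17.HS.chi (IsLocalRing.maximalIdeal Aₘ) (Aₘ ⧸ K.map (algebraMap R Aₘ)) t =
      ((∑ j ∈ Finset.range t, hilbFn k n K j : ℕ) : ℕ∞) :=
  length_localization_quotient k n K hK t

open Filter Topology in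
/-- The multiplicity limit of a localized graded quotient in terms of a Samuel polynomial. -/
theorem tendsto_chi_localization_quotient (K : Ideal R) (hK : K.IsHomogeneous 𝒜) (PS : ℚ[X])
    (N : ℕ) (hN : ∀ t : ℕ, N ≤ t →
      ((∑ j ∈ Finset.range t, hilbFn k n K j : ℕ) : ℚ) = PS.eval (t : ℚ))
    (d : ℕ) (hd : PS.natDegree ≤ d) :
    Tendsto (fun t : ℕ => (d.factorial : ℝ) *
      ((Module.length Aₘ ((Aₘ ⧸ K.map (algebraMap R Aₘ)) ⧸
        (IsLocalRing.maximalIdeal Aₘ ^ t •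
          (⊤ : Submodule Aₘ (Aₘ ⧸ K.map (algebraMap R Aₘ)))))).toNat : ℝ) / (t : ℝ) ^ d) atTop
      (𝓝 ((d.factorial : ℝ) * ((PS.coeff d : ℚ) : ℝ))) := by
  refine (Groth.Agent.H17.HS.tendsto_poly_div_pow PS d hd (d.factorial : ℝ)).congr' ?_
  filter_upwards [eventually_ge_atTop N] with t ht
  rw [← hN t ht, length_localization_quotient k n K hK t, ENat.toNat_natCast]
  push_cast
  ring


open Filter Topology in
/-- The degree of `V(I)` is the sum over top-dimensional components of multiplicity times degree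
(case of a nonzero Hilbert polynomial). -/
theorem degree_eq_sum_mult (I : Ideal R) (hIh : I.IsHomogeneous 𝒜) (P : ℚ[X]) (hP0 : P ≠ 0)
    (hP : ∃ m₀ : ℕ, ∀ m : ℕ, m₀ ≤ m → P.eval (m : ℚ) =
      (Module.finrank k ↥(𝒜 m) : ℚ) - Module.finrank k ↥(Submodule.restrictScalars k I ⊓ 𝒜 m))
    (r : ℕ) (p : Fin r → Ideal R) [hp : ∀ i, (p i).IsPrime] (hpinj : Function.Injective p)
    (hpmin : ∀ q : Ideal R, q ∈ I.minimalPrimes ↔ ∃ i, q = p i)
    (Qp : Fin r → ℚ[X])
    (hQp : ∀ i, ∃ m₀ : ℕ, ∀ m : ℕ, m₀ ≤ m → (Qp i).eval (m : ℚ) =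
      (Module.finrank k ↥(𝒜 m) : ℚ) -
        Module.finrank k ↥(Submodule.restrictScalars k (p i) ⊓ 𝒜 m)) :
    (P.natDegree.factorial : ℚ) * P.leadingCoeff =
      ∑ i : Fin r, if (Qp i).natDegree = P.natDegree then
        ((Qp i).natDegree.factorial : ℚ) * (Qp i).leadingCoeff *
          (Module.length (Localization.AtPrime (p i))
            (LocalizedModule (p i).primeCompl (R ⧸ I))).toNat
      else 0 := by
  classical
  have hne : I ≠ ⊤ := ne_top_of_hilbertPoly_ne_zero k n I P hP0 hP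
  set t := P.natDegree with ht
  set d := t + 1 with hd
  -- Samuel data for `I`
  obtain ⟨PS, ⟨N, hN⟩, hdegPS, -, hPS⟩ := samuel_data k n I hIh hne P hP
  obtain ⟨hPSdeg, hPSlc⟩ := hPS hP0
  have hdimI : ringKrullDim (R ⧸ I) = ((d : ℕ) : WithBot ℕ∞) := by
    rw [← hdegPS, hPSdeg]
  -- facts about the minimal primes
  have hmin : ∀ i, p i ∈ I.minimalPrimes := fun i => (hpmin _).mpr ⟨i, rfl⟩
  have hhom : ∀ i, (p i).IsHomogeneous 𝒜 := fun i =>
    isHomogeneous_of_mem_minimalPrimes 𝒜 hIh (hmin i)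
  have hpne : ∀ i, p i ≠ ⊤ := fun i => (hp i).ne_top
  have hIle : ∀ i, I ≤ p i := fun i => (hmin i).1.2
  have hple : ∀ i, p i ≤ 𝔪 := fun i => by
    rw [idealOfVars_eq_irrelevant]
    exact le_irrelevant_of_isHomogeneous k n (hhom i) (hpne i)
  have hdisj : ∀ i, Disjoint ((𝔪).primeCompl : Set R) (p i : Set R) := fun i => by
    rw [Set.disjoint_left]
    intro x hx hx'
    exact hx (hple i hx')
  have hprime : ∀ i, ((p i).map (algebraMap R Aₘ)).IsPrime := fun i =>
    IsLocalization.isPrime_of_isPrime_disjoint (𝔪).primeCompl Aₘ (p i) (hp i) (hdisj i)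
  let 𝔭 : Fin r → PrimeSpectrum Aₘ := fun i => ⟨(p i).map (algebraMap R Aₘ), hprime i⟩
  have hcomap : ∀ i, ((𝔭 i).asIdeal).comap (algebraMap R Aₘ) = p i := fun i =>
    IsLocalization.under_map_of_isPrime_disjoint (𝔪).primeCompl Aₘ (hp i) (hdisj i)
  have h𝔭inj : Function.Injective 𝔭 := by
    intro i j hij
    apply hpinj
    rw [← hcomap i, ← hcomap j, hij]
  have hdim𝔭 : ∀ i, ringKrullDim (Aₘ ⧸ (𝔭 i).asIdeal) = ringKrullDim (R ⧸ p i) := fun i =>
    ringKrullDim_quotient_map_localization k n (p i) (hhom i) (hpne i)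
  -- Samuel data for the `p i`
  have hdata : ∀ i, ∃ PSi : ℚ[X],
      (∃ N : ℕ, ∀ t : ℕ, N ≤ t →
        ((∑ j ∈ Finset.range t, hilbFn k n (p i) j : ℕ) : ℚ) = PSi.eval (t : ℚ)) ∧
      (PSi.natDegree : WithBot ℕ∞) = ringKrullDim (R ⧸ p i) ∧
      (Qp i = 0 → PSi.natDegree = 0) ∧
      (Qp i ≠ 0 → PSi.natDegree = (Qp i).natDegree + 1 ∧
        PSi.leadingCoeff * (((Qp i).natDegree : ℚ) + 1) = (Qp i).leadingCoeff) := fun i =>
    samuel_data k n (p i) (hhom i) (hpne i) (Qp i) (hQp i)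
  choose PSi hPSiN hPSidim hPSi0 hPSi1 using hdata
  -- the local ring and the ideal of definition
  have hI𝔞 : IsLocalRing.maximalIdeal Aₘ ≤ IsLocalRing.maximalIdeal Aₘ ∧
      ∃ m : ℕ, IsLocalRing.maximalIdeal Aₘ ^ m ≤ IsLocalRing.maximalIdeal Aₘ :=
    ⟨le_rfl, 1, by rw [pow_one]⟩
  have hsd : Module.supportDim Aₘ (Aₘ ⧸ I.map (algebraMap R Aₘ)) ≤ d := by
    rw [Module.supportDim_quotient_eq_ringKrullDim,
      ringKrullDim_quotient_map_localization k n I hIh hne, hdimI]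
  -- the limits `e`
  have hex : ∀ 𝔮 : PrimeSpectrum Aₘ, ∃ c : ℝ, ringKrullDim (Aₘ ⧸ 𝔮.asIdeal) = d →
      Tendsto (fun t : ℕ => (d.factorial : ℝ) *
        ((Module.length Aₘ ((Aₘ ⧸ 𝔮.asIdeal) ⧸ (IsLocalRing.maximalIdeal Aₘ ^ t •
          (⊤ : Submodule Aₘ (Aₘ ⧸ 𝔮.asIdeal))))).toNat : ℝ) / (t : ℝ) ^ d) atTop (𝓝 c) := by
    intro 𝔮
    by_cases h : ringKrullDim (Aₘ ⧸ 𝔮.asIdeal) = d
    · obtain ⟨Pq, n₀, hdeg, hPq⟩ := Groth.Agent.H17.HS.exists_chi_poly
        (IsLocalRing.maximalIdeal Aₘ) hI𝔞.2 (Aₘ ⧸ 𝔮.asIdeal) d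
        (by rw [Module.supportDim_quotient_eq_ringKrullDim, h])
      exact ⟨_, fun _ => Groth.Agent.H17.HS.tendsto_chi (IsLocalRing.maximalIdeal Aₘ) hI𝔞.2
        (Aₘ ⧸ 𝔮.asIdeal) d Pq n₀ hdeg hPq⟩
    · exact ⟨0, fun h' => absurd h' h⟩
  choose e he using hex
  have hlim := Groth.Agent.S12212.result Aₘ (IsLocalRing.maximalIdeal Aₘ) hI𝔞
    (Aₘ ⧸ I.map (algebraMap R Aₘ)) d hsd e he
  have hlim' := tendsto_chi_localization_quotient k n I hIh PS N hN d (by omega)
  have huniq := tendsto_nhds_unique hlim hlim'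
  -- value of `e` at the `𝔭 i`
  have he𝔭 : ∀ i, ringKrullDim (R ⧸ p i) = d →
      e (𝔭 i) = (d.factorial : ℝ) * (((PSi i).coeff d : ℚ) : ℝ) := by
    intro i hi
    have h1 := he (𝔭 i) (by rw [hdim𝔭 i, hi])
    obtain ⟨Ni, hNi⟩ := hPSiN i
    have hdegi : (PSi i).natDegree ≤ d := by
      have := hPSidim i
      rw [hi] at this
      have h2 : (PSi i).natDegree = d := by exact_mod_cast this
      omega
    have h2 := tendsto_chi_localization_quotient k n (p i) (hhom i) (PSi i) Ni hNi d hdegi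
    exact tendsto_nhds_unique h1 h2
  -- the summand
  let F : PrimeSpectrum Aₘ → ℝ := fun 𝔮 =>
    ∑ᶠ (_ : ringKrullDim (Aₘ ⧸ 𝔮.asIdeal) = d),
      ((Module.length (Localization.AtPrime 𝔮.asIdeal)
        (LocalizedModule 𝔮.asIdeal.primeCompl (Aₘ ⧸ I.map (algebraMap R Aₘ)))).toNat : ℝ) * e 𝔮
  have hFif : ∀ 𝔮, F 𝔮 = if ringKrullDim (Aₘ ⧸ 𝔮.asIdeal) = d then
      ((Module.length (Localization.AtPrime 𝔮.asIdeal)
        (LocalizedModule 𝔮.asIdeal.primeCompl (Aₘ ⧸ I.map (algebraMap R Aₘ)))).toNat : ℝ) * e 𝔮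
      else 0 := fun 𝔮 => finsum_eq_if
  change ∑ᶠ 𝔮, F 𝔮 = _ at huniq
  -- dimension facts
  have hdimle : ∀ i, ringKrullDim (R ⧸ p i) ≤ ((d : ℕ) : WithBot ℕ∞) := fun i => by
    rw [← hdimI]
    exact ringKrullDim_le_of_surjective (Ideal.Quotient.factor (hIle i))
      (Ideal.Quotient.factor_surjective _)
  have hdeg_of_dim : ∀ i, ringKrullDim (R ⧸ p i) = ((d : ℕ) : WithBot ℕ∞) →
      Qp i ≠ 0 ∧ (Qp i).natDegree = t := by
    intro i hi
    have h1 : (PSi i).natDegree = d := by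
      have := hPSidim i
      rw [hi] at this
      exact_mod_cast this
    have hQ0 : Qp i ≠ 0 := by
      intro h0
      have := hPSi0 i h0
      omega
    refine ⟨hQ0, ?_⟩
    have := (hPSi1 i hQ0).1
    omega
  have hdim_of_deg : ∀ i, Qp i ≠ 0 → (Qp i).natDegree = t →
      ringKrullDim (R ⧸ p i) = ((d : ℕ) : WithBot ℕ∞) := by
    intro i hQ0 hdeg
    rw [← hPSidim i, (hPSi1 i hQ0).1, hdeg]
  -- support
  have hsupp : Function.support F ⊆
      ↑((Finset.univ.filter fun i : Fin r => (Qp i).natDegree = t).image 𝔭) := by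
    intro 𝔮 h𝔮
    rw [Function.mem_support, hFif] at h𝔮
    have hdim𝔮 : ringKrullDim (Aₘ ⧸ 𝔮.asIdeal) = d := by
      by_contra h
      rw [if_neg h] at h𝔮
      exact h𝔮 rfl
    rw [if_pos hdim𝔮] at h𝔮
    have hmult : Module.length (Localization.AtPrime 𝔮.asIdeal)
        (LocalizedModule 𝔮.asIdeal.primeCompl (Aₘ ⧸ I.map (algebraMap R Aₘ))) ≠ 0 := by
      intro h0
      apply h𝔮
      rw [h0]
      simp
    have hI𝔮 : I.map (algebraMap R Aₘ) ≤ 𝔮.asIdeal := by
      by_contra h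
      exact hmult (length_localizedModule_quotient_eq_zero 𝔮.asIdeal _ h)
    have hIp' : I ≤ 𝔮.asIdeal.comap (algebraMap R Aₘ) := Ideal.map_le_iff_le_comap.mp hI𝔮
    obtain ⟨q, hqmin, hqle⟩ := Ideal.exists_minimalPrimes_le hIp'
    obtain ⟨i₀, rfl⟩ := (hpmin q).mp hqmin
    have hle𝔮 : (𝔭 i₀).asIdeal ≤ 𝔮.asIdeal := Ideal.map_le_iff_le_comap.mpr hqle
    have heq : 𝔭 i₀ = 𝔮 := by
      by_contra hneq
      have hlt : (𝔭 i₀).asIdeal < 𝔮.asIdeal :=
        lt_of_le_of_ne hle𝔮 (fun h => hneq (PrimeSpectrum.ext h))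
      have h1 := Groth.Agent.H17.HS.ringKrullDim_quotient_succ_le_of_lt hlt
      rw [hdim𝔮, hdim𝔭 i₀] at h1
      have h2 := h1.trans (hdimle i₀)
      have h3 : d + 1 ≤ d := by exact_mod_cast h2
      omega
    have hdimi : ringKrullDim (R ⧸ p i₀) = ((d : ℕ) : WithBot ℕ∞) := by
      rw [← hdim𝔭 i₀, heq, hdim𝔮]
    rw [Finset.coe_image, Set.mem_image]
    exact ⟨i₀, by simpa using (hdeg_of_dim i₀ hdimi).2, heq⟩
  rw [finsum_eq_sum_of_support_subset F hsupp, Finset.sum_image (fun i _ j _ h => h𝔭inj h),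
    Finset.sum_filter] at huniq
  -- evaluate the terms
  have hterm : ∀ i, (Qp i).natDegree = t →
      F (𝔭 i) = (((t.factorial : ℚ) * (Qp i).leadingCoeff *
        (Module.length (Localization.AtPrime (p i))
          (LocalizedModule (p i).primeCompl (R ⧸ I))).toNat : ℚ) : ℝ) := by
    intro i hdeg
    rw [hFif]
    by_cases hQ0 : Qp i = 0
    · have hnd : ¬ ringKrullDim (Aₘ ⧸ (𝔭 i).asIdeal) = d := by
        intro h
        rw [hdim𝔭 i] at h
        exact (hdeg_of_dim i h).1 hQ0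
      rw [if_neg hnd, hQ0, leadingCoeff_zero]
      simp
    · have hdimi := hdim_of_deg i hQ0 hdeg
      rw [if_pos (by rw [hdim𝔭 i, hdimi]), he𝔭 i hdimi,
        length_localizedModule_localization' 𝔪 I (𝔭 i).asIdeal (p i) (hcomap i)]
      obtain ⟨h1, h2⟩ := hPSi1 i hQ0
      have hcoeff : (PSi i).coeff d = (PSi i).leadingCoeff := by
        rw [leadingCoeff, h1, hdeg]
      rw [hcoeff, ← h2, hdeg, hd, Nat.factorial_succ]
      push_cast
      ring
  -- conclude
  have hLHS : ((d.factorial : ℝ) * (((PS.coeff d : ℚ)) : ℝ)) =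
      (((t.factorial : ℚ) * P.leadingCoeff : ℚ) : ℝ) := by
    have hcoeff : PS.coeff d = PS.leadingCoeff := by
      rw [leadingCoeff, hPSdeg]
    rw [hcoeff, ← hPSlc, hd, Nat.factorial_succ]
    push_cast
    ring
  rw [hLHS] at huniq
  have hfinal : (((t.factorial : ℚ) * P.leadingCoeff : ℚ) : ℝ) =
      ((∑ i : Fin r, if (Qp i).natDegree = t then
        ((Qp i).natDegree.factorial : ℚ) * (Qp i).leadingCoeff *
          (Module.length (Localization.AtPrime (p i))
            (LocalizedModule (p i).primeCompl (R ⧸ I))).toNat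
      else 0 : ℚ) : ℝ) := by
    rw [← huniq]
    push_cast
    apply Finset.sum_congr rfl
    intro i _
    split_ifs with h
    · rw [hterm i h, h]
    · simp
  exact_mod_cast hfinal


/-- The degree of `V(I)` is the sum over top-dimensional components of multiplicity times
degree. -/
theorem degree_eq_sum_mult' (I : Ideal R) (hIh : I.IsHomogeneous 𝒜) (P : ℚ[X])
    (hP : ∃ m₀ : ℕ, ∀ m : ℕ, m₀ ≤ m → P.eval (m : ℚ) =
      (Module.finrank k ↥(𝒜 m) : ℚ) - Module.finrank k ↥(Submodule.restrictScalars k I ⊓ 𝒜 m))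
    (r : ℕ) (p : Fin r → Ideal R) [hp : ∀ i, (p i).IsPrime] (hpinj : Function.Injective p)
    (hpmin : ∀ q : Ideal R, q ∈ I.minimalPrimes ↔ ∃ i, q = p i)
    (Qp : Fin r → ℚ[X])
    (hQp : ∀ i, ∃ m₀ : ℕ, ∀ m : ℕ, m₀ ≤ m → (Qp i).eval (m : ℚ) =
      (Module.finrank k ↥(𝒜 m) : ℚ) -
        Module.finrank k ↥(Submodule.restrictScalars k (p i) ⊓ 𝒜 m)) :
    (P.natDegree.factorial : ℚ) * P.leadingCoeff =
      ∑ i : Fin r, if (Qp i).natDegree = P.natDegree then
        ((Qp i).natDegree.factorial : ℚ) * (Qp i).leadingCoeff *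
          (Module.length (Localization.AtPrime (p i))
            (LocalizedModule (p i).primeCompl (R ⧸ I))).toNat
      else 0 := by
  by_cases hP0 : P = 0
  · subst hP0
    rw [leadingCoeff_zero, mul_zero]
    symm
    apply Finset.sum_eq_zero
    intro i _
    have hQ0 : Qp i = 0 := by
      obtain ⟨m₀, hm₀⟩ := hP
      obtain ⟨m₁, hm₁⟩ := hQp i
      apply eq_zero_of_eval_nat_eq_zero (Qp i) (max m₀ m₁)
      intro m hm
      have h1 := eval_eq_hilbFn k n I 0 m₀ hm₀ m (le_trans (le_max_left _ _) hm)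
      have h2 := eval_eq_hilbFn k n (p i) (Qp i) m₁ hm₁ m (le_trans (le_max_right _ _) hm)
      rw [eval_zero] at h1
      have h3 : hilbFn k n I m = 0 := by exact_mod_cast h1.symm
      have h4 : hilbFn k n (p i) m ≤ hilbFn k n I m :=
        hilbFn_anti k n ((hpmin (p i)).mpr ⟨i, rfl⟩).1.2 m
      have h5 : hilbFn k n (p i) m = 0 := by omega
      rw [h2, h5, Nat.cast_zero]
    rw [hQ0, leadingCoeff_zero]
    simp
  · exact degree_eq_sum_mult k n I hIh P hP0 hP r p hpinj hpmin Qp hQp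

end main

end Groth.Agent.H54
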