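import Mathlib
import Groth.Prelude.Def_CohB1
import Groth.Agent.H54.HilbertMult
import Groth.Agent.H54.HilbertSection
import Groth.Agent.H54.ProjDimTheory1

set_option autoImplicit false
universe u
open Module Polynomial

namespace Groth.Agent.H54

section bezout
variable (k : Type u) [Field k] (n : ℕ)

local notation "𝒜" => CohB1.polyGrading n k
local notation "R" => MvPolynomial (Fin (n + 1)) k

/-- Hilbert polynomial of `I + (f)`. -/
theorem hilbertPoly_sup_span_singleton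
    (I : Ideal R) (hIh : I.IsHomogeneous 𝒜) [hIp : I.IsPrime]
    (f : R) (d : ℕ) (hf : f.IsHomogeneous d) (hfI : f ∉ I)
    (P : ℚ[X])
    (hP : ∃ m₀ : ℕ, ∀ m : ℕ, m₀ ≤ m → P.eval (m : ℚ) =
      (Module.finrank k ↥(𝒜 m) : ℚ) -
        Module.finrank k ↥(Submodule.restrictScalars k I ⊓ 𝒜 m)) :
    ∃ m₀ : ℕ, ∀ m : ℕ, m₀ ≤ m → (P - P.comp (X - C (d : ℚ))).eval (m : ℚ) =
      (Module.finrank k ↥(𝒜 m) : ℚ) -
        Module.finrank k ↥(Submodule.restrictScalars k (I ⊔ Ideal.span {f}) ⊓ 𝒜 m) := by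
  classical
  obtain ⟨m₀, hP⟩ := hP
  have hf0 : f ≠ 0 := by
    rintro rfl
    exact hfI I.zero_mem
  have hnzd : ∀ g, f * g ∈ I → g ∈ I := fun g hg => (hIp.mem_or_mem hg).resolve_left hfI
  have hinj : Function.Injective (LinearMap.mulLeft k f) := by
    intro a b hab
    exact mul_left_cancel₀ hf0 (by simpa using hab)
  have hfmem : f ∈ 𝒜 d := (MvPolynomial.mem_homogeneousSubmodule d f).mpr hf
  refine ⟨m₀ + d, fun m hm => ?_⟩
  have hdm : d ≤ m := by omega
  have h1 := finrank_piece_sup_span_singleton 𝒜 I hIh f d hfmem hnzd hinj m hdm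
  have h1' : (Module.finrank k ↥((I ⊔ Ideal.span {f}).restrictScalars k ⊓ 𝒜 m) : ℚ) +
      Module.finrank k ↥(I.restrictScalars k ⊓ 𝒜 (m - d)) =
      Module.finrank k ↥(I.restrictScalars k ⊓ 𝒜 m) + Module.finrank k ↥(𝒜 (m - d)) := by
    exact_mod_cast h1
  have h3 := hP m (by omega)
  have h4 := hP (m - d) (by omega)
  rw [Nat.cast_sub hdm] at h4
  simp only [eval_sub, eval_comp, eval_X, eval_C]
  rw [h3, h4]
  linarith

/-- Bezout's theorem for a hypersurface section of a projective variety of dimension `≥ 1`,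
via Hilbert polynomials. -/
theorem bezout_hilbert
    (I : Ideal R) (hIh : I.IsHomogeneous 𝒜) [hIp : I.IsPrime]
    (f : R) (d : ℕ) (hd : 0 < d) (hf : f.IsHomogeneous d) (hfI : f ∉ I)
    (P : ℚ[X])
    (hP : ∃ m₀ : ℕ, ∀ m : ℕ, m₀ ≤ m → P.eval (m : ℚ) =
      (Module.finrank k ↥(𝒜 m) : ℚ) -
        Module.finrank k ↥(Submodule.restrictScalars k I ⊓ 𝒜 m))
    (hdim : 1 ≤ P.natDegree)
    (r : ℕ) (p : Fin r → Ideal R) [hp : ∀ i, (p i).IsPrime] (hpinj : Function.Injective p)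
    (hpmin : ∀ q : Ideal R, q ∈ (I ⊔ Ideal.span {f}).minimalPrimes ↔ ∃ i, q = p i)
    (Qp : Fin r → ℚ[X])
    (hQp : ∀ i, ∃ m₀ : ℕ, ∀ m : ℕ, m₀ ≤ m → (Qp i).eval (m : ℚ) =
      (Module.finrank k ↥(𝒜 m) : ℚ) -
        Module.finrank k ↥(Submodule.restrictScalars k (p i) ⊓ 𝒜 m)) :
    (d : ℚ) * ((P.natDegree.factorial : ℚ) * P.leadingCoeff) =
      ∑ i : Fin r, ((Qp i).natDegree.factorial : ℚ) * (Qp i).leadingCoeff *
        (Module.length (Localization.AtPrime (p i))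
          (LocalizedModule (p i).primeCompl (R ⧸ (I ⊔ Ideal.span {f})))).toNat := by
  classical
  have hfmem : f ∈ 𝒜 d := (MvPolynomial.mem_homogeneousSubmodule d f).mpr hf
  have hP' := hilbertPoly_sup_span_singleton k n I hIh f d hf hfI P hP
  have hI'h : (I ⊔ Ideal.span {f}).IsHomogeneous 𝒜 := by
    apply hIh.sup
    apply Ideal.homogeneous_span
    intro x hx
    rw [Set.mem_singleton_iff] at hx
    subst hx
    exact ⟨d, hfmem⟩
  obtain ⟨hdeg, hlc⟩ := hilbertPoly_hypersurface_section k n I hIh f d hd hf hfI P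
    (P - P.comp (X - C (d : ℚ))) hP hP' hdim
  have hmain := degree_eq_sum_mult' k n (I ⊔ Ideal.span {f}) hI'h
    (P - P.comp (X - C (d : ℚ))) hP' r p hpinj hpmin Qp hQp
  rw [← hlc, hmain]
  apply Finset.sum_congr rfl
  intro i _
  rw [if_pos]
  rw [← Nat.add_right_cancel_iff (n := 1), hdeg]
  -- the degree of `Qp i`
  have hmem : p i ∈ (I ⊔ Ideal.span {f}).minimalPrimes := (hpmin _).mpr ⟨i, rfl⟩
  have hP0 : P ≠ 0 := by
    rintro rfl
    simp at hdim
  have h1 := ringKrullDim_quotient_add_one_of_mem_minimalPrimes k R I f hfI (p i) hmem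
  have h2 := ringKrullDim_eq_natDegree_hilbertPoly_add_one k n I hIh P hP0 hP
  rw [h2] at h1
  have h3 := withBot_enat_add_one_cancel h1
  have hhom : (p i).IsHomogeneous 𝒜 := isHomogeneous_of_mem_minimalPrimes 𝒜 hI'h hmem
  obtain ⟨PS, -, hPSdim, hPS0, hPS1⟩ :=
    samuel_data k n (p i) hhom (hp i).ne_top (Qp i) (hQp i)
  rw [h3] at hPSdim
  have hPSdeg : PS.natDegree = P.natDegree := by exact_mod_cast hPSdim
  by_cases hQ0 : Qp i = 0
  · have := hPS0 hQ0
    omega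
  · have := (hPS1 hQ0).1
    omega

end bezout

end Groth.Agent.H54
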