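import Mathlib
import Groth.Agent.H54.FormsAway

set_option autoImplicit false
universe u
open AlgebraicGeometry TopologicalSpace CategoryTheory

namespace Groth.Agent.H54

section scheme
variable (k : Type u) [Field k] (n : ℕ)

local notation "𝒜" => CohB1.polyGrading n k
local notation "A" => MvPolynomial (Fin (n + 1)) k

theorem exists_hypersurfaces_cover (r : ℕ)
    {X Y : Scheme.{u}} (iX : X ⟶ Proj 𝒜) (iY : Y ⟶ Proj 𝒜)
    [IsClosedImmersion iX] [IsClosedImmersion iY] (hX : topologicalKrullDim ↥X = r) :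
    ∃ (h : Fin (r + 1) → A) (D : Fin (r + 1) → (Proj 𝒜).Opens),
      (∀ j, D j = Proj.basicOpen 𝒜 (h j)) ∧
      (∀ j, ∃ d : ℕ, 0 < d ∧ (h j).IsHomogeneous d) ∧
      (∀ j, Set.range iY.base ⊆ (D j : Set ↥(Proj 𝒜))ᶜ) ∧
      (Set.range iX.base \ Set.range iY.base ⊆ ⋃ j, (D j : Set ↥(Proj 𝒜))) ∧
      ∀ j, IsAffineOpen (iX ⁻¹ᵁ (D j)) := by
  classical
  set Xs : Set (ProjectiveSpectrum 𝒜) := Set.range iX.base with hXs
  set Ys : Set (ProjectiveSpectrum 𝒜) := Set.range iY.base with hYs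
  have hXcl : IsClosed Xs := iX.isClosedEmbedding.isClosed_range
  have hYcl : IsClosed Ys := iY.isClosedEmbedding.isClosed_range
  have hdim : topologicalKrullDim ↥Xs ≤ (r : WithBot ℕ∞) := by
    rw [← hX]
    exact le_of_eq (IsHomeomorph.topologicalKrullDim_eq _
      (iX.isEmbedding.toHomeomorph).isHomeomorph).symm
  obtain ⟨h, hh, hY, hXY⟩ := exists_forms_inter_subset k n r Xs Ys hXcl hYcl hdim
  refine ⟨h, fun j => Proj.basicOpen 𝒜 (h j), fun j => rfl, hh, ?_, ?_, ?_⟩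
  · intro j y hy hyD
    have h1 := hY j hy
    exact hyD (h1 rfl)
  · rintro x ⟨hxX, hxY⟩
    by_contra hcon
    apply hxY
    apply hXY
    refine ⟨hxX, ?_⟩
    rintro _ ⟨j, rfl⟩
    by_contra hmem
    apply hcon
    rw [Set.mem_iUnion]
    exact ⟨j, hmem⟩
  · intro j
    obtain ⟨d, hd, hhom⟩ := hh j
    exact (Proj.isAffineOpen_basicOpen 𝒜 (h j)
      ((MvPolynomial.mem_homogeneousSubmodule d _).mpr hhom) hd).preimage iX

end scheme

end Groth.Agent.H54
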