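import Mathlib

set_option autoImplicit false
universe u
open CategoryTheory

namespace Groth.Agent.H54.PiFin

/-- a finite product of finite modules over a finite product of rings -/
theorem finite_pi' {ι : Type*} [Finite ι] (B : ι → Type*) [∀ i, CommRing (B i)]
    (N : ι → Type*) [∀ i, AddCommGroup (N i)] [∀ i, Module (B i) (N i)]
    [∀ i, Module.Finite (B i) (N i)] : Module.Finite (Π i, B i) (Π i, N i) := by
  classical
  cases nonempty_fintype ι
  have hs : ∀ i, ∃ s : Finset (N i), Submodule.span (B i) (s : Set (N i)) = ⊤ := fun i =>
    (Module.finite_def.mp (inferInstance : Module.Finite (B i) (N i)))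
  choose s hs using hs
  refine ⟨⟨Finset.univ.biUnion (fun i => (s i).image (Pi.single i)), ?_⟩⟩
  rw [eq_top_iff]
  intro x _
  set G : Submodule (Π i, B i) (Π i, N i) :=
    Submodule.span (Π i, B i) ((Finset.univ.biUnion (fun i => (s i).image (Pi.single i)) :
      Finset (Π i, N i)) : Set (Π i, N i)) with hG
  have key : ∀ (i : ι) (y : N i), Pi.single i y ∈ G := by
    intro i y
    have hy : y ∈ Submodule.span (B i) (s i : Set (N i)) := by rw [hs i]; trivial
    induction hy using Submodule.span_induction with
    | mem g hg =>
      apply Submodule.subset_span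
      simp only [Finset.coe_biUnion, Finset.coe_univ, Set.mem_univ, Set.iUnion_true,
        Finset.coe_image, Set.mem_iUnion, Set.mem_image, Finset.mem_coe]
      exact ⟨i, g, hg, rfl⟩
    | zero => rw [Pi.single_zero]; exact Submodule.zero_mem _
    | add y z _ _ hy hz => rw [Pi.single_add]; exact Submodule.add_mem _ hy hz
    | smul b y _ hy =>
      have : (Pi.single i (b • y) : Π i, N i) = (Pi.single i b : Π i, B i) • Pi.single i y := by
        funext j
        by_cases hj : j = i
        · subst hj
          simp
        · simp [Pi.single_eq_of_ne hj]
      rw [this]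
      exact Submodule.smul_mem _ _ hy
  have hx : x = ∑ i, Pi.single i (x i) := (Finset.univ_sum_single x).symm
  rw [hx]
  exact Submodule.sum_mem _ (fun i _ => key i (x i))

/-- transport of a finite module structure over an `A`-algebra along an `A`-linear equivalence -/
theorem exists_module_of_linearEquiv {A : Type*} [CommRing A] {N P : Type*} [AddCommGroup N]
    [Module A N] [AddCommGroup P] [Module A P] (e : N ≃ₗ[A] P) (B : Type*) [CommRing B]
    [Algebra A B] [Module B P] [IsScalarTower A B P] [Module.Finite B P] :
    ∃ (_ : Module B N) (_ : IsScalarTower A B N), Module.Finite B N := by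
  letI inst : Module B N := e.toAddEquiv.module B
  have hsmul : ∀ (b : B) (x : N), e (b • x) = b • e x := fun b x => by
    change e (e.symm (b • e x)) = b • e x
    exact e.apply_symm_apply _
  have htower : IsScalarTower A B N := by
    constructor
    intro a b x
    apply e.injective
    rw [hsmul, map_smul, hsmul, smul_assoc]
  refine ⟨inst, htower, ?_⟩
  let eB : N ≃ₗ[B] P :=
    { e.toAddEquiv with
      map_smul' := fun b x => hsmul b x }
  exact Module.Finite.equiv eB.symm

end Groth.Agent.H54.PiFin
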