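import Mathlib
import Groth.Agent.H54.DirUnion
import Groth.Agent.H54.PiFinite

set_option autoImplicit false
universe u
open CategoryTheory CategoryTheory.Limits IsLocalRing DirectSum

namespace Groth.Agent.H54.InjColim

/-- quotient of a Noetherian local ring by a power of the maximal ideal is Artinian -/
theorem isArtinianRing_quotient_pow (R : Type*) [CommRing R] [IsLocalRing R] [IsNoetherianRing R]
    (n : ℕ) : IsArtinianRing (R ⧸ (maximalIdeal R) ^ n) := by
  have : Ring.KrullDimLE 0 (R ⧸ (maximalIdeal R) ^ n) := by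
    rw [Ideal.krullDimLE_zero_quotient_iff_forall_minimalPrimes_isMaximal]
    intro J hJ
    have hprime : J.IsPrime := hJ.1.1
    have hle : maximalIdeal R ≤ J := hprime.le_of_pow_le hJ.1.2
    have : J = maximalIdeal R := ((maximalIdeal.isMaximal R).eq_of_le hprime.ne_top hle).symm
    rw [this]
    exact maximalIdeal.isMaximal R
  exact IsNoetherianRing.isArtinianRing_of_krullDimLE_zero

section core
variable (A : Type u) [CommRing A] {I₀ : Type u} [DecidableEq I₀]
  (R : I₀ → Type u) [∀ a, CommRing (R a)] [∀ a, IsLocalRing (R a)] [∀ a, IsNoetherianRing (R a)]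
  [∀ a, Algebra A (R a)]
  (M : I₀ → Type u) [∀ a, AddCommGroup (M a)] [∀ a, Module (R a) (M a)] [∀ a, Module A (M a)]
  [∀ a, IsScalarTower A (R a) (M a)]

/-- the torsion piece -/
abbrev T (a : I₀) (n : ℕ) : Submodule (R a) (M a) :=
  Submodule.torsionBySet (R a) (M a) ((maximalIdeal (R a) ^ n : Ideal (R a)) : Set (R a))

theorem T_mono (a : I₀) {n n' : ℕ} (h : n ≤ n') : T R M a n ≤ T R M a n' := by
  intro x hx
  rw [Submodule.mem_torsionBySet_iff] at hx ⊢
  intro r
  exact hx ⟨r.1, Ideal.pow_le_pow_right h r.2⟩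

/-- finiteness of the torsion piece over the Artinian quotient -/
theorem finite_T (hart : ∀ a, IsArtinian (R a) (M a)) (a : I₀) (n : ℕ) :
    Module.Finite (R a ⧸ (maximalIdeal (R a)) ^ n) (T R M a n) := by
  haveI := hart a
  haveI : IsArtinianRing (R a ⧸ (maximalIdeal (R a)) ^ n) := isArtinianRing_quotient_pow (R a) n
  haveI : IsArtinian (R a) (T R M a n) := inferInstance
  haveI : IsArtinian (R a ⧸ (maximalIdeal (R a)) ^ n) (T R M a n) :=
    isArtinian_of_tower (R a) inferInstance
  haveI : IsNoetherian (R a ⧸ (maximalIdeal (R a)) ^ n) (T R M a n) :=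
    IsSemiprimaryRing.isNoetherian_iff_isArtinian.mpr inferInstance
  infer_instance

/-- the submodule of the direct sum supported in `F` with `n`-torsion components -/
def Nsub (F : Finset I₀) (n : ℕ) : Submodule A (⨁ a, M a) where
  carrier := {x | ∀ a, (a ∉ F → x a = 0) ∧ x a ∈ T R M a n}
  add_mem' := by
    intro x y hx hy a
    refine ⟨fun ha => ?_, ?_⟩
    · rw [DirectSum.add_apply, (hx a).1 ha, (hy a).1 ha, add_zero]
    · rw [DirectSum.add_apply]
      exact Submodule.add_mem _ (hx a).2 (hy a).2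
  zero_mem' := by
    intro a
    refine ⟨fun _ => rfl, ?_⟩
    rw [DirectSum.zero_apply]
    exact Submodule.zero_mem _
  smul_mem' := by
    intro c x hx a
    refine ⟨fun ha => ?_, ?_⟩
    · rw [DirectSum.smul_apply, (hx a).1 ha, smul_zero]
    · rw [DirectSum.smul_apply, ← algebraMap_smul (R a) c (x a)]
      exact Submodule.smul_mem _ _ (hx a).2

theorem Nsub_mono {F F' : Finset I₀} {n n' : ℕ} (hF : F ≤ F') (hn : n ≤ n') :
    Nsub A R M F n ≤ Nsub A R M F' n' := by
  intro x hx a
  exact ⟨fun ha => (hx a).1 (fun h => ha (hF h)), T_mono R M a hn (hx a).2⟩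

/-- the monotone family -/
def NsubOrd : Finset I₀ × ℕ →o Submodule A (⨁ a, M a) where
  toFun q := Nsub A R M q.1 q.2
  monotone' := fun _ _ h => Nsub_mono A R M h.1 h.2

theorem exists_mem_Nsub
    (htors : ∀ a (m : M a), ∃ n : ℕ, ∀ r ∈ (maximalIdeal (R a)) ^ n, r • m = 0)
    (x : ⨁ a, M a) : ∃ q : Finset I₀ × ℕ, x ∈ NsubOrd A R M q := by
  classical
  choose n hn using fun a => htors a (x a)
  refine ⟨(DFinsupp.support x, (DFinsupp.support x).sup n), ?_⟩
  intro a
  refine ⟨fun ha => ?_, ?_⟩
  · simpa using ha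
  · by_cases ha : a ∈ DFinsupp.support x
    · rw [Submodule.mem_torsionBySet_iff]
      intro r
      exact hn a r.1 (Ideal.pow_le_pow_right (Finset.le_sup ha) r.2)
    · have : x a = 0 := by simpa using ha
      rw [this]
      exact Submodule.zero_mem _

/-- the equivalence with a finite product -/
noncomputable def NsubEquiv (F : Finset I₀) (n : ℕ) :
    Nsub A R M F n ≃ₗ[A] (Π a : F, T R M a.1 n) where
  toFun x := fun a => ⟨x.1 a.1, (x.2 a.1).2⟩
  map_add' x y := by
    funext a
    apply Subtype.ext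
    simp [DirectSum.add_apply]
  map_smul' c x := by
    funext a
    apply Subtype.ext
    simp [DirectSum.smul_apply]
  invFun y := ⟨DFinsupp.mk F (fun a => (y ⟨a.1, a.2⟩).1), by
    intro a
    refine ⟨fun ha => ?_, ?_⟩
    · rw [DFinsupp.mk_apply, dif_neg ha]
    · rw [DFinsupp.mk_apply]
      split_ifs with h
      · exact (y ⟨a, h⟩).2
      · exact Submodule.zero_mem _⟩
  left_inv x := by
    apply Subtype.ext
    ext a
    dsimp only
    rw [DFinsupp.mk_apply]
    split_ifs with h
    · rfl
    · exact ((x.2 a).1 h).symm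
  right_inv y := by
    funext a
    apply Subtype.ext
    dsimp only
    rw [DFinsupp.mk_apply, dif_pos a.2]

theorem exists_artinian_structure (hart : ∀ a, IsArtinian (R a) (M a)) (F : Finset I₀) (n : ℕ) :
    ∃ (B : Type u) (_ : CommRing B) (_ : Algebra A B) (_ : IsArtinianRing B)
      (_ : Module B (Nsub A R M F n)) (_ : IsScalarTower A B (Nsub A R M F n)),
      Module.Finite B (Nsub A R M F n) := by
  haveI : ∀ a : F, IsArtinianRing (R a.1 ⧸ (maximalIdeal (R a.1)) ^ n) :=
    fun a => isArtinianRing_quotient_pow (R a.1) n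
  haveI : ∀ a : F, Module.Finite (R a.1 ⧸ (maximalIdeal (R a.1)) ^ n) (T R M a.1 n) :=
    fun a => finite_T R M hart a.1 n
  haveI : Module.Finite (Π a : F, R a.1 ⧸ (maximalIdeal (R a.1)) ^ n) (Π a : F, T R M a.1 n) :=
    Groth.Agent.H54.PiFin.finite_pi' _ _
  obtain ⟨i1, i2, i3⟩ := Groth.Agent.H54.PiFin.exists_module_of_linearEquiv (NsubEquiv A R M F n)
    (Π a : F, R a.1 ⧸ (maximalIdeal (R a.1)) ^ n)
  exact ⟨_, inferInstance, inferInstance, inferInstance, i1, i2, i3⟩

/-- the core statement: a direct sum of Artinian power-torsion modules over Noetherian local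
`A`-algebras is a filtered colimit of finite modules over Artinian `A`-algebras. -/
theorem core (hart : ∀ a, IsArtinian (R a) (M a))
    (htors : ∀ a (m : M a), ∃ n : ℕ, ∀ r ∈ (maximalIdeal (R a)) ^ n, r • m = 0) :
    ∃ (ι : Type u) (_ : SmallCategory ι) (_ : IsFiltered ι) (D : ι ⥤ ModuleCat.{u} A)
      (c : Cocone D) (_ : IsColimit c), Nonempty (c.pt ≅ ModuleCat.of A (⨁ a, M a)) ∧
      ∀ i : ι, ∃ (B : Type u) (_ : CommRing B) (_ : Algebra A B) (_ : IsArtinianRing B)
        (_ : Module B (D.obj i)) (_ : IsScalarTower A B (D.obj i)), Module.Finite B (D.obj i) := by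
  refine ⟨Finset I₀ × ℕ, Preorder.smallCategory _, inferInstance,
    Groth.Agent.H54.DirUnion.subFunctor (NsubOrd A R M),
    Groth.Agent.H54.DirUnion.subCocone (NsubOrd A R M),
    Groth.Agent.H54.DirUnion.isColimitSubCocone (NsubOrd A R M) (exists_mem_Nsub A R M htors),
    ⟨Iso.refl _⟩, ?_⟩
  intro q
  exact exists_artinian_structure A R M hart q.1 q.2

end core

end Groth.Agent.H54.InjColim
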