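import Mathlib
import Groth.Agent.H54.InjColimCore
import Groth.Agent.S0307
import Groth.Agent.S0311
import Groth.Agent.S0314
import Groth.Agent.H2.InjIndec
import Groth.Agent.H9.InjBCLocal

set_option autoImplicit false
universe u
open CategoryTheory CategoryTheory.Limits IsLocalRing DirectSum

namespace Groth.Agent.H54.InjColim

/-- an indecomposable injective over a Noetherian ring is a hull of `A/p` -/
theorem exists_hull_quotient_prime {A : Type u} [CommRing A] [IsNoetherianRing A] {E : Type u}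
    [AddCommGroup E] [Module A E] (hE : InjHull.IsIndecomposable A E)
    (hinj : Module.Injective A E) :
    ∃ (p : Ideal A) (_ : p.IsPrime) (f : (A ⧸ p) →ₗ[A] E), InjHull.IsInjectiveHull f := by
  have hnt : Nontrivial E := hE.1
  obtain ⟨p, hp⟩ := associatedPrimes.nonempty A E
  obtain ⟨hprime, f, hf⟩ := (isAssociatedPrime_iff_exists_injective_linearMap p E).mp hp
  have hnt' : Nontrivial (A ⧸ p) := Ideal.Quotient.nontrivial_iff.mpr hprime.ne_top
  exact ⟨p, hprime, f, Groth.Agent.H2.isInjectiveHull_of_isIndecomposable hE hinj f hf⟩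

theorem main (A : Type u) [CommRing A] [IsNoetherianRing A]
    (J : Type u) [AddCommGroup J] [Module A J] [Module.Injective A J] :
    ∃ (ι : Type u) (_ : SmallCategory ι) (_ : IsFiltered ι) (D : ι ⥤ ModuleCat.{u} A)
      (c : Cocone D) (_ : IsColimit c), Nonempty (c.pt ≅ ModuleCat.of A J) ∧
      ∀ i : ι, ∃ (B : Type u) (_ : CommRing B) (_ : Algebra A B) (_ : IsArtinianRing B)
        (_ : Module B (D.obj i)) (_ : IsScalarTower A B (D.obj i)), Module.Finite B (D.obj i) := by
  classical
  obtain ⟨I₀, E, hint, hE⟩ := Groth.Agent.S0307.result A J inferInstance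
  have key : ∀ a : I₀, ∃ (p : Ideal A) (_ : p.IsPrime) (f : (A ⧸ p) →ₗ[A] ↥(E a)),
      InjHull.IsInjectiveHull f := fun a => exists_hull_quotient_prime (hE a).1 (hE a).2
  choose p hp f hf using key
  haveI : ∀ a, (p a).IsPrime := hp
  have hdisj : ∀ a, Disjoint ((p a : Ideal A) : Set A) ((p a).primeCompl : Set A) := by
    intro a
    rw [Set.disjoint_left]
    intro x hx hx'
    exact hx' hx
  have hart : ∀ a, IsArtinian (Localization.AtPrime (p a))
      (LocalizedModule (p a).primeCompl ↥(E a)) := by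
    intro a
    obtain ⟨g, hg⟩ := Groth.Agent.H9.InjBC.exists_isInjectiveHull_atPrime (p a) (f a) (hf a)
    exact Groth.Agent.S0314.result _ _ g hg
  have htors : ∀ a (m : LocalizedModule (p a).primeCompl ↥(E a)), ∃ n : ℕ,
      ∀ r ∈ (maximalIdeal (Localization.AtPrime (p a))) ^ n, r • m = 0 := by
    intro a
    obtain ⟨g, hg⟩ := Groth.Agent.H9.InjBC.exists_isInjectiveHull_atPrime (p a) (f a) (hf a)
    exact Groth.Agent.S0311.result _ _ g hg
  obtain ⟨ι, i1, i2, D, c, hc, ⟨e⟩, hfin⟩ := core A (fun a => Localization.AtPrime (p a))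
    (fun a => LocalizedModule (p a).primeCompl ↥(E a)) hart htors
  refine ⟨ι, i1, i2, D, c, hc, ⟨e ≪≫ ?_⟩, hfin⟩
  -- the isomorphism of `A`-modules
  let e1 : (⨁ a, ↥(E a)) ≃ₗ[A] J := LinearEquiv.ofBijective (DirectSum.coeLinearMap E) hint
  let e2 : (⨁ a, ↥(E a)) ≃ₗ[A] (⨁ a, LocalizedModule (p a).primeCompl ↥(E a)) :=
    DFinsupp.mapRange.linearEquiv (fun a =>
      Groth.Agent.H2.InjHullLoc.equivLoc (p a) (f a) (hf a) (p a).primeCompl (hdisj a))
  exact (e2.symm.trans e1).toModuleIso

end Groth.Agent.H54.InjColim
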