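import Mathlib
import Groth.Agent.H54.LinearForms

set_option autoImplicit false
universe u
open AlgebraicGeometry TopologicalSpace

namespace Groth.Agent.H54

section poly
variable (k : Type u) [Field k] (n : ℕ)

local notation "𝒜" => CohB1.polyGrading n k
local notation "A" => MvPolynomial (Fin (n + 1)) k
local notation "m₊" => HomogeneousIdeal.toIdeal (HomogeneousIdeal.irrelevant (CohB1.polyGrading n k))

/-- A closed subset of projective space of positive dimension meets every coordinate hyperplane. -/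
theorem inter_coordinate_hyperplane_nonempty (Z : Set (ProjectiveSpectrum 𝒜)) (hZ : IsClosed Z)
    (hdim : ¬ topologicalKrullDim ↥Z ≤ 0) (j : Fin (n + 1)) :
    ∃ w ∈ Z, (MvPolynomial.X j : A) ∈ w.asHomogeneousIdeal.toIdeal := by
  classical
  rw [topologicalKrullDim_closed 𝒜 Z hZ, Order.krullDim_nonpos_iff_forall_isMax] at hdim
  push Not at hdim
  obtain ⟨y, hy⟩ := hdim
  rw [not_isMax_iff] at hy
  obtain ⟨z, hyz⟩ := hy
  set X' : Set (ProjectiveSpectrum 𝒜) := closure {y.1} with hX'
  have hX'cl : IsClosed X' := isClosed_closure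
  have hX'irr : IsIrreducible X' := isIrreducible_singleton.closure
  have hX'Z : X' ⊆ Z := closure_minimal (Set.singleton_subset_iff.mpr y.2) hZ
  have hyX' : y.1 ∈ X' := subset_closure rfl
  have hzX' : z.1 ∈ X' := by
    rw [hX', ← ProjectiveSpectrum.le_iff_mem_closure]
    exact hyz.le
  have hdimX' : (1 : WithBot ℕ∞) ≤ topologicalKrullDim ↥X' := by
    rw [topologicalKrullDim_closed 𝒜 X' hX'cl]
    have hlt : (⟨y.1, hyX'⟩ : ↥X') < ⟨z.1, hzX'⟩ := hyz
    rw [Order.one_le_krullDim_iff]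
    exact ⟨_, _, hlt⟩
  have h2 := (hypersurfaces_section k n 1 X' hX'cl hX'irr (fun _ => MvPolynomial.X j) (fun _ => 1)
    (fun _ => MvPolynomial.isHomogeneous_X k j) (fun _ => zero_lt_one)).2
  obtain ⟨w, hwX', hw⟩ := h2 (by exact_mod_cast hdimX')
  exact ⟨w, hX'Z hwX', hw ⟨0, rfl⟩⟩

/-- Linear sections `C ∩ V₊(x_1, …, x_i)`: some such section is nonempty of dimension zero. -/
theorem exists_zero_dim_linear_section (C : Set (ProjectiveSpectrum 𝒜))
    (hC : IsClosed C) (hirr : IsIrreducible C) :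
    ∃ i : ℕ, i ≤ n ∧
      (C ∩ ProjectiveSpectrum.zeroLocus 𝒜
          ((fun j : Fin (n + 1) => (MvPolynomial.X j : A)) ''
            {j : Fin (n + 1) | 1 ≤ j.val ∧ j.val ≤ i})).Nonempty ∧
      topologicalKrullDim ↥(C ∩ ProjectiveSpectrum.zeroLocus 𝒜
          ((fun j : Fin (n + 1) => (MvPolynomial.X j : A)) ''
            {j : Fin (n + 1) | 1 ≤ j.val ∧ j.val ≤ i})) = 0 := by
  classical
  set L : ℕ → Set (ProjectiveSpectrum 𝒜) := fun i => ProjectiveSpectrum.zeroLocus 𝒜
    ((fun j : Fin (n + 1) => (MvPolynomial.X j : A)) '' {j : Fin (n + 1) | 1 ≤ j.val ∧ j.val ≤ i})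
    with hL
  have hLmem : ∀ i (w : ProjectiveSpectrum 𝒜), w ∈ L i ↔
      ∀ j : Fin (n + 1), 1 ≤ j.val → j.val ≤ i → (MvPolynomial.X j : A) ∈ w.asHomogeneousIdeal.toIdeal := by
    intro i w
    constructor
    · intro hw j h1 h2
      exact hw ⟨j, ⟨h1, h2⟩, rfl⟩
    · rintro hw _ ⟨j, ⟨h1, h2⟩, rfl⟩
      exact hw j h1 h2
  let P : ℕ → Prop := fun i => (C ∩ L i).Nonempty
  have hP0 : P 0 := by
    obtain ⟨c, hc⟩ := hirr.nonempty
    refine ⟨c, hc, ?_⟩
    rw [hLmem]
    intro j h1 h2
    omega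
  set i₀ := Nat.findGreatest P n with hi₀
  have hi₀n : i₀ ≤ n := Nat.findGreatest_le n
  have hPi₀ : P i₀ := Nat.findGreatest_spec (Nat.zero_le n) hP0
  refine ⟨i₀, hi₀n, hPi₀, ?_⟩
  have hZcl : IsClosed (C ∩ L i₀) := hC.inter (ProjectiveSpectrum.isClosed_zeroLocus 𝒜 _)
  apply le_antisymm
  · by_contra hdim
    by_cases hlt : i₀ < n
    · obtain ⟨w, hwZ, hw⟩ := inter_coordinate_hyperplane_nonempty k n _ hZcl hdim ⟨i₀ + 1, by omega⟩
      have hP' : P (i₀ + 1) := by
        refine ⟨w, hwZ.1, ?_⟩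
        rw [hLmem]
        intro j h1 h2
        by_cases hj : j.val ≤ i₀
        · exact (hLmem i₀ w).mp hwZ.2 j h1 hj
        · have hj' : j = ⟨i₀ + 1, by omega⟩ := by
            ext
            simp only
            omega
          rw [hj']
          exact hw
      exact Nat.findGreatest_is_greatest (Nat.lt_succ_self i₀) (by omega) hP'
    · have hi₀eq : i₀ = n := by omega
      obtain ⟨w, hwZ, hw⟩ := inter_coordinate_hyperplane_nonempty k n _ hZcl hdim 0
      apply w.not_irrelevant_le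
      change m₊ ≤ w.asHomogeneousIdeal.toIdeal
      apply irrelevant_le_of_forall_X_mem
      intro j
      by_cases hj : j.val = 0
      · have hj' : j = 0 := by
          ext
          simpa using hj
        rw [hj']
        exact hw
      · exact (hLmem i₀ w).mp hwZ.2 j (by omega) (by have := j.2; omega)
  · have : Nonempty ↥(C ∩ L i₀) := hPi₀.to_subtype
    rw [topologicalKrullDim_closed 𝒜 _ hZcl]
    exact Order.krullDim_nonneg

end poly

end Groth.Agent.H54
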