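import Mathlib
import Groth.Prelude.Def_MeroDiv
import Groth.Agent.H54.MeroSec
import Groth.Agent.H8.MeroDense

set_option autoImplicit false
universe u
open CategoryTheory CategoryTheory.Limits AlgebraicGeometry TopologicalSpace Opposite

namespace Groth.Agent.H54.MeroDomain

open Mero Groth.Agent.H8 Groth.Agent.H18 Groth.Agent.H54.MeroSec

variable {X : Scheme.{u}}

/-- the set of points where a meromorphic function is regular -/
def domSet (f : Γ(kmod X, ⊤)) : Set X :=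
  {x | f.1 ⟨x, Opens.mem_top x⟩ ∈ (algebraMap (X.presheaf.stalk x) (KStalk X x)).range}

theorem isOpen_domSet (f : Γ(kmod X, ⊤)) : IsOpen (domSet f) := by
  rw [isOpen_iff_forall_mem_open]
  intro x hx
  obtain ⟨a, ha⟩ := hx
  obtain ⟨W, _, hWtop, hxW, m, b, hmb⟩ := exists_affine_frac f ⟨x, Opens.mem_top x⟩
  have hxW' : x ∈ W := hxW
  have h1 : X.presheaf.germ W x hxW' m = a * X.presheaf.germ W x hxW' b.1 := by
    have h2 := hmb ⟨x, hxW'⟩
    exact (mk_eq_algebraMap_iff _ (regGerm ⟨x, hxW'⟩ b) a).mp (h2.symm.trans ha.symm)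
  obtain ⟨W₁, hxW₁, a', rfl⟩ := X.presheaf.exists_germ_eq a
  let W₂ : X.Opens := W ⊓ W₁
  have hxW₂ : x ∈ W₂ := ⟨hxW', hxW₁⟩
  have hgerm : X.presheaf.germ W₂ x hxW₂ (X.presheaf.map (homOfLE (inf_le_left : W₂ ≤ W)).op m) =
      X.presheaf.germ W₂ x hxW₂ (X.presheaf.map (homOfLE (inf_le_right : W₂ ≤ W₁)).op a' *
        X.presheaf.map (homOfLE (inf_le_left : W₂ ≤ W)).op b.1) := by
    rw [map_mul, TopCat.Presheaf.germ_res_apply X.presheaf (homOfLE (inf_le_left : W₂ ≤ W)) x hxW₂ m,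
      TopCat.Presheaf.germ_res_apply X.presheaf (homOfLE (inf_le_right : W₂ ≤ W₁)) x hxW₂ a',
      TopCat.Presheaf.germ_res_apply X.presheaf (homOfLE (inf_le_left : W₂ ≤ W)) x hxW₂ b.1]
    exact h1
  obtain ⟨W₃, hxW₃, i₁, i₂, he⟩ := TopCat.Presheaf.germ_eq X.presheaf x hxW₂ hxW₂ _ _ hgerm
  refine ⟨(W₃ : Set X), fun y hy => ?_, W₃.isOpen, hxW₃⟩
  have hyW₂ : y ∈ W₂ := i₁.le hy
  have hyW : y ∈ W := hyW₂.1
  have hyW₁ : y ∈ W₁ := hyW₂.2
  refine ⟨X.presheaf.germ W₁ y hyW₁ a', ?_⟩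
  have h3 := hmb ⟨y, hyW⟩
  rw [eq_comm]
  refine h3.trans ((mk_eq_algebraMap_iff _ (regGerm ⟨y, hyW⟩ b) _).mpr ?_)
  have h4 := congrArg (X.presheaf.germ W₃ y hy) he
  have : i₁ = i₂ := Subsingleton.elim _ _
  subst this
  rw [TopCat.Presheaf.germ_res_apply X.presheaf i₁ y hy,
    TopCat.Presheaf.germ_res_apply X.presheaf i₁ y hy, map_mul,
    TopCat.Presheaf.germ_res_apply X.presheaf (homOfLE (inf_le_left : W₂ ≤ W)) y hyW₂ m,
    TopCat.Presheaf.germ_res_apply X.presheaf (homOfLE (inf_le_right : W₂ ≤ W₁)) y hyW₂ a',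
    TopCat.Presheaf.germ_res_apply X.presheaf (homOfLE (inf_le_left : W₂ ≤ W)) y hyW₂ b.1] at h4
  exact h4

theorem main (f : Γ(Mero.kmod X, ⊤)) :
    ∃ D : X.Opens,
      (D : Set X) = {x | f.1 ⟨x, Opens.mem_top x⟩ ∈
        (algebraMap (X.presheaf.stalk x) (Mero.KStalk X x)).range} ∧
        ∀ V : X.Opens,
          Function.Injective (X.presheaf.map (homOfLE (inf_le_left : V ⊓ D ≤ V)).op) := by
  let D : X.Opens := ⟨domSet f, isOpen_domSet f⟩
  refine ⟨D, rfl, fun V => ?_⟩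
  rw [injective_iff_map_eq_zero]
  intro r hr
  refine STL.fun_eq_of_locally_eq r 0 (fun y hy => ?_)
  obtain ⟨W, _, hWtop, hyW, m, b, hmb⟩ := exists_affine_frac f ⟨y, Opens.mem_top y⟩
  have hyW' : y ∈ W := hyW
  let W' : X.Opens := W ⊓ V
  have hyW'' : y ∈ W' := ⟨hyW', hy⟩
  let b' : Γ(X, W') := X.presheaf.map (homOfLE (inf_le_left : W' ≤ W)).op b.1
  have hb' : b' ∈ regSub X W' := regSub_res (homOfLE (inf_le_left : W' ≤ W)) b.2
  have hdense := schemDense_basicOpen_of_regular b' hb' W' le_rfl W' le_rfl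
  refine ⟨W', inf_le_right, hyW'', ?_⟩
  apply hdense
  rw [map_zero, map_zero]
  -- `W' ⊓ basicOpen b' ≤ V ⊓ D`
  have hle : W' ⊓ X.basicOpen b' ≤ V ⊓ D := by
    intro z hz
    refine ⟨hz.1.2, ?_⟩
    have hzW : z ∈ W := hz.1.1
    have hunit : IsUnit (X.presheaf.germ W' z hz.1 b') := (X.mem_basicOpen b' z hz.1).mp hz.2
    have hbz : X.presheaf.germ W' z hz.1 b' = X.presheaf.germ W z hzW b.1 :=
      TopCat.Presheaf.germ_res_apply X.presheaf (homOfLE (inf_le_left : W' ≤ W)) z hz.1 b.1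
    rw [hbz] at hunit
    obtain ⟨u, hu⟩ := hunit
    refine ⟨X.presheaf.germ W z hzW m * (↑u⁻¹ : X.presheaf.stalk z), ?_⟩
    have h3 := hmb ⟨z, hzW⟩
    rw [eq_comm]
    refine h3.trans ((mk_eq_algebraMap_iff _ (regGerm ⟨z, hzW⟩ b) _).mpr ?_)
    change _ = _ * X.presheaf.germ W z hzW b.1
    rw [← hu, mul_assoc, Units.inv_mul, mul_one]
  have h5 := congrArg (X.presheaf.map (homOfLE hle).op) hr
  rw [map_zero] at h5
  rw [← h5]
  simp only [PUP.rres, ← ConcreteCategory.comp_apply, ← X.presheaf.map_comp]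
  rfl

end Groth.Agent.H54.MeroDomain
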