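import Mathlib
import Groth.Agent.H54.Minors

set_option autoImplicit false

open Matrix Equiv Finset

namespace Groth.Agent.H54

universe u
variable {R : Type u} [CommRing R]

/-- If `π ∘ ι` is bijective then `range ι` and `ker π` are complementary. -/
theorem isCompl_range_ker_of_bijective {M N : Type*} [AddCommGroup M] [Module R M]
    [AddCommGroup N] [Module R N] (ι : N →ₗ[R] M) (π : M →ₗ[R] N)
    (h : Function.Bijective (π ∘ₗ ι)) : IsCompl (LinearMap.range ι) (LinearMap.ker π) := by
  constructor
  · rw [Submodule.disjoint_def]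
    rintro x ⟨c, rfl⟩ hx
    have : (π ∘ₗ ι) c = (π ∘ₗ ι) 0 := by simpa using hx
    rw [h.1 this, map_zero]
  · rw [codisjoint_iff, eq_top_iff]
    intro x _
    obtain ⟨c, hc⟩ := h.2 (π x)
    have hx : x = ι c + (x - ι c) := by abel
    rw [hx]
    refine Submodule.add_mem_sup ⟨c, rfl⟩ ?_
    rw [LinearMap.mem_ker, map_sub, sub_eq_zero]
    exact hc.symm

/-- Schur complement consequence: if the `(r+1)`-minors vanish and `A.submatrix f g` is
invertible, then `A = A[:, g] * B⁻¹ * A[f, :]`. -/
theorem eq_mul_inv_mul_of_minorIdeal_eq_bot {n m r : ℕ} (A : Matrix (Fin n) (Fin m) R)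
    (h1 : CAlgX.minorIdeal A (r + 1) = ⊥) (f : Fin r → Fin n) (g : Fin r → Fin m)
    (hB : IsUnit (A.submatrix f g).det) :
    A = A.submatrix id g * (A.submatrix f g)⁻¹ * A.submatrix f id := by
  classical
  set B := A.submatrix f g with hBdef
  let : Invertible B := Matrix.invertibleOfIsUnitDet B hB
  ext i k
  -- the bordered minor
  let M : Matrix (Fin r ⊕ Fin 1) (Fin r ⊕ Fin 1) R :=
    A.submatrix (Sum.elim f (fun _ => i)) (Sum.elim g (fun _ => k))
  have hM0 : M.det = 0 := by
    have h := (minorIdeal_eq_bot_iff A (r + 1)).mp h1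
      (Sum.elim f (fun _ => i) ∘ finSumFinEquiv.symm) (Sum.elim g (fun _ => k) ∘ finSumFinEquiv.symm)
    have : M.det = (M.submatrix finSumFinEquiv.symm finSumFinEquiv.symm).det :=
      (Matrix.det_submatrix_equiv_self finSumFinEquiv.symm M).symm
    rw [this]
    exact h
  have hMblocks : M = Matrix.fromBlocks B (A.submatrix f (fun _ : Fin 1 => k))
      (A.submatrix (fun _ : Fin 1 => i) g) (A.submatrix (fun _ : Fin 1 => i) (fun _ : Fin 1 => k)) := by
    ext (a | a) (b | b) <;> rfl
  rw [hMblocks, Matrix.det_fromBlocks₁₁] at hM0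
  have h2 : (A.submatrix (fun _ : Fin 1 => i) (fun _ : Fin 1 => k) -
      A.submatrix (fun _ : Fin 1 => i) g * ⅟B * A.submatrix f (fun _ : Fin 1 => k)).det = 0 := by
    have := hB.mul_left_cancel (b := (A.submatrix (fun _ : Fin 1 => i) (fun _ : Fin 1 => k) -
      A.submatrix (fun _ : Fin 1 => i) g * ⅟B * A.submatrix f (fun _ : Fin 1 => k)).det) (c := 0)
    apply this
    rw [mul_zero]
    exact hM0
  rw [Matrix.det_fin_one, Matrix.sub_apply, sub_eq_zero] at h2
  rw [Matrix.invOf_eq_nonsing_inv] at h2
  simp only [Matrix.submatrix_apply] at h2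
  rw [h2]
  simp [Matrix.mul_apply]

/-- The range of a column-submatrix is contained in the range of the matrix. -/
theorem range_submatrix_le {n m r : ℕ} (A : Matrix (Fin n) (Fin m) R) (g : Fin r → Fin m) :
    LinearMap.range (A.submatrix id g).mulVecLin ≤ LinearMap.range A.mulVecLin := by
  classical
  rintro _ ⟨c, rfl⟩
  refine ⟨fun k => ∑ a, if g a = k then c a else 0, ?_⟩
  ext i
  simp only [Matrix.mulVecLin_apply, Matrix.mulVec, dotProduct, Matrix.submatrix_apply, id_eq]
  simp_rw [Finset.mul_sum]
  rw [Finset.sum_comm]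
  apply Finset.sum_congr rfl
  intro a _
  simp

/-- the `⇐` direction. -/
theorem exists_isCompl_of_minorIdeal {n m r : ℕ} [IsLocalRing R]
    (A : Matrix (Fin n) (Fin m) R)
    (h1 : CAlgX.minorIdeal A (r + 1) = ⊥) (h2 : CAlgX.minorIdeal A r = ⊤) :
    ∃ N' : Submodule R (Fin n → R), IsCompl (LinearMap.range (Matrix.mulVecLin A)) N' ∧
        Module.finrank R (LinearMap.range (Matrix.mulVecLin A)) = r := by
  classical
  -- a unit minor
  obtain ⟨f, g, hB⟩ : ∃ (f : Fin r → Fin n) (g : Fin r → Fin m), IsUnit (A.submatrix f g).det := by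
    by_contra hcon
    push Not at hcon
    have hle : CAlgX.minorIdeal A r ≤ IsLocalRing.maximalIdeal R := by
      unfold CAlgX.minorIdeal
      rw [Ideal.span_le]
      rintro _ ⟨fg, rfl⟩
      exact (IsLocalRing.mem_maximalIdeal _).mpr (hcon fg.1 fg.2)
    rw [h2, top_le_iff] at hle
    exact (IsLocalRing.maximalIdeal.isMaximal R).ne_top hle
  set B := A.submatrix f g with hBdef
  have hBu : IsUnit B := (Matrix.isUnit_iff_isUnit_det B).mpr hB
  set C := A.submatrix id g with hCdef
  have hA : A = C * B⁻¹ * A.submatrix f id := eq_mul_inv_mul_of_minorIdeal_eq_bot A h1 f g hB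
  -- ranges agree
  have hrange : LinearMap.range A.mulVecLin = LinearMap.range C.mulVecLin := by
    apply le_antisymm
    · rintro _ ⟨v, rfl⟩
      refine ⟨(B⁻¹ * A.submatrix f id).mulVecLin v, ?_⟩
      conv_rhs => rw [hA]
      simp only [Matrix.mulVecLin_apply, Matrix.mulVec_mulVec, Matrix.mul_assoc]
    · exact range_submatrix_le A g
  let π : (Fin n → R) →ₗ[R] (Fin r → R) := LinearMap.funLeft R R f
  have hπC : π ∘ₗ C.mulVecLin = B.mulVecLin :=
    LinearMap.ext fun c => funext fun a => rfl
  have hbij : Function.Bijective (π ∘ₗ C.mulVecLin) := by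
    rw [hπC]
    exact ⟨Matrix.mulVec_injective_of_isUnit hBu, Matrix.mulVec_surjective_iff_isUnit.mpr hBu⟩
  refine ⟨LinearMap.ker π, ?_, ?_⟩
  · rw [hrange]
    exact isCompl_range_ker_of_bijective _ _ hbij
  · rw [hrange]
    have hinj : Function.Injective C.mulVecLin := by
      intro x y hxy
      apply hbij.1
      simp only [LinearMap.comp_apply, hxy]
    rw [← (LinearEquiv.ofInjective C.mulVecLin hinj).finrank_eq]
    simp

/-- the `⇒` direction. -/
theorem minorIdeal_of_isCompl {n m r : ℕ} [IsLocalRing R]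
    (A : Matrix (Fin n) (Fin m) R) (N' : Submodule R (Fin n → R))
    (hc : IsCompl (LinearMap.range (Matrix.mulVecLin A)) N')
    (hr : Module.finrank R (LinearMap.range (Matrix.mulVecLin A)) = r) :
    CAlgX.minorIdeal A (r + 1) = ⊥ ∧ CAlgX.minorIdeal A r = ⊤ := by
  classical
  set P := LinearMap.range (Matrix.mulVecLin A) with hP
  let proj : (Fin n → R) →ₗ[R] P := Submodule.projectionOnto P N' hc
  have hproj : ∀ x : P, proj x = x := fun x => Submodule.projectionOnto_apply_left hc x
  have : Module.Projective R P :=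
    Module.Projective.of_split P.subtype proj (LinearMap.ext fun x => by simpa using hproj x)
  have : Module.Finite R P := Module.Finite.range _
  have : Module.Free R P := Module.free_of_flat_of_isLocalRing
  let b : Module.Basis (Fin r) R P := Module.finBasisOfFinrankEq R P hr
  -- the matrices
  let C : Matrix (Fin n) (Fin r) R := Matrix.of fun i j => (b j : Fin n → R) i
  let E : Matrix (Fin r) (Fin n) R := LinearMap.toMatrix' (b.equivFun.toLinearMap ∘ₗ proj)
  have hE : ∀ v, E *ᵥ v = b.equivFun (proj v) := fun v => by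
    simp only [E, LinearMap.toMatrix'_mulVec]
    rfl
  have hC : ∀ c : Fin r → R, C *ᵥ c = ((b.equivFun.symm c : P) : Fin n → R) := fun c => by
    rw [Module.Basis.equivFun_symm_apply]
    ext i
    simp [C, Matrix.mulVec, dotProduct, mul_comm]
  have hCE : ∀ v ∈ P, C *ᵥ (E *ᵥ v) = v := by
    intro v hv
    rw [hE, hC, LinearEquiv.symm_apply_apply]
    exact congrArg Subtype.val (hproj ⟨v, hv⟩)
  refine ⟨?_, ?_⟩
  · -- `A = C * (E * A)`
    have hA : A = C * (E * A) := by
      ext i k
      have h := congrFun (hCE (A *ᵥ Pi.single k 1) ⟨_, rfl⟩) i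
      rw [Matrix.mulVec_mulVec, Matrix.mulVec_mulVec, Matrix.mulVec_single_one,
        Matrix.mulVec_single_one, Matrix.col_apply, Matrix.col_apply, Matrix.mul_assoc] at h
      exact h.symm
    rw [minorIdeal_eq_bot_iff]
    intro f g
    rw [hA, Matrix.submatrix_mul C (E * A) f id g Function.bijective_id]
    exact det_mul_eq_zero_of_lt (Nat.lt_succ_self r) _ _
  · choose w hw using fun j : Fin r => (b j).2
    let F : Matrix (Fin m) (Fin r) R := Matrix.of fun k j => w j k
    have hF : ∀ j, F *ᵥ Pi.single j 1 = w j := fun j => by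
      ext k
      rw [Matrix.mulVec_single_one]
      rfl
    have h1 : E * A * F = 1 := by
      ext i j
      have h : (E * A * F) *ᵥ Pi.single j 1 = Pi.single j 1 := by
        rw [← Matrix.mulVec_mulVec, ← Matrix.mulVec_mulVec, hF]
        have : A *ᵥ w j = (b j : Fin n → R) := hw j
        rw [this, hE, hproj]
        ext i'
        rw [Module.Basis.equivFun_self, Pi.single_apply]
        simp [eq_comm]
      have := congrFun h i
      rw [Matrix.mulVec_single_one, Matrix.col_apply] at this
      rw [this, Matrix.one_apply, Pi.single_apply]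
    rw [Ideal.eq_top_iff_one]
    have := det_mul_mul_mem_minorIdeal A E F
    rwa [h1, Matrix.det_one] at this

end Groth.Agent.H54
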