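import Mathlib
import Groth.Agent.H54.ProjDimTheory7

set_option autoImplicit false
universe u
open AlgebraicGeometry TopologicalSpace

namespace Groth.Agent.H54

section poly
variable (k : Type u) [Field k] (n : ℕ)

local notation "𝒜" => CohB1.polyGrading n k
local notation "A" => MvPolynomial (Fin (n + 1)) k
local notation "m₊" => HomogeneousIdeal.toIdeal (HomogeneousIdeal.irrelevant (CohB1.polyGrading n k))

theorem ringKrullDim_quotient_bot_poly : ringKrullDim (A ⧸ (⊥ : Ideal A)) = ((n + 1 : ℕ) : WithBot ℕ∞) := by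
  rw [ringKrullDim_eq_of_ringEquiv (RingEquiv.quotientBot A), ringKrullDim_mvPolynomial_fin_field]

/-- Hypersurfaces in projective space of dimension at least two are connected. -/
theorem isConnected_zeroLocus_singleton (hn : 2 ≤ n) (d : ℕ) (f : A) (hf : f.IsHomogeneous d)
    (hd : 0 < d) (hf0 : f ≠ 0) :
    IsConnected (ProjectiveSpectrum.zeroLocus 𝒜 ({f} : Set A)) := by
  classical
  have hfm : f ∈ m₊ :=
    HomogeneousIdeal.mem_irrelevant_of_mem _ hd ((MvPolynomial.mem_homogeneousSubmodule d f).mpr hf)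
  have hfhom : (Ideal.span ({f} : Set A)).IsHomogeneous 𝒜 := by
    apply Ideal.homogeneous_span
    rintro _ rfl
    exact ⟨d, (MvPolynomial.mem_homogeneousSubmodule d _).mpr hf⟩
  have hfle : Ideal.span ({f} : Set A) ≤ m₊ := (Ideal.span_singleton_le_iff_mem _).mpr hfm
  have hmprime := irrelevant_isPrime k n
  obtain ⟨m', hm'⟩ : ∃ m', n = m' + 1 := ⟨n - 1, by omega⟩
  -- facts about minimal primes
  have key : ∀ P ∈ (Ideal.span ({f} : Set A)).minimalPrimes, P.IsHomogeneous 𝒜 ∧
      ringKrullDim (A ⧸ P) = (n : WithBot ℕ∞) ∧ P ≠ m₊ ∧ ∃ g : A, P = Ideal.span {g} := by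
    intro P hP
    have hPprime : P.IsPrime := hP.1.1
    have hfP : f ∈ P := hP.1.2 (Ideal.mem_span_singleton_self f)
    have hP' : P ∈ ((⊥ : Ideal A) ⊔ Ideal.span {f}).minimalPrimes := by rwa [bot_sup_eq]
    have h1 := ringKrullDim_quotient_add_one_of_mem_minimalPrimes k A ⊥ f
      (by rw [Ideal.mem_bot]; exact hf0) P hP'
    rw [ringKrullDim_quotient_bot_poly] at h1
    have h2 : ringKrullDim (A ⧸ P) = (n : WithBot ℕ∞) := withBot_enat_add_one_cancel h1
    have hne : P ≠ m₊ := by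
      apply ne_irrelevant_of_ringKrullDim_quotient k n (d := m')
      rw [h2, hm']
    have hht : P.height = 1 := by
      apply le_antisymm (Ideal.height_le_one_of_isPrincipal_of_mem_minimalPrimes _ P hP)
      rw [Order.one_le_iff_pos, pos_iff_ne_zero, Ne, Ideal.height_eq_zero_iff_eq_bot]
      intro h
      rw [h, Ideal.mem_bot] at hfP
      exact hf0 hfP
    obtain ⟨g, hgP, hgprime⟩ := Ideal.IsPrime.exists_mem_prime_of_ne_bot hPprime
      (P.ne_bot_of_height_eq_one hht)
    exact ⟨isHomogeneous_of_mem_minimalPrimes 𝒜 hfhom hP, h2, hne, g,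
      P.eq_span_singleton_of_height_eq_one hht hgP hgprime⟩
  -- pairwise intersections
  have inter : ∀ P ∈ (Ideal.span ({f} : Set A)).minimalPrimes,
      ∀ P' ∈ (Ideal.span ({f} : Set A)).minimalPrimes,
      (ProjectiveSpectrum.zeroLocus 𝒜 (P : Set A) ∩
        ProjectiveSpectrum.zeroLocus 𝒜 (P' : Set A)).Nonempty := by
    intro P hP P' hP'
    obtain ⟨hPh, hPdim, hPne, -⟩ := key P hP
    obtain ⟨hP'h, -, hP'ne, g, hg⟩ := key P' hP'
    have hPprime : P.IsPrime := hP.1.1
    have hJm : P ⊔ P' ≤ m₊ := sup_le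
      (le_irrelevant_of_isHomogeneous k n hPh hPprime.ne_top)
      (le_irrelevant_of_isHomogeneous k n hP'h hP'.1.1.ne_top)
    obtain ⟨Q, hQ, -⟩ := Ideal.exists_minimalPrimes_le hJm
    have hQh : Q.IsHomogeneous 𝒜 := isHomogeneous_of_mem_minimalPrimes 𝒜 (hPh.sup hP'h) hQ
    have hQ' : Q ∈ (P ⊔ Ideal.span (({g} : Finset A) : Set A)).minimalPrimes := by
      rw [Finset.coe_singleton, ← hg]; exact hQ
    have h1 := ringKrullDim_quotient_le_add_card k A P {g} Q hQ'
    rw [hPdim, Finset.card_singleton] at h1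
    have hQne : Q ≠ m₊ := by
      intro h
      rw [h, ringKrullDim_quotient_irrelevant, zero_add] at h1
      have : n ≤ 1 := by exact_mod_cast h1
      omega
    refine ⟨pointOfPrime k n Q hQ.1.1 hQh hQne, ?_, ?_⟩
    · intro a ha
      exact hQ.1.2 (Ideal.mem_sup_left ha)
    · intro a ha
      exact hQ.1.2 (Ideal.mem_sup_right ha)
  -- irreducibility of each piece
  have hconn : ∀ P ∈ (Ideal.span ({f} : Set A)).minimalPrimes,
      IsPreconnected (ProjectiveSpectrum.zeroLocus 𝒜 (P : Set A)) := by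
    intro P hP
    obtain ⟨hPh, -, hPne, -⟩ := key P hP
    have : ProjectiveSpectrum.zeroLocus 𝒜 (P : Set A) =
        closure {pointOfPrime k n P hP.1.1 hPh hPne} := by
      rw [closure_singleton_eq_zeroLocus]; rfl
    rw [this]
    exact isPreconnected_singleton.closure
  have hsub : ∀ P ∈ (Ideal.span ({f} : Set A)).minimalPrimes,
      ProjectiveSpectrum.zeroLocus 𝒜 (P : Set A) ⊆ ProjectiveSpectrum.zeroLocus 𝒜 ({f} : Set A) := by
    intro P hP
    apply ProjectiveSpectrum.zeroLocus_anti_mono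
    rintro _ rfl
    exact hP.1.2 (Ideal.mem_span_singleton_self _)
  have hcover : ∀ y ∈ ProjectiveSpectrum.zeroLocus 𝒜 ({f} : Set A),
      ∃ P ∈ (Ideal.span ({f} : Set A)).minimalPrimes,
        y ∈ ProjectiveSpectrum.zeroLocus 𝒜 (P : Set A) := by
    intro y hy
    have hfy : Ideal.span ({f} : Set A) ≤ y.asHomogeneousIdeal.toIdeal :=
      (Ideal.span_singleton_le_iff_mem _).mpr (hy rfl)
    have : y.asHomogeneousIdeal.toIdeal.IsPrime := y.isPrime
    obtain ⟨P, hP, hPy⟩ := Ideal.exists_minimalPrimes_le hfy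
    exact ⟨P, hP, hPy⟩
  constructor
  · obtain ⟨P, hP, -⟩ := Ideal.exists_minimalPrimes_le hfle
    obtain ⟨y, hy, -⟩ := inter P hP P hP
    exact ⟨y, hsub P hP hy⟩
  · apply isPreconnected_of_forall_pair
    intro y hy z hz
    obtain ⟨P, hP, hyP⟩ := hcover y hy
    obtain ⟨P', hP', hzP'⟩ := hcover z hz
    refine ⟨_, Set.union_subset (hsub P hP) (hsub P' hP'), Or.inl hyP, Or.inr hzP',
      IsPreconnected.union' (inter P hP P' hP') (hconn P hP) (hconn P' hP')⟩

end poly

end Groth.Agent.H54
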