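import Mathlib
import Groth.Agent.H54.LinearForms
import Groth.Agent.H54.HilbertCI
import Groth.Agent.H54.ProjDimTheory8

set_option autoImplicit false
universe u
open AlgebraicGeometry TopologicalSpace Module

namespace Groth.Agent.H54

section noethernorm
variable (k : Type u) [Field k] (n : ℕ)

local notation "𝒜" => CohB1.polyGrading n k
local notation "A" => MvPolynomial (Fin (n + 1)) k
local notation "m₊" => HomogeneousIdeal.toIdeal (HomogeneousIdeal.irrelevant (CohB1.polyGrading n k))

/-- Homogeneous polynomials of degree `t` lie in the `t`-th power of `(X₀, …, Xₙ)`. -/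
theorem mem_span_X_pow_of_isHomogeneous (t : ℕ) (F : A) (hF : F.IsHomogeneous t) :
    F ∈ (Ideal.span (Set.range (MvPolynomial.X : Fin (n + 1) → A))) ^ t := by
  classical
  rw [MvPolynomial.as_sum F]
  refine Ideal.sum_mem _ fun v hv => ?_
  rw [MvPolynomial.monomial_eq]
  apply Ideal.mul_mem_left
  have hdeg : ∑ i ∈ v.support, v i = t := by
    have h1 := hF (MvPolynomial.mem_support_iff.mp hv)
    have h2 : v.degree = t := by
      rw [Finsupp.degree_eq_weight_one]
      exact h1
    rwa [Finsupp.degree_apply] at h2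
  rw [← hdeg, ← Finset.prod_pow_eq_pow_sum, Finsupp.prod]
  apply Ideal.prod_mem_prod
  intro i _
  exact Ideal.pow_mem_pow (Ideal.subset_span (Set.mem_range_self i)) _

variable {k n}

/-- The normalization map `k[y] → A/p`, `yᵢ ↦ hᵢ`. -/
noncomputable def normMap (p : Ideal A) {s : ℕ} (h : Fin s → A) :
    MvPolynomial (Fin s) k →ₐ[k] A ⧸ p :=
  (Ideal.Quotient.mkₐ k p).comp (MvPolynomial.aeval h)

/-- The induced algebra structure. -/
noncomputable abbrev normAlgebra (p : Ideal A) {s : ℕ} (h : Fin s → A) :
    Algebra (MvPolynomial (Fin s) k) (A ⧸ p) :=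
  (normMap p h).toRingHom.toAlgebra

theorem normMap_X (p : Ideal A) {s : ℕ} (h : Fin s → A) (i : Fin s) :
    normMap p h (MvPolynomial.X i) = Ideal.Quotient.mk p (h i) := by
  simp [normMap]

theorem normMap_C (p : Ideal A) {s : ℕ} (h : Fin s → A) (c : k) :
    normMap p h (MvPolynomial.C c) = Ideal.Quotient.mk p (MvPolynomial.C c) := by
  simp only [normMap, AlgHom.comp_apply, MvPolynomial.aeval_C]
  rfl

/-- the generating family of monomials -/
noncomputable def monoGen (p : Ideal A) (N : ℕ) (a : Fin (n + 1) → Fin N) : A ⧸ p :=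
  Ideal.Quotient.mk p (∏ i, MvPolynomial.X i ^ (a i).val)

theorem mk_mem_span_monoGen (p : Ideal A) (hp : p.IsHomogeneous 𝒜) {s : ℕ} (h : Fin s → A)
    (hh : ∀ i, (h i).IsHomogeneous 1) (N : ℕ) (hNpos : 0 < N)
    (hN : (Ideal.span (Set.range (MvPolynomial.X : Fin (n + 1) → A))) ^ N ≤
      p ⊔ Ideal.span (Set.range h)) :
    letI := normAlgebra p h
    ∀ (t : ℕ) (F : A), F.IsHomogeneous t →
      Ideal.Quotient.mk p F ∈ Submodule.span (MvPolynomial (Fin s) k) (Set.range (monoGen p N)) := by
  classical
  let _ := normAlgebra p h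
  have hsmul : ∀ (q : MvPolynomial (Fin s) k) (b : A ⧸ p), q • b = normMap p h q * b := by
    intro q b
    rw [Algebra.smul_def]
    rfl
  intro t
  induction t using Nat.strong_induction_on with
  | _ t ih =>
    intro F hF
    by_cases htN : t < N
    · -- small degree: combination of monomials
      rw [MvPolynomial.as_sum F, map_sum]
      refine Submodule.sum_mem _ fun v hv => ?_
      have hdeg : ∑ i ∈ v.support, v i = t := by
        have h1 := hF (MvPolynomial.mem_support_iff.mp hv)
        have h2 : v.degree = t := by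
          rw [Finsupp.degree_eq_weight_one]
          exact h1
        rwa [Finsupp.degree_apply] at h2
      have hvi : ∀ i, v i < N := by
        intro i
        by_cases hi : i ∈ v.support
        · have := Finset.single_le_sum (f := fun i => v i) (fun j _ => Nat.zero_le _) hi
          omega
        · rw [Finsupp.notMem_support_iff] at hi
          omega
      have hmon : MvPolynomial.monomial v (MvPolynomial.coeff v F) =
          MvPolynomial.C (MvPolynomial.coeff v F) * ∏ i, MvPolynomial.X i ^ (v i) := by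
        rw [MvPolynomial.monomial_eq, Finsupp.prod]
        congr 1
        apply Finset.prod_subset (Finset.subset_univ _)
        intro i _ hi
        rw [Finsupp.notMem_support_iff] at hi
        rw [hi, pow_zero]
      rw [hmon, map_mul, ← normMap_C p h, ← hsmul]
      apply Submodule.smul_mem
      apply Submodule.subset_span
      exact ⟨fun i => ⟨v i, hvi i⟩, rfl⟩
    · -- large degree
      have hNt : N ≤ t := by omega
      have h1 : F ∈ (Ideal.span (Set.range (MvPolynomial.X : Fin (n + 1) → A))) ^ N :=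
        Ideal.pow_le_pow_right hNt (mem_span_X_pow_of_isHomogeneous k n t F hF)
      obtain ⟨q, hq, b, hb, hqb⟩ := Submodule.mem_sup.mp (hN h1)
      obtain ⟨c, hc⟩ := (Ideal.mem_span_range_iff_exists_fun).mp hb
      have hFmem : F ∈ 𝒜 t := (MvPolynomial.mem_homogeneousSubmodule t F).mpr hF
      obtain ⟨t', rfl⟩ : ∃ t', t = t' + 1 := ⟨t - 1, by omega⟩
      -- take the degree `t' + 1` component
      have hcomp : F = (DirectSum.decompose 𝒜 q (t' + 1) : A) +
          ∑ i, (DirectSum.decompose 𝒜 (c i) t' : A) * h i := by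
        have hF' : (DirectSum.decompose 𝒜 F (t' + 1) : A) = F :=
          DirectSum.decompose_of_mem_same 𝒜 hFmem
        rw [← hF', ← hqb, ← hc, DirectSum.decompose_add, DirectSum.add_apply, Submodule.coe_add,
          DirectSum.decompose_sum, DFinsupp.finsetSum_apply, AddSubmonoidClass.coe_finsetSum]
        congr 1
        refine Finset.sum_congr rfl fun i _ => ?_
        have hhi : h i ∈ 𝒜 1 := (MvPolynomial.mem_homogeneousSubmodule 1 _).mpr (hh i)
        rw [DirectSum.coe_decompose_mul_of_right_mem_of_le 𝒜 hhi (by omega : 1 ≤ t' + 1)]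
        rfl
      rw [hcomp, map_add, map_sum]
      apply Submodule.add_mem
      · have : Ideal.Quotient.mk p (DirectSum.decompose 𝒜 q (t' + 1) : A) = 0 :=
          Ideal.Quotient.eq_zero_iff_mem.mpr (hp _ hq)
        rw [this]
        exact Submodule.zero_mem _
      · refine Submodule.sum_mem _ fun i _ => ?_
        rw [map_mul, mul_comm, ← normMap_X p h, ← hsmul]
        apply Submodule.smul_mem
        apply ih t' (by omega)
        exact (MvPolynomial.mem_homogeneousSubmodule t' _).mp (SetLike.coe_mem _)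

theorem normMap_finite (p : Ideal A) (hp : p.IsHomogeneous 𝒜) {s : ℕ} (h : Fin s → A)
    (hh : ∀ i, (h i).IsHomogeneous 1) (N : ℕ) (hNpos : 0 < N)
    (hN : (Ideal.span (Set.range (MvPolynomial.X : Fin (n + 1) → A))) ^ N ≤
      p ⊔ Ideal.span (Set.range h)) :
    letI := normAlgebra p h
    Module.Finite (MvPolynomial (Fin s) k) (A ⧸ p) := by
  classical
  let _ := normAlgebra p h
  refine ⟨⟨Finset.univ.image (monoGen p N), ?_⟩⟩
  rw [Finset.coe_image, Finset.coe_univ, Set.image_univ, eq_top_iff]
  intro b _
  obtain ⟨F, rfl⟩ := Ideal.Quotient.mk_surjective b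
  rw [← DirectSum.sum_support_decompose 𝒜 F, map_sum]
  refine Submodule.sum_mem _ fun t _ => ?_
  exact mk_mem_span_monoGen p hp h hh N hNpos hN t _
    ((MvPolynomial.mem_homogeneousSubmodule t _).mp (SetLike.coe_mem _))

theorem normMap_injective (p : Ideal A) [hpp : p.IsPrime] (hp : p.IsHomogeneous 𝒜) (s : ℕ)
    (h : Fin (s + 1) → A)
    (hh : ∀ i, (h i).IsHomogeneous 1) (N : ℕ) (hNpos : 0 < N)
    (hN : (Ideal.span (Set.range (MvPolynomial.X : Fin (n + 1) → A))) ^ N ≤
      p ⊔ Ideal.span (Set.range h))
    (hdim : ringKrullDim (A ⧸ p) = (s : WithBot ℕ∞) + 1) :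
    Function.Injective (normMap p h) := by
  classical
  set f : MvPolynomial (Fin (s + 1)) k →+* A ⧸ p := (normMap p h).toRingHom with hf
  change Function.Injective f
  rw [RingHom.injective_iff_ker_eq_bot]
  by_contra hKne
  set K := RingHom.ker f with hK
  have hKprime : K.IsPrime := RingHom.ker_isPrime f
  have hint : f.IsIntegral := by
    let _ := normAlgebra p h
    have hfin := normMap_finite p hp h hh N hNpos hN
    have : Algebra.IsIntegral (MvPolynomial (Fin (s + 1)) k) (A ⧸ p) := Algebra.IsIntegral.of_finite _ _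
    intro b
    exact Algebra.IsIntegral.isIntegral b
  have hcomp : (RingHom.kerLift f).comp (Ideal.Quotient.mk K) = f :=
    RingHom.ext fun x => RingHom.kerLift_mk f x
  have hint' : (RingHom.kerLift f).IsIntegral :=
    RingHom.IsIntegral.tower_top (Ideal.Quotient.mk K) _ (by rw [hcomp]; exact hint)
  have hdimeq := ringKrullDim_eq_of_ringHom_isIntegral_of_injective _ hint'
    (RingHom.kerLift_injective f)
  have hlt : (⊥ : Ideal (MvPolynomial (Fin (s + 1)) k)) < K := bot_lt_iff_ne_bot.mpr hKne
  have h1 := ringKrullDim_quotient_add_one_le_of_lt hlt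
  rw [ringKrullDim_quotient_bot_poly k s, hdimeq, hdim] at h1
  have h2 : ((s + 1 + 1 : ℕ) : WithBot ℕ∞) ≤ ((s + 1 : ℕ) : WithBot ℕ∞) := by
    push_cast
    exact h1
  have : s + 1 + 1 ≤ s + 1 := by exact_mod_cast h2
  omega

theorem choose_add_finrank_le (p : Ideal A) (s : ℕ) (h : Fin (s + 1) → A)
    (hh : ∀ i, (h i).IsHomogeneous 1) (hinj : Function.Injective (normMap p h)) (t : ℕ) :
    (s + t).choose t + finrank k ↥(p.restrictScalars k ⊓ 𝒜 t) ≤ finrank k ↥(𝒜 t) := by
  classical
  set ψ : MvPolynomial (Fin (s + 1)) k →ₗ[k] A := (MvPolynomial.aeval h).toLinearMap with hψ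
  have hψinj : Function.Injective ψ := by
    intro a b hab
    apply hinj
    change Ideal.Quotient.mk p (MvPolynomial.aeval h a) = Ideal.Quotient.mk p (MvPolynomial.aeval h b)
    have : MvPolynomial.aeval h a = MvPolynomial.aeval h b := hab
    rw [this]
  set S' := MvPolynomial.homogeneousSubmodule (Fin (s + 1)) k t with hS'
  set RL := Submodule.map ψ S' with hRL
  have hRLle : RL ≤ 𝒜 t := by
    rintro _ ⟨F, hF, rfl⟩
    have := ((MvPolynomial.mem_homogeneousSubmodule t F).mp hF).aeval h hh
    rw [one_mul] at this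
    exact (MvPolynomial.mem_homogeneousSubmodule t _).mpr this
  have hRLfin : finrank k ↥RL = (s + t).choose t := by
    rw [← (Submodule.equivMapOfInjective ψ hψinj S').finrank_eq, hS',
      finrank_homogeneousSubmodule, Fintype.card_fin]
    congr 1
    omega
  have hdisj : RL ⊓ (p.restrictScalars k ⊓ 𝒜 t) = ⊥ := by
    rw [eq_bot_iff]
    rintro _ ⟨⟨F, -, rfl⟩, ⟨hxp, -⟩⟩
    have hF0 : normMap p h F = 0 := by
      change Ideal.Quotient.mk p (MvPolynomial.aeval h F) = 0
      exact Ideal.Quotient.eq_zero_iff_mem.mpr hxp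
    have : F = 0 := hinj (by rw [hF0, map_zero])
    rw [this, map_zero]
    exact Submodule.zero_mem _
  have hfd : FiniteDimensional k ↥RL := Submodule.finiteDimensional_of_le hRLle
  have h1 := Submodule.finrank_sup_add_finrank_inf_eq RL (p.restrictScalars k ⊓ 𝒜 t)
  rw [hdisj, finrank_bot, add_zero, hRLfin] at h1
  rw [← h1]
  exact Submodule.finrank_mono (sup_le hRLle inf_le_right)

end noethernorm

theorem le_choose_of_le (N j : ℕ) (hj : 1 ≤ j) (hjN : j + 1 ≤ N) : N ≤ N.choose j := by
  induction N generalizing j with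
  | zero => omega
  | succ N ih =>
    rcases Nat.lt_or_ge j 2 with hj2 | hj2
    · have : j = 1 := by omega
      subst this
      simp
    · obtain ⟨j', rfl⟩ : ∃ j', j = j' + 1 := ⟨j - 1, by omega⟩
      rw [Nat.choose_succ_succ]
      have hj'1 : 1 ≤ j' := by omega
      have hj'N : j' + 1 ≤ N := by omega
      have h1 : N ≤ N.choose j' := ih j' hj'1 hj'N
      have h2 : 1 ≤ N.choose (j' + 1) := Nat.choose_pos hj'N
      rw [Nat.succ_eq_add_one]
      omega

section final
variable (k : Type u) [Field k] [Infinite k]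

/-- Lower bound for the Hilbert function of a positive dimensional projective variety. -/
theorem forms_codim_bound (m d : ℕ) (hd : 1 ≤ d) (hdm : d + 1 ≤ m)
    (I : Ideal (MvPolynomial (Fin (m + 1)) k))
    (hI : I.IsHomogeneous (CohB1.polyGrading m k))
    (hirr : I.radical.IsPrime)
    (hdim : ringKrullDim (MvPolynomial (Fin (m + 1)) k ⧸ I) = ((m + 1 - d : ℕ) : WithBot ℕ∞)) :
    m + 1 + finrank k ↥(CohB1.polyGrading m k (d + 1) ⊓ Submodule.restrictScalars k I)
      ≤ finrank k ↥(CohB1.polyGrading m k (d + 1)) := by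
  classical
  set p := I.radical with hp
  have hphom : p.IsHomogeneous (CohB1.polyGrading m k) := hI.radical
  have hdimp : ringKrullDim (MvPolynomial (Fin (m + 1)) k ⧸ p) = ((m - d : ℕ) : WithBot ℕ∞) + 1 := by
    rw [ringKrullDim_quotient, hp, PrimeSpectrum.zeroLocus_radical, ← ringKrullDim_quotient, hdim]
    have : m + 1 - d = (m - d) + 1 := by omega
    rw [this]
    push_cast
    rfl
  obtain ⟨h, hh, N, hN⟩ := exists_linear_forms_missing k m (m - d) p hphom hdimp
  have hN' : (Ideal.span (Set.range (MvPolynomial.X : Fin (m + 1) → MvPolynomial (Fin (m + 1)) k))) ^ (N + 1) ≤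
      p ⊔ Ideal.span (Set.range h) := le_trans (Ideal.pow_le_pow_right (Nat.le_succ N)) hN
  have hinj := normMap_injective p hphom (m - d) h hh (N + 1) (Nat.succ_pos N) hN' hdimp
  have h1 := choose_add_finrank_le p (m - d) h hh hinj (d + 1)
  have h2 : m - d + (d + 1) = m + 1 := by omega
  rw [h2] at h1
  have h3 := le_choose_of_le (m + 1) (d + 1) (by omega) (by omega)
  have h4 : finrank k ↥(CohB1.polyGrading m k (d + 1) ⊓ Submodule.restrictScalars k I) ≤
      finrank k ↥(p.restrictScalars k ⊓ CohB1.polyGrading m k (d + 1)) := by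
    apply Submodule.finrank_mono
    rw [inf_comm]
    exact inf_le_inf_right _ (fun x hx => Ideal.le_radical hx)
  omega

end final

end Groth.Agent.H54
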