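import Mathlib
import Groth.Agent.H54.Dim

/-!
# Norms and zero loci in integral extensions of integrally closed domains
-/

set_option autoImplicit false
universe u

open Polynomial IntermediateField

namespace Groth.Agent.H54

section
variable (A B K L : Type u) [CommRing A] [IsDomain A] [CommRing B] [IsDomain B] [Algebra A B]
    [Field K] [Field L] [Algebra A K] [IsFractionRing A K] [Algebra B L] [IsFractionRing B L]
    [Algebra A L] [Algebra K L] [IsScalarTower A B L] [IsScalarTower A K L]
    [FiniteDimensional K L] [Algebra.IsIntegral A B] [IsIntegrallyClosed A]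

/-- The norm of `b` lies in `b B`. -/
theorem norm_mem_span_singleton (b : B) (a : A)
    (ha : algebraMap A K a = Algebra.norm K (algebraMap B L b)) :
    algebraMap A B a ∈ Ideal.span {b} := by
  have hb : IsIntegral A b := Algebra.IsIntegral.isIntegral b
  set β : L := algebraMap B L b with hβ
  have hβint : IsIntegral K β := (hb.algebraMap (B := L)).tower_top
  -- constant coefficient of the minimal polynomial is divisible by `b`
  set m₀ : A := (minpoly A b).coeff 0 with hm₀
  have hdvd : b ∣ algebraMap A B m₀ := by
    have h1 : (X : A[X]) ∣ minpoly A b - C m₀ := X_dvd_sub_C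
    have h2 := map_dvd (aeval b) h1
    rw [aeval_X, map_sub, minpoly.aeval, zero_sub, aeval_C] at h2
    exact (dvd_neg.mp h2)
  -- norm formula
  have hmin : minpoly K β = (minpoly A b).map (algebraMap A K) :=
    minpoly.isIntegrallyClosed_eq_field_fractions K L hb
  have hnorm : Algebra.norm K β =
      ((-1) ^ (adjoin.powerBasis hβint).dim * algebraMap A K m₀) ^ Module.finrank K⟮β⟯ L := by
    rw [Algebra.norm_eq_norm_adjoin K β]
    congr 1
    have := Algebra.PowerBasis.norm_gen_eq_coeff_zero_minpoly (adjoin.powerBasis hβint)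
    rw [adjoin.powerBasis_gen, minpoly_gen, hmin, coeff_map] at this
    exact this
  have hfr : 0 < Module.finrank K⟮β⟯ L := Module.finrank_pos
  have ha' : a = ((-1) ^ (adjoin.powerBasis hβint).dim * m₀) ^ Module.finrank K⟮β⟯ L := by
    apply IsFractionRing.injective A K
    rw [ha, hnorm]
    simp
  rw [Ideal.mem_span_singleton, ha', map_pow, map_mul]
  refine dvd_trans ?_ (dvd_pow_self _ hfr.ne')
  exact Dvd.dvd.mul_left hdvd _

/-- The norm of an element of `B` lies in `A`. -/
theorem exists_norm_eq (y : B) :
    ∃ c : A, algebraMap A K c = Algebra.norm K (algebraMap B L y) := by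
  have hy : IsIntegral A y := Algebra.IsIntegral.isIntegral y
  have h1 : IsIntegral A (algebraMap B L y) := hy.algebraMap
  have h2 : IsIntegral A (Algebra.norm K (algebraMap B L y)) := Algebra.isIntegral_norm K h1
  exact (IsIntegrallyClosed.isIntegral_iff (R := A) (K := K)).mp h2

/-- If `x ∈ A` is in `bB`, then a power of `x` is in `aA`. -/
theorem pow_mem_span_of_mem_comap (b : B) (a : A)
    (ha : algebraMap A K a = Algebra.norm K (algebraMap B L b)) (x : A)
    (hx : algebraMap A B x ∈ Ideal.span {b}) :
    x ^ Module.finrank K L ∈ Ideal.span {a} := by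
  obtain ⟨y, hy⟩ := Ideal.mem_span_singleton.mp hx
  obtain ⟨c, hc⟩ := exists_norm_eq A B K L y
  rw [Ideal.mem_span_singleton]
  refine ⟨c, ?_⟩
  apply IsFractionRing.injective A K
  rw [map_pow, map_mul, ha, hc, ← map_mul, ← map_mul, ← hy, ← IsScalarTower.algebraMap_apply,
    IsScalarTower.algebraMap_apply A K L, Algebra.norm_algebraMap]

end

theorem topologicalKrullDim_zeroLocus_eq_ringKrullDim_quotient {R : Type*} [CommRing R]
    (I : Ideal R) :
    topologicalKrullDim ↥(PrimeSpectrum.zeroLocus (I : Set R)) = ringKrullDim (R ⧸ I) := by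
  have hemb := PrimeSpectrum.isClosedEmbedding_comap_of_surjective (R ⧸ I) (Ideal.Quotient.mk I)
    Ideal.Quotient.mk_surjective
  have hrange : Set.range (PrimeSpectrum.comap (Ideal.Quotient.mk I)) =
      PrimeSpectrum.zeroLocus (I : Set R) := by
    rw [range_comap_of_surjective _ _ Ideal.Quotient.mk_surjective, Ideal.mk_ker]
  let e : PrimeSpectrum (R ⧸ I) ≃ₜ ↥(PrimeSpectrum.zeroLocus (I : Set R)) :=
    hemb.isEmbedding.toHomeomorph.trans (Homeomorph.setCongr hrange)
  rw [← PrimeSpectrum.topologicalKrullDim_eq_ringKrullDim]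
  exact (IsHomeomorph.topologicalKrullDim_eq e e.isHomeomorph).symm

theorem topologicalKrullDim_zeroLocus_singleton {R : Type*} [CommRing R] (r : R) :
    topologicalKrullDim ↥(PrimeSpectrum.zeroLocus ({r} : Set R)) =
      ringKrullDim (R ⧸ Ideal.span {r}) := by
  rw [← topologicalKrullDim_zeroLocus_eq_ringKrullDim_quotient, PrimeSpectrum.zeroLocus_span]

end Groth.Agent.H54
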