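import Mathlib.RingTheory.Localization.LocalizationLocalization
import Mathlib.RingTheory.Localization.AtPrime.Basic
import Mathlib.RingTheory.IntegralClosure.IntegrallyClosed

set_option autoImplicit false

namespace Groth.Agent.H54

/-- If `p ≤ q` are primes of `R`, `B = R_q` is an integrally closed domain, then so is `C = R_p`. -/
theorem isDomain_and_isIntegrallyClosed_of_le {R B C : Type*} [CommRing R] [CommRing B] [CommRing C]
    [Algebra R B] [Algebra R C] (p q : Ideal R) [p.IsPrime] [q.IsPrime] (hpq : p ≤ q)
    [IsLocalization.AtPrime B q] [IsLocalization.AtPrime C p]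
    [IsDomain B] [IsIntegrallyClosed B] :
    IsDomain C ∧ IsIntegrallyClosed C := by
  have hle : q.primeCompl ≤ p.primeCompl := fun x hx hxp => hx (hpq hxp)
  have hunits : ∀ y : q.primeCompl, IsUnit (algebraMap R C y) := fun y =>
    IsLocalization.map_units C (⟨y.1, hle y.2⟩ : p.primeCompl)
  let f : B →+* C := IsLocalization.lift (M := q.primeCompl) (g := algebraMap R C) hunits
  let _ : Algebra B C := f.toAlgebra
  have : IsScalarTower R B C := IsScalarTower.of_algebraMap_eq (fun x => by
    show algebraMap R C x = f (algebraMap R B x)
    exact (IsLocalization.lift_eq hunits x).symm)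
  have hloc : IsLocalization (p.primeCompl.map (algebraMap R B)) C :=
    IsLocalization.isLocalization_of_submonoid_le B C q.primeCompl p.primeCompl hle
  have hC : Nontrivial C := IsLocalization.AtPrime.nontrivial C p
  have hM : p.primeCompl.map (algebraMap R B) ≤ nonZeroDivisors B := by
    rintro _ ⟨r, hr, rfl⟩
    apply mem_nonZeroDivisors_of_ne_zero
    intro h0
    have h1 : algebraMap R C r = 0 := by
      rw [IsScalarTower.algebraMap_apply R B C, h0, map_zero]
    have h2 : IsUnit (algebraMap R C r) := IsLocalization.map_units C (⟨r, hr⟩ : p.primeCompl)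
    rw [h1] at h2
    exact not_isUnit_zero h2
  have hdom : IsDomain C := IsLocalization.isDomain_of_le_nonZeroDivisors (R := B) C hM
  exact ⟨hdom, isIntegrallyClosed_of_isLocalization (R := B) (S := C) _ hM⟩

end Groth.Agent.H54
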