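import Mathlib.RingTheory.Spectrum.Prime.Topology
import Mathlib.RingTheory.Spectrum.Prime.RingHom
import Mathlib.RingTheory.Localization.AtPrime.Basic
import Mathlib.RingTheory.Localization.Ideal

set_option autoImplicit false

namespace Groth.Agent.H54

open PrimeSpectrum

/-- If `Spec B → Spec A` is an open map then generalizations lift along it. -/
theorem generalizingMap_comap_of_isOpenMap {A B : Type*} [CommRing A] [CommRing B] (φ : A →+* B)
    (hopen : IsOpenMap (comap φ)) : GeneralizingMap (comap φ) := by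
  intro q p' hspec
  have hle : p'.asIdeal ≤ (comap φ q).asIdeal := (PrimeSpectrum.le_iff_specializes _ _).mpr hspec
  let Bq := Localization.AtPrime q.asIdeal
  let ψ : A →+* Bq := (algebraMap B Bq).comp φ
  have hmem : p' ∈ Set.range (comap ψ) := by
    rw [PrimeSpectrum.mem_range_comap_iff]
    apply le_antisymm _ Ideal.le_comap_map
    intro a ha
    rw [Ideal.mem_comap] at ha
    have ha' : algebraMap B Bq (φ a) ∈ Ideal.map (algebraMap B Bq) (Ideal.map φ p'.asIdeal) := by
      rw [Ideal.map_map]; exact ha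
    rw [IsLocalization.mem_map_algebraMap_iff q.asIdeal.primeCompl] at ha'
    obtain ⟨⟨⟨i, hi⟩, s⟩, hs⟩ := ha'
    rw [← map_mul] at hs
    obtain ⟨t, ht⟩ := (IsLocalization.eq_iff_exists q.asIdeal.primeCompl Bq).mp hs
    -- g = t * s ∉ q, g * φ a ∈ map φ p'
    set g : B := (t : B) * (s : B) with hg
    have hgq : g ∉ q.asIdeal := by
      intro h
      rcases q.2.mem_or_mem h with h | h
      · exact t.2 h
      · exact s.2 h
    have hga : g * φ a ∈ Ideal.map φ p'.asIdeal := by
      have : g * φ a = (t : B) * i := by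
        rw [hg, ← ht]; ring
      rw [this]
      exact Ideal.mul_mem_left _ _ hi
    -- the image of D(g) is open and contains comap φ q, hence p'
    have hopenD : IsOpen (comap φ '' (basicOpen g : Set (PrimeSpectrum B))) :=
      hopen _ (basicOpen g).2
    have hq : comap φ q ∈ comap φ '' (basicOpen g : Set (PrimeSpectrum B)) := ⟨q, hgq, rfl⟩
    have hp' : p' ∈ comap φ '' (basicOpen g : Set (PrimeSpectrum B)) :=
      hspec.mem_open hopenD hq
    obtain ⟨q'', hq''g, hq''⟩ := hp'
    have hmaple : Ideal.map φ p'.asIdeal ≤ q''.asIdeal := by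
      rw [Ideal.map_le_iff_le_comap, ← hq'']
      rfl
    have h1 : g * φ a ∈ q''.asIdeal := hmaple hga
    have h2 : φ a ∈ q''.asIdeal := (q''.2.mem_or_mem h1).resolve_left hq''g
    rw [← hq'']
    exact h2
  obtain ⟨Q, hQ⟩ := hmem
  refine ⟨comap (algebraMap B Bq) Q, ?_, ?_⟩
  · show comap (algebraMap B Bq) Q ⤳ q
    rw [← PrimeSpectrum.le_iff_specializes]
    show (comap (algebraMap B Bq) Q).asIdeal ≤ q.asIdeal
    have h1 : Q.asIdeal ≤ IsLocalRing.maximalIdeal Bq := IsLocalRing.le_maximalIdeal Q.2.ne_top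
    have h2 := Ideal.comap_mono (f := algebraMap B Bq) h1
    have h3 : Ideal.comap (algebraMap B Bq) (IsLocalRing.maximalIdeal Bq) = q.asIdeal :=
      Localization.AtPrime.under_maximalIdeal
    rw [h3] at h2
    exact h2
  · rw [← hQ]
    rfl

end Groth.Agent.H54
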