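import Mathlib

set_option autoImplicit false
universe u

namespace Groth.Agent.H54.WD

/-- Ring length of a quotient is invariant under ring isomorphism. -/
theorem length_quotient_eq_of_ringEquiv {B₁ B₂ : Type*} [CommRing B₁] [CommRing B₂] (σ : B₁ ≃+* B₂)
    (J₁ : Ideal B₁) (J₂ : Ideal B₂) (h : J₂ = J₁.map (σ : B₁ →+* B₂)) :
    Module.length B₁ (B₁ ⧸ J₁) = Module.length B₂ (B₂ ⧸ J₂) := by
  rw [Module.length_eq_of_surjective (S := B₁) (R := B₁ ⧸ J₁) (M := B₁ ⧸ J₁)
      Ideal.Quotient.mk_surjective,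
    Module.length_eq_of_surjective (S := B₂) (R := B₂ ⧸ J₂) (M := B₂ ⧸ J₂)
      Ideal.Quotient.mk_surjective]
  let ρ : (B₁ ⧸ J₁) ≃+* (B₂ ⧸ J₂) := Ideal.quotientEquiv J₁ J₂ σ h
  rw [Module.length, Module.length, WithBot.unbot_inj]
  exact Order.krullDim_eq_of_orderIso ρ.idealComapOrderIso.symm

theorem ord_ringEquiv {R R' : Type*} [CommRing R] [CommRing R'] (e : R ≃+* R') (x : R) :
    Ring.ord R' (e x) = Ring.ord R x := by
  unfold Ring.ord
  symm
  apply length_quotient_eq_of_ringEquiv e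
  rw [Ideal.map_span, Set.image_singleton]
  rfl

theorem mem_nonZeroDivisors_ringEquiv {R R' : Type*} [CommRing R] [CommRing R'] (e : R ≃+* R')
    (x : R) : e x ∈ nonZeroDivisors R' ↔ x ∈ nonZeroDivisors R := by
  constructor
  · intro h
    rw [mem_nonZeroDivisors_iff_right] at h ⊢
    intro y hy
    have := h (e y) (by rw [← map_mul, hy, map_zero])
    exact e.injective (by rw [this, map_zero])
  · intro h
    rw [mem_nonZeroDivisors_iff_right] at h ⊢
    intro y hy
    have := h (e.symm y) (by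
      apply e.injective
      rw [map_mul, e.apply_symm_apply, hy, map_zero])
    rw [← e.apply_symm_apply y, this, map_zero]

theorem ordMonoidWithZeroHom_ringEquiv {R R' : Type*} [CommRing R] [CommRing R'] [Nontrivial R]
    [Nontrivial R'] (e : R ≃+* R') (x : R) :
    Ring.ordMonoidWithZeroHom R' (e x) = Ring.ordMonoidWithZeroHom R x := by
  by_cases hx : x ∈ nonZeroDivisors R
  · have hx' : e x ∈ nonZeroDivisors R' := (mem_nonZeroDivisors_ringEquiv e x).mpr hx
    rw [Ring.ordMonoidWithZeroHom_eq_ord hx, Ring.ordMonoidWithZeroHom_eq_ord hx', ord_ringEquiv]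
  · have hx' : e x ∉ nonZeroDivisors R' := fun h => hx ((mem_nonZeroDivisors_ringEquiv e x).mp h)
    rw [Ring.ordMonoidWithZeroHom_eq_zero hx, Ring.ordMonoidWithZeroHom_eq_zero hx']

section frac
variable {R R' K K' : Type*} [CommRing R] [CommRing R'] [IsDomain R] [IsDomain R']
  [IsNoetherianRing R] [IsNoetherianRing R'] [Ring.KrullDimLE 1 R] [Ring.KrullDimLE 1 R']
  [Field K] [Field K'] [Algebra R K] [Algebra R' K'] [IsFractionRing R K] [IsFractionRing R' K']

theorem ordFrac_algebraMap (a : R) :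
    Ring.ordFrac R (algebraMap R K a) = Ring.ordMonoidWithZeroHom R a := by
  by_cases ha : a = 0
  · subst ha
    simp
  · exact Ring.ordFrac_eq_ord R ha

theorem ordFrac_ringEquiv (e : R ≃+* R') (φ : K →+* K')
    (h : ∀ r, φ (algebraMap R K r) = algebraMap R' K' (e r)) (x : K) :
    Ring.ordFrac R' (φ x) = Ring.ordFrac R x := by
  obtain ⟨a, b, hb, rfl⟩ := IsFractionRing.div_surjective (A := R) x
  rw [map_div₀, h, h, map_div₀, map_div₀, ordFrac_algebraMap, ordFrac_algebraMap,
    ordFrac_algebraMap, ordFrac_algebraMap, ordMonoidWithZeroHom_ringEquiv,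
    ordMonoidWithZeroHom_ringEquiv]

end frac

end Groth.Agent.H54.WD
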