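import Mathlib
import Groth.Agent.H54.OrdTransport

set_option autoImplicit false
universe u
open AlgebraicGeometry CategoryTheory TopologicalSpace Order

namespace Groth.Agent.H54.WD

section
variable {X Y : Scheme.{u}} (f : Y ⟶ X) [IsOpenImmersion f] [IsIntegral X] [IsIntegral Y]

theorem inseparable_genericPoint :
    Inseparable (f (genericPoint Y)) (genericPoint X) :=
  .of_eq (genericPoint_eq_of_isOpenImmersion f)

/-- the isomorphism of function fields induced by an open immersion -/
noncomputable def ffMap : X.functionField ⟶ Y.functionField :=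
  (X.presheaf.stalkCongr (inseparable_genericPoint f)).inv ≫ f.stalkMap (genericPoint Y)

instance : IsIso (ffMap f) := by
  unfold ffMap
  infer_instance

theorem algebraMap_comp_ffMap (y : Y) :
    X.presheaf.stalkSpecializes ((genericPoint_spec X).specializes (Set.mem_univ (f y))) ≫ ffMap f =
      f.stalkMap y ≫
        Y.presheaf.stalkSpecializes ((genericPoint_spec Y).specializes (Set.mem_univ y)) := by
  have h1 : genericPoint Y ⤳ y := (genericPoint_spec Y).specializes (Set.mem_univ y)
  have h2 : genericPoint X ⤳ f (genericPoint Y) := (inseparable_genericPoint f).ge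
  have h3 : X.presheaf.stalkSpecializes ((genericPoint_spec X).specializes (Set.mem_univ (f y))) =
      X.presheaf.stalkSpecializes (f.base.hom.map_specializes h1) ≫
        X.presheaf.stalkSpecializes h2 :=
    (TopCat.Presheaf.stalkSpecializes_comp X.presheaf h2 (f.base.hom.map_specializes h1)).symm
  rw [h3, ← Scheme.Hom.stalkSpecializes_stalkMap f (genericPoint Y) y h1]
  unfold ffMap
  rw [Category.assoc]
  congr 1
  rw [← Category.assoc]
  have h4 : X.presheaf.stalkSpecializes h2 ≫
      (X.presheaf.stalkCongr (inseparable_genericPoint f)).inv = 𝟙 _ :=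
    (X.presheaf.stalkCongr (inseparable_genericPoint f)).hom_inv_id
  rw [h4, Category.id_comp]

end

section ord
variable {X Y : Scheme.{u}} (f : Y ⟶ X) [IsOpenImmersion f] [IsIntegral X] [IsIntegral Y]
  [IsLocallyNoetherian X] [IsLocallyNoetherian Y]

theorem ffMap_algebraMap (y : Y) (r : X.presheaf.stalk (f y)) :
    (ffMap f).hom (algebraMap (X.presheaf.stalk (f y)) X.functionField r) =
      algebraMap (Y.presheaf.stalk y) Y.functionField ((f.stalkMap y).hom r) := by
  have h := algebraMap_comp_ffMap f y
  have h' := congrArg (fun φ => φ.hom r) h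
  exact h'

theorem ordHom_ffMap (y : Y) (hy : coheight y = 1) (hy' : coheight (f y) = 1)
    (g : X.functionField) :
    Y.ordHom y hy ((ffMap f).hom g) = X.ordHom (f y) hy' g := by
  unfold Scheme.ordHom
  haveI : Ring.KrullDimLE 1 (X.presheaf.stalk (f y)) := krullDimLE_of_coheight_le hy'.le
  haveI : Ring.KrullDimLE 1 (Y.presheaf.stalk y) := krullDimLE_of_coheight_le hy.le
  exact ordFrac_ringEquiv (asIso (f.stalkMap y)).commRingCatIsoToRingEquiv (ffMap f).hom
    (fun r => ffMap_algebraMap f y r) g

theorem ord_ffMap (y : Y) (g : X.functionField) :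
    Scheme.ord ((ffMap f).hom g) y = Scheme.ord g (f y) := by
  have hco : coheight (f y) = coheight y := coheight_eq_of_isOpenImmersion f
  by_cases hy : coheight y = 1
  · have hy' : coheight (f y) = 1 := hco.trans hy
    rw [Scheme.ord_eq_ordHom_of_coheight_eq_one hy, Scheme.ord_eq_ordHom_of_coheight_eq_one hy',
      ordHom_ffMap f y hy hy']
  · have hy' : coheight (f y) ≠ 1 := fun h => hy (hco.symm.trans h)
    rw [Scheme.ord_eq_zero_of_coheight_neq_one hy, Scheme.ord_eq_zero_of_coheight_neq_one hy']

end ord

end Groth.Agent.H54.WD
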