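import Mathlib
import Groth.Prelude.Def_C1
import Groth.Prelude.Def_SecTwist
import Groth.Agent.H54.OrdAtOrd
import Groth.Agent.H54.SecOrd
import Groth.Agent.H5.Stalk.Tensor
import Groth.Agent.H18.STL.Basic
import Groth.Agent.H8.MeroGen

set_option autoImplicit false
universe u
open CategoryTheory CategoryTheory.Limits AlgebraicGeometry TopologicalSpace Opposite Order

namespace Groth.Agent.H54.OrdTensor

open Groth.Agent.H8 Groth.Agent.H18 Groth.Agent.H54.SecOrd Groth.Agent.H54.OrdAtOrd
  Groth.Agent.H5.Stalk.Tensor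

variable {X : Scheme.{u}} [IsIntegral X]

/-- local form of rational sections and their product in a common chart -/
theorem local_form (L N : X.Modules) (s0 : L.presheaf.stalk (genericPoint X))
    (t0 : N.presheaf.stalk (genericPoint X)) (hs : s0 ≠ 0) (ht : t0 ≠ 0) {U : X.Opens}
    (hηU : genericPoint X ∈ U) {σL : Γ(L, U)} {σN : Γ(N, U)} (hσL : IsFreeGen L U σL)
    (hσN : IsFreeGen N U σN) :
    ∃ a c : X.presheaf.stalk (genericPoint X), a ≠ 0 ∧ c ≠ 0 ∧
      s0 = a • L.presheaf.germ U (genericPoint X) hηU σL ∧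
      t0 = c • N.presheaf.germ U (genericPoint X) hηU σN ∧
      b (genericPoint X) L N s0 t0 = (a * c) •
        (CohB1.tensorMod L N).presheaf.germ U (genericPoint X) hηU (SecTwist.tmul L N U σL σN) := by
  obtain ⟨a, ha⟩ := (hσL.germ_bijective hηU).2 s0
  obtain ⟨c, hc⟩ := (hσN.germ_bijective hηU).2 t0
  have ha' : a • L.presheaf.germ U (genericPoint X) hηU σL = s0 := ha
  have hc' : c • N.presheaf.germ U (genericPoint X) hηU σN = t0 := hc
  refine ⟨a, c, ?_, ?_, ha'.symm, hc'.symm, ?_⟩
  · rintro rfl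
    exact hs (by rw [← ha', zero_smul])
  · rintro rfl
    exact ht (by rw [← hc', zero_smul])
  · rw [← ha', ← hc', b_smul_left, b_smul_right, b_germ, ← mul_smul]
    rfl

theorem main [IsLocallyNoetherian X] (L N : X.Modules)
    (hL : PicF.IsInvertible L) (hN : PicF.IsInvertible N)
    (s : Cyc.secFibre L (genericPoint X)) (hs : s ≠ 0)
    (t : Cyc.secFibre N (genericPoint X)) (ht : t ≠ 0) :
    ∃ w : Cyc.secFibre (CohB1.tensorMod L N) (genericPoint X), w ≠ 0 ∧
      ∀ (x : X), ringKrullDim (X.presheaf.stalk x) = 1 →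
        Cyc.secOrdAt (CohB1.tensorMod L N) (genericPoint X) x
            ((genericPoint_spec X).specializes (Set.mem_univ x)) w =
          Cyc.secOrdAt L (genericPoint X) x ((genericPoint_spec X).specializes (Set.mem_univ x)) s +
            Cyc.secOrdAt N (genericPoint X) x
              ((genericPoint_spec X).specializes (Set.mem_univ x)) t := by
  obtain ⟨s0, rfl⟩ := Submodule.Quotient.mk_surjective _ s
  obtain ⟨t0, rfl⟩ := Submodule.Quotient.mk_surjective _ t
  have hs0 : s0 ≠ 0 := by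
    rintro rfl
    exact hs rfl
  have ht0 : t0 ≠ 0 := by
    rintro rfl
    exact ht rfl
  have chart : ∀ x : X, ∃ (U : X.Opens) (_ : x ∈ U) (σL : Γ(L, U)) (σN : Γ(N, U)),
      IsFreeGen L U σL ∧ IsFreeGen N U σN := by
    intro x
    obtain ⟨U₁, hx₁, σ₁, h₁⟩ := exists_isFreeGen_of_isInvertible hL x
    obtain ⟨U₂, hx₂, σ₂, h₂⟩ := exists_isFreeGen_of_isInvertible hN x
    exact ⟨U₁ ⊓ U₂, ⟨hx₁, hx₂⟩, _, _, h₁.res inf_le_left, h₂.res inf_le_right⟩
  have hT : ∀ (U : X.Opens) (σL : Γ(L, U)) (σN : Γ(N, U)), IsFreeGen L U σL → IsFreeGen N U σN →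
      IsFreeGen (CohB1.tensorMod L N) U (SecTwist.tmul L N U σL σN) := by
    intro U σL σN hσL hσN V hV
    exact STL.isBasisOn_tmul (fun V hV => hσL V hV) (fun V hV => hσN V hV) V hV
  refine ⟨Submodule.Quotient.mk (b (genericPoint X) L N s0 t0), ?_, ?_⟩
  · obtain ⟨U, hηU, σL, σN, hσL, hσN⟩ := chart (genericPoint X)
    obtain ⟨a, c, ha, hc, -, -, hb⟩ := local_form L N s0 t0 hs0 ht0 hηU hσL hσN
    intro h0
    have h1 : b (genericPoint X) L N s0 t0 = 0 := (mk_eq_mk_iff _ _ 0).mp h0
    rw [hb] at h1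
    have h2 := ((hT U σL σN hσL hσN).germ_bijective hηU).1 (a₁ := a * c) (a₂ := 0)
      (by
        change (a * c) • _ = (0 : X.presheaf.stalk (genericPoint X)) • _
        rw [h1, zero_smul])
    exact mul_ne_zero ha hc h2
  · intro x hx
    have hcoh : coheight x = 1 := by
      rw [ringKrullDim_stalk_eq_coheight] at hx
      exact_mod_cast hx
    set h := (genericPoint_spec X).specializes (Set.mem_univ x) with hh
    obtain ⟨U, hxU, σL, σN, hσL, hσN⟩ := chart x
    have hηU : genericPoint X ∈ U := h.mem_open U.2 hxU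
    obtain ⟨a, c, ha, hc, hsa, htc, hb⟩ := local_form L N s0 t0 hs0 ht0 hηU hσL hσN
    have hspec : ∀ (M : X.Modules) (σ : Γ(M, U)),
        (M.presheaf.stalkSpecializes h) (M.presheaf.germ U x hxU σ) =
          M.presheaf.germ U (genericPoint X) hηU σ := by
      intro M σ
      exact TopCat.Presheaf.germ_stalkSpecializes_apply _ _ _ _
    have hord : ∀ (M : X.Modules) (σ : Γ(M, U)), IsFreeGen M U σ →
        ∀ (r : X.presheaf.stalk (genericPoint X)), r ≠ 0 →
        ∀ m0 : M.presheaf.stalk (genericPoint X),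
          m0 = r • M.presheaf.germ U (genericPoint X) hηU σ →
        Cyc.secOrdAt M (genericPoint X) x h (Submodule.Quotient.mk m0) =
          Scheme.ord (r : X.functionField) x := by
      intro M σ hσ r hr m0 hm0
      refine secOrdAt_eq_ord M x hcoh h (M.presheaf.germ U x hxU σ) (hσ.germ_bijective hxU) ?_
        r hr _ ?_
      · rw [hspec]
        exact (hσ.germ_bijective hηU).1
      · rw [hspec, hm0]
    rw [hord L σL hσL a ha s0 hsa, hord N σN hσN c hc t0 htc,
      hord _ _ (hT U σL σN hσL hσN) (a * c) (mul_ne_zero ha hc) _ hb]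
    exact Scheme.ord_mul ha hc

end Groth.Agent.H54.OrdTensor
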