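import Mathlib
import Groth.Prelude.Def_C1
import Groth.Prelude.Def_Pic
import Groth.Prelude.Def_Pi1
import Groth.Agent.H54.OrdAtOrd
import Groth.Agent.H15.CDivNormalSch
import Groth.Agent.H18.STL.Basic
import Groth.Agent.H18.GammaStarEval
import Groth.Agent.H18.SectionHom
import Groth.Agent.H87.DefoIso

set_option autoImplicit false
universe u
open CategoryTheory CategoryTheory.Limits AlgebraicGeometry TopologicalSpace Order

namespace Groth.Agent.H54.PicClInj

open Groth.Agent.H18 Groth.Agent.H8

variable {X : Scheme.{u}} [IsIntegral X]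

/-- sections of an invertible module on an integral scheme inject into the generic stalk -/
theorem germ_genericPoint_injective (L : X.Modules) (hL : PicF.IsInvertible L) (W : X.Opens)
    (hη : genericPoint X ∈ W) :
    Function.Injective (L.presheaf.germ W (genericPoint X) hη) := by
  intro m m' hmm'
  refine modules_eq_of_locally_eq L m m' (fun y hy => ?_)
  obtain ⟨U, hyU, σ, hσ⟩ := exists_isFreeGen_of_isInvertible hL y
  have hηU : genericPoint X ∈ U := (genericPoint_specializes y).mem_open U.isOpen hyU
  have hηV : genericPoint X ∈ W ⊓ U := ⟨hη, hηU⟩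
  refine ⟨W ⊓ U, inf_le_left, ⟨hy, hyU⟩, ?_⟩
  obtain ⟨r, hr⟩ := (hσ (W ⊓ U) inf_le_right).2 (mres L inf_le_left m)
  obtain ⟨r', hr'⟩ := (hσ (W ⊓ U) inf_le_right).2 (mres L inf_le_left m')
  have hr1 : r • mres L (inf_le_right : W ⊓ U ≤ U) σ = mres L inf_le_left m := hr
  have hr1' : r' • mres L (inf_le_right : W ⊓ U ≤ U) σ = mres L inf_le_left m' := hr'
  have hg : L.presheaf.germ (W ⊓ U) (genericPoint X) hηV (mres L inf_le_left m) =
      L.presheaf.germ (W ⊓ U) (genericPoint X) hηV (mres L inf_le_left m') := by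
    rw [TopCat.Presheaf.germ_res_apply L.presheaf (homOfLE (inf_le_left : W ⊓ U ≤ W)),
      TopCat.Presheaf.germ_res_apply L.presheaf (homOfLE (inf_le_left : W ⊓ U ≤ W))]
    exact hmm'
  rw [← hr1, ← hr1', Mero.germ_smul, Mero.germ_smul,
    TopCat.Presheaf.germ_res_apply L.presheaf (homOfLE (inf_le_right : W ⊓ U ≤ U))] at hg
  have h1 := (hσ.germ_bijective hηU).1 hg
  have h2 : r = r' := germ_injective_of_isIntegral X (genericPoint X) hηV h1
  rw [← hr1, ← hr1', h2]


open Groth.Agent.H54.OrdAtOrd Groth.Agent.H15.CDivB in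
/-- the local claim: near each point there is a generator of `L` whose germ at the generic point is
`f⁻¹ s'` -/
theorem exists_local_gen [IsLocallyNoetherian X] (hX : Pi1.IsNormalScheme X) (L : X.Modules)
    (hL : PicF.IsInvertible L) (s' : L.presheaf.stalk (genericPoint X)) (hs' : s' ≠ 0)
    (f : X.presheaf.stalk (genericPoint X)) (hf : f ≠ 0)
    (h : ∀ x : X, Order.coheight x = 1 →
      Cyc.secOrdAt L (genericPoint X) x (genericPoint_specializes x) (Submodule.Quotient.mk s') =
        Scheme.ord (f : X.functionField) x) (x : X) :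
    ∃ (V : X.Opens) (hxV : x ∈ V) (hηV : genericPoint X ∈ V) (τ : Γ(L, V)),
      f • L.presheaf.germ V (genericPoint X) hηV τ = s' ∧
      Function.Bijective (fun r : X.presheaf.stalk x => r • L.presheaf.germ V x hxV τ) := by
  obtain ⟨U, hxU, σ, hσ⟩ := exists_isFreeGen_of_isInvertible hL x
  have hηU : genericPoint X ∈ U := (genericPoint_specializes x).mem_open U.isOpen hxU
  have hbη := hσ.germ_bijective hηU
  have hbx := hσ.germ_bijective hxU
  obtain ⟨c₁, hc₁⟩ := hbη.2 s'
  have hc₁' : c₁ • L.presheaf.germ U (genericPoint X) hηU σ = s' := hc₁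
  letI : Field (X.presheaf.stalk (genericPoint X)) := inferInstanceAs (Field X.functionField)
  let c : X.presheaf.stalk (genericPoint X) := f⁻¹ * c₁
  have hfc : f * c = c₁ := mul_inv_cancel_left₀ hf c₁
  have hc₁0 : c₁ ≠ 0 := by
    rintro rfl
    apply hs'
    rw [← hc₁', zero_smul]
  have hc0 : c ≠ 0 := mul_ne_zero (inv_ne_zero hf) hc₁0
  have hone : ∀ z : X, Scheme.ord (1 : X.functionField) z = 0 := by
    intro z
    have := ord_algebraMap_of_isUnit z (1 : X.presheaf.stalk z) isUnit_one
    rwa [map_one] at this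
  have hord : ∀ z : X, z ⤳ x → Order.coheight z = 1 → Scheme.ord (c : X.functionField) z = 0 := by
    intro z hzx hz
    have hzU : z ∈ U := hzx.mem_open U.isOpen hxU
    have hηz : genericPoint X ⤳ z := genericPoint_specializes z
    have hsp : L.presheaf.stalkSpecializes hηz (L.presheaf.germ U z hzU σ) =
        L.presheaf.germ U (genericPoint X) hηU σ :=
      TopCat.Presheaf.germ_stalkSpecializes_apply L.presheaf (U := U) hzU hηz σ
    have hinj : Function.Injective (fun r : X.presheaf.stalk (genericPoint X) =>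
        r • (L.presheaf.stalkSpecializes hηz) (L.presheaf.germ U z hzU σ)) := by
      rw [hsp]
      exact hbη.1
    have h1 := secOrdAt_eq_ord L z hz hηz (L.presheaf.germ U z hzU σ) (hσ.germ_bijective hzU)
      hinj c₁ hc₁0 (Submodule.Quotient.mk s') (by rw [hsp, hc₁'])
    have h2 := h z hz
    have h3 : Scheme.ord (c₁ : X.functionField) z =
        Scheme.ord (f : X.functionField) z + Scheme.ord (c : X.functionField) z := by
      rw [← hfc]
      exact Scheme.ord_mul hf hc0
    have h4 : Scheme.ord (c₁ : X.functionField) z = Scheme.ord (f : X.functionField) z :=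
      h1.symm.trans h2
    linarith
  have hordinv : ∀ z : X, z ⤳ x → Order.coheight z = 1 →
      Scheme.ord ((c : X.functionField)⁻¹) z = 0 := by
    intro z hzx hz
    have h1 : Scheme.ord ((c : X.functionField) * (c : X.functionField)⁻¹) z =
        Scheme.ord (c : X.functionField) z + Scheme.ord ((c : X.functionField)⁻¹) z :=
      Scheme.ord_mul hc0 (inv_ne_zero hc0)
    rw [mul_inv_cancel₀ hc0, hone z, hord z hzx hz, zero_add] at h1
    exact h1.symm
  have hcR : (c : X.functionField) ∈ R X x := by
    refine mem_R_of_forall_depth_one x c (fun z hzx hd => ?_)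
    haveI := isDVR_of_depth_one hX z hd
    have hz := coheight_eq_one_of_isDVR z
    exact mem_R_of_ord_nonneg z hz c hc0 (by rw [hord z hzx hz])
  have hcinvR : ((c : X.functionField)⁻¹) ∈ R X x := by
    refine mem_R_of_forall_depth_one x _ (fun z hzx hd => ?_)
    haveI := isDVR_of_depth_one hX z hd
    have hz := coheight_eq_one_of_isDVR z
    exact mem_R_of_ord_nonneg z hz _ (inv_ne_zero hc0) (by rw [hordinv z hzx hz])
  obtain ⟨u, hu⟩ := hcR
  obtain ⟨u', hu'⟩ := hcinvR
  have huu' : u * u' = 1 := by
    apply IsFractionRing.injective (X.presheaf.stalk x) X.functionField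
    rw [map_mul, map_one]
    exact (congrArg₂ (· * ·) hu hu').trans (mul_inv_cancel₀ hc0)
  have huunit : IsUnit u := IsUnit.of_mul_eq_one u' huu'
  obtain ⟨V₁, hxV₁, a, ha⟩ := X.presheaf.exists_germ_eq u
  have hηV₁ : genericPoint X ∈ V₁ := (genericPoint_specializes x).mem_open V₁.isOpen hxV₁
  let V : X.Opens := V₁ ⊓ U
  have hxV : x ∈ V := ⟨hxV₁, hxU⟩
  have hηV : genericPoint X ∈ V := ⟨hηV₁, hηU⟩
  let τ : Γ(L, V) := (PUP.rres X (inf_le_left : V ≤ V₁) a) • mres L (inf_le_right : V ≤ U) σ
  have hgermη : L.presheaf.germ V (genericPoint X) hηV τ =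
      c • L.presheaf.germ U (genericPoint X) hηU σ := by
    change L.presheaf.germ V (genericPoint X) hηV (_ • _) = _
    rw [Mero.germ_smul,
      TopCat.Presheaf.germ_res_apply L.presheaf (homOfLE (inf_le_right : V ≤ U)),
      TopCat.Presheaf.germ_res_apply X.presheaf (homOfLE (inf_le_left : V ≤ V₁))]
    congr 1
    have e1 : X.presheaf.germ V₁ (genericPoint X) hηV₁ a =
        (X.presheaf.stalkSpecializes (genericPoint_specializes x)).hom
          (X.presheaf.germ V₁ x hxV₁ a) :=
      (TopCat.Presheaf.germ_stalkSpecializes_apply X.presheaf (U := V₁) hxV₁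
        (genericPoint_specializes x) a).symm
    rw [e1, ha]
    exact hu
  have hgermx : L.presheaf.germ V x hxV τ = u • L.presheaf.germ U x hxU σ := by
    change L.presheaf.germ V x hxV (_ • _) = _
    rw [Mero.germ_smul,
      TopCat.Presheaf.germ_res_apply L.presheaf (homOfLE (inf_le_right : V ≤ U)),
      TopCat.Presheaf.germ_res_apply X.presheaf (homOfLE (inf_le_left : V ≤ V₁)), ha]
  refine ⟨V, hxV, hηV, τ, ?_, ?_⟩
  · rw [hgermη, ← mul_smul, hfc, hc₁']
  · rw [hgermx]
    have hfun : (fun r : X.presheaf.stalk x => r • u • L.presheaf.germ U x hxU σ) =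
        (fun r : X.presheaf.stalk x => r • L.presheaf.germ U x hxU σ) ∘ (fun r => r * u) := by
      funext r
      simp only [Function.comp_apply, mul_smul]
    rw [hfun]
    exact hbx.comp (IsUnit.isUnit_iff_mulRight_bijective.mp huunit)


omit [IsIntegral X] in
/-- a global section generating every stalk freely trivializes the module -/
theorem nonempty_iso_of_stalk_bijective (L : X.Modules) (T : Γ(L, (⊤ : X.Opens)))
    (hT : ∀ x : X, Function.Bijective
      (fun r : X.presheaf.stalk x => r • L.presheaf.germ ⊤ x trivial T)) :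
    Nonempty (L ≅ Coh.structureModule X) := by
  have hkey : ∀ (x : X) (V : X.Opens) (hxV : x ∈ V) (r : Γ(X, V)),
      RefHull.stalkMapₗ (sectionHom L T) x
        ((Coh.structureModule X).presheaf.germ V x hxV r) =
        X.presheaf.germ V x hxV r • L.presheaf.germ ⊤ x trivial T := by
    intro x V hxV r
    have h1 := RefHull.stalkMapₗ_germ (sectionHom L T) x hxV r
    have h2 : (sectionHom L T).app V r = r • mres L (le_top : V ≤ ⊤) T := sectionHom_app L T V r
    have h3 : L.presheaf.germ V x hxV (r • mres L (le_top : V ≤ ⊤) T) =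
        X.presheaf.germ V x hxV r • L.presheaf.germ ⊤ x trivial T := by
      rw [Mero.germ_smul, TopCat.Presheaf.germ_res_apply L.presheaf (homOfLE (le_top : V ≤ ⊤))]
    exact h1.trans ((congrArg _ h2).trans h3)
  haveI : IsIso (sectionHom L T) := by
    apply Groth.Agent.H87.DefoIso.isIso_of_stalk_bijective
    intro x
    constructor
    · rw [injective_iff_map_eq_zero]
      intro b hb
      obtain ⟨V, hxV, r, rfl⟩ :=
        TopCat.Presheaf.exists_germ_eq (Coh.structureModule X).presheaf b
      rw [hkey x V hxV r] at hb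
      have h0 : X.presheaf.germ V x hxV r = 0 := by
        apply (hT x).1
        change _ = (0 : X.presheaf.stalk x) • L.presheaf.germ ⊤ x trivial T
        rw [zero_smul]
        exact hb
      have h0' : X.presheaf.germ V x hxV r = X.presheaf.germ V x hxV 0 := by
        rw [h0, map_zero]
      obtain ⟨W, hxW, iU, iV, he⟩ := TopCat.Presheaf.germ_eq X.presheaf x hxV hxV _ _ h0'
      rw [map_zero] at he
      have e1 := TopCat.Presheaf.germ_res_apply (Coh.structureModule X).presheaf iU x hxW r
      rw [← e1]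
      have e2 : (Coh.structureModule X).presheaf.map iU.op r = 0 := he
      rw [e2, map_zero]
    · intro m
      obtain ⟨b₀, hb₀⟩ := (hT x).2 m
      obtain ⟨V, hxV, r, rfl⟩ := X.presheaf.exists_germ_eq b₀
      exact ⟨(Coh.structureModule X).presheaf.germ V x hxV r, (hkey x V hxV r).trans hb₀⟩
  exact ⟨(asIso (sectionHom L T)).symm⟩

/-- **Pic → Cl is injective** on a normal locally Noetherian integral scheme -/
theorem main [IsLocallyNoetherian X] (hX : Pi1.IsNormalScheme X) (L : X.Modules)
    (hL : PicF.IsInvertible L)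
    (s : Cyc.secFibre L (genericPoint ↥X)) (hs : s ≠ 0) (f : ↑X.functionField) (hf : f ≠ 0)
    (h : ∀ x : ↥X, Order.coheight x = 1 →
      Cyc.secOrdAt L (genericPoint ↥X) x (genericPoint_specializes x) s = Scheme.ord f x) :
    Nonempty (L ≅ Coh.structureModule X) := by
  obtain ⟨s', rfl⟩ := Submodule.Quotient.mk_surjective _ s
  have hs'0 : s' ≠ 0 := by
    rintro rfl
    exact hs rfl
  letI : Field (X.presheaf.stalk (genericPoint X)) := inferInstanceAs (Field X.functionField)
  choose V hxV hηV τ hτ hbij using exists_local_gen hX L hL s' hs'0 f hf h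
  have hcompat : ∀ x y : X, mres L (inf_le_left : V x ⊓ V y ≤ V x) (τ x) =
      mres L (inf_le_right : V x ⊓ V y ≤ V y) (τ y) := by
    intro x y
    have hη : genericPoint X ∈ V x ⊓ V y := ⟨hηV x, hηV y⟩
    apply germ_genericPoint_injective L hL _ hη
    rw [TopCat.Presheaf.germ_res_apply L.presheaf (homOfLE (inf_le_left : V x ⊓ V y ≤ V x)),
      TopCat.Presheaf.germ_res_apply L.presheaf (homOfLE (inf_le_right : V x ⊓ V y ≤ V y))]
    have h1 := (hτ x).trans (hτ y).symm
    have h2 := congrArg (fun m => (f : X.presheaf.stalk (genericPoint X))⁻¹ • m) h1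
    simp only [← mul_smul, inv_mul_cancel₀ hf, one_smul] at h2
    exact h2
  obtain ⟨T, hT⟩ := STL.exists_glue L V ⊤ (fun _ => le_top) (fun x _ => ⟨x, hxV x⟩) τ hcompat
  refine nonempty_iso_of_stalk_bijective L T (fun x => ?_)
  have : L.presheaf.germ ⊤ x trivial T = L.presheaf.germ (V x) x (hxV x) (τ x) := by
    rw [← hT x, TopCat.Presheaf.germ_res_apply L.presheaf (homOfLE (le_top : V x ≤ ⊤))]
  rw [this]
  exact hbij x

end Groth.Agent.H54.PicClInj
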