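import Groth.Agent.H54.SemilocalDescent

/-!
helper54: abstract form of "Pic of a semilocal H⁰ injects under faithfully flat base change":
from the flat base change bijections on sections, produce a section pulling back to a generator.
-/

set_option autoImplicit false
universe u
open TensorProduct

namespace Groth.Agent.H54.SemilocalDescent

section
variable {A₀ B₀ R R' : Type u} [CommRing A₀] [CommRing B₀] [CommRing R] [CommRing R']
  [Algebra A₀ B₀] [Module.FaithfullyFlat A₀ B₀] [Algebra A₀ R] [Finite (MaximalSpectrum R)]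
  (ψ : R →+* R') (β : B₀ →+* R')
  (hcomp : ∀ a : A₀, ψ (algebraMap A₀ R a) = β (algebraMap A₀ B₀ a))
  {M M' : Type u} [AddCommGroup M] [Module R M] [Module A₀ M] [IsScalarTower A₀ R M]
  [AddCommGroup M'] [Module R' M']
  (p : M →+ M') (hp : ∀ (r : R) (m : M), p (r • m) = ψ r • p m)
  (c : B₀ ⊗[A₀] M →+ M') (hcb : Function.Bijective c)
  (hc : ∀ (b : B₀) (m : M), c (b ⊗ₜ[A₀] m) = β b • p m)
  (cO : B₀ ⊗[A₀] R →+ R') (hcOb : Function.Bijective cO)
  (hcO : ∀ (b : B₀) (r : R), cO (b ⊗ₜ[A₀] r) = β b * ψ r)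
  (e : M') (he : Function.Bijective (fun r' : R' => r' • e))

include hcomp hp hcb hc hcOb hcO he in
theorem exists_section_unit : ∃ (s : M) (u : R'ˣ), p s = (u : R') • e := by
  classical
  let T := R ⊗[A₀] B₀
  letI algR' : Algebra A₀ R' := (ψ.comp (algebraMap A₀ R)).toAlgebra
  let ψa : R →ₐ[A₀] R' := { ψ with commutes' := fun a => rfl }
  let βa : B₀ →ₐ[A₀] R' := { β with commutes' := fun a => (hcomp a).symm }
  let φ' : T →ₐ[A₀] R' := Algebra.TensorProduct.productMap ψa βa
  have hφ'tmul : ∀ (r : R) (b : B₀), φ' (r ⊗ₜ[A₀] b) = ψ r * β b := fun r b =>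
    Algebra.TensorProduct.productMap_apply_tmul ψa βa r b
  have hφ'eq : ∀ t : T, φ' t = cO ((TensorProduct.comm A₀ R B₀) t) := by
    intro t
    induction t using TensorProduct.induction_on with
    | zero => simp
    | tmul r b => rw [hφ'tmul, TensorProduct.comm_tmul, hcO, mul_comm]
    | add x y hx hy => rw [map_add, map_add, map_add, hx, hy]
  have hφ'b : Function.Bijective φ' := by
    have : (φ' : T → R') = cO ∘ (TensorProduct.comm A₀ R B₀) := funext hφ'eq
    rw [this]
    exact hcOb.comp (TensorProduct.comm A₀ R B₀).bijective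
  letI modT : Module T M' := Module.compHom M' φ'.toRingHom
  letI modR : Module R M' := Module.compHom M' ψ
  have hT_smul : ∀ (t : T) (m' : M'), t • m' = φ' t • m' := fun _ _ => rfl
  have hR_smul : ∀ (r : R) (m' : M'), r • m' = ψ r • m' := fun _ _ => rfl
  haveI : IsScalarTower R T M' := by
    constructor
    intro r t m'
    rw [hT_smul, hR_smul, hT_smul, Algebra.smul_def, map_mul, mul_smul]
    congr 1
    rw [Algebra.TensorProduct.algebraMap_apply, Algebra.algebraMap_self_apply, hφ'tmul, map_one,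
      mul_one]
  let pl : M →ₗ[R] M' := { p with map_smul' := fun r m => hp r m }
  let Θ : T ⊗[R] M →ₗ[T] M' := LinearMap.liftBaseChange T pl
  let κ : T ⊗[R] M ≃+ B₀ ⊗[A₀] M :=
    (TensorProduct.comm R T M).toAddEquiv.trans
      ((AlgebraTensorModule.cancelBaseChange A₀ R R M B₀).toAddEquiv.trans
        (TensorProduct.comm A₀ M B₀).toAddEquiv)
  have hΘ : ∀ x : T ⊗[R] M, Θ x = c (κ x) := by
    intro x
    induction x using TensorProduct.induction_on with
    | zero => simp
    | tmul t m =>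
      induction t using TensorProduct.induction_on with
      | zero => simp
      | tmul r b =>
        have h1 : Θ ((r ⊗ₜ[A₀] b) ⊗ₜ[R] m) = (r ⊗ₜ[A₀] b : T) • pl m :=
          LinearMap.liftBaseChange_tmul T pl (r ⊗ₜ[A₀] b) m
        have h2 : κ ((r ⊗ₜ[A₀] b) ⊗ₜ[R] m) = b ⊗ₜ[A₀] (r • m) := by
          change (TensorProduct.comm A₀ M B₀)
            ((AlgebraTensorModule.cancelBaseChange A₀ R R M B₀)
              ((TensorProduct.comm R T M) ((r ⊗ₜ[A₀] b) ⊗ₜ[R] m))) = _
          rw [TensorProduct.comm_tmul, AlgebraTensorModule.cancelBaseChange_tmul,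
            TensorProduct.comm_tmul]
        rw [h1, h2, hc, hp, hT_smul, hφ'tmul, mul_comm, mul_smul]
        rfl
      | add x y hx hy =>
        rw [TensorProduct.add_tmul, map_add, map_add, map_add, hx, hy]
    | add x y hx hy => rw [map_add, map_add, map_add, hx, hy]
  have hΘb : Function.Bijective Θ := by
    have : (Θ : T ⊗[R] M → M') = c ∘ κ := funext hΘ
    rw [this]
    exact hcb.comp κ.bijective
  let e₁ : T ⊗[R] M ≃ₗ[T] M' := LinearEquiv.ofBijective Θ hΘb
  have hspan : Function.Bijective (LinearMap.toSpanSingleton T M' e) := by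
    have : (LinearMap.toSpanSingleton T M' e : T → M') = (fun r' : R' => r' • e) ∘ φ' := by
      funext t
      rfl
    rw [this]
    exact he.comp hφ'b
  let e₂ : T ≃ₗ[T] M' := LinearEquiv.ofBijective (LinearMap.toSpanSingleton T M' e) hspan
  obtain ⟨s, hs⟩ := exists_generator T M (e₁.trans e₂.symm)
  have hgen : ∀ m' : M', ∃ r' : R', m' = r' • p s := by
    intro m'
    obtain ⟨x, rfl⟩ := hcb.2 m'
    induction x using TensorProduct.induction_on with
    | zero => exact ⟨0, by rw [map_zero, zero_smul]⟩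
    | tmul b m =>
      obtain ⟨r, rfl⟩ := hs m
      exact ⟨β b * ψ r, by rw [hc, hp, mul_smul]⟩
    | add x y hx hy =>
      obtain ⟨r₁, h₁⟩ := hx
      obtain ⟨r₂, h₂⟩ := hy
      exact ⟨r₁ + r₂, by rw [map_add, h₁, h₂, add_smul]⟩
  obtain ⟨v, hv⟩ := hgen e
  obtain ⟨u₀, hu₀⟩ := he.2 (p s)
  have hu₀' : u₀ • e = p s := hu₀
  have h1 : (v * u₀) • e = (1 : R') • e := by
    rw [mul_smul, hu₀', ← hv, one_smul]
  have h2 : v * u₀ = 1 := he.1 h1
  exact ⟨s, Units.mkOfMulEqOne u₀ v (by rw [mul_comm]; exact h2), hu₀'.symm⟩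

end

end Groth.Agent.H54.SemilocalDescent
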