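import Groth.Agent.H71.PushBC.Final
import Groth.Agent.H5.PullbackUnit
import Groth.Agent.H54.SemilocalDescent2
import Groth.Agent.H54.BasisDescent
import Groth.Agent.H18.STL.QuasiAffine
import Groth.Agent.H44.PushUnit

/-!
helper54: injectivity of `Pic(X) → Pic(X')` for a faithfully flat affine base change when
`H⁰(X, O_X)` is semilocal.
-/

set_option autoImplicit false
set_option linter.style.haveILetI false
universe u
open CategoryTheory AlgebraicGeometry Scheme.Modules Opposite TopologicalSpace TensorProduct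

namespace Groth.Agent.H54.PicFlatDescent

open Groth.Agent.H44 Groth.Agent.H71.PushBC Groth.Agent.H18 Groth.Agent.H18.PUP
  Groth.Agent.H18.STL

section Unit
variable {X Y : Scheme.{u}} (f : X ⟶ Y)

theorem pullbackUnitIso_pullSect (V : Y.Opens) (r : Γ(Y, V)) :
    (Groth.Agent.H5.PullbackUnit.pullbackUnitIso f).hom.app (f ⁻¹ᵁ V)
      (OmegaSh.pullSect f (Coh.structureModule Y) V r) = (f.app V).hom r := by
  have h := SheafOfModules.pullbackPushforwardAdjunction_homEquiv_pullbackObjUnitToUnit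
    f.toRingCatSheafHom
  rw [Adjunction.homEquiv_unit] at h
  exact congrArg (fun φ : Coh.structureModule Y ⟶
    (Scheme.Modules.pushforward f).obj (Coh.structureModule X) => Scheme.Modules.Hom.app φ V r) h

theorem pullbackUnitIso_pullSectLE (V : Y.Opens) (W' : X.Opens) (le : W' ≤ f ⁻¹ᵁ V)
    (r : Γ(Y, V)) :
    (Groth.Agent.H5.PullbackUnit.pullbackUnitIso f).hom.app W'
      (pullSectLE f (Coh.structureModule Y) V W' le r) = (f.appLE V W' le).hom r := by
  unfold pullSectLE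
  rw [hom_app_resLE, pullbackUnitIso_pullSect]
  rw [Scheme.Hom.appLE]
  rfl

end Unit


section Main
variable {X S X' S' : Scheme.{u}} {f : X ⟶ S} {g : S' ⟶ S} {g' : X' ⟶ X} {f' : X' ⟶ S'}

theorem isBasisOn_of_eq {M : X.Modules} {W W' : X.Opens} (hle : W' ≤ W) (hge : W ≤ W')
    (t : Γ(M, W)) (ht : IsBasisOn M W' (mres M hle t)) : IsBasisOn M W t :=
  Groth.Agent.H67.BasisLocal.isBasisOn_of_locally t (fun _ hx => ⟨W', hle, hge hx, ht⟩)

set_option maxHeartbeats 1600000 in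
theorem trivial_of_pullback_trivial (h : IsPullback g' f' f g) [IsAffine S] [IsAffine S']
    [CompactSpace X] [QuasiSeparatedSpace X]
    (e₁ : (⊤ : S'.Opens) ≤ g ⁻¹ᵁ (⊤ : S.Opens))
    (hff : (g.appLE ⊤ ⊤ e₁).hom.FaithfullyFlat)
    (hg' : Function.Surjective g')
    (hsl : Finite (MaximalSpectrum Γ(X, ⊤))) (L : X.Modules) (hL : PicF.IsInvertible L)
    (htriv : Nonempty ((Scheme.Modules.pullback g').obj L ≅ Coh.structureModule X')) :
    Nonempty (L ≅ Coh.structureModule X) := by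
  obtain ⟨φ⟩ := htriv
  haveI : L.IsQuasicoherent := isQuasicoherent_of_isInvertible hL
  haveI : (Coh.structureModule X).IsQuasicoherent := Groth.Agent.H44.isQuasicoherent_structureModule
  have hW : (⊤ : X.Opens) ≤ f ⁻¹ᵁ (⊤ : S.Opens) := fun _ _ => trivial
  have hWle : g' ⁻¹ᵁ (⊤ : X.Opens) ⊓ f' ⁻¹ᵁ (⊤ : S'.Opens) ≤ g' ⁻¹ᵁ (⊤ : X.Opens) := inf_le_left
  have hWge : g' ⁻¹ᵁ (⊤ : X.Opens) ≤ g' ⁻¹ᵁ (⊤ : X.Opens) ⊓ f' ⁻¹ᵁ (⊤ : S'.Opens) :=
    fun _ _ => ⟨trivial, trivial⟩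
  letI algAB' : Algebra Γ(S, ⊤) Γ(S', ⊤) := algAB (g := g) e₁
  haveI : Module.FaithfullyFlat Γ(S, ⊤) Γ(S', ⊤) := hff
  letI algAR : Algebra Γ(S, ⊤) Γ(X, ⊤) := (f.appLE ⊤ ⊤ hW).hom.toAlgebra
  letI modL : Module Γ(S, ⊤) Γ(L, (⊤ : X.Opens)) := modW (f := f) L ⊤ hW
  haveI : IsScalarTower Γ(S, ⊤) Γ(X, ⊤) Γ(L, (⊤ : X.Opens)) :=
    IsScalarTower.of_algebraMap_smul (fun _ _ => rfl)
  have hfl : (g.appLE ⊤ ⊤ e₁).hom.Flat := hff.flat
  have hqs : IsQuasiSeparated ((f ⁻¹ᵁ (⊤ : S.Opens) : X.Opens) : Set X) :=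
    IsQuasiSeparated.of_quasiSeparatedSpace _
  have hcpt : IsCompact ((⊤ : X.Opens) : Set X) := isCompact_univ
  have hcL := cmap_bijective_of_isCompact L e₁ h (isAffineOpen_top S) (isAffineOpen_top S') hfl hqs
    ⊤ hW hcpt
  have hcO := cmap_bijective_of_isCompact (Coh.structureModule X) e₁ h (isAffineOpen_top S)
    (isAffineOpen_top S') hfl hqs ⊤ hW hcpt
  -- the basis of the pullback
  obtain ⟨e, he⟩ := Groth.Agent.H54.BasisDescent.exists_isBasisOn_top_of_iso φ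
  set W' : X'.Opens := g' ⁻¹ᵁ (⊤ : X.Opens) ⊓ f' ⁻¹ᵁ (⊤ : S'.Opens) with hW'_def
  have he' : IsBasisOn ((Scheme.Modules.pullback g').obj L) W'
      (mres _ (le_top : W' ≤ ⊤) e) := he.mono _
  have hebij : Function.Bijective
      (fun r' : Γ(X', W') => r' • mres ((Scheme.Modules.pullback g').obj L) (le_top : W' ≤ ⊤) e) := by
    have := he' W' le_rfl
    simpa only [mres_self] using this
  let ψ : Γ(X, ⊤) →+* Γ(X', W') := (g'.appLE ⊤ W' hWle).hom
  let β : Γ(S', ⊤) →+* Γ(X', W') := (f'.appLE ⊤ W' inf_le_right).hom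
  let p : Γ(L, (⊤ : X.Opens)) →+ Γ((Scheme.Modules.pullback g').obj L, W') :=
    { toFun := pullSectLE g' L ⊤ W' hWle
      map_zero' := pullSectLE_zero' g' L ⊤ W' hWle
      map_add' := pullSectLE_add' g' L ⊤ W' hWle }
  let cO : Γ(S', ⊤) ⊗[Γ(S, ⊤)] Γ(X, ⊤) →+ Γ(X', W') :=
    (((Groth.Agent.H5.PullbackUnit.pullbackUnitIso g').hom.app W').hom).comp
      (cmap h.w (Coh.structureModule X) e₁ ⊤ hW)
  have hres := Groth.Agent.H54.SemilocalDescent.exists_section_unit ψ β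
    (fun a => (appLE_square h.w e₁ ⊤ hW a).symm) p
    (fun r m => pullSectLE_smul g' L ⊤ W' hWle r m)
    (cmap h.w L e₁ ⊤ hW) hcL (fun b m => cmap_tmul h.w L e₁ ⊤ hW b m)
    cO ?_ ?_ (mres ((Scheme.Modules.pullback g').obj L) (le_top : W' ≤ ⊤) e) hebij
  · obtain ⟨s, u, hsu⟩ := hres
    have hsu' : pullSectLE g' L ⊤ W' hWle s =
        (u : Γ(X', W')) • mres ((Scheme.Modules.pullback g').obj L) (le_top : W' ≤ ⊤) e := hsu
    have hb1 : IsBasisOn ((Scheme.Modules.pullback g').obj L) W' (pullSectLE g' L ⊤ W' hWle s) := by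
      rw [hsu']
      exact Groth.Agent.H67.BasisLocal.isBasisOn_smul_of_isUnit he' _ u.isUnit
    have hb2 : IsBasisOn ((Scheme.Modules.pullback g').obj L) (g' ⁻¹ᵁ ⊤)
        (OmegaSh.pullSect g' L ⊤ s) := isBasisOn_of_eq hWle hWge _ hb1
    exact Groth.Agent.H54.BasisDescent.nonempty_iso_of_isBasisOn_top
      (Groth.Agent.H54.BasisDescent.isBasisOn_of_pullSect g' hg' hL s hb2)
  · -- bijectivity of cO
    haveI : IsIso ((Groth.Agent.H5.PullbackUnit.pullbackUnitIso g').hom.app W') :=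
      (Scheme.Modules.Hom.isIso_iff_isIso_app
        (φ := (Groth.Agent.H5.PullbackUnit.pullbackUnitIso g').hom)).1 inferInstance W'
    have hb := ConcreteCategory.bijective_of_isIso
      ((Groth.Agent.H5.PullbackUnit.pullbackUnitIso g').hom.app W')
    exact hb.comp hcO
  · intro b r
    have h2 := cmap_tmul h.w (Coh.structureModule X) e₁ ⊤ hW b r
    refine (congrArg ((Groth.Agent.H5.PullbackUnit.pullbackUnitIso g').hom.app W') h2).trans ?_
    rw [Scheme.Modules.Hom.app_smul, pullbackUnitIso_pullSectLE]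
    rfl

end Main

end Groth.Agent.H54.PicFlatDescent
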