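import Mathlib
import Groth.Agent.H54.PullGlue

/-!
# Descent of an invertible module along a morphism, for a cover with an arbitrary index type
(helper54)
-/

set_option autoImplicit false
universe u
open CategoryTheory CategoryTheory.Limits AlgebraicGeometry TopologicalSpace Opposite

namespace Groth.Agent.H54.PullGlueGen

open Groth.Agent.H18 Groth.Agent.H18.PUP Groth.Agent.H18.STL Groth.Agent.H54.DiscGlue
  Groth.Agent.H54.PullGlue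

variable {X Y : Scheme.{u}} (f : X ⟶ Y)

/-- **Descent for a cover whose members meet pairwise inside `U`.**  `e₀` is a section of `L`
over `f ⁻¹ᵁ U`; `e y` is a basis of `L` over `f ⁻¹ᵁ O y` which over `f ⁻¹ᵁ (O y ⊓ U)` is the
multiple of `e₀` by the image of a unit `γ y` of `Y`; the `O y` cover `Y` and meet pairwise
inside `U`. -/
theorem exists_pullback_iso_of_family (L : X.Modules) (U : Y.Opens) (e₀ : Γ(L, f ⁻¹ᵁ U))
    {ι : Type u} (O : ι → Y.Opens) (hcov : iSup O = ⊤) (hOU : ∀ y z, y ≠ z → O y ⊓ O z ≤ U)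
    (e : ∀ y, Γ(L, f ⁻¹ᵁ O y)) (he : ∀ y, IsBasisOn L (f ⁻¹ᵁ O y) (e y))
    (γ : ∀ y, (Γ(Y, O y ⊓ U))ˣ)
    (hγ : ∀ y, mres L (f.preimage_mono inf_le_left : f ⁻¹ᵁ (O y ⊓ U) ≤ f ⁻¹ᵁ O y) (e y) =
      (f.app (O y ⊓ U)).hom (γ y : Γ(Y, O y ⊓ U)) •
        mres L (f.preimage_mono inf_le_right : f ⁻¹ᵁ (O y ⊓ U) ≤ f ⁻¹ᵁ U) e₀) :
    ∃ N : Y.Modules, PicF.IsInvertible N ∧
      Nonempty ((Scheme.Modules.pullback f).obj N ≅ L) := by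
  obtain ⟨ζ, hζdef⟩ : ∃ ζ : ∀ y z, (Γ(Y, (O y ⊓ U) ⊓ (O z ⊓ U)))ˣ,
      ∀ y z, ζ y z = umap inf_le_left (γ y) * (umap inf_le_right (γ z))⁻¹ := ⟨_, fun _ _ => rfl⟩
  have hζ1 : ∀ y, ζ y y = 1 := by
    intro y
    rw [hζdef]
    exact mul_inv_cancel _
  have hζc : ∀ i j k,
      rres Y (inf_le_inf_right (O k ⊓ U) inf_le_left :
          (O i ⊓ U) ⊓ (O j ⊓ U) ⊓ (O k ⊓ U) ≤ (O i ⊓ U) ⊓ (O k ⊓ U))
          (ζ i k : Γ(Y, (O i ⊓ U) ⊓ (O k ⊓ U))) =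
        rres Y (inf_le_left : (O i ⊓ U) ⊓ (O j ⊓ U) ⊓ (O k ⊓ U) ≤ (O i ⊓ U) ⊓ (O j ⊓ U))
            (ζ i j : Γ(Y, (O i ⊓ U) ⊓ (O j ⊓ U))) *
          rres Y (inf_le_inf_right (O k ⊓ U) inf_le_right :
            (O i ⊓ U) ⊓ (O j ⊓ U) ⊓ (O k ⊓ U) ≤ (O j ⊓ U) ⊓ (O k ⊓ U))
            (ζ j k : Γ(Y, (O j ⊓ U) ⊓ (O k ⊓ U))) := by
    intro i j k
    have key : ∀ a b c : (Γ(Y, (O i ⊓ U) ⊓ (O j ⊓ U) ⊓ (O k ⊓ U)))ˣ,
        a * c⁻¹ = a * b⁻¹ * (b * c⁻¹) := by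
      intro a b c
      group
    have h : umap (inf_le_inf_right (O k ⊓ U) inf_le_left :
          (O i ⊓ U) ⊓ (O j ⊓ U) ⊓ (O k ⊓ U) ≤ (O i ⊓ U) ⊓ (O k ⊓ U)) (ζ i k) =
        umap (inf_le_left : (O i ⊓ U) ⊓ (O j ⊓ U) ⊓ (O k ⊓ U) ≤ (O i ⊓ U) ⊓ (O j ⊓ U)) (ζ i j) *
          umap (inf_le_inf_right (O k ⊓ U) inf_le_right :
            (O i ⊓ U) ⊓ (O j ⊓ U) ⊓ (O k ⊓ U) ≤ (O j ⊓ U) ⊓ (O k ⊓ U)) (ζ j k) := by
      rw [hζdef, hζdef, hζdef]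
      simp only [map_mul, map_inv, umap_umap]
      exact key _ _ _
    have h' := congrArg Units.val h
    rw [Units.val_mul] at h'
    exact h'
  refine exists_pullback_iso_of_cocycle f L O hcov e he (ext U O hOU ζ)
    (ext_cocycle U O hOU ζ hζ1 hζc) (fun y z => ?_)
  by_cases h : y = z
  · subst h
    rw [ext_self]
    simp only [Units.val_one, map_one, one_smul]
  · have hT : O y ⊓ O z ≤ U := hOU y z h
    have hTy : O y ⊓ O z ≤ O y ⊓ U := le_inf inf_le_left hT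
    have hTz : O y ⊓ O z ≤ O z ⊓ U := le_inf inf_le_right hT
    obtain ⟨A, hA⟩ : ∃ A : (Γ(X, f ⁻¹ᵁ (O y ⊓ O z)))ˣ,
        A = umap (f.preimage_mono hTy) (fu f (O y ⊓ U) (γ y)) := ⟨_, rfl⟩
    obtain ⟨B, hB⟩ : ∃ B : (Γ(X, f ⁻¹ᵁ (O y ⊓ O z)))ˣ,
        B = umap (f.preimage_mono hTz) (fu f (O z ⊓ U) (γ z)) := ⟨_, rfl⟩
    have h1 : mres L (f.preimage_mono inf_le_left : f ⁻¹ᵁ (O y ⊓ O z) ≤ f ⁻¹ᵁ O y) (e y) =
        (A : Γ(X, f ⁻¹ᵁ (O y ⊓ O z))) • mres L (f.preimage_mono hT) e₀ := by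
      have := congrArg (mres L (f.preimage_mono hTy)) (hγ y)
      rw [mres_smul, mres_mres, mres_mres] at this
      rw [hA]
      exact this
    have h2 : mres L (f.preimage_mono inf_le_right : f ⁻¹ᵁ (O y ⊓ O z) ≤ f ⁻¹ᵁ O z) (e z) =
        (B : Γ(X, f ⁻¹ᵁ (O y ⊓ O z))) • mres L (f.preimage_mono hT) e₀ := by
      have := congrArg (mres L (f.preimage_mono hTz)) (hγ z)
      rw [mres_smul, mres_mres, mres_mres] at this
      rw [hB]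
      exact this
    have h3 : fu f (O y ⊓ O z) (ext U O hOU ζ y z) = A * B⁻¹ := by
      have hext : ext U O hOU ζ y z = umap (le_of_ne U O hOU h) (ζ y z) := by
        rw [ext, dif_neg h]
        rfl
      rw [hext, hζdef, hA, hB]
      simp only [map_mul, map_inv, umap_umap, fu_umap]
    rw [h1, h2, ← fu_val, h3, ← mul_smul, Units.val_mul, mul_assoc, Units.inv_mul, mul_one]

end Groth.Agent.H54.PullGlueGen
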