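import Mathlib
import Groth.Agent.H54.PullGlueGen
import Groth.Agent.H54.DisjGlue
import Groth.Agent.H54.OneDimTop
import Groth.Agent.H54.ConnComp
import Groth.Agent.H54.DiscLocal
import Groth.Agent.H54.ThickPic
import Groth.Agent.H54.FiniteOneDim

/-!
# Lifting invertible modules from a closed subscheme of dimension at most one (helper54)

`i : X₀ ⟶ X` a closed immersion into a Noetherian scheme, `dim X₀ ≤ 1`, and every nonempty
connected closed subset of `X` meets `X₀` in a nonempty connected set.  Then every invertible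
module on `X₀` is the pullback of an invertible module on `X`.
-/

set_option autoImplicit false
universe u
open CategoryTheory CategoryTheory.Limits AlgebraicGeometry TopologicalSpace Opposite

namespace Groth.Agent.H54.PicLift

open Groth.Agent.H18 Groth.Agent.H18.PUP Groth.Agent.H18.STL Groth.Agent.H54.DiscGlue
  Groth.Agent.H54.PullGlue Groth.Agent.H54.OneDimTop Groth.Agent.H54.FiniteOneDim

attribute [local instance] specializationOrder in
theorem topologicalKrullDim_eq_krullDim (X : Scheme.{u}) :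
    topologicalKrullDim X = @Order.krullDim X (specializationPreorder X) :=
  Order.krullDim_eq_of_orderIso (irreducibleSetEquivPoints (α := X))

theorem ringKrullDim_stalk_le (X : Scheme.{u}) (x : X) :
    ringKrullDim (X.presheaf.stalk x) ≤ topologicalKrullDim X := by
  rw [topologicalKrullDim_eq_krullDim]
  change _ ≤ Order.krullDim X
  rw [Order.krullDim_eq_iSup_coheight, ringKrullDim_stalk_eq_coheight]
  exact le_iSup (fun x : X => (Order.coheight x : WithBot ℕ∞)) x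

variable {X X₀ : Scheme.{u}} (i : X₀ ⟶ X)

/-- the connectivity hypothesis -/
def ConnHyp : Prop := ∀ Y : Set X, IsClosed Y → Y.Nonempty → _root_.IsConnected Y →
  (Y ∩ Set.range i.base).Nonempty ∧ _root_.IsConnected (Y ∩ Set.range i.base)

variable {i}

theorem inter_range_nonempty (hb : ConnHyp i) {F : Set X} (hF : IsClosed F) (hne : F.Nonempty) :
    (F ∩ Set.range i.base).Nonempty := by
  obtain ⟨x, hx⟩ := hne
  have hK := ConnComp.isClosed_connectedComponentIn hF hx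
  have hconn := isConnected_connectedComponentIn_iff.mpr hx
  obtain ⟨y, hy, hyr⟩ := (hb _ hK hconn.nonempty hconn).1
  exact ⟨y, connectedComponentIn_subset F x hy, hyr⟩

/-- a dense open over which an invertible module has a basis -/
theorem exists_dense_basis_self [NoetherianSpace X₀] (M : X₀.Modules) (hM : PicF.IsInvertible M) :
    ∃ (U₀ : X₀.Opens) (e₀ : Γ(M, U₀)), (∀ η ∈ genericPoints X₀, η ∈ U₀) ∧ IsBasisOn M U₀ e₀ := by
  choose W e hW he using fun η : genericPoints X₀ => exists_basis_of_isInvertible hM η.1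
  let A : genericPoints X₀ → X₀.Opens := fun η => W η ⊓ genOpen X₀ η.1
  have hA : ∀ η η' : genericPoints X₀, η ≠ η' → A η ⊓ A η' = ⊥ := by
    intro η η' h
    have h1 : A η ⊓ A η' ≤ genOpen X₀ η.1 ⊓ genOpen X₀ η'.1 :=
      inf_le_inf inf_le_right inf_le_right
    rw [genOpen_disjoint (fun h' => h (Subtype.ext h'))] at h1
    exact le_bot_iff.mp h1
  obtain ⟨s, hs, -⟩ := DisjGlue.exists_glue_basis A hA M
    (fun η => mres M (inf_le_left : A η ≤ W η) (e η)) (fun η => (he η).mono _)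
  refine ⟨⨆ η, A η, s, ?_, hs⟩
  intro η hη
  exact Opens.mem_iSup.mpr ⟨⟨η, hη⟩, hW ⟨η, hη⟩, mem_genNhd hη⟩

/-- the local lifting near a point outside `U₀` -/
theorem exists_local_lift [IsNoetherian X] [IsClosedImmersion i]
    (hdim : topologicalKrullDim X₀ ≤ 1) (hb : ConnHyp i) (M : X₀.Modules)
    (hM : PicF.IsInvertible M) (U₀ : X₀.Opens) (hgen : ∀ η ∈ genericPoints X₀, η ∈ U₀)
    (e₀ : Γ(M, U₀)) (he₀ : IsBasisOn M U₀ e₀) (t : X₀) (ht : t ∉ U₀) :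
    ∃ (W' : X.Opens) (K : Set X) (G : X.Opens) (hGW : G ≤ W') (hGU : i ⁻¹ᵁ G ≤ U₀)
      (g : (Γ(X, G))ˣ) (e : Γ(M, i ⁻¹ᵁ W')),
      i t ∈ W' ∧ IsClosed K ∧ i t ∈ K ∧ (∀ x₀ : X₀, i x₀ ∈ K → x₀ = t) ∧
      (∀ x ∈ W', x ∉ K → x ∈ G) ∧ IsBasisOn M (i ⁻¹ᵁ W') e ∧
      mres M hGU e₀ = (i.app G).hom (g : Γ(X, G)) • mres M (i.preimage_mono hGW) e := by
  classical
  haveI : IsLocallyNoetherian X₀ := LocallyOfFiniteType.isLocallyNoetherian i
  haveI : NoetherianSpace X₀ := i.isClosedEmbedding.isInducing.noetherianSpace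
  -- the complement of `U₀` is a finite set of closed points
  obtain ⟨hTfin, hTcl⟩ := finite_diff_of_generic_mem hdim (isOpen_univ (X := X₀)) U₀.2
    (fun η hη _ => hgen η hη)
  have htcl : IsClosed ({t} : Set X₀) := hTcl t ⟨trivial, ht⟩
  have hfin : ((U₀ : Set X₀)ᶜ).Finite := by
    rw [Set.compl_eq_univ_sdiff]
    exact hTfin
  haveI : Finite ↥((U₀ : Set X₀)ᶜ) := hfin.to_subtype
  haveI : T1Space ↥((U₀ : Set X₀)ᶜ) := ⟨fun y => by
    have h1 : ({y} : Set ↥((U₀ : Set X₀)ᶜ)) = Subtype.val ⁻¹' ({y.1} : Set X₀) := by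
      ext z
      simp [Subtype.ext_iff]
    rw [h1]
    exact (hTcl y.1 ⟨trivial, y.2⟩).preimage continuous_subtype_val⟩
  have hdisc : DiscreteTopology ↥((U₀ : Set X₀)ᶜ) := inferInstance
  have hdimt : ringKrullDim (X₀.presheaf.stalk t) ≤ 1 := (ringKrullDim_stalk_le X₀ t).trans hdim
  obtain ⟨O, s, hOaff, htO, hOt, hs⟩ := DiscLocal.exists_affine_nhd_basicOpen U₀ hdisc ht hdimt
  obtain ⟨P, et, htP, het⟩ := exists_basis_of_isInvertible hM t
  -- an affine open of `X` around `i t` whose preimage lies in `O ⊓ P`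
  obtain ⟨Q', hQ'open, hQ'⟩ := i.isClosedEmbedding.isInducing.isOpen_iff.mp (O ⊓ P).2
  have hitQ : i t ∈ (⟨Q', hQ'open⟩ : X.Opens) := by
    have : t ∈ i ⁻¹' Q' := by
      rw [hQ']
      exact ⟨htO, htP⟩
    exact this
  obtain ⟨W, hWaff, hitW, hWQ⟩ := exists_isAffineOpen_mem_and_subset hitQ
  have hW₀ : i ⁻¹ᵁ W ≤ O ⊓ P := by
    intro x hx
    have : x ∈ i ⁻¹' Q' := hWQ hx
    rw [hQ'] at this
    exact this
  have hW₀O : i ⁻¹ᵁ W ≤ O := hW₀.trans inf_le_left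
  have hW₀P : i ⁻¹ᵁ W ≤ P := hW₀.trans inf_le_right
  -- the local equation and its lift
  obtain ⟨h, hh⟩ := i.app_surjective W hWaff (rres X₀ hW₀O s)
  have hDaff : IsAffineOpen (X.basicOpen h) := hWaff.basicOpen h
  have hDW : X.basicOpen h ≤ W := X.basicOpen_le h
  have hD₀ : i ⁻¹ᵁ X.basicOpen h = i ⁻¹ᵁ W ⊓ U₀ := by
    rw [Scheme.preimage_basicOpen]
    have h1 : (i.app W).hom h = rres X₀ hW₀O s := hh
    rw [h1, Scheme.basicOpen_res, hs, ← inf_assoc, inf_eq_left.mpr hW₀O]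
  have hD₀U : i ⁻¹ᵁ X.basicOpen h ≤ U₀ := hD₀.le.trans inf_le_right
  have hD₀P : i ⁻¹ᵁ X.basicOpen h ≤ P := (hD₀.le.trans inf_le_left).trans hW₀P
  obtain ⟨g₀, hg₀⟩ := ThickPic.exists_unit_of_bases (he₀.mono hD₀U) (het.mono hD₀P)
  obtain ⟨a, ha⟩ := i.app_surjective (X.basicOpen h) hDaff
    (g₀ : Γ(X₀, i ⁻¹ᵁ X.basicOpen h))
  have hU'D : X.basicOpen a ≤ X.basicOpen h := X.basicOpen_le a
  have hua : IsUnit (rres X hU'D a) := RingedSpace.isUnit_res_basicOpen X.toRingedSpace a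
  have hU'₀ : i ⁻¹ᵁ X.basicOpen a = i ⁻¹ᵁ X.basicOpen h := by
    rw [Scheme.preimage_basicOpen]
    have h1 : (i.app (X.basicOpen h)).hom a = g₀ := ha
    rw [h1]
    exact Scheme.basicOpen_of_isUnit X₀ g₀.isUnit
  -- the closed locus
  obtain ⟨Z, hZdef⟩ : ∃ Z : Set X, Z = (W : Set X) \ (X.basicOpen a : Set X) := ⟨_, rfl⟩
  have hZrange : ∀ x₀ : X₀, i x₀ ∈ Z → x₀ = t := by
    intro x₀ hx₀
    rw [hZdef] at hx₀
    obtain ⟨hxW, hxU'⟩ := hx₀
    have h1 : x₀ ∈ i ⁻¹ᵁ W := hxW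
    have h2 : x₀ ∉ U₀ := by
      intro hU
      apply hxU'
      have h3 : x₀ ∈ i ⁻¹ᵁ X.basicOpen a := by
        rw [hU'₀, hD₀]
        exact ⟨h1, hU⟩
      exact h3
    exact hOt x₀ (hW₀O h1) h2
  have htZ : i t ∈ Z := by
    rw [hZdef]
    refine ⟨hitW, fun hU' => ht ?_⟩
    have h3 : t ∈ i ⁻¹ᵁ X.basicOpen a := hU'
    rw [hU'₀, hD₀] at h3
    exact h3.2
  have hCW : ∀ x, x ∈ closure Z → x ∈ W → x ∈ Z := by
    intro x hxC hxW
    rw [hZdef]
    refine ⟨hxW, fun hxU' => ?_⟩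
    have h1 : closure Z ⊆ (X.basicOpen a : Set X)ᶜ := by
      refine closure_minimal ?_ (X.basicOpen a).2.isClosed_compl
      rw [hZdef]
      exact fun y hy => hy.2
    exact h1 hxC hxU'
  obtain ⟨K, htK, hKC, hKcl, hKconn, hRcl⟩ :=
    ConnComp.exists_clopen_component (isClosed_closure (s := Z)) (subset_closure htZ)
  have hitcl : IsClosed ({i t} : Set X) := by
    have h1 := i.isClosedEmbedding.isClosedMap _ htcl
    rwa [Set.image_singleton] at h1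
  have hS := (hb K hKcl ⟨i t, htK⟩ hKconn).2
  have hKrange : K ∩ Set.range i.base ⊆ {i t} :=
    ConnComp.subset_singleton_of_isPreconnected hS.isPreconnected W.2 hitcl ⟨htK, t, rfl⟩ hitW
      (by
        rintro y ⟨hyK, x₀, rfl⟩ hyW
        have h1 : i x₀ ∈ Z := hCW _ (hKC hyK) hyW
        rw [hZrange x₀ h1])
  have hKr : ∀ x₀ : X₀, i x₀ ∈ K → x₀ = t := by
    intro x₀ hx₀
    have h1 : i x₀ = i t := hKrange ⟨hx₀, x₀, rfl⟩
    exact i.isClosedEmbedding.injective h1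
  -- the shrunken neighbourhood
  obtain ⟨W', hW'def⟩ : ∃ W' : X.Opens, W' = W ⊓ ⟨(closure Z \ K)ᶜ, hRcl.isOpen_compl⟩ :=
    ⟨_, rfl⟩
  have hW'W : W' ≤ W := by
    rw [hW'def]
    exact inf_le_left
  have hitW' : i t ∈ W' := by
    rw [hW'def]
    exact ⟨hitW, fun h => h.2 htK⟩
  have hWG : ∀ x ∈ W', x ∉ K → x ∈ X.basicOpen a ⊓ W' := by
    intro x hxW' hxK
    refine ⟨?_, hxW'⟩
    have hxW : x ∈ W := hW'W hxW'
    have hxR : x ∉ closure Z \ K := by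
      rw [hW'def] at hxW'
      exact hxW'.2
    have hxC : x ∉ closure Z := fun hC => hxR ⟨hC, hxK⟩
    by_contra hxU'
    apply hxC
    apply subset_closure
    rw [hZdef]
    exact ⟨hxW, hxU'⟩
  have hGU : i ⁻¹ᵁ (X.basicOpen a ⊓ W') ≤ U₀ :=
    (i.preimage_mono inf_le_left).trans ((le_of_eq hU'₀).trans hD₀U)
  have hW'P : i ⁻¹ᵁ W' ≤ P := (i.preimage_mono hW'W).trans hW₀P
  refine ⟨W', K, X.basicOpen a ⊓ W', inf_le_right, hGU, umap inf_le_left hua.unit,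
    mres M hW'P et, hitW', hKcl, htK, hKr, hWG, het.mono _, ?_⟩
  -- the relation
  have hle : i ⁻¹ᵁ (X.basicOpen a ⊓ W') ≤ i ⁻¹ᵁ X.basicOpen h :=
    (i.preimage_mono inf_le_left).trans (le_of_eq hU'₀)
  have h1 := congrArg (mres M hle) hg₀
  rw [mres_smul, mres_mres, mres_mres] at h1
  rw [mres_mres, h1]
  congr 1
  rw [umap_val]
  have h2 : ((hua.unit : (Γ(X, X.basicOpen a))ˣ) : Γ(X, X.basicOpen a)) = rres X hU'D a :=
    hua.unit_spec
  rw [h2, rres_rres, app_rres, ha]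

/-- **Main theorem.** -/
theorem exists_invertible_lift [IsNoetherian X] [IsClosedImmersion i]
    (hdim : topologicalKrullDim X₀ ≤ 1) (hb : ConnHyp i) (M : X₀.Modules)
    (hM : PicF.IsInvertible M) :
    ∃ N : X.Modules, PicF.IsInvertible N ∧
      Nonempty ((Scheme.Modules.pullback i).obj N ≅ M) := by
  classical
  haveI : NoetherianSpace X₀ := i.isClosedEmbedding.isInducing.noetherianSpace
  obtain ⟨U₀, e₀, hgen, he₀⟩ := exists_dense_basis_self M hM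
  obtain ⟨hTfin, -⟩ := finite_diff_of_generic_mem hdim (isOpen_univ (X := X₀)) U₀.2
    (fun η hη _ => hgen η hη)
  have hfin : ((U₀ : Set X₀)ᶜ).Finite := by
    rw [Set.compl_eq_univ_sdiff]
    exact hTfin
  haveI : Finite ↥((U₀ : Set X₀)ᶜ) := hfin.to_subtype
  choose W' K G hGW hGU g e hitW' hKcl hitK hKr hWG he hrel using
    fun t : ↥((U₀ : Set X₀)ᶜ) => exists_local_lift hdim hb M hM U₀ hgen e₀ he₀ t.1 t.2
  -- the open `U`
  have hKUcl : IsClosed (⋃ t, K t) := isClosed_iUnion_of_finite hKcl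
  obtain ⟨U, hUdef⟩ : ∃ U : X.Opens, U = ⟨(⋃ t, K t)ᶜ, hKUcl.isOpen_compl⟩ := ⟨_, rfl⟩
  have hmemU : ∀ x, x ∈ U ↔ ∀ t, x ∉ K t := by
    intro x
    rw [hUdef]
    change x ∈ (⋃ t, K t)ᶜ ↔ _
    simp
  have hU₀ : i ⁻¹ᵁ U ≤ U₀ := by
    intro x₀ hx₀
    by_contra hx
    exact (hmemU _).mp hx₀ ⟨x₀, hx⟩ (hitK ⟨x₀, hx⟩)
  have hU₀' : ∀ x₀ ∈ U₀, i x₀ ∈ U := by
    intro x₀ hx₀
    rw [hmemU]
    intro t htK
    have := hKr t x₀ htK
    exact t.2 (this ▸ hx₀)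
  -- the shrunken neighbourhoods
  have hKcl' : ∀ t, IsClosed (⋃ t' ∈ {t' : ↥((U₀ : Set X₀)ᶜ) | t' ≠ t}, K t') := fun t =>
    (Set.toFinite _).isClosed_biUnion (fun t' _ => hKcl t')
  obtain ⟨Wt, hWtdef⟩ : ∃ Wt : ↥((U₀ : Set X₀)ᶜ) → X.Opens, ∀ t, Wt t =
      W' t ⊓ ⟨(⋃ t' ∈ {t' : ↥((U₀ : Set X₀)ᶜ) | t' ≠ t}, K t')ᶜ, (hKcl' t).isOpen_compl⟩ :=
    ⟨_, fun _ => rfl⟩
  have hmemWt : ∀ t x, x ∈ Wt t ↔ x ∈ W' t ∧ ∀ t', t' ≠ t → x ∉ K t' := by
    intro t x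
    rw [hWtdef]
    change x ∈ W' t ∧ x ∈ (⋃ t' ∈ {t' : ↥((U₀ : Set X₀)ᶜ) | t' ≠ t}, K t')ᶜ ↔ _
    simp
  have hKne : ∀ t t' : ↥((U₀ : Set X₀)ᶜ), t' ≠ t → i t.1 ∉ K t' := by
    intro t t' hne hmem
    exact hne (Subtype.ext (hKr t' t.1 hmem)).symm
  have hitWt : ∀ t : ↥((U₀ : Set X₀)ᶜ), i t.1 ∈ Wt t := fun t =>
    (hmemWt t _).mpr ⟨hitW' t, fun t' hne => hKne t t' hne⟩
  have hWtU : ∀ t, Wt t ⊓ U ≤ G t := by
    rintro t x ⟨hxW, hxU⟩
    exact hWG t x ((hmemWt t x).mp hxW).1 ((hmemU x).mp hxU t)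
  -- the cover
  obtain ⟨O, hOnone, hOsome⟩ : ∃ O : Option ↥((U₀ : Set X₀)ᶜ) → X.Opens,
      O none = U ∧ ∀ t, O (some t) = Wt t := ⟨fun o => o.elim U Wt, rfl, fun _ => rfl⟩
  have hcov : iSup O = ⊤ := by
    rw [eq_top_iff]
    intro x _
    by_contra hx
    have hcl : IsClosed ((iSup O : X.Opens) : Set X)ᶜ := (iSup O).2.isClosed_compl
    obtain ⟨y, hy, x₀, rfl⟩ := inter_range_nonempty hb hcl ⟨x, hx⟩
    apply hy
    by_cases hx₀ : x₀ ∈ U₀
    · refine Opens.mem_iSup.mpr ⟨none, ?_⟩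
      rw [hOnone]
      exact hU₀' x₀ hx₀
    · refine Opens.mem_iSup.mpr ⟨some ⟨x₀, hx₀⟩, ?_⟩
      rw [hOsome]
      exact hitWt ⟨x₀, hx₀⟩
  have hOU : ∀ o o' : Option ↥((U₀ : Set X₀)ᶜ), o ≠ o' → O o ⊓ O o' ≤ U := by
    rintro (_ | t) (_ | t') hne
    · exact absurd rfl hne
    · rw [hOnone]
      exact inf_le_left
    · rw [hOnone]
      exact inf_le_right
    · rw [hOsome, hOsome]
      rintro x ⟨hx, hx'⟩
      rw [hmemU]
      intro s
      by_cases hs : s = t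
      · subst hs
        have hne' : s ≠ t' := fun h => hne (congrArg some h)
        exact ((hmemWt t' x).mp hx').2 s hne'
      · exact ((hmemWt t x).mp hx).2 s hs
  -- the data
  have hdata : ∀ o : Option ↥((U₀ : Set X₀)ᶜ), ∃ (ε : Γ(M, i ⁻¹ᵁ O o)) (γ : (Γ(X, O o ⊓ U))ˣ),
      IsBasisOn M (i ⁻¹ᵁ O o) ε ∧
      mres M (i.preimage_mono inf_le_left : i ⁻¹ᵁ (O o ⊓ U) ≤ i ⁻¹ᵁ O o) ε =
        (i.app (O o ⊓ U)).hom (γ : Γ(X, O o ⊓ U)) •
          mres M (i.preimage_mono inf_le_right : i ⁻¹ᵁ (O o ⊓ U) ≤ i ⁻¹ᵁ U) (mres M hU₀ e₀) := by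
    rintro (_ | t)
    · have key : ∀ O' : X.Opens, O' = U → ∃ (ε : Γ(M, i ⁻¹ᵁ O')) (γ : (Γ(X, O' ⊓ U))ˣ),
          IsBasisOn M (i ⁻¹ᵁ O') ε ∧
          mres M (i.preimage_mono inf_le_left : i ⁻¹ᵁ (O' ⊓ U) ≤ i ⁻¹ᵁ O') ε =
            (i.app (O' ⊓ U)).hom (γ : Γ(X, O' ⊓ U)) •
              mres M (i.preimage_mono inf_le_right : i ⁻¹ᵁ (O' ⊓ U) ≤ i ⁻¹ᵁ U)
                (mres M hU₀ e₀) := by
        rintro O' rfl
        refine ⟨mres M hU₀ e₀, 1, he₀.mono _, ?_⟩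
        simp only [Units.val_one, map_one, one_smul]
      exact key _ hOnone
    · have key : ∀ O' : X.Opens, O' = Wt t → ∃ (ε : Γ(M, i ⁻¹ᵁ O')) (γ : (Γ(X, O' ⊓ U))ˣ),
          IsBasisOn M (i ⁻¹ᵁ O') ε ∧
          mres M (i.preimage_mono inf_le_left : i ⁻¹ᵁ (O' ⊓ U) ≤ i ⁻¹ᵁ O') ε =
            (i.app (O' ⊓ U)).hom (γ : Γ(X, O' ⊓ U)) •
              mres M (i.preimage_mono inf_le_right : i ⁻¹ᵁ (O' ⊓ U) ≤ i ⁻¹ᵁ U)
                (mres M hU₀ e₀) := by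
        rintro O' rfl
        have hWtW' : Wt t ≤ W' t := fun x hx => ((hmemWt t x).mp hx).1
        refine ⟨mres M (i.preimage_mono hWtW') (e t), (umap (hWtU t) (g t))⁻¹, (he t).mono _, ?_⟩
        have h1 := congrArg (mres M (i.preimage_mono (hWtU t))) (hrel t)
        rw [mres_smul, mres_mres, mres_mres] at h1
        have h2 : rres X₀ (i.preimage_mono (hWtU t)) ((i.app (G t)).hom (g t : Γ(X, G t))) =
            (i.app (Wt t ⊓ U)).hom
              ((umap (hWtU t) (g t) : (Γ(X, Wt t ⊓ U))ˣ) : Γ(X, Wt t ⊓ U)) := by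
          rw [umap_val, app_rres]
        rw [mres_mres, mres_mres, h1, h2, ← mul_smul, ← map_mul, ← Units.val_mul,
          inv_mul_cancel, Units.val_one, map_one, one_smul]
      exact key _ (hOsome t)
  choose ε γ hε hγ using hdata
  exact PullGlueGen.exists_pullback_iso_of_family i M U (mres M hU₀ e₀) O hcov hOU ε hε γ hγ

end Groth.Agent.H54.PicLift
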