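import Mathlib
import Groth.Agent.H54.PicLift

/-!
# Lifting invertible modules from a closed subscheme of dimension at most one, II (helper54)

Variant of `PicLift` in which the connectivity hypothesis is replaced by the hypothesis that every
locally closed subset of `X` meeting `X₀` in a discrete set has a part which is closed in `X`,
relatively open, and contains the intersection with `X₀`.
-/

set_option autoImplicit false
universe u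
open CategoryTheory CategoryTheory.Limits AlgebraicGeometry TopologicalSpace Opposite

namespace Groth.Agent.H54.PicLift2

open Groth.Agent.H18 Groth.Agent.H18.PUP Groth.Agent.H18.STL Groth.Agent.H54.DiscGlue
  Groth.Agent.H54.PullGlue Groth.Agent.H54.OneDimTop Groth.Agent.H54.FiniteOneDim
  Groth.Agent.H54.PicLift

variable {X X₀ : Scheme.{u}} (i : X₀ ⟶ X)

/-- the closed-part hypothesis -/
def SplitHyp : Prop := ∀ Y : Set X, IsLocallyClosed Y → DiscreteTopology ↥(Y ∩ Set.range ⇑i) →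
  ∃ Y' : Set X, Y' ⊆ Y ∧ IsClosed Y' ∧ (∃ O : Set X, IsOpen O ∧ Y' = Y ∩ O) ∧
    Y ∩ Set.range ⇑i ⊆ Y'

variable {i}

/-- a subspace with at most one point is discrete -/
theorem discreteTopology_of_subset_singleton {α : Type u} [TopologicalSpace α] {S : Set α} {p : α}
    (h : S ⊆ {p}) : DiscreteTopology ↥S := by
  haveI : Subsingleton ↥S := ⟨fun a b => Subtype.ext ((h a.2).trans (h b.2).symm)⟩
  infer_instance

/-- the local lifting near a point outside `U₀` -/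
theorem exists_local_lift [IsNoetherian X] [IsClosedImmersion i]
    (hdim : topologicalKrullDim X₀ ≤ 1) (hb : SplitHyp i) (M : X₀.Modules)
    (hM : PicF.IsInvertible M) (U₀ : X₀.Opens) (hgen : ∀ η ∈ genericPoints X₀, η ∈ U₀)
    (e₀ : Γ(M, U₀)) (he₀ : IsBasisOn M U₀ e₀) (t : X₀) (ht : t ∉ U₀) :
    ∃ (W' : X.Opens) (K : Set X) (G : X.Opens) (hGW : G ≤ W') (hGU : i ⁻¹ᵁ G ≤ U₀)
      (g : (Γ(X, G))ˣ) (e : Γ(M, i ⁻¹ᵁ W')),
      i t ∈ W' ∧ IsClosed K ∧ i t ∈ K ∧ (∀ x₀ : X₀, i x₀ ∈ K → x₀ = t) ∧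
      (∀ x ∈ W', x ∉ K → x ∈ G) ∧ K ⊆ W' ∧ IsBasisOn M (i ⁻¹ᵁ W') e ∧
      mres M hGU e₀ = (i.app G).hom (g : Γ(X, G)) • mres M (i.preimage_mono hGW) e := by
  classical
  haveI : IsLocallyNoetherian X₀ := LocallyOfFiniteType.isLocallyNoetherian i
  haveI : NoetherianSpace X₀ := i.isClosedEmbedding.isInducing.noetherianSpace
  -- the complement of `U₀` is a finite set of closed points
  obtain ⟨hTfin, hTcl⟩ := finite_diff_of_generic_mem hdim (isOpen_univ (X := X₀)) U₀.2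
    (fun η hη _ => hgen η hη)
  have htcl : IsClosed ({t} : Set X₀) := hTcl t ⟨trivial, ht⟩
  have hfin : ((U₀ : Set X₀)ᶜ).Finite := by
    rw [Set.compl_eq_univ_sdiff]
    exact hTfin
  haveI : Finite ↥((U₀ : Set X₀)ᶜ) := hfin.to_subtype
  haveI : T1Space ↥((U₀ : Set X₀)ᶜ) := ⟨fun y => by
    have h1 : ({y} : Set ↥((U₀ : Set X₀)ᶜ)) = Subtype.val ⁻¹' ({y.1} : Set X₀) := by
      ext z
      simp [Subtype.ext_iff]
    rw [h1]
    exact (hTcl y.1 ⟨trivial, y.2⟩).preimage continuous_subtype_val⟩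
  have hdisc : DiscreteTopology ↥((U₀ : Set X₀)ᶜ) := inferInstance
  have hdimt : ringKrullDim (X₀.presheaf.stalk t) ≤ 1 := (ringKrullDim_stalk_le X₀ t).trans hdim
  obtain ⟨O, s, hOaff, htO, hOt, hs⟩ := DiscLocal.exists_affine_nhd_basicOpen U₀ hdisc ht hdimt
  obtain ⟨P, et, htP, het⟩ := exists_basis_of_isInvertible hM t
  -- an affine open of `X` around `i t` whose preimage lies in `O ⊓ P`
  obtain ⟨Q', hQ'open, hQ'⟩ := i.isClosedEmbedding.isInducing.isOpen_iff.mp (O ⊓ P).2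
  have hitQ : i t ∈ (⟨Q', hQ'open⟩ : X.Opens) := by
    have : t ∈ i ⁻¹' Q' := by
      rw [hQ']
      exact ⟨htO, htP⟩
    exact this
  obtain ⟨W, hWaff, hitW, hWQ⟩ := exists_isAffineOpen_mem_and_subset hitQ
  have hW₀ : i ⁻¹ᵁ W ≤ O ⊓ P := by
    intro x hx
    have : x ∈ i ⁻¹' Q' := hWQ hx
    rw [hQ'] at this
    exact this
  have hW₀O : i ⁻¹ᵁ W ≤ O := hW₀.trans inf_le_left
  have hW₀P : i ⁻¹ᵁ W ≤ P := hW₀.trans inf_le_right
  -- the local equation and its lift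
  obtain ⟨h, hh⟩ := i.app_surjective W hWaff (rres X₀ hW₀O s)
  have hDaff : IsAffineOpen (X.basicOpen h) := hWaff.basicOpen h
  have hDW : X.basicOpen h ≤ W := X.basicOpen_le h
  have hD₀ : i ⁻¹ᵁ X.basicOpen h = i ⁻¹ᵁ W ⊓ U₀ := by
    rw [Scheme.preimage_basicOpen]
    have h1 : (i.app W).hom h = rres X₀ hW₀O s := hh
    rw [h1, Scheme.basicOpen_res, hs, ← inf_assoc, inf_eq_left.mpr hW₀O]
  have hD₀U : i ⁻¹ᵁ X.basicOpen h ≤ U₀ := hD₀.le.trans inf_le_right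
  have hD₀P : i ⁻¹ᵁ X.basicOpen h ≤ P := (hD₀.le.trans inf_le_left).trans hW₀P
  obtain ⟨g₀, hg₀⟩ := ThickPic.exists_unit_of_bases (he₀.mono hD₀U) (het.mono hD₀P)
  obtain ⟨a, ha⟩ := i.app_surjective (X.basicOpen h) hDaff
    (g₀ : Γ(X₀, i ⁻¹ᵁ X.basicOpen h))
  have hU'D : X.basicOpen a ≤ X.basicOpen h := X.basicOpen_le a
  have hua : IsUnit (rres X hU'D a) := RingedSpace.isUnit_res_basicOpen X.toRingedSpace a
  have hU'₀ : i ⁻¹ᵁ X.basicOpen a = i ⁻¹ᵁ X.basicOpen h := by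
    rw [Scheme.preimage_basicOpen]
    have h1 : (i.app (X.basicOpen h)).hom a = g₀ := ha
    rw [h1]
    exact Scheme.basicOpen_of_isUnit X₀ g₀.isUnit
  -- the closed locus
  obtain ⟨Z, hZdef⟩ : ∃ Z : Set X, Z = (W : Set X) \ (X.basicOpen a : Set X) := ⟨_, rfl⟩
  have hZrange : ∀ x₀ : X₀, i x₀ ∈ Z → x₀ = t := by
    intro x₀ hx₀
    rw [hZdef] at hx₀
    obtain ⟨hxW, hxU'⟩ := hx₀
    have h1 : x₀ ∈ i ⁻¹ᵁ W := hxW
    have h2 : x₀ ∉ U₀ := by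
      intro hU
      apply hxU'
      have h3 : x₀ ∈ i ⁻¹ᵁ X.basicOpen a := by
        rw [hU'₀, hD₀]
        exact ⟨h1, hU⟩
      exact h3
    exact hOt x₀ (hW₀O h1) h2
  have htZ : i t ∈ Z := by
    rw [hZdef]
    refine ⟨hitW, fun hU' => ht ?_⟩
    have h3 : t ∈ i ⁻¹ᵁ X.basicOpen a := hU'
    rw [hU'₀, hD₀] at h3
    exact h3.2
  have hZlc : IsLocallyClosed Z := by
    rw [hZdef]
    exact W.2.isLocallyClosed.inter (X.basicOpen a).2.isClosed_compl.isLocallyClosed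
  have hZr : Z ∩ Set.range ⇑i ⊆ {i t} := by
    rintro y ⟨hyZ, x₀, rfl⟩
    rw [hZrange x₀ hyZ]
    rfl
  obtain ⟨K, hKZ, hKcl, ⟨O', hO'open, hKO'⟩, hZK⟩ :=
    hb Z hZlc (discreteTopology_of_subset_singleton hZr)
  have htK : i t ∈ K := hZK ⟨htZ, t, rfl⟩
  have hKr : ∀ x₀ : X₀, i x₀ ∈ K → x₀ = t := fun x₀ hx₀ => hZrange x₀ (hKZ hx₀)
  -- the shrunken neighbourhood
  obtain ⟨W', hW'def⟩ : ∃ W' : X.Opens, W' = W ⊓ ⟨O', hO'open⟩ := ⟨_, rfl⟩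
  have hW'W : W' ≤ W := by
    rw [hW'def]
    exact inf_le_left
  have hKW' : K ⊆ W' := by
    intro x hx
    rw [hW'def]
    refine ⟨?_, ?_⟩
    · have := hKZ hx
      rw [hZdef] at this
      exact this.1
    · rw [hKO'] at hx
      exact hx.2
  have hitW' : i t ∈ W' := hKW' htK
  have hWG : ∀ x ∈ W', x ∉ K → x ∈ X.basicOpen a ⊓ W' := by
    intro x hxW' hxK
    refine ⟨?_, hxW'⟩
    have hxW : x ∈ W := hW'W hxW'
    by_contra hxU'
    apply hxK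
    rw [hKO']
    refine ⟨?_, ?_⟩
    · rw [hZdef]
      exact ⟨hxW, hxU'⟩
    · rw [hW'def] at hxW'
      exact hxW'.2
  have hGU : i ⁻¹ᵁ (X.basicOpen a ⊓ W') ≤ U₀ :=
    (i.preimage_mono inf_le_left).trans ((le_of_eq hU'₀).trans hD₀U)
  have hW'P : i ⁻¹ᵁ W' ≤ P := (i.preimage_mono hW'W).trans hW₀P
  refine ⟨W', K, X.basicOpen a ⊓ W', inf_le_right, hGU, umap inf_le_left hua.unit,
    mres M hW'P et, hitW', hKcl, htK, hKr, hWG, hKW', het.mono _, ?_⟩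
  -- the relation
  have hle : i ⁻¹ᵁ (X.basicOpen a ⊓ W') ≤ i ⁻¹ᵁ X.basicOpen h :=
    (i.preimage_mono inf_le_left).trans (le_of_eq hU'₀)
  have h1 := congrArg (mres M hle) hg₀
  rw [mres_smul, mres_mres, mres_mres] at h1
  rw [mres_mres, h1]
  congr 1
  rw [umap_val]
  have h2 : ((hua.unit : (Γ(X, X.basicOpen a))ˣ) : Γ(X, X.basicOpen a)) = rres X hU'D a :=
    hua.unit_spec
  rw [h2, rres_rres, app_rres, ha]

/-- **Main theorem.** -/
theorem exists_invertible_lift [IsNoetherian X] [IsClosedImmersion i]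
    (hdim : topologicalKrullDim X₀ ≤ 1) (hb : SplitHyp i) (M : X₀.Modules)
    (hM : PicF.IsInvertible M) :
    ∃ N : X.Modules, PicF.IsInvertible N ∧
      Nonempty ((Scheme.Modules.pullback i).obj N ≅ M) := by
  classical
  haveI : NoetherianSpace X₀ := i.isClosedEmbedding.isInducing.noetherianSpace
  obtain ⟨U₀, e₀, hgen, he₀⟩ := exists_dense_basis_self M hM
  obtain ⟨hTfin, -⟩ := finite_diff_of_generic_mem hdim (isOpen_univ (X := X₀)) U₀.2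
    (fun η hη _ => hgen η hη)
  have hfin : ((U₀ : Set X₀)ᶜ).Finite := by
    rw [Set.compl_eq_univ_sdiff]
    exact hTfin
  haveI : Finite ↥((U₀ : Set X₀)ᶜ) := hfin.to_subtype
  choose W' K₁ G hGW hGU g e hitW' hK₁cl hitK₁ hK₁r hWG hK₁W' he hrel using
    fun t : ↥((U₀ : Set X₀)ᶜ) => exists_local_lift hdim hb M hM U₀ hgen e₀ he₀ t.1 t.2
  -- make the closed loci pairwise disjoint
  have hK₁cl' : ∀ t, IsClosed (⋃ t' ∈ {t' : ↥((U₀ : Set X₀)ᶜ) | t' ≠ t}, K₁ t') := fun t =>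
    (Set.toFinite _).isClosed_biUnion (fun t' _ => hK₁cl t')
  have hK₁ne : ∀ t t' : ↥((U₀ : Set X₀)ᶜ), t' ≠ t → i t.1 ∉ K₁ t' := by
    intro t t' hne hmem
    exact hne (Subtype.ext (hK₁r t' t.1 hmem)).symm
  have hsplit : ∀ t : ↥((U₀ : Set X₀)ᶜ), ∃ (K : Set X) (O'' : Set X), IsClosed K ∧ IsOpen O'' ∧
      K = (K₁ t \ ⋃ t' ∈ {t' : ↥((U₀ : Set X₀)ᶜ) | t' ≠ t}, K₁ t') ∩ O'' ∧ i t.1 ∈ K := by
    intro t
    have hlc : IsLocallyClosed (K₁ t \ ⋃ t' ∈ {t' : ↥((U₀ : Set X₀)ᶜ) | t' ≠ t}, K₁ t') :=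
      (hK₁cl t).isLocallyClosed.inter (hK₁cl' t).isOpen_compl.isLocallyClosed
    have hr : (K₁ t \ ⋃ t' ∈ {t' : ↥((U₀ : Set X₀)ᶜ) | t' ≠ t}, K₁ t') ∩ Set.range ⇑i ⊆
        {i t.1} := by
      rintro y ⟨⟨hyK, -⟩, x₀, rfl⟩
      rw [hK₁r t x₀ hyK]
      rfl
    obtain ⟨K, -, hKcl, ⟨O'', hO''open, hKO''⟩, hYK⟩ :=
      hb _ hlc (discreteTopology_of_subset_singleton hr)
    refine ⟨K, O'', hKcl, hO''open, hKO'', hYK ⟨⟨hitK₁ t, ?_⟩, t.1, rfl⟩⟩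
    simp only [Set.mem_iUnion, Set.mem_ofPred_eq, exists_prop, not_exists, not_and]
    exact fun t' hne => hK₁ne t t' hne
  choose K O'' hKcl hO''open hKdef hitK using hsplit
  have hKK₁ : ∀ t, K t ⊆ K₁ t := by
    intro t x hx
    rw [hKdef] at hx
    exact hx.1.1
  have hKne : ∀ t t' : ↥((U₀ : Set X₀)ᶜ), t' ≠ t → ∀ x ∈ K t, x ∉ K₁ t' := by
    intro t t' hne x hx hx'
    rw [hKdef] at hx
    apply hx.1.2
    simp only [Set.mem_iUnion, Set.mem_ofPred_eq, exists_prop]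
    exact ⟨t', hne, hx'⟩
  have hKr : ∀ t (x₀ : X₀), i x₀ ∈ K t → x₀ = t.1 := fun t x₀ hx₀ => hK₁r t x₀ (hKK₁ t hx₀)
  -- the open `U`
  have hKUcl : IsClosed (⋃ t, K t) := isClosed_iUnion_of_finite hKcl
  obtain ⟨U, hUdef⟩ : ∃ U : X.Opens, U = ⟨(⋃ t, K t)ᶜ, hKUcl.isOpen_compl⟩ := ⟨_, rfl⟩
  have hmemU : ∀ x, x ∈ U ↔ ∀ t, x ∉ K t := by
    intro x
    rw [hUdef]
    change x ∈ (⋃ t, K t)ᶜ ↔ _
    simp
  have hU₀ : i ⁻¹ᵁ U ≤ U₀ := by
    intro x₀ hx₀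
    by_contra hx
    exact (hmemU _).mp hx₀ ⟨x₀, hx⟩ (hitK ⟨x₀, hx⟩)
  -- the shrunken neighbourhoods
  obtain ⟨Wt, hWtdef⟩ : ∃ Wt : ↥((U₀ : Set X₀)ᶜ) → X.Opens, ∀ t, Wt t =
      W' t ⊓ ⟨O'' t, hO''open t⟩ ⊓
        ⟨(⋃ t' ∈ {t' : ↥((U₀ : Set X₀)ᶜ) | t' ≠ t}, K₁ t')ᶜ, (hK₁cl' t).isOpen_compl⟩ :=
    ⟨_, fun _ => rfl⟩
  have hmemWt : ∀ t x, x ∈ Wt t ↔ (x ∈ W' t ∧ x ∈ O'' t) ∧ ∀ t', t' ≠ t → x ∉ K₁ t' := by
    intro t x
    rw [hWtdef]
    change (x ∈ W' t ∧ x ∈ O'' t) ∧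
      x ∈ (⋃ t' ∈ {t' : ↥((U₀ : Set X₀)ᶜ) | t' ≠ t}, K₁ t')ᶜ ↔ _
    simp
  have hKWt : ∀ t, K t ⊆ Wt t := by
    intro t x hx
    refine (hmemWt t x).mpr ⟨⟨hK₁W' t (hKK₁ t hx), ?_⟩, fun t' hne => hKne t t' hne x hx⟩
    have := hx
    rw [hKdef] at this
    exact this.2
  have hWtU : ∀ t, Wt t ⊓ U ≤ G t := by
    rintro t x ⟨hxW, hxU⟩
    obtain ⟨⟨hxW', hxO''⟩, hxne⟩ := (hmemWt t x).mp hxW
    refine hWG t x hxW' (fun hxK₁ => (hmemU x).mp hxU t ?_)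
    rw [hKdef]
    refine ⟨⟨hxK₁, ?_⟩, hxO''⟩
    simp only [Set.mem_iUnion, Set.mem_ofPred_eq, exists_prop, not_exists, not_and]
    exact hxne
  -- the cover
  obtain ⟨O, hOnone, hOsome⟩ : ∃ O : Option ↥((U₀ : Set X₀)ᶜ) → X.Opens,
      O none = U ∧ ∀ t, O (some t) = Wt t := ⟨fun o => o.elim U Wt, rfl, fun _ => rfl⟩
  have hcov : iSup O = ⊤ := by
    rw [eq_top_iff]
    intro x _
    by_cases hx : x ∈ U
    · refine Opens.mem_iSup.mpr ⟨none, ?_⟩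
      rw [hOnone]
      exact hx
    · rw [hmemU] at hx
      push Not at hx
      obtain ⟨t, ht⟩ := hx
      refine Opens.mem_iSup.mpr ⟨some t, ?_⟩
      rw [hOsome]
      exact hKWt t ht
  have hOU : ∀ o o' : Option ↥((U₀ : Set X₀)ᶜ), o ≠ o' → O o ⊓ O o' ≤ U := by
    rintro (_ | t) (_ | t') hne
    · exact absurd rfl hne
    · rw [hOnone]
      exact inf_le_left
    · rw [hOnone]
      exact inf_le_right
    · rw [hOsome, hOsome]
      rintro x ⟨hx, hx'⟩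
      rw [hmemU]
      intro s hs'
      have hs'' : x ∈ K₁ s := hKK₁ s hs'
      by_cases hs : s = t
      · subst hs
        have hne' : s ≠ t' := fun h => hne (congrArg some h)
        exact ((hmemWt t' x).mp hx').2 s hne' hs''
      · exact ((hmemWt t x).mp hx).2 s hs hs''
  -- the data
  have hdata : ∀ o : Option ↥((U₀ : Set X₀)ᶜ), ∃ (ε : Γ(M, i ⁻¹ᵁ O o)) (γ : (Γ(X, O o ⊓ U))ˣ),
      IsBasisOn M (i ⁻¹ᵁ O o) ε ∧
      mres M (i.preimage_mono inf_le_left : i ⁻¹ᵁ (O o ⊓ U) ≤ i ⁻¹ᵁ O o) ε =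
        (i.app (O o ⊓ U)).hom (γ : Γ(X, O o ⊓ U)) •
          mres M (i.preimage_mono inf_le_right : i ⁻¹ᵁ (O o ⊓ U) ≤ i ⁻¹ᵁ U) (mres M hU₀ e₀) := by
    rintro (_ | t)
    · have key : ∀ O' : X.Opens, O' = U → ∃ (ε : Γ(M, i ⁻¹ᵁ O')) (γ : (Γ(X, O' ⊓ U))ˣ),
          IsBasisOn M (i ⁻¹ᵁ O') ε ∧
          mres M (i.preimage_mono inf_le_left : i ⁻¹ᵁ (O' ⊓ U) ≤ i ⁻¹ᵁ O') ε =
            (i.app (O' ⊓ U)).hom (γ : Γ(X, O' ⊓ U)) •
              mres M (i.preimage_mono inf_le_right : i ⁻¹ᵁ (O' ⊓ U) ≤ i ⁻¹ᵁ U)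
                (mres M hU₀ e₀) := by
        rintro O' rfl
        refine ⟨mres M hU₀ e₀, 1, he₀.mono _, ?_⟩
        simp only [Units.val_one, map_one, one_smul]
      exact key _ hOnone
    · have key : ∀ O' : X.Opens, O' = Wt t → ∃ (ε : Γ(M, i ⁻¹ᵁ O')) (γ : (Γ(X, O' ⊓ U))ˣ),
          IsBasisOn M (i ⁻¹ᵁ O') ε ∧
          mres M (i.preimage_mono inf_le_left : i ⁻¹ᵁ (O' ⊓ U) ≤ i ⁻¹ᵁ O') ε =
            (i.app (O' ⊓ U)).hom (γ : Γ(X, O' ⊓ U)) •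
              mres M (i.preimage_mono inf_le_right : i ⁻¹ᵁ (O' ⊓ U) ≤ i ⁻¹ᵁ U)
                (mres M hU₀ e₀) := by
        rintro O' rfl
        have hWtW' : Wt t ≤ W' t := fun x hx => ((hmemWt t x).mp hx).1.1
        refine ⟨mres M (i.preimage_mono hWtW') (e t), (umap (hWtU t) (g t))⁻¹, (he t).mono _, ?_⟩
        have h1 := congrArg (mres M (i.preimage_mono (hWtU t))) (hrel t)
        rw [mres_smul, mres_mres, mres_mres] at h1
        have h2 : rres X₀ (i.preimage_mono (hWtU t)) ((i.app (G t)).hom (g t : Γ(X, G t))) =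
            (i.app (Wt t ⊓ U)).hom
              ((umap (hWtU t) (g t) : (Γ(X, Wt t ⊓ U))ˣ) : Γ(X, Wt t ⊓ U)) := by
          rw [umap_val, app_rres]
        rw [mres_mres, mres_mres, h1, h2, ← mul_smul, ← map_mul, ← Units.val_mul,
          inv_mul_cancel, Units.val_one, map_one, one_smul]
      exact key _ (hOsome t)
  choose ε γ hε hγ using hdata
  exact PullGlueGen.exists_pullback_iso_of_family i M U (mres M hU₀ e₀) O hcov hOU ε hε γ hγ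

end Groth.Agent.H54.PicLift2
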