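import Mathlib
import Groth.Agent.H54.ProjDimTheory8

set_option autoImplicit false
universe u
open AlgebraicGeometry TopologicalSpace

namespace Groth.Agent.H54

section poly
variable (k : Type u) [Field k] (n : ℕ)

local notation "𝒜" => CohB1.polyGrading n k
local notation "A" => MvPolynomial (Fin (n + 1)) k
local notation "m₊" => HomogeneousIdeal.toIdeal (HomogeneousIdeal.irrelevant (CohB1.polyGrading n k))

/-- Facts about minimal primes over a nonzero homogeneous principal ideal. -/
theorem minimalPrimes_span_singleton_facts (hn : 1 ≤ n) (d : ℕ) (f : A) (hf : f.IsHomogeneous d)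
    (hf0 : f ≠ 0) :
    ∀ P ∈ (Ideal.span ({f} : Set A)).minimalPrimes, P.IsHomogeneous 𝒜 ∧
      ringKrullDim (A ⧸ P) = (n : WithBot ℕ∞) ∧ P ≠ m₊ ∧ ∃ g : A, Prime g ∧ P = Ideal.span {g} := by
  classical
  have hfhom : (Ideal.span ({f} : Set A)).IsHomogeneous 𝒜 := by
    apply Ideal.homogeneous_span
    rintro _ rfl
    exact ⟨d, (MvPolynomial.mem_homogeneousSubmodule d _).mpr hf⟩
  obtain ⟨m', hm'⟩ : ∃ m', n = m' + 1 := ⟨n - 1, by omega⟩
  intro P hP
  have hPprime : P.IsPrime := hP.1.1
  have hfP : f ∈ P := hP.1.2 (Ideal.mem_span_singleton_self f)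
  have hP' : P ∈ ((⊥ : Ideal A) ⊔ Ideal.span {f}).minimalPrimes := by rwa [bot_sup_eq]
  have h1 := ringKrullDim_quotient_add_one_of_mem_minimalPrimes k A ⊥ f
    (by rw [Ideal.mem_bot]; exact hf0) P hP'
  rw [ringKrullDim_quotient_bot_poly] at h1
  have h2 : ringKrullDim (A ⧸ P) = (n : WithBot ℕ∞) := withBot_enat_add_one_cancel h1
  have hne : P ≠ m₊ := by
    apply ne_irrelevant_of_ringKrullDim_quotient k n (d := m')
    rw [h2, hm']
  have hht : P.height = 1 := by
    apply le_antisymm (Ideal.height_le_one_of_isPrincipal_of_mem_minimalPrimes _ P hP)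
    rw [Order.one_le_iff_pos, pos_iff_ne_zero, Ne, Ideal.height_eq_zero_iff_eq_bot]
    intro h
    rw [h, Ideal.mem_bot] at hfP
    exact hf0 hfP
  obtain ⟨g, hgP, hgprime⟩ := Ideal.IsPrime.exists_mem_prime_of_ne_bot hPprime
    (P.ne_bot_of_height_eq_one hht)
  exact ⟨isHomogeneous_of_mem_minimalPrimes 𝒜 hfhom hP, h2, hne, g, hgprime,
    P.eq_span_singleton_of_height_eq_one hht hgP hgprime⟩

end poly

section plane
variable (k : Type u) [Field k]

local notation "𝒜" => CohB1.polyGrading 2 k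
local notation "A" => MvPolynomial (Fin (2 + 1)) k
local notation "m₊" => HomogeneousIdeal.toIdeal (HomogeneousIdeal.irrelevant (CohB1.polyGrading 2 k))

theorem zeroLocus_pair_nonempty (n m : ℕ) (f g : A) (hf : f.IsHomogeneous n) (hg : g.IsHomogeneous m)
    (hn : 0 < n) (hm : 0 < m) (hf0 : f ≠ 0) :
    (ProjectiveSpectrum.zeroLocus 𝒜 ({f, g} : Set A)).Nonempty := by
  classical
  have hgm : g ∈ m₊ :=
    HomogeneousIdeal.mem_irrelevant_of_mem _ hm ((MvPolynomial.mem_homogeneousSubmodule m g).mpr hg)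
  have hfm : f ∈ m₊ :=
    HomogeneousIdeal.mem_irrelevant_of_mem _ hn ((MvPolynomial.mem_homogeneousSubmodule n f).mpr hf)
  have hghom : (Ideal.span ({g} : Set A)).IsHomogeneous 𝒜 := by
    apply Ideal.homogeneous_span
    rintro _ rfl
    exact ⟨m, (MvPolynomial.mem_homogeneousSubmodule m _).mpr hg⟩
  have hmprime := irrelevant_isPrime k 2
  obtain ⟨P, hP, -⟩ := Ideal.exists_minimalPrimes_le
    ((Ideal.span_singleton_le_iff_mem (I := m₊)).mpr hfm)
  obtain ⟨hPh, hPdim, hPne, -⟩ := minimalPrimes_span_singleton_facts k 2 (by norm_num) n f hf hf0 P hP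
  have hPprime : P.IsPrime := hP.1.1
  have hJm : P ⊔ Ideal.span ({g} : Set A) ≤ m₊ := sup_le
    (le_irrelevant_of_isHomogeneous k 2 hPh hPprime.ne_top)
    ((Ideal.span_singleton_le_iff_mem _).mpr hgm)
  obtain ⟨Q, hQ, -⟩ := Ideal.exists_minimalPrimes_le hJm
  have hQh : Q.IsHomogeneous 𝒜 := isHomogeneous_of_mem_minimalPrimes 𝒜 (hPh.sup hghom) hQ
  have hQ' : Q ∈ (P ⊔ Ideal.span (({g} : Finset A) : Set A)).minimalPrimes := by
    rw [Finset.coe_singleton]; exact hQ
  have h1 := ringKrullDim_quotient_le_add_card k A P {g} Q hQ'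
  rw [hPdim, Finset.card_singleton] at h1
  have hQne : Q ≠ m₊ := by
    intro h
    rw [h, ringKrullDim_quotient_irrelevant, zero_add] at h1
    have : 2 ≤ 1 := by exact_mod_cast h1
    omega
  refine ⟨pointOfPrime k 2 Q hQ.1.1 hQh hQne, ?_⟩
  intro a ha
  rcases ha with rfl | rfl
  · exact hQ.1.2 (Ideal.mem_sup_left (hP.1.2 (Ideal.mem_span_singleton_self _)))
  · exact hQ.1.2 (Ideal.mem_sup_right (Ideal.mem_span_singleton_self _))

/-- `V₊(f, g)` in the projective plane is zero-dimensional iff `f` and `g` are coprime. -/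
theorem topologicalKrullDim_zeroLocus_pair_eq_zero_iff (n m : ℕ) (f g : A)
    (hf : f.IsHomogeneous n) (hg : g.IsHomogeneous m)
    (hn : 0 < n) (hm : 0 < m) (hf0 : f ≠ 0) (hg0 : g ≠ 0) :
    topologicalKrullDim ↥(ProjectiveSpectrum.zeroLocus 𝒜 ({f, g} : Set A)) = 0 ↔ IsRelPrime f g := by
  classical
  rw [topologicalKrullDim_closed 𝒜 _ (ProjectiveSpectrum.isClosed_zeroLocus 𝒜 _)]
  have hne := zeroLocus_pair_nonempty k n m f g hf hg hn hm hf0
  have hmprime := irrelevant_isPrime k 2
  constructor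
  · intro hdim h hhf hhg
    by_contra hnu
    have hh0 : h ≠ 0 := by
      rintro rfl
      exact hf0 (zero_dvd_iff.mp hhf)
    obtain ⟨q, hqirr, hqh⟩ := WfDvdMonoid.exists_irreducible_factor hnu hh0
    have hqprime : Prime q := UniqueFactorizationMonoid.irreducible_iff_prime.mp hqirr
    have hqf : q ∣ f := hqh.trans hhf
    have hqg : q ∣ g := hqh.trans hhg
    have hfq : Ideal.span ({f} : Set A) ≤ Ideal.span {q} := by
      rw [Ideal.span_singleton_le_span_singleton]; exact hqf
    have hspanprime : (Ideal.span ({q} : Set A)).IsPrime :=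
      (Ideal.span_singleton_prime hqprime.ne_zero).mpr hqprime
    obtain ⟨P, hP, hPq⟩ := Ideal.exists_minimalPrimes_le hfq
    obtain ⟨hPh, hPdim, hPne, g', hg'prime, hg'⟩ :=
      minimalPrimes_span_singleton_facts k 2 (by norm_num) n f hf hf0 P hP
    have hPeq : P = Ideal.span {q} := by
      rw [hg', Ideal.span_singleton_le_span_singleton] at hPq
      rw [hg', Ideal.span_singleton_eq_span_singleton]
      exact (hqprime.associated_of_dvd hg'prime hPq).symm
    have hgP : g ∈ P := by
      rw [hPeq, Ideal.mem_span_singleton]; exact hqg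
    have hfP : f ∈ P := hP.1.2 (Ideal.mem_span_singleton_self _)
    have hsub : ProjectiveSpectrum.zeroLocus 𝒜 (P : Set A) ⊆
        ProjectiveSpectrum.zeroLocus 𝒜 ({f, g} : Set A) := by
      apply ProjectiveSpectrum.zeroLocus_anti_mono
      intro a ha
      rcases ha with rfl | rfl
      · exact hfP
      · exact hgP
    have h1 := krullDim_zeroLocus_add_one_eq k 2 P hP.1.1 hPh hPne
    rw [hPdim] at h1
    have h2 : Order.krullDim ↥(ProjectiveSpectrum.zeroLocus 𝒜 (P : Set A)) = ((1 : ℕ) : WithBot ℕ∞) :=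
      withBot_enat_add_one_cancel (by rw [h1])
    have h3 : Order.krullDim ↥(ProjectiveSpectrum.zeroLocus 𝒜 (P : Set A)) ≤
        Order.krullDim ↥(ProjectiveSpectrum.zeroLocus 𝒜 ({f, g} : Set A)) :=
      Order.krullDim_le_of_strictMono (fun y => (⟨y.1, hsub y.2⟩ : ↥(ProjectiveSpectrum.zeroLocus 𝒜 ({f, g} : Set A))))
        (fun _ _ h => h)
    rw [h2, hdim] at h3
    have : (1 : ℕ) ≤ 0 := by exact_mod_cast h3
    omega
  · intro hrel
    apply le_antisymm
    · rw [Order.krullDim_nonpos_iff_forall_isMax]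
      intro y z hyz
      by_contra hzy
      have hlt : y.1 < z.1 := lt_of_le_not_ge hyz hzy
      have hfy : f ∈ y.1.asHomogeneousIdeal.toIdeal := y.2 (Set.mem_insert _ _)
      have hgy : g ∈ y.1.asHomogeneousIdeal.toIdeal := y.2 (Set.mem_insert_of_mem _ rfl)
      have hbot_lt : botPoint k 2 < y.1 := by
        change (⊥ : Ideal A) < y.1.asHomogeneousIdeal.toIdeal
        rw [bot_lt_iff_ne_bot]
        intro h
        rw [h, Ideal.mem_bot] at hfy
        exact hf0 hfy
      have hht : Order.height y.1 = 1 := by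
        apply le_antisymm
        · have h1 := Order.height_add_one_le hlt
          have h2 : (Order.height z.1 : WithBot ℕ∞) ≤ ((2 : ℕ) : WithBot ℕ∞) :=
            le_trans (Order.height_le_krullDim z.1) (krullDim_projectiveSpectrum_le k 2)
          have h3 : Order.height z.1 ≤ 2 := by
            have h2' : ((Order.height z.1 : ℕ∞) : WithBot ℕ∞) ≤ (((2 : ℕ) : ℕ∞) : WithBot ℕ∞) := h2
            exact_mod_cast WithBot.coe_le_coe.mp h2'
          have h4 : Order.height y.1 + 1 ≤ 1 + 1 := le_trans h1 (by rw [one_add_one_eq_two]; exact h3)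
          exact (ENat.add_le_add_iff_right ENat.one_ne_top).mp h4
        · rw [Order.one_le_iff_pos, Order.height_pos]
          intro hmin
          exact (hmin hbot_lt.le).not_gt hbot_lt
      obtain ⟨d, h, -, hirr, hyspan⟩ := exists_irreducible_of_height_eq_one k 2 y.1 hht
      rw [hyspan, Ideal.mem_span_singleton] at hfy hgy
      exact hirr.not_isUnit (hrel hfy hgy)
    · have : Nonempty ↥(ProjectiveSpectrum.zeroLocus 𝒜 ({f, g} : Set A)) := hne.to_subtype
      exact Order.krullDim_nonneg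

end plane

end Groth.Agent.H54
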