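import Mathlib

set_option autoImplicit false
universe u

namespace Groth.Agent.H54.PN

open DirectSum

section graded
variable {R A : Type u} [CommRing R] [CommRing A] [Algebra R A] (𝒜 : ℕ → Submodule R A)
  [GradedAlgebra 𝒜]

/-- in a graded domain, if `w * t ∈ 𝒜 (m + j)` with `t ∈ 𝒜 j` nonzero then `w ∈ 𝒜 m`. -/
theorem mem_of_mul_mem [IsDomain A] {m j : ℕ} {w t : A} (ht : t ∈ 𝒜 j) (ht0 : t ≠ 0)
    (h : w * t ∈ 𝒜 (m + j)) : w ∈ 𝒜 m := by
  classical
  have hcomp : ∀ i, i ≠ m → (decompose 𝒜 w i : A) = 0 := by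
    intro i hi
    have h1 : (decompose 𝒜 (w * t) (i + j) : A) = decompose 𝒜 w i * t := by
      rw [DirectSum.coe_decompose_mul_of_right_mem_of_le 𝒜 ht (Nat.le_add_left j i),
        Nat.add_sub_cancel]
    have h2 : (decompose 𝒜 (w * t) (i + j) : A) = 0 := by
      apply DirectSum.decompose_of_mem_ne 𝒜 h
      omega
    rw [h1] at h2
    exact (mul_eq_zero.mp h2).resolve_right ht0
  have hw : w = (decompose 𝒜 w m : A) := by
    conv_lhs => rw [← DirectSum.sum_support_decompose 𝒜 w]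
    refine Finset.sum_eq_single m (fun i _ hi => hcomp i hi) (fun hm => ?_)
    rw [DFinsupp.notMem_support_iff] at hm
    rw [hm]
    rfl
  rw [hw]
  exact (decompose 𝒜 w m).2

theorem mem_irrelevant_of_mem_one {f : A} (hf : f ∈ 𝒜 1) :
    f ∈ HomogeneousIdeal.irrelevant 𝒜 := by
  rw [HomogeneousIdeal.mem_irrelevant_iff, GradedRing.proj_apply,
    DirectSum.decompose_of_mem_ne 𝒜 hf (by norm_num)]

variable {K : Type u} [Field K] [Algebra A K]

/-- the ideal of `t : A` with `z * t ∈ M` -/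
def colon (z : K) (M : Ideal A) : Ideal A where
  carrier := {t | ∃ b ∈ M, z * algebraMap A K t = algebraMap A K b}
  add_mem' := by
    rintro t t' ⟨b, hb, h⟩ ⟨b', hb', h'⟩
    exact ⟨b + b', M.add_mem hb hb', by rw [map_add, map_add, mul_add, h, h']⟩
  zero_mem' := ⟨0, M.zero_mem, by simp⟩
  smul_mem' := by
    rintro c t ⟨b, hb, h⟩
    exact ⟨c * b, M.mul_mem_left c hb, by rw [smul_eq_mul, map_mul, map_mul, mul_left_comm, h]⟩

theorem mem_colon {z : K} {M : Ideal A} {t : A} :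
    t ∈ colon z M ↔ ∃ b ∈ M, z * algebraMap A K t = algebraMap A K b := Iff.rfl

theorem pow_one_mul (hgen : ∀ i : ℕ, 𝒜 1 * 𝒜 i = 𝒜 (i + 1)) (N i : ℕ) :
    (𝒜 1) ^ N * 𝒜 i = 𝒜 (i + N) := by
  induction N generalizing i with
  | zero => rw [pow_zero, one_mul, Nat.add_zero]
  | succ N ih =>
    rw [pow_succ, mul_assoc, hgen i, ih (i + 1)]
    congr 1
    omega

theorem pow_one_le (N : ℕ) :
    ((𝒜 1) ^ N : Submodule R A) ≤ ((Ideal.span (𝒜 1 : Set A)) ^ N).restrictScalars R := by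
  induction N with
  | zero =>
    intro x _
    simp
  | succ N ih =>
    rw [pow_succ, Submodule.mul_le]
    intro m hm n hn
    rw [Submodule.restrictScalars_mem, pow_succ]
    exact Ideal.mul_mem_mul (ih hm) (Ideal.subset_span hn)

/-- algebraic core of projective normality. -/
theorem exists_eq_algebraMap [IsDomain A] [IsNoetherianRing A] [IsFractionRing A K]
    [IsIntegrallyClosed A]
    (hgen : ∀ i : ℕ, 𝒜 1 * 𝒜 i = 𝒜 (i + 1)) (h1 : 𝒜 1 ≠ ⊥) (d : ℕ) (z : K)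
    (hz : ∀ x : ProjectiveSpectrum 𝒜, ∃ (i j : ℕ) (a s : A), a ∈ 𝒜 i ∧ s ∈ 𝒜 j ∧
      s ∉ x.asHomogeneousIdeal ∧ (i : ℤ) = j + d ∧ z * algebraMap A K s = algebraMap A K a) :
    ∃ a₀ ∈ 𝒜 d, z = algebraMap A K a₀ := by
  have hinj : Function.Injective (algebraMap A K) := IsFractionRing.injective A K
  obtain ⟨f, hf, hf0⟩ := Submodule.exists_mem_ne_zero_of_ne_bot h1
  -- the generic point
  let x₀ : ProjectiveSpectrum 𝒜 := ⟨⊥, by
    rw [HomogeneousIdeal.toIdeal_bot]; exact Ideal.isPrime_bot, by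
    intro hle
    have h' : f ∈ (⊥ : HomogeneousIdeal 𝒜).toIdeal := hle (mem_irrelevant_of_mem_one 𝒜 hf)
    rw [HomogeneousIdeal.toIdeal_bot, Ideal.mem_bot] at h'
    exact hf0 h'⟩
  obtain ⟨i₀, j₀, a', t', ha', ht', ht'x, hdeg, hzt⟩ := hz x₀
  have ht'0 : t' ≠ 0 := by
    intro h
    apply ht'x
    rw [h]
    exact Submodule.zero_mem _
  have hdeg' : i₀ = d + j₀ := by omega
  -- homogeneity
  have hom : ∀ (m : ℕ) (g b : A), g ∈ 𝒜 m → z * algebraMap A K g = algebraMap A K b →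
      b ∈ 𝒜 (m + d) := by
    intro m g b hg hb
    have h2 : b * t' = g * a' := by
      apply hinj
      rw [map_mul, map_mul, ← hb, ← hzt]
      ring
    have h3 : b * t' ∈ 𝒜 (m + d + j₀) := by
      rw [h2, add_assoc, ← hdeg']
      exact SetLike.mul_mem_graded hg ha'
    exact mem_of_mul_mem 𝒜 ht' ht'0 h3
  -- the ideal of denominators
  set J : Ideal A := colon z ⊤ with hJ
  have hirr : (HomogeneousIdeal.irrelevant 𝒜).toIdeal ≤ (J.homogeneousCore 𝒜).toIdeal.radical := by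
    rw [Ideal.IsHomogeneous.radical_eq (J.homogeneousCore 𝒜).isHomogeneous]
    refine le_sInf ?_
    rintro P ⟨hPh, hPle, hPp⟩
    by_contra hnot
    let x : ProjectiveSpectrum 𝒜 := ⟨⟨P, hPh⟩, hPp, hnot⟩
    obtain ⟨i, j, a, s, ha, hs, hsx, -, hzs⟩ := hz x
    apply hsx
    apply hPle
    exact Ideal.mem_homogeneousCore_of_homogeneous_of_mem ⟨j, hs⟩ ⟨a, trivial, hzs⟩
  have hI1 : Ideal.span (𝒜 1 : Set A) ≤ J.radical := by
    refine le_trans ?_ (le_trans hirr (Ideal.radical_mono (Ideal.toIdeal_homogeneousCore_le 𝒜 J)))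
    rw [Ideal.span_le]
    intro g hg
    exact mem_irrelevant_of_mem_one 𝒜 hg
  obtain ⟨N, hN⟩ := Ideal.exists_pow_le_of_le_radical_of_fg hI1
    (IsNoetherian.noetherian (Ideal.span (𝒜 1 : Set A)))
  have hAm : ∀ m, N ≤ m → ∀ g ∈ 𝒜 m, g ∈ J := by
    intro m hm g hg
    have h4 : 𝒜 m = (𝒜 1) ^ N * 𝒜 (m - N) := by
      rw [pow_one_mul 𝒜 hgen]
      congr 1
      omega
    rw [h4] at hg
    refine Submodule.mul_induction_on hg ?_ ?_
    · intro u hu v hv
      exact J.mul_mem_right v (hN (pow_one_le 𝒜 N hu))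
    · intro x y hx hy
      exact J.add_mem hx hy
  set M' : Ideal A := Ideal.span {g | ∃ m, N ≤ m ∧ g ∈ 𝒜 m} with hM'
  have hM'le : M' ≤ colon z M' := by
    rw [hM', Ideal.span_le]
    rintro g ⟨m, hm, hg⟩
    obtain ⟨b, -, hb⟩ := hAm m hm g hg
    exact ⟨b, Ideal.subset_span ⟨m + d, by omega, hom m g b hg hb⟩, hb⟩
  -- integrality
  have hint : IsIntegral A z := by
    refine isIntegral_of_smul_mem_submodule (R := A) (A := K) (M := K)
      (Submodule.map (Algebra.linearMap A K) M') ?_ ?_ z ?_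
    · intro hbot
      have hfN : f ^ N ∈ M' := by
        refine Ideal.subset_span ⟨N, le_rfl, ?_⟩
        have := SetLike.pow_mem_graded N hf
        simpa using this
      have h5 : algebraMap A K (f ^ N) ∈ Submodule.map (Algebra.linearMap A K) M' :=
        ⟨f ^ N, hfN, rfl⟩
      rw [hbot, Submodule.mem_bot] at h5
      exact pow_ne_zero N hf0 (hinj (by rw [h5, map_zero]))
    · exact Submodule.FG.map _ (IsNoetherian.noetherian M')
    · rintro _ ⟨t, ht, rfl⟩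
      obtain ⟨b, hb, hzb⟩ := hM'le ht
      exact ⟨b, hb, by rw [smul_eq_mul]; exact hzb.symm⟩
  obtain ⟨a₀, ha₀⟩ := IsIntegrallyClosed.isIntegral_iff.mp hint
  refine ⟨a₀, ?_, ha₀.symm⟩
  have h6 : a₀ * t' = a' := by
    apply hinj
    rw [map_mul, ha₀, hzt]
  have h7 : a₀ * t' ∈ 𝒜 (d + j₀) := by
    rw [h6, ← hdeg']
    exact ha'
  exact mem_of_mul_mem 𝒜 ht' ht'0 h7

end graded

end Groth.Agent.H54.PN
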