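import Mathlib
import Groth.Prelude.Def_Twist2
import Groth.Agent.H18.TwistStalk
import Groth.Agent.H54.ProjNormalAlg

set_option autoImplicit false
universe u
open CategoryTheory AlgebraicGeometry TopologicalSpace Opposite

namespace Groth.Agent.H54.PN

section
variable {R A : Type u} [CommRing R] [CommRing A] [IsDomain A] [Algebra R A]
  (𝒜 : ℕ → Submodule R A) [GradedAlgebra 𝒜]

theorem primeCompl_le (x : ProjectiveSpectrum 𝒜) :
    x.asHomogeneousIdeal.toIdeal.primeCompl ≤ nonZeroDivisors A := by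
  intro s hs
  rw [mem_nonZeroDivisors_iff_ne_zero]
  rintro rfl
  exact hs (Submodule.zero_mem _)

/-- the local ring of the cone at `x` inside the fraction field -/
noncomputable def toK (x : ProjectiveSpectrum 𝒜) : Twist.Loc 𝒜 x →ₐ[A] FractionRing A :=
  Localization.mapToFractionRing (FractionRing A) x.asHomogeneousIdeal.toIdeal.primeCompl
    (Twist.Loc 𝒜 x) (primeCompl_le 𝒜 x)

theorem toK_mk (x : ProjectiveSpectrum 𝒜) (a : A) (s : x.asHomogeneousIdeal.toIdeal.primeCompl) :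
    toK 𝒜 x (Localization.mk a s) * algebraMap A (FractionRing A) s =
      algebraMap A (FractionRing A) a := by
  have h := (IsLocalization.lift_mk'_spec (S := Twist.Loc 𝒜 x)
    (hg := Localization.map_isUnit_of_le (FractionRing A) _ (primeCompl_le 𝒜 x)) a
    (toK 𝒜 x (Localization.mk a s)) s).mp (by rw [← Localization.mk_eq_mk']; rfl)
  rw [h, mul_comm]

theorem toK_injective (x : ProjectiveSpectrum 𝒜) : Function.Injective (toK 𝒜 x) := by
  refine (IsLocalization.lift_injective_iff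
    (hg := Localization.map_isUnit_of_le (FractionRing A) _ (primeCompl_le 𝒜 x))).2 (fun a b => ?_)
  exact ⟨fun h => congr_arg _ (IsLocalization.injective _ (primeCompl_le 𝒜 x) h),
    fun h => congr_arg _ (IsFractionRing.injective A (FractionRing A) h)⟩

theorem toK_mk_one (x : ProjectiveSpectrum 𝒜) (a : A) :
    toK 𝒜 x (Localization.mk a 1) = algebraMap A (FractionRing A) a := by
  have := toK_mk 𝒜 x a 1
  simpa using this

/-- the generic point of `Proj` of a graded domain with a nonzero element of degree one. -/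
def genericPt {f : A} (hf : f ∈ 𝒜 1) (hf0 : f ≠ 0) : ProjectiveSpectrum 𝒜 :=
  ⟨⊥, by rw [HomogeneousIdeal.toIdeal_bot]; exact Ideal.isPrime_bot, by
    intro hle
    have h' : f ∈ (⊥ : HomogeneousIdeal 𝒜).toIdeal := hle (mem_irrelevant_of_mem_one 𝒜 hf)
    rw [HomogeneousIdeal.toIdeal_bot, Ideal.mem_bot] at h'
    exact hf0 h'⟩

theorem genericPt_mem_of_isOpen {f : A} (hf : f ∈ 𝒜 1) (hf0 : f ≠ 0)
    (V : Set (ProjectiveSpectrum 𝒜)) (hV : IsOpen V) (x : ProjectiveSpectrum 𝒜) (hx : x ∈ V) :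
    genericPt 𝒜 hf hf0 ∈ V := by
  obtain ⟨s, hs⟩ := (ProjectiveSpectrum.isOpen_iff 𝒜 V).mp hV
  by_contra hnot
  have h1 : genericPt 𝒜 hf hf0 ∈ ProjectiveSpectrum.zeroLocus 𝒜 s := by
    rw [← hs]; exact hnot
  have h2 : x ∉ ProjectiveSpectrum.zeroLocus 𝒜 s := by
    rw [← hs]; exact fun h => h hx
  apply h2
  rw [ProjectiveSpectrum.mem_zeroLocus] at h1 ⊢
  intro g hg
  have h3 : g ∈ (⊥ : HomogeneousIdeal 𝒜).toIdeal := h1 hg
  rw [HomogeneousIdeal.toIdeal_bot, Ideal.mem_bot] at h3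
  rw [h3]
  exact Submodule.zero_mem _

theorem globalOf_bijective [IsNoetherianRing A]
    (hgen : ∀ i : ℕ, 𝒜 1 * 𝒜 i = 𝒜 (i + 1)) (h1 : 𝒜 1 ≠ ⊥) (hint : IsIntegrallyClosed A) (d : ℕ) :
    Function.Bijective (fun a : ↥(𝒜 d) => Twist.globalOf 𝒜 a) := by
  obtain ⟨f, hf, hf0⟩ := Submodule.exists_mem_ne_zero_of_ne_bot h1
  set x₀ : ProjectiveSpectrum 𝒜 := genericPt 𝒜 hf hf0 with hx₀
  constructor
  · intro a b hab
    have h2 : ((Twist.globalOf 𝒜 a).1 ⟨x₀, trivial⟩).1 = ((Twist.globalOf 𝒜 b).1 ⟨x₀, trivial⟩).1 := by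
      have hab' : Twist.globalOf 𝒜 a = Twist.globalOf 𝒜 b := hab
      rw [hab']
    have h3 := congrArg (toK 𝒜 x₀) h2
    have h4 : toK 𝒜 x₀ (Localization.mk a.1 1) = toK 𝒜 x₀ (Localization.mk b.1 1) := h3
    rw [toK_mk_one, toK_mk_one] at h4
    exact Subtype.ext (IsFractionRing.injective A (FractionRing A) h4)
  · intro s
    set z : FractionRing A := toK 𝒜 x₀ (s.1 ⟨x₀, trivial⟩).1 with hz
    have hconst : ∀ x : ProjectiveSpectrum 𝒜, toK 𝒜 x (s.1 ⟨x, trivial⟩).1 = z := by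
      intro x
      obtain ⟨V, hxV, i, i', j, a, t, t_nin, -, hfr⟩ := s.2 ⟨x, trivial⟩
      have hx₀V : x₀ ∈ V := genericPt_mem_of_isOpen 𝒜 hf hf0 V.1 V.2 x hxV
      have e1 := hfr ⟨x, hxV⟩
      have e2 := hfr ⟨x₀, hx₀V⟩
      have e1' : (s.1 ⟨x, trivial⟩).1 = Localization.mk a.1 ⟨t.1, t_nin ⟨x, hxV⟩⟩ := e1
      have e2' : (s.1 ⟨x₀, trivial⟩).1 = Localization.mk a.1 ⟨t.1, t_nin ⟨x₀, hx₀V⟩⟩ := e2
      have ht0 : algebraMap A (FractionRing A) t.1 ≠ 0 := by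
        intro h
        have : t.1 = 0 := IsFractionRing.injective A (FractionRing A) (by rw [h, map_zero])
        exact t_nin ⟨x, hxV⟩ (by rw [this]; exact Submodule.zero_mem _)
      apply mul_right_cancel₀ ht0
      rw [hz, e1', e2']
      exact (toK_mk 𝒜 x a.1 ⟨t.1, t_nin ⟨x, hxV⟩⟩).trans
        (toK_mk 𝒜 x₀ a.1 ⟨t.1, t_nin ⟨x₀, hx₀V⟩⟩).symm
    have hzx : ∀ x : ProjectiveSpectrum 𝒜, ∃ (i j : ℕ) (a t : A), a ∈ 𝒜 i ∧ t ∈ 𝒜 j ∧
        t ∉ x.asHomogeneousIdeal ∧ (i : ℤ) = j + d ∧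
        z * algebraMap A (FractionRing A) t = algebraMap A (FractionRing A) a := by
      intro x
      obtain ⟨i, j, a, t, ha, ht, htx, hdeg, heq⟩ :=
        Groth.Agent.H18.twistAt_eq_fraction 𝒜 d x _ (s.1 ⟨x, trivial⟩).2
      refine ⟨i, j, a, t, ha, ht, htx, hdeg, ?_⟩
      rw [← hconst x, heq]
      exact toK_mk 𝒜 x a ⟨t, htx⟩
    obtain ⟨a₀, ha₀, hza⟩ := exists_eq_algebraMap 𝒜 hgen h1 d z hzx
    refine ⟨⟨a₀, ha₀⟩, ?_⟩
    apply Subtype.ext
    funext x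
    apply Subtype.ext
    apply toK_injective 𝒜 x.1
    have h5 : toK 𝒜 x.1 (s.1 x).1 = z := hconst x.1
    rw [h5, hza]
    exact toK_mk_one 𝒜 x.1 a₀

end

end Groth.Agent.H54.PN
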