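import Groth.Agent.H54.FpqcLocTriv5
import Groth.Agent.H6.PuncturedDepth
import Groth.Prelude.Def_Formal2

/-!
helper54: the Picard group of the punctured spectrum of a Noetherian local ring of depth `≥ 2`
injects into that of the punctured spectrum of the completion.
-/

set_option autoImplicit false
set_option linter.style.haveILetI false
universe u
open CategoryTheory CategoryTheory.Limits AlgebraicGeometry Scheme.Modules Opposite TopologicalSpace

namespace Groth.Agent.H54.PuncturedPic

open Groth.Agent.H18 Groth.Agent.H18.PUP Groth.Agent.H18.STL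
open Groth.Agent.H6.PuncturedSections Groth.Agent.H6.PuncturedDT Groth.Agent.H58
  Groth.Agent.H6.PuncturedDepth Groth.Agent.H6.PuncturedAffine

/-- every invertible module on the spectrum of a local ring is trivial -/
theorem picTrivial_spec_of_isLocalRing (A : Type u) [CommRing A] [IsLocalRing A]
    (N : (Spec (CommRingCat.of A)).Modules) (hN : PicF.IsInvertible N) :
    Nonempty (N ≅ Coh.structureModule (Spec (CommRingCat.of A))) := by
  obtain ⟨V, n, hV, hn⟩ := exists_basis_of_isInvertible hN (IsLocalRing.closedPoint A)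
  have hVtop : V = ⊤ := IsLocalRing.closed_point_mem_iff.mp hV
  subst hVtop
  exact Groth.Agent.H54.BasisDescent.nonempty_iso_of_isBasisOn_top hn

theorem bijective_map_of_eq {X : Scheme.{u}} {W V : X.Opens} (h : W ≤ V) (e : W = V) :
    Function.Bijective (X.presheaf.map (homOfLE h).op) := by
  subst e
  have : homOfLE h = 𝟙 _ := Subsingleton.elim _ _
  rw [this, op_id, CategoryTheory.Functor.map_id]
  exact Function.bijective_id

variable (A : Type u) [CommRing A] [IsNoetherianRing A] [IsLocalRing A]

theorem bijective_res_puncturedOpen (hdepth : (2 : ℕ∞) ≤ LocCoh.depth A A)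
    (W : (Spec (CommRingCat.of A)).Opens) (hle : W ≤ ⊤)
    (hW : W = LocCoh.puncturedOpen A (IsLocalRing.maximalIdeal A)) :
    Function.Bijective ((Spec (CommRingCat.of A)).presheaf.map (homOfLE hle).op) := by
  subst hW
  have hne : IsLocalRing.maximalIdeal A • (⊤ : Submodule A A) ≠ ⊤ := by
    have : IsLocalRing.maximalIdeal A • (⊤ : Submodule A A) = IsLocalRing.maximalIdeal A := by
      rw [smul_eq_mul, Ideal.mul_top]
    rw [this]
    exact (IsLocalRing.maximalIdeal.isMaximal A).ne_top
  have h1 : Function.Bijective (toO A (LocCoh.puncturedOpen A (IsLocalRing.maximalIdeal A))) :=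
    toO_bijective_of_two_le_idealDepth (IsLocalRing.maximalIdeal A) A hne hdepth
  have h2 := isIso_res_of_bijective_ρ _ hle ((bijective_ρ_iff _).mpr h1)
  exact (ConcreteCategory.isIso_iff_bijective _).1 h2

theorem bijective_ι_app (hdepth : (2 : ℕ∞) ≤ LocCoh.depth A A)
    (V : (Spec (CommRingCat.of A)).Opens) :
    Function.Bijective ((FEt.puncturedSpec A).ι.app V) := by
  rw [Scheme.Opens.ι_app]
  have himg : (FEt.puncturedSpec A).ι ''ᵁ (FEt.puncturedSpec A).ι ⁻¹ᵁ V =
      FEt.puncturedSpec A ⊓ V := by
    rw [Scheme.Hom.image_preimage_eq_opensRange_inf, Scheme.Opens.opensRange_ι]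
  by_cases hV : IsLocalRing.closedPoint A ∈ V
  · have hVtop : V = ⊤ := IsLocalRing.closed_point_mem_iff.mp hV
    subst hVtop
    refine bijective_res_puncturedOpen A hdepth _ _ ?_
    rw [himg, inf_top_eq, puncturedSpec_eq]
  · refine bijective_map_of_eq _ ?_
    rw [himg, inf_eq_right]
    intro x hx
    change x ∈ ({IsLocalRing.closedPoint A}ᶜ : Set (PrimeSpectrum A))
    rintro rfl
    exact hV hx

theorem main (hdepth : (2 : ℕ∞) ≤ LocCoh.depth A A) :
    Formal2.PicPullbackInjective
      (Spec.map (CommRingCat.ofHom (algebraMap A (AdicCompletion (IsLocalRing.maximalIdeal A) A))) ∣_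
        FEt.puncturedSpec A) := by
  intro L hL htriv
  haveI : Module.FaithfullyFlat A (AdicCompletion (IsLocalRing.maximalIdeal A) A) :=
    Module.FaithfullyFlat.of_flat_of_isLocalHom
  have hff : (algebraMap A (AdicCompletion (IsLocalRing.maximalIdeal A) A)).FaithfullyFlat :=
    (RingHom.faithfullyFlat_algebraMap_iff).mpr inferInstance
  obtain ⟨hfl, hsurj⟩ := (flat_and_surjective_SpecMap_iff (CommRingCat.ofHom
    (algebraMap A (AdicCompletion (IsLocalRing.maximalIdeal A) A)))).mpr hff
  haveI := hfl
  haveI := hsurj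
  exact Groth.Agent.H54.FpqcLocTriv.trivial_of_pullback_trivial_of_picTrivial
    (isPullback_morphismRestrict _ (FEt.puncturedSpec A)) (bijective_ι_app A hdepth)
    (picTrivial_spec_of_isLocalRing A) L hL htriv

end Groth.Agent.H54.PuncturedPic
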