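import Mathlib
import Groth.Agent.H54.FormsAway

set_option autoImplicit false
universe u
open AlgebraicGeometry TopologicalSpace

namespace Groth.Agent.H54

theorem krullDim_add_one_le_of_forall_length {α : Type*} [Preorder α] (B : WithBot ℕ∞)
    (h : ∀ q : LTSeries α, (q.length : WithBot ℕ∞) + 1 ≤ B) : Order.krullDim α + 1 ≤ B := by
  by_cases hemp : IsEmpty α
  · rw [Order.krullDim_eq_bot, WithBot.bot_add]; exact bot_le
  rw [not_isEmpty_iff] at hemp
  obtain ⟨a⟩ := hemp
  have h0 := h (RelSeries.singleton _ a)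
  induction B using WithBot.recBotCoe with
  | bot => simp at h0
  | coe B =>
    induction B using ENat.recTopCoe with
    | top => exact le_top
    | coe N =>
      have hN : 1 ≤ N := by
        have : ((0 + 1 : ℕ) : WithBot ℕ∞) ≤ ((N : ℕ) : WithBot ℕ∞) := by
          push_cast
          simpa using h0
        exact_mod_cast this
      obtain ⟨N', rfl⟩ : ∃ N', N = N' + 1 := ⟨N - 1, by omega⟩
      have hle : Order.krullDim α ≤ ((N' : ℕ) : WithBot ℕ∞) := by
        apply iSup_le
        intro q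
        have h1 := h q
        have h2 : ((q.length + 1 : ℕ) : WithBot ℕ∞) ≤ ((N' + 1 : ℕ) : WithBot ℕ∞) := by
          push_cast
          exact h1
        have h3 : q.length + 1 ≤ N' + 1 := by exact_mod_cast h2
        exact_mod_cast (by omega : q.length ≤ N')
      calc Order.krullDim α + 1 ≤ ((N' : ℕ) : WithBot ℕ∞) + 1 := by gcongr
        _ = (((N' + 1 : ℕ) : ℕ∞) : WithBot ℕ∞) := by push_cast; rfl

theorem krullDim_add_one_le_of_forall_exists_lt {α : Type*} [Preorder α] (S' S : Set α)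
    (hSS' : S' ⊆ S) (H : ∀ x ∈ S', ∃ y ∈ S, y < x) :
    Order.krullDim ↥S' + 1 ≤ Order.krullDim ↥S := by
  apply krullDim_add_one_le_of_forall_length
  intro q
  obtain ⟨y, hyS, hy⟩ := H q.head.1 q.head.2
  let incl : ↥S' → ↥S := fun x => ⟨x.1, hSS' x.2⟩
  have hincl : StrictMono incl := fun _ _ h => h
  let q' : LTSeries ↥S := (q.map incl hincl).cons ⟨y, hyS⟩ (by rw [LTSeries.head_map]; exact hy)
  have hq' : q'.length = q.length + 1 := by simp [q']
  have := Order.LTSeries.length_le_krullDim q'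
  rw [hq'] at this
  exact_mod_cast this

section top
variable {A σ : Type*} [CommRing A] [SetLike σ A] [AddSubgroupClass σ A] (𝒜 : ℕ → σ) [GradedRing 𝒜]

attribute [local instance] specializationOrder in
/-- Points of a quasi-sober subset of the projective spectrum correspond to its irreducible closed
subsets (order reversing). -/
noncomputable def pointsEquivIrreducibleCloseds (Z : Set (ProjectiveSpectrum 𝒜))
    [QuasiSober ↥Z] : ↥Z ≃o (IrreducibleCloseds ↥Z)ᵒᵈ :=
  { (irreducibleSetEquivPoints (α := ↥Z)).toEquiv.symm.trans OrderDual.toDual with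
    map_rel_iff' := fun {p q} =>
      (RelIso.symm (irreducibleSetEquivPoints (α := ↥Z))).map_rel_iff.trans
        ((subtype_specializes_iff p q).trans
          ((specializes_iff_mem_closure (x := p.1) (y := q.1)).trans
            (ProjectiveSpectrum.le_iff_mem_closure 𝒜 p.1 q.1).symm)) }

theorem topologicalKrullDim_eq_krullDim_of_quasiSober (Z : Set (ProjectiveSpectrum 𝒜))
    [QuasiSober ↥Z] : topologicalKrullDim ↥Z = Order.krullDim ↥Z :=
  Order.krullDim_orderDual.symm.trans <| Order.krullDim_eq_of_orderIso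
    (pointsEquivIrreducibleCloseds 𝒜 Z).symm

theorem quasiSober_inter_compl (Z Y : Set (ProjectiveSpectrum 𝒜)) (hZ : IsClosed Z)
    (hY : IsClosed Y) : QuasiSober ↥(Z ∩ Yᶜ) := by
  have : QuasiSober ↥(Yᶜ) := (hY.isOpen_compl.isOpenEmbedding_subtypeVal).quasiSober
  exact QuasiSober.inter_of_isClosed_of_quasiSober_right Z hZ

end top

section poly
variable (k : Type u) [Field k] (n : ℕ)

local notation "𝒜" => CohB1.polyGrading n k
local notation "A" => MvPolynomial (Fin (n + 1)) k
local notation "m₊" => HomogeneousIdeal.toIdeal (HomogeneousIdeal.irrelevant (CohB1.polyGrading n k))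

/-- the part of `V₊(J)` away from `V₊(IY)` -/
def awayLocus (J IY : Ideal A) : Set (ProjectiveSpectrum 𝒜) :=
  ProjectiveSpectrum.zeroLocus 𝒜 (J : Set A) ∩ (ProjectiveSpectrum.zeroLocus 𝒜 (IY : Set A))ᶜ

theorem topologicalKrullDim_awayLocus (J IY : Ideal A) :
    topologicalKrullDim ↥(awayLocus k n J IY) = Order.krullDim ↥(awayLocus k n J IY) := by
  have : QuasiSober ↥(awayLocus k n J IY) :=
    quasiSober_inter_compl 𝒜 _ _ (ProjectiveSpectrum.isClosed_zeroLocus 𝒜 _)
      (ProjectiveSpectrum.isClosed_zeroLocus 𝒜 _)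
  exact topologicalKrullDim_eq_krullDim_of_quasiSober 𝒜 _

/-- One step: a hypersurface through `V₊(IY)` dropping the dimension of the part away from
`V₊(IY)`. -/
theorem exists_form_awayLocus_drop (J IY : Ideal A) (hJ : J.IsHomogeneous 𝒜)
    (hIY : IY.IsHomogeneous 𝒜) :
    ∃ (d : ℕ) (h : A), 0 < d ∧ h.IsHomogeneous d ∧ h ∈ IY ∧
      topologicalKrullDim ↥(awayLocus k n (J ⊔ Ideal.span {h}) IY) + 1 ≤
        topologicalKrullDim ↥(awayLocus k n J IY) := by
  classical
  have hfin : J.minimalPrimes.Finite := Ideal.finite_minimalPrimes_of_isNoetherianRing A J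
  set S : Finset (Ideal A) := hfin.toFinset.filter (fun Q => ¬ IY ≤ Q ∧ Q ≠ m₊) with hS
  have hSmem : ∀ Q, Q ∈ S ↔ Q ∈ J.minimalPrimes ∧ ¬ IY ≤ Q ∧ Q ≠ m₊ := by
    intro Q
    rw [hS, Finset.mem_filter, Set.Finite.mem_toFinset]
  have hQhom : ∀ Q ∈ S, Q.IsHomogeneous 𝒜 := fun Q hQ =>
    isHomogeneous_of_mem_minimalPrimes 𝒜 hJ ((hSmem Q).mp hQ).1
  have hQprime : ∀ Q ∈ S, Q.IsPrime := fun Q hQ => ((hSmem Q).mp hQ).1.1.1
  obtain ⟨d, h, hd, hh, hhI, hhQ⟩ := exists_homogeneous_mem_forall_notMem 𝒜 IY hIY S hQprime hQhom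
    (fun Q hQ => ((hSmem Q).mp hQ).2.1)
    (fun Q hQ hle => ((hSmem Q).mp hQ).2.2
      (le_antisymm (le_irrelevant_of_isHomogeneous k n (hQhom Q hQ) (hQprime Q hQ).ne_top) hle))
    (fun Q hQ Q' hQ' hle =>
      le_antisymm hle (((hSmem Q).mp hQ).1.2 ((hSmem Q').mp hQ').1.1 hle))
  refine ⟨d, h, hd, (MvPolynomial.mem_homogeneousSubmodule d h).mp hh, hhI, ?_⟩
  rw [topologicalKrullDim_awayLocus, topologicalKrullDim_awayLocus]
  apply krullDim_add_one_le_of_forall_exists_lt
  · rintro x ⟨hx1, hx2⟩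
    refine ⟨?_, hx2⟩
    exact ProjectiveSpectrum.zeroLocus_anti_mono_ideal 𝒜 le_sup_left hx1
  · rintro x ⟨hx1, hx2⟩
    have hle : J ⊔ Ideal.span {h} ≤ x.asHomogeneousIdeal.toIdeal := hx1
    have hJP : J ≤ x.asHomogeneousIdeal.toIdeal := le_trans le_sup_left hle
    have hhP : h ∈ x.asHomogeneousIdeal.toIdeal :=
      hle (Ideal.mem_sup_right (Ideal.mem_span_singleton_self _))
    have hIYP : ¬ IY ≤ x.asHomogeneousIdeal.toIdeal := fun hle' => hx2 hle'
    obtain ⟨Q, hQ, hQP⟩ := Ideal.exists_minimalPrimes_le hJP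
    have hIYQ : ¬ IY ≤ Q := fun hle' => hIYP (le_trans hle' hQP)
    have hQm : Q ≠ m₊ := by
      intro hQm
      have hlt := toIdeal_lt_irrelevant k n x
      exact absurd (hQm ▸ hQP) (not_le_of_gt hlt)
    have hQS : Q ∈ S := (hSmem Q).mpr ⟨hQ, hIYQ, hQm⟩
    have hhQ' : h ∉ Q := hhQ Q hQS
    refine ⟨pointOfPrime k n Q (hQprime Q hQS) (hQhom Q hQS) hQm, ⟨?_, ?_⟩, ?_⟩
    · exact hQ.1.2
    · intro hmem
      exact hIYQ hmem
    · refine lt_of_le_of_ne ?_ ?_
      · exact hQP
      · intro heq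
        apply hhQ'
        have : (pointOfPrime k n Q (hQprime Q hQS) (hQhom Q hQS) hQm).asHomogeneousIdeal.toIdeal =
            x.asHomogeneousIdeal.toIdeal := by rw [heq]
        rw [pointOfPrime_toIdeal] at this
        rw [this]
        exact hhP

end poly

end Groth.Agent.H54
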