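import Mathlib
import Groth.Agent.H54.QuasiProjCover1

set_option autoImplicit false
universe u
open AlgebraicGeometry TopologicalSpace

namespace Groth.Agent.H54

section poly
variable (k : Type u) [Field k] (n : ℕ)

local notation "𝒜" => CohB1.polyGrading n k
local notation "A" => MvPolynomial (Fin (n + 1)) k
local notation "m₊" => HomogeneousIdeal.toIdeal (HomogeneousIdeal.irrelevant (CohB1.polyGrading n k))

/-- Iterating the previous step. -/
theorem exists_forms_awayLocus (IY : Ideal A) (hIY : IY.IsHomogeneous 𝒜) :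
    ∀ (e : ℕ) (J : Ideal A), J.IsHomogeneous 𝒜 →
    topologicalKrullDim ↥(awayLocus k n J IY) + 1 ≤ (e : WithBot ℕ∞) →
    ∃ h : Fin e → A, (∀ i, h i ∈ IY ∧ ∃ d : ℕ, 0 < d ∧ (h i).IsHomogeneous d) ∧
      awayLocus k n (J ⊔ Ideal.span (Set.range h)) IY = ∅ := by
  intro e
  induction e with
  | zero =>
    intro J hJ hdim
    refine ⟨Fin.elim0, fun i => i.elim0, ?_⟩
    have hJeq : J ⊔ Ideal.span (Set.range (Fin.elim0 : Fin 0 → A)) = J := by
      rw [Set.range_eq_empty, Ideal.span_empty, sup_bot_eq]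
    rw [hJeq]
    by_contra hne
    rw [← Set.not_nonempty_iff_eq_empty, not_not] at hne
    have hne' : Nonempty ↥(awayLocus k n J IY) := hne.to_subtype
    rw [topologicalKrullDim_awayLocus] at hdim
    have h0 : (0 : WithBot ℕ∞) ≤ Order.krullDim ↥(awayLocus k n J IY) := Order.krullDim_nonneg
    have h1 : (0 : WithBot ℕ∞) + 1 ≤ ((0 : ℕ) : WithBot ℕ∞) := le_trans (by gcongr) hdim
    rw [zero_add, Nat.cast_zero] at h1
    exact absurd h1 (by norm_num)
  | succ e ih =>
    intro J hJ hdim
    obtain ⟨d, h₀, hd, hh₀, hh₀I, hdrop⟩ := exists_form_awayLocus_drop k n J IY hJ hIY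
    have hJ' : (J ⊔ Ideal.span {h₀}).IsHomogeneous 𝒜 :=
      hJ.sup (Ideal.homogeneous_span 𝒜 _ (by
        rintro _ rfl
        exact ⟨d, (MvPolynomial.mem_homogeneousSubmodule d _).mpr hh₀⟩))
    have hdim' : topologicalKrullDim ↥(awayLocus k n (J ⊔ Ideal.span {h₀}) IY) + 1 ≤
        (e : WithBot ℕ∞) := by
      apply withBot_enat_le_of_add_one_le_add_one
      refine le_trans (add_le_add_left hdrop 1) (le_trans hdim ?_)
      push_cast
      exact le_refl _
    obtain ⟨h', hh', hfin⟩ := ih _ hJ' hdim'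
    refine ⟨Fin.cons h₀ h', ?_, ?_⟩
    · intro i
      refine Fin.cases ?_ ?_ i
      · simpa using ⟨hh₀I, d, hd, hh₀⟩
      · intro j
        simpa using hh' j
    · rw [Fin.range_cons, Ideal.span_insert, ← sup_assoc]
      exact hfin

/-- Hypersurfaces through a closed subset `Y` cutting a closed subset `X` of projective space down
to `Y`, with as many hypersurfaces as the dimension of `X ∖ Y` plus one. -/
theorem exists_forms_inter_subset' (r : ℕ) (X Y : Set (ProjectiveSpectrum 𝒜)) (hX : IsClosed X)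
    (hY : IsClosed Y) (hdim : topologicalKrullDim ↥(X ∩ Yᶜ) ≤ (r : WithBot ℕ∞)) :
    ∃ h : Fin (r + 1) → A, (∀ i, ∃ d : ℕ, 0 < d ∧ (h i).IsHomogeneous d) ∧
      (∀ i, Y ⊆ ProjectiveSpectrum.zeroLocus 𝒜 {h i}) ∧
      X ∩ ProjectiveSpectrum.zeroLocus 𝒜 (Set.range h) ⊆ Y := by
  classical
  set IX := (ProjectiveSpectrum.vanishingIdeal X).toIdeal with hIX
  set IY := (ProjectiveSpectrum.vanishingIdeal Y).toIdeal with hIYdef
  have hIXhom : IX.IsHomogeneous 𝒜 := (ProjectiveSpectrum.vanishingIdeal X).isHomogeneous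
  have hIYhom : IY.IsHomogeneous 𝒜 := (ProjectiveSpectrum.vanishingIdeal Y).isHomogeneous
  have hXeq : ProjectiveSpectrum.zeroLocus 𝒜 (IX : Set A) = X := by
    rw [hIX]
    exact (ProjectiveSpectrum.zeroLocus_vanishingIdeal_eq_closure 𝒜 X).trans hX.closure_eq
  have hYeq : ProjectiveSpectrum.zeroLocus 𝒜 (IY : Set A) = Y := by
    rw [hIYdef]
    exact (ProjectiveSpectrum.zeroLocus_vanishingIdeal_eq_closure 𝒜 Y).trans hY.closure_eq
  have hdim' : topologicalKrullDim ↥(awayLocus k n IX IY) + 1 ≤ ((r + 1 : ℕ) : WithBot ℕ∞) := by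
    have : awayLocus k n IX IY = X ∩ Yᶜ := by
      rw [awayLocus, hXeq, hYeq]
    rw [this]
    push_cast
    gcongr
  obtain ⟨h, hh, hfin⟩ := exists_forms_awayLocus k n IY hIYhom (r + 1) IX hIXhom hdim'
  refine ⟨h, fun i => (hh i).2, ?_, ?_⟩
  · intro i y hy
    rw [← hYeq] at hy
    intro a ha
    rw [Set.mem_singleton_iff] at ha
    subst ha
    exact hy (hh i).1
  · rintro x ⟨hxX, hxh⟩
    by_contra hxY
    have : x ∈ awayLocus k n (IX ⊔ Ideal.span (Set.range h)) IY := by
      refine ⟨?_, ?_⟩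
      · have hJx : IX ⊔ Ideal.span (Set.range h) ≤ x.asHomogeneousIdeal.toIdeal := by
          apply sup_le
          · rw [← hXeq] at hxX
            exact hxX
          · rw [Ideal.span_le]
            exact hxh
        exact hJx
      · rw [hYeq]
        exact hxY
    rw [hfin] at this
    exact this

end poly

section scheme
variable (k : Type u) [Field k] (n : ℕ)

local notation "𝒜" => CohB1.polyGrading n k
local notation "A" => MvPolynomial (Fin (n + 1)) k

theorem exists_affine_cover_of_immersion (r : ℕ) {X : Scheme.{u}} (j : X ⟶ Proj 𝒜)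
    [IsImmersion j] (hX : topologicalKrullDim ↥X = r) :
    ∃ U : Fin (r + 1) → X.Opens, (∀ i, IsAffineOpen (U i)) ∧ ⨆ i, U i = ⊤ := by
  classical
  set R : Set (ProjectiveSpectrum 𝒜) := Set.range j with hR
  have hRlc : IsLocallyClosed R := j.isLocallyClosed_range
  set Xs : Set (ProjectiveSpectrum 𝒜) := closure R with hXs
  set Ys : Set (ProjectiveSpectrum 𝒜) := Xs \ R with hYs
  have hXcl : IsClosed Xs := isClosed_closure
  have hYcl : IsClosed Ys := by
    have := hRlc.isOpen_coborder
    rw [coborder] at this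
    exact isOpen_compl_iff.mp this
  have hinter : Xs ∩ Ysᶜ = R := by
    ext x
    simp only [hYs, Set.mem_inter_iff, Set.mem_compl_iff, Set.mem_sdiff, not_and, not_not]
    constructor
    · rintro ⟨h1, h2⟩
      exact h2 h1
    · intro hx
      exact ⟨subset_closure hx, fun _ => hx⟩
  have hdim : topologicalKrullDim ↥(Xs ∩ Ysᶜ) ≤ (r : WithBot ℕ∞) := by
    rw [hinter, ← hX]
    exact le_of_eq (IsHomeomorph.topologicalKrullDim_eq _
      (j.isEmbedding.toHomeomorph).isHomeomorph).symm
  obtain ⟨h, hh, hY, hXY⟩ := exists_forms_inter_subset' k n r Xs Ys hXcl hYcl hdim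
  refine ⟨fun i => j ⁻¹ᵁ (Proj.basicOpen 𝒜 (h i)), ?_, ?_⟩
  · intro i
    obtain ⟨d, hd, hhom⟩ := hh i
    have hD : IsAffineOpen (Proj.basicOpen 𝒜 (h i)) := Proj.isAffineOpen_basicOpen 𝒜 (h i)
      ((MvPolynomial.mem_homogeneousSubmodule d _).mpr hhom) hd
    have hclosed : IsClosed (Set.range (j ∣_ (Proj.basicOpen 𝒜 (h i)))) := by
      have hrange : Set.range (j ∣_ (Proj.basicOpen 𝒜 (h i))) = Subtype.val ⁻¹' Xs := by
        ext ⟨x, hx⟩
        constructor
        · rintro ⟨y, hy⟩
          have h1 := morphismRestrict_base_coe j (Proj.basicOpen 𝒜 (h i)) y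
          rw [hy] at h1
          show x ∈ Xs
          exact subset_closure ⟨y.1, h1.symm⟩
        · intro hxs
          have hxR : x ∈ R := by
            by_contra hxr
            have hxY : x ∈ Ys := ⟨hxs, hxr⟩
            have := hY i hxY
            rw [ProjectiveSpectrum.mem_zeroLocus, Set.singleton_subset_iff] at this
            exact (ProjectiveSpectrum.mem_basicOpen 𝒜 (h i) x).mp hx this
          obtain ⟨y, hy⟩ := hxR
          have hyD : y ∈ j ⁻¹ᵁ (Proj.basicOpen 𝒜 (h i)) := by
            show j y ∈ Proj.basicOpen 𝒜 (h i)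
            rw [hy]
            exact hx
          refine ⟨⟨y, hyD⟩, ?_⟩
          apply Subtype.ext
          rw [morphismRestrict_base_coe]
          exact hy
      rw [hrange]
      exact hXcl.preimage continuous_subtype_val
    have hci : IsClosedImmersion (j ∣_ (Proj.basicOpen 𝒜 (h i))) :=
      IsClosedImmersion.of_isPreimmersion _ hclosed
    have : IsAffine (Proj.basicOpen 𝒜 (h i)).toScheme := hD
    exact isAffine_of_isAffineHom (j ∣_ (Proj.basicOpen 𝒜 (h i)))
  · ext x
    simp only [Opens.coe_iSup, Set.mem_iUnion, SetLike.mem_coe, Opens.coe_top, Set.mem_univ, iff_true]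
    by_contra hcon
    push Not at hcon
    have hxR : j x ∈ R := Set.mem_range_self x
    have : j x ∈ Ys := by
      apply hXY
      refine ⟨subset_closure hxR, ?_⟩
      rintro _ ⟨i, rfl⟩
      by_contra hmem
      apply hcon i
      exact (ProjectiveSpectrum.mem_basicOpen 𝒜 (h i) (j x)).mpr hmem
    exact this.2 hxR

end scheme

end Groth.Agent.H54
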