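import Mathlib
import Groth.Prelude.Def_MeroDiv
import Groth.Prelude.Def_Pic
import Groth.Agent.H54.MeroDivIso
import Groth.Agent.H8.RegMero
import Groth.Agent.S8869

set_option autoImplicit false
universe u
open CategoryTheory CategoryTheory.Limits AlgebraicGeometry TopologicalSpace Opposite

namespace Groth.Agent.H54.RegExtLF

open Curv2 Mero Groth.Agent.H8 Groth.Agent.H18 Groth.Agent.H54.MeroChart

variable {X : Scheme.{u}}

set_option backward.isDefEq.respectTransparency false in
/-- nonzerodivisor germs extend to regular sections when weakly associated points are locally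
finite -/
theorem regExt_of_locFinWeakAss (hX : LocFinWeakAss X) : RegExt X := by
  intro x g hg
  obtain ⟨W₁, hxW₁, hfinW₁⟩ := hX x
  obtain ⟨W₀, hxW₀, f₀, rfl⟩ := X.presheaf.exists_germ_eq g
  obtain ⟨_, ⟨U, hU, rfl⟩, hxU, hUW'⟩ :=
    X.isBasis_affineOpens.exists_subset_of_mem_open (show x ∈ ((W₀ ⊓ W₁ : X.Opens) : Set X) from
      ⟨hxW₀, hxW₁⟩) (W₀ ⊓ W₁).2
  have hU : IsAffineOpen U := hU
  have hUW : U ≤ W₀ := fun y hy => (hUW' hy).1
  have hUW₁ : U ≤ W₁ := fun y hy => (hUW' hy).2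
  have hxU : x ∈ U := hxU
  let f : Γ(X, U) := X.presheaf.map (homOfLE hUW).op f₀
  have hfx : X.presheaf.germ U x hxU f = X.presheaf.germ W₀ x hxW₀ f₀ :=
    TopCat.Presheaf.germ_res_apply X.presheaf (homOfLE hUW) x hxU f₀
  -- the bad points
  let bad : Set X := {y | (y ∈ U ∧ IsWeakAssPoint (Coh.structureModule X) y) ∧ ¬ y ⤳ x}
  have hbad : bad.Finite := (hfinW₁ U hU hUW₁).subset fun y hy => hy.1
  let Z : Set X := ⋃ y ∈ bad, closure {y}
  have hZ : IsClosed Z := hbad.isClosed_biUnion fun _ _ => isClosed_closure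
  have hxZ : x ∉ Z := by
    intro h
    simp only [Z, Set.mem_iUnion] at h
    obtain ⟨y, hy, hxy⟩ := h
    exact hy.2 (specializes_iff_mem_closure.mpr hxy)
  let W : X.Opens := U ⊓ ⟨Zᶜ, hZ.isOpen_compl⟩
  have hxW : x ∈ W := ⟨hxU, hxZ⟩
  have hWU : W ≤ U := inf_le_left
  refine ⟨W, hxW, X.presheaf.map (homOfLE hWU).op f, ?_, ?_⟩
  · apply germ_mem_nonZeroDivisors_of_weakAss
    intro y hy hyw
    have hyU : y ∈ U := hWU hy
    rw [TopCat.Presheaf.germ_res_apply X.presheaf (homOfLE hWU) y hy f]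
    have hyx : y ⤳ x := by
      by_contra hcon
      have : y ∈ Z := by
        simp only [Z, Set.mem_iUnion]
        exact ⟨y, ⟨⟨hyU, hyw⟩, hcon⟩, subset_closure rfl⟩
      exact hy.2 this
    exact germ_mem_nonZeroDivisors_of_specializes hU hxU hyU hyx f (by rw [hfx]; exact hg)
  · rw [TopCat.Presheaf.germ_res_apply X.presheaf (homOfLE hWU) x hxW f, hfx]

/-- on a reduced scheme with locally finite irreducible components every invertible module is the
module of a divisor -/
theorem exists_iso_divMod_of_isReduced (X : Scheme.{u}) [IsReduced X]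
    (hX : ∀ x : ↥X, ∃ W : X.Opens, x ∈ W ∧
      {Z : Set ↥X | Z ∈ irreducibleComponents ↥X ∧ (Z ∩ (W : Set ↥X)).Nonempty}.Finite)
    (L : X.Modules) (hL : PicF.IsInvertible L) :
    ∃ D : Mero.Divisor X, Nonempty (L ≅ Mero.divMod D) := by
  have hLF : LocFinWeakAss X := locFinWeakAss_of_isReduced X hX
  have hgen : ∀ x : X, IsWeakAssPoint (Coh.structureModule X) x → ∀ y : X, y ⤳ x → y = x :=
    fun x hx => (Groth.Agent.S8869.result X x).mp hx
  obtain ⟨s, hs⟩ := hasRegularMero_of_locFinWeakAss hLF hgen hL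
  exact Groth.Agent.H54.MeroDivIso.exists_iso_divMod (regExt_of_locFinWeakAss hLF) hL s hs

end Groth.Agent.H54.RegExtLF
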