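import Mathlib

/-!
helper54: a module over a semilocal ring that becomes free of rank one after a faithfully flat
base change is free of rank one.
-/

set_option autoImplicit false
universe u v
open TensorProduct

namespace Groth.Agent.H54.SemilocalDescent

variable {R : Type u} [CommRing R] (T : Type u) [CommRing T] [Algebra R T]
  [Module.FaithfullyFlat R T] (M : Type u) [AddCommGroup M] [Module R M]

theorem finite_of_equiv (e : T ⊗[R] M ≃ₗ[T] T) : Module.Finite R M := by
  haveI : Module.Finite T (T ⊗[R] M) := Module.Finite.equiv e.symm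
  exact Module.Finite.of_finite_tensorProduct_of_faithfullyFlat T

theorem flat_of_equiv (e : T ⊗[R] M ≃ₗ[T] T) : Module.Flat R M := by
  haveI : Module.Flat T (T ⊗[R] M) := Module.Flat.of_linearEquiv e
  exact Module.Flat.of_flat_tensorProduct R M T

theorem finrank_quotient_eq_one (e : T ⊗[R] M ≃ₗ[T] T) (P : Ideal R) [P.IsMaximal] :
    Module.finrank (R ⧸ P) ((R ⧸ P) ⊗[R] M) = 1 := by
  letI : Field (R ⧸ P) := Ideal.Quotient.field P
  let T' := T ⧸ P.map (algebraMap R T)
  have hne : P.map (algebraMap R T) ≠ ⊤ := by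
    intro h
    have h1 := Ideal.comap_map_eq_self_of_faithfullyFlat (B := T) P
    rw [h, Ideal.comap_top] at h1
    exact (Ideal.IsMaximal.ne_top ‹_›) h1.symm
  haveI : Nontrivial T' := Ideal.Quotient.nontrivial_iff.mpr hne
  let e1 : T' ⊗[R ⧸ P] ((R ⧸ P) ⊗[R] M) ≃ₗ[T'] T' ⊗[R] M :=
    AlgebraTensorModule.cancelBaseChange R (R ⧸ P) T' T' M
  let e2 : T' ⊗[T] (T ⊗[R] M) ≃ₗ[T'] T' ⊗[R] M :=
    AlgebraTensorModule.cancelBaseChange R T T' T' M
  let e3 : T' ⊗[T] (T ⊗[R] M) ≃ₗ[T'] T' ⊗[T] T :=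
    AlgebraTensorModule.congr (LinearEquiv.refl T' T') e
  let e4 : T' ⊗[T] T ≃ₗ[T'] T' := AlgebraTensorModule.rid T T' T'
  have h1 : Module.finrank T' (T' ⊗[R ⧸ P] ((R ⧸ P) ⊗[R] M)) =
      Module.finrank (R ⧸ P) ((R ⧸ P) ⊗[R] M) := Module.finrank_baseChange
  rw [← h1, (e1.trans (e2.symm.trans (e3.trans e4))).finrank_eq]
  exact Module.finrank_self T'

theorem nonempty_basis [Finite (MaximalSpectrum R)] (e : T ⊗[R] M ≃ₗ[T] T) :
    Nonempty (Module.Basis (Fin 1) R M) := by
  haveI := finite_of_equiv T M e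
  haveI := flat_of_equiv T M e
  refine Module.nonempty_basis_of_flat_of_finrank_eq R M 1 (fun P => ?_)
  haveI := P.2
  exact finrank_quotient_eq_one T M e P.1

/-- a generator -/
theorem exists_generator [Finite (MaximalSpectrum R)] (e : T ⊗[R] M ≃ₗ[T] T) :
    ∃ s : M, ∀ m : M, ∃ r : R, m = r • s := by
  obtain ⟨b⟩ := nonempty_basis T M e
  refine ⟨b 0, fun m => ⟨b.repr m 0, ?_⟩⟩
  conv_lhs => rw [← b.sum_repr m]
  simp

end Groth.Agent.H54.SemilocalDescent
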