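import Mathlib

set_option autoImplicit false
universe u
open CategoryTheory AlgebraicGeometry Topology TopologicalSpace Opposite Limits

namespace Groth.Agent.H54.SepImm

/-- A separated morphism that restricts to a preimmersion on two dense opens is injective
on their union. -/
lemma eq_of_isPreimmersion_of_dense {X Y : Scheme.{u}} (f : X ⟶ Y) [IsSeparated f]
    (U₁ U₂ : X.Opens) (hd₁ : Dense (U₁ : Set X)) (hd₂ : Dense (U₂ : Set X))
    [IsPreimmersion (U₁.ι ≫ f)] [IsPreimmersion (U₂.ι ≫ f)]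
    (x y : X) (hx : x ∈ U₁) (hy : y ∈ U₂) (hxy : f x = f y) : x = y := by
  set f₁ := U₁.ι ≫ f with hf₁
  set f₂ := U₂.ι ≫ f with hf₂
  let p₁ : pullback f₁ f₂ ⟶ U₁.toScheme := pullback.fst f₁ f₂
  let p₂ : pullback f₁ f₂ ⟶ U₂.toScheme := pullback.snd f₁ f₂
  have hp₁ : IsPreimmersion p₁ := MorphismProperty.pullback_fst f₁ f₂ inferInstance
  have hφ : IsEmbedding (p₁ ≫ f₁) := (p₁ ≫ f₁).isEmbedding
  let W : X.Opens := U₁ ⊓ U₂
  have hcondW : X.homOfLE (inf_le_left : W ≤ U₁) ≫ f₁ = X.homOfLE (inf_le_right : W ≤ U₂) ≫ f₂ := by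
    rw [hf₁, hf₂, Scheme.homOfLE_ι_assoc, Scheme.homOfLE_ι_assoc]
  let δ : W.toScheme ⟶ pullback f₁ f₂ := pullback.lift _ _ hcondW
  have hcondm : (p₁ ≫ U₁.ι) ≫ f = (p₂ ≫ U₂.ι) ≫ f := by
    rw [Category.assoc, Category.assoc]
    exact pullback.condition
  let m : pullback f₁ f₂ ⟶ pullback f f := pullback.lift _ _ hcondm
  have hδm : δ ≫ m = W.ι ≫ pullback.diagonal f := by
    apply pullback.hom_ext
    · simp only [δ, m, p₁, Category.assoc, pullback.lift_fst, pullback.lift_fst_assoc,
        Scheme.homOfLE_ι, pullback.diagonal_fst, Category.comp_id]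
      rfl
    · simp only [δ, m, p₂, Category.assoc, pullback.lift_snd, pullback.lift_snd_assoc,
        Scheme.homOfLE_ι, pullback.diagonal_snd, Category.comp_id]
      rfl
  have hδφ : δ ≫ p₁ ≫ f₁ = W.ι ≫ f := by
    simp only [δ, p₁, pullback.lift_fst_assoc, hf₁, Scheme.homOfLE_ι_assoc]
    rfl
  have hdense : Dense (Set.range δ) := by
    rw [hφ.isInducing.dense_iff]
    intro p
    have himg : ⇑(p₁ ≫ f₁) '' Set.range δ = f '' (W : Set X) := by
      rw [← Set.range_comp]
      ext z
      constructor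
      · rintro ⟨w, rfl⟩
        refine ⟨W.ι w, w.2, ?_⟩
        have := congr($(hδφ) w)
        simpa using this.symm
      · rintro ⟨w, hw, rfl⟩
        refine ⟨⟨w, hw⟩, ?_⟩
        have := congr($(hδφ) ⟨w, hw⟩)
        simpa using this
    rw [himg]
    have hW : Dense (W : Set X) := hd₁.inter_of_isOpen_left hd₂ U₁.2
    apply image_closure_subset_closure_image f.continuous
    rw [hW.closure_eq]
    exact ⟨U₁.ι (p₁ p), trivial, by simp [hf₁]⟩
  have hcl : IsClosed (m ⁻¹' Set.range (pullback.diagonal f)) :=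
    (pullback.diagonal f).isClosedEmbedding.isClosed_range.preimage m.continuous
  have hsub : Set.range δ ⊆ m ⁻¹' Set.range (pullback.diagonal f) := by
    rintro _ ⟨w, rfl⟩
    refine ⟨W.ι w, ?_⟩
    have := congr($(hδm) w)
    simpa using this.symm
  have hall : ∀ p, m p ∈ Set.range (pullback.diagonal f) := fun p =>
    (hcl.closure_subset_iff.mpr hsub) (hdense p)
  have hxy' : f₁ ⟨x, hx⟩ = f₂ ⟨y, hy⟩ := by
    simpa [hf₁, hf₂] using hxy
  obtain ⟨p₀, h1, h2⟩ := Scheme.Pullback.exists_preimage_pullback (f := f₁) (g := f₂)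
    ⟨x, hx⟩ ⟨y, hy⟩ hxy'
  obtain ⟨x₀, hx₀⟩ := hall p₀
  have e1 : x₀ = x := by
    have h3 : pullback.fst f f (pullback.diagonal f x₀) = pullback.fst f f (m p₀) := by rw [hx₀]
    rw [← Scheme.Hom.comp_apply, ← Scheme.Hom.comp_apply, pullback.diagonal_fst,
      pullback.lift_fst] at h3
    have h4 : (p₁ ≫ U₁.ι) p₀ = x := by
      rw [Scheme.Hom.comp_apply]
      change U₁.ι (pullback.fst f₁ f₂ p₀) = x
      rw [h1]
      rfl
    rw [h4] at h3
    simpa using h3
  have e2 : x₀ = y := by
    have h3 : pullback.snd f f (pullback.diagonal f x₀) = pullback.snd f f (m p₀) := by rw [hx₀]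
    rw [← Scheme.Hom.comp_apply, ← Scheme.Hom.comp_apply, pullback.diagonal_snd,
      pullback.lift_snd] at h3
    have h4 : (p₂ ≫ U₂.ι) p₀ = y := by
      rw [Scheme.Hom.comp_apply]
      change U₂.ι (pullback.snd f₁ f₂ p₀) = y
      rw [h2]
      rfl
    rw [h4] at h3
    simpa using h3
  rw [← e1, e2]

/-- A separated morphism which restricts to an immersion on each member of a cover by dense opens
is an immersion. -/
theorem isImmersion_of_dense_cover {X Y : Scheme.{u}} (f : X ⟶ Y) [IsSeparated f] {ι : Type u}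
    (U : ι → X.Opens) (hU : ⨆ i, U i = ⊤) (hd : ∀ i, Dense (U i : Set X))
    (h : ∀ i, IsImmersion ((U i).ι ≫ f)) : IsImmersion f := by
  have hcov : ∀ x : X, ∃ i, x ∈ U i := fun x =>
    TopologicalSpace.Opens.mem_iSup.mp (hU ▸ (trivial : x ∈ (⊤ : X.Opens)))
  have hinj : Function.Injective f := by
    intro x y hxy
    obtain ⟨i, hi⟩ := hcov x
    obtain ⟨j, hj⟩ := hcov y
    have := h i
    have := h j
    exact eq_of_isPreimmersion_of_dense f (U i) (U j) (hd i) (hd j) x y hi hj hxy
  -- the closure of the range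
  set T : Set Y := closure (Set.range f) with hT
  have hrange : ∀ i, Set.range ((U i).ι ≫ f) = f '' (U i : Set X) := by
    intro i
    rw [Scheme.Hom.comp_base, TopCat.coe_comp, Set.range_comp, Scheme.Opens.range_ι]
  have hclos : ∀ i, closure (f '' (U i : Set X)) = T := by
    intro i
    apply subset_antisymm
    · exact closure_mono (Set.image_subset_range _ _)
    · apply closure_minimal _ isClosed_closure
      rintro _ ⟨x, rfl⟩
      apply image_closure_subset_closure_image f.continuous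
      rw [(hd i).closure_eq]
      exact ⟨x, trivial, rfl⟩
  -- the open sets `O i`
  let O : ι → Set Y := fun i => coborder (f '' (U i : Set X))
  have hOopen : ∀ i, IsOpen (O i) := by
    intro i
    have := (h i).isLocallyClosed_range
    rw [hrange i] at this
    exact this.isOpen_coborder
  have hOT : ∀ i, O i ∩ T = f '' (U i : Set X) := by
    intro i
    rw [← hclos i]
    exact coborder_inter_closure
  have hpre : ∀ i, f ⁻¹' (O i) = (U i : Set X) := by
    intro i
    ext x
    constructor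
    · intro hx
      have : f x ∈ O i ∩ T := ⟨hx, subset_closure ⟨x, rfl⟩⟩
      rw [hOT i] at this
      obtain ⟨x', hx', e⟩ := this
      rw [← hinj e]
      exact hx'
    · intro hx
      have : f x ∈ O i ∩ T := by
        rw [hOT i]
        exact ⟨x, hx, rfl⟩
      exact this.1
  have hsurj : SurjectiveOnStalks f := by
    rw [IsZariskiLocalAtSource.iff_of_openCover (P := @SurjectiveOnStalks)
      (X.openCoverOfIsOpenCover U hU)]
    intro i
    have := h i
    exact (inferInstance : SurjectiveOnStalks ((U i).ι ≫ f))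
  have hind : IsInducing f := by
    refine ⟨le_antisymm (continuous_iff_le_induced.mp f.continuous) ?_⟩
    intro A hA
    rw [isOpen_induced_iff]
    -- for every `i` an open `B i` of `Y`
    have hB : ∀ i, ∃ B : Set Y, IsOpen B ∧ ∀ x ∈ U i, (f x ∈ B ↔ x ∈ A) := by
      intro i
      have := h i
      have hemb : IsEmbedding ((U i).ι ≫ f) := ((U i).ι ≫ f).isEmbedding
      have hAi : IsOpen ((U i).ι ⁻¹' A) := hA.preimage (U i).ι.continuous
      rw [hemb.isInducing.isOpen_iff] at hAi
      obtain ⟨B, hBo, hBA⟩ := hAi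
      refine ⟨B, hBo, ?_⟩
      intro x hx
      have : (⟨x, hx⟩ : (U i).toScheme) ∈ ⇑((U i).ι ≫ f) ⁻¹' B ↔
          (⟨x, hx⟩ : (U i).toScheme) ∈ ⇑(U i).ι ⁻¹' A := by rw [hBA]
      exact this
    choose B hBo hBA using hB
    refine ⟨⋃ i, B i ∩ O i, isOpen_iUnion fun i => (hBo i).inter (hOopen i), ?_⟩
    ext x
    simp only [Set.preimage_iUnion, Set.mem_iUnion, Set.mem_preimage, Set.mem_inter_iff]
    constructor
    · rintro ⟨i, hxB, hxO⟩
      have hxU : x ∈ U i := by
        have : x ∈ f ⁻¹' (O i) := hxO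
        rw [hpre i] at this
        exact this
      exact (hBA i x hxU).mp hxB
    · intro hxA
      obtain ⟨i, hi⟩ := hcov x
      refine ⟨i, (hBA i x hi).mpr hxA, ?_⟩
      have : x ∈ f ⁻¹' (O i) := by rw [hpre i]; exact hi
      exact this
  have hpreimm : IsPreimmersion f := { hsurj with isEmbedding := ⟨hind, hinj⟩ }
  refine { hpreimm with isLocallyClosed_range := ?_ }
  refine ⟨⋃ i, O i, T, isOpen_iUnion hOopen, isClosed_closure, ?_⟩
  rw [Set.iUnion_inter]
  simp_rw [hOT]
  ext y
  simp only [Set.mem_range, Set.mem_iUnion, Set.mem_image]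
  constructor
  · rintro ⟨x, rfl⟩
    obtain ⟨i, hi⟩ := hcov x
    exact ⟨i, x, hi, rfl⟩
  · rintro ⟨i, x, _, rfl⟩
    exact ⟨x, rfl⟩

end Groth.Agent.H54.SepImm
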