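import Mathlib

set_option autoImplicit false
universe u
open CategoryTheory AlgebraicGeometry Topology TopologicalSpace Opposite Limits

namespace Groth.Agent.H54

/-- Two morphisms into a separated `Y`-scheme that agree over `Y` and on a dominant
subobject agree pointwise. -/
lemma apply_eq_of_isDominant_of_isSeparated {W Z X Y : Scheme.{u}} {g h : Z ⟶ X}
    (f : X ⟶ Y) [IsSeparated f] (H : g ≫ f = h ≫ f)
    (ι : W ⟶ Z) [IsDominant ι] (hU : ι ≫ g = ι ≫ h) (z : Z) : g z = h z := by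
  let X' : Over Y := Over.mk (g ≫ f)
  let Y' : Over Y := Over.mk f
  let U' : Over Y := Over.mk (ι ≫ g ≫ f)
  let f' : X' ⟶ Y' := Over.homMk g
  let g' : X' ⟶ Y' := Over.homMk h (by simpa [X', Y'] using H.symm)
  let ι' : U' ⟶ X' := Over.homMk ι
  have : IsSeparated Y'.hom := ‹_›
  have : IsDominant (equalizer.ι f' g').left := by
    apply +allowSynthFailures IsDominant.of_comp (equalizer.lift ι' ?_).left
    · rwa [← Over.comp_left, equalizer.lift_ι]
    · ext1; exact hU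
  have hs : Surjective (equalizer.ι f' g').left :=
    surjective_of_isDominant_of_isClosed_range _ (Scheme.Hom.isClosedEmbedding _).isClosed_range
  obtain ⟨e, rfl⟩ := hs.surj z
  have h1 : (equalizer.ι f' g').left ≫ g = (equalizer.ι f' g').left ≫ h :=
    congr($(equalizer.condition f' g').left)
  have h2 := congr($(h1) e)
  simpa using h2

/-- A separated morphism that restricts to an open immersion on two dense opens is injective
on their union. -/
lemma eq_of_isOpenImmersion_of_dense {X Y : Scheme.{u}} (f : X ⟶ Y) [IsSeparated f]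
    (U₁ U₂ : X.Opens) (hd₁ : Dense (U₁ : Set X)) (hd₂ : Dense (U₂ : Set X))
    [IsOpenImmersion (U₁.ι ≫ f)] [IsOpenImmersion (U₂.ι ≫ f)]
    (x y : X) (hx : x ∈ U₁) (hy : y ∈ U₂) (hxy : f x = f y) : x = y := by
  set f₁ := U₁.ι ≫ f with hf₁
  set f₂ := U₂.ι ≫ f with hf₂
  let Z : Y.Opens := f₁.opensRange ⊓ f₂.opensRange
  let W : X.Opens := U₁ ⊓ U₂
  have hZ₁ : Set.range Z.ι ⊆ Set.range f₁ := by
    rw [Scheme.Opens.range_ι]
    exact Set.inter_subset_left
  have hZ₂ : Set.range Z.ι ⊆ Set.range f₂ := by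
    rw [Scheme.Opens.range_ι]
    exact Set.inter_subset_right
  let l₁ : Z.toScheme ⟶ U₁.toScheme := IsOpenImmersion.lift f₁ Z.ι hZ₁
  let l₂ : Z.toScheme ⟶ U₂.toScheme := IsOpenImmersion.lift f₂ Z.ι hZ₂
  have hl₁ : l₁ ≫ f₁ = Z.ι := IsOpenImmersion.lift_fac _ _ _
  have hl₂ : l₂ ≫ f₂ = Z.ι := IsOpenImmersion.lift_fac _ _ _
  let g : Z.toScheme ⟶ X := l₁ ≫ U₁.ι
  let h : Z.toScheme ⟶ X := l₂ ≫ U₂.ι
  have hgf : g ≫ f = Z.ι := by simp only [g, Category.assoc]; exact hl₁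
  have hhf : h ≫ f = Z.ι := by simp only [h, Category.assoc]; exact hl₂
  -- the map `W ⟶ Z`
  have hWZ : Set.range (W.ι ≫ f) ⊆ Set.range Z.ι := by
    rw [Scheme.Opens.range_ι]
    rintro _ ⟨w, rfl⟩
    refine ⟨⟨⟨w.1, w.2.1⟩, rfl⟩, ⟨⟨w.1, w.2.2⟩, rfl⟩⟩
  let ι : W.toScheme ⟶ Z.toScheme := IsOpenImmersion.lift Z.ι (W.ι ≫ f) hWZ
  have hι : ι ≫ Z.ι = W.ι ≫ f := IsOpenImmersion.lift_fac _ _ _
  have hιl₁ : ι ≫ l₁ = X.homOfLE inf_le_left := by
    rw [← cancel_mono f₁, Category.assoc, hl₁, hι, hf₁, Scheme.homOfLE_ι_assoc]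
  have hιl₂ : ι ≫ l₂ = X.homOfLE inf_le_right := by
    rw [← cancel_mono f₂, Category.assoc, hl₂, hι, hf₂, Scheme.homOfLE_ι_assoc]
  have hιg : ι ≫ g = W.ι := by
    simp only [g]; rw [← Category.assoc, hιl₁, Scheme.homOfLE_ι]
  have hιh : ι ≫ h = W.ι := by
    simp only [h]; rw [← Category.assoc, hιl₂, Scheme.homOfLE_ι]
  -- `g` is an open immersion
  have : IsOpenImmersion l₁ := IsOpenImmersion.of_comp l₁ f₁
  have : IsOpenImmersion g := inferInstance
  -- `ι` is dominant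
  have hdom : IsDominant ι := by
    constructor
    rw [DenseRange, g.isOpenEmbedding.isInducing.dense_iff]
    intro z
    rw [← Set.range_comp]
    have : (g : Z.toScheme → X) ∘ (ι : W.toScheme → Z.toScheme) = (W.ι : W.toScheme → X) := by
      funext w
      have := congr($(hιg) w)
      simpa using this
    rw [this, Scheme.Opens.range_ι]
    have hW : Dense (W : Set X) := hd₁.inter_of_isOpen_left hd₂ U₁.2
    exact hW.closure_eq ▸ Set.mem_univ _
  have key := apply_eq_of_isDominant_of_isSeparated f (hgf.trans hhf.symm) ι (hιg.trans hιh.symm)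
  -- the point of `Z`
  have hzZ : f x ∈ Z := ⟨⟨⟨x, hx⟩, rfl⟩, ⟨⟨y, hy⟩, hxy.symm⟩⟩
  let z : Z.toScheme := ⟨f x, hzZ⟩
  have hgz : g z = x := by
    have h1 : f₁ (l₁ z) = f₁ ⟨x, hx⟩ := by
      rw [← Scheme.Hom.comp_apply, hl₁]
      rfl
    have h2 := f₁.isOpenEmbedding.injective h1
    change U₁.ι (l₁ z) = x
    rw [h2]; rfl
  have hhz : h z = y := by
    have h1 : f₂ (l₂ z) = f₂ ⟨y, hy⟩ := by
      rw [← Scheme.Hom.comp_apply, hl₂]
      exact hxy
    have h2 := f₂.isOpenEmbedding.injective h1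
    change U₂.ι (l₂ z) = y
    rw [h2]; rfl
  rw [← hgz, ← hhz]
  exact key z

end Groth.Agent.H54
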