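import Mathlib

set_option autoImplicit false
universe u
open AlgebraicGeometry CategoryTheory CategoryTheory.Limits Scheme Pullback

namespace Groth.Agent.H54

set_option backward.defeqAttrib.useBackward true in
set_option backward.isDefEq.respectTransparency false in
theorem isSeparated_of_forall_exists_affine {X S : Scheme.{u}} [IsAffine S] (f : X ⟶ S)
    (h : ∀ x y : X, f x = f y → ∃ U : X.Opens, IsAffineOpen U ∧ x ∈ U ∧ y ∈ U) :
    IsSeparated f := by
  constructor
  let 𝒰 : S.OpenCover := Scheme.coverOfIsIso (𝟙 S)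
  have hiso : ∀ i, IsIso (pullback.fst f (𝒰.f i)) := fun i => by
    dsimp [𝒰]
    infer_instance
  let 𝒱 (i) : ((𝒰.pullback₁ f).X i).OpenCover :=
    Scheme.openCoverOfIsOpenCover _
      (fun U : X.affineOpens => pullback.fst f (𝒰.f i) ⁻¹ᵁ U.1) (by
        apply TopologicalSpace.IsOpenCover.mk
        rw [eq_top_iff]
        rintro x -
        have hx : pullback.fst f (𝒰.f i) x ∈ (⊤ : X.Opens) := trivial
        rw [← iSup_affineOpens_eq_top X, TopologicalSpace.Opens.mem_iSup] at hx
        obtain ⟨U, hU⟩ := hx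
        rw [TopologicalSpace.Opens.mem_iSup]
        exact ⟨U, hU⟩)
  have h𝒰 : ∀ i, IsAffine (𝒰.X i) := fun i => by
    dsimp [𝒰]
    infer_instance
  have h𝒱 : ∀ i j, IsAffine ((𝒱 i).X j) := fun i j => by
    dsimp [𝒱]
    have := hiso i
    exact j.2.preimage_of_isIso (pullback.fst f (𝒰.f i))
  refine IsZariskiLocalAtTarget.of_iSup_eq_top (fun i : PUnit.{0} ↦ ⊤) (by simp) fun _ ↦ ?_
  have htop : diagonalCoverDiagonalRange f 𝒰 𝒱 = ⊤ := by
    rw [← top_le_iff]
    rintro x -
    simp only [diagonalCoverDiagonalRange, openCoverOfBase_I₀, openCoverOfBase_X,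
      openCoverOfLeftRight_I₀, TopologicalSpace.Opens.iSup_mk, TopologicalSpace.Opens.carrier_eq_coe, Hom.coe_opensRange, TopologicalSpace.Opens.mem_mk,
      Set.mem_iUnion, Set.mem_range, Sigma.exists]
    obtain ⟨U, hU, hxU, hyU⟩ := h (pullback.fst f f x) (pullback.snd f f x)
      (by rw [← Scheme.Hom.comp_apply, ← Scheme.Hom.comp_apply, pullback.condition])
    refine ⟨⟨⟩, ⟨U, hU⟩, ?_⟩
    simp_rw [diagonalCover_map]
    change x ∈ Set.range _
    simp only [diagonalCover, openCoverOfBase_I₀,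
      Precoverage.ZeroHypercover.pullback₁_toPreZeroHypercover, PreZeroHypercover.pullback₁_X,
      Precoverage.ZeroHypercover.bind_toPreZeroHypercover, openCoverOfBase_X,
      PreZeroHypercover.bind_X, openCoverOfLeftRight_I₀, openCoverOfLeftRight_X]
    rw [range_map]
    have hsurj : Function.Surjective (pullback.fst f (𝒰.f PUnit.unit)) := by
      have := hiso PUnit.unit
      exact (pullback.fst f (𝒰.f PUnit.unit)).surjective
    have key : ∀ a : X, a ∈ U →
        a ∈ Set.range ((𝒱 PUnit.unit).f ⟨U, hU⟩ ≫ pullback.fst f (𝒰.f PUnit.unit)) := by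
      intro a ha
      obtain ⟨z, hz⟩ := hsurj a
      have hzU : z ∈ pullback.fst f (𝒰.f PUnit.unit) ⁻¹ᵁ U := by
        show pullback.fst f (𝒰.f PUnit.unit) z ∈ U
        rw [hz]
        exact ha
      refine ⟨⟨z, hzU⟩, ?_⟩
      rw [Scheme.Hom.comp_apply]
      exact hz
    exact ⟨key _ hxU, key _ hyU⟩
  rw [← htop]
  exact isClosedImmersion_diagonal_restrict_diagonalCoverDiagonalRange f 𝒰 𝒱

end Groth.Agent.H54
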