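import Mathlib.AlgebraicGeometry.Morphisms.ClosedImmersion
import Mathlib.AlgebraicGeometry.Morphisms.Preimmersion
import Mathlib.AlgebraicGeometry.Stalk
import Groth.Prelude.Def_Coh
import Groth.Agent.H49.FibreStalk

/-!
# The local ring of the special fibre over a local base

For `f : X ⟶ Spec R`, `R` local, and a pullback square
`Xs = X ×_R (R/𝔪)`: the stalk map `O_{X,gs ξ} → O_{Xs,ξ}` has kernel `𝔪 · O_{X, gs ξ}`; a reduced
scheme has a field as local ring at the generic point of an irreducible component.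
-/

set_option autoImplicit false
set_option linter.style.haveILetI false

universe u
open CategoryTheory CategoryTheory.Limits AlgebraicGeometry IsLocalRing

namespace Groth.Agent.H54.SpecialFibreStalk

/-- the ring map `R → O_{X,x}` attached to `f : X ⟶ Spec R` -/
noncomputable abbrev toStalk {R : Type u} [CommRing R] {X : Scheme.{u}}
    (f : X ⟶ Spec (CommRingCat.of R)) (x : X) : R →+* X.presheaf.stalk x :=
  (X.presheaf.germ ⊤ x trivial).hom.comp (Coh.toGlobal f)

theorem fromSpecStalk_comp {R : Type u} [CommRing R] {X : Scheme.{u}}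
    (f : X ⟶ Spec (CommRingCat.of R)) (x : X) :
    X.fromSpecStalk x ≫ f = Spec.map (CommRingCat.ofHom (toStalk f x)) := by
  rw [← Scheme.SpecMap_stalkMap_fromSpecStalk, Spec.fromSpecStalk_eq, ← Spec.map_comp]
  congr 1
  rw [Category.assoc, Scheme.Hom.germ_stalkMap]
  rfl

section ker
variable {R : Type u} [CommRing R] [IsLocalRing R] {X Xs : Scheme.{u}}
  {f : X ⟶ Spec (CommRingCat.of R)} {gs : Xs ⟶ X}
  {fs : Xs ⟶ Spec (CommRingCat.of (IsLocalRing.ResidueField R))}
  (hs : IsPullback gs fs f (Spec.map (CommRingCat.ofHom (IsLocalRing.residue R))))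

include hs in
theorem isClosedImmersion_gs : IsClosedImmersion gs := by
  haveI : IsClosedImmersion (Spec.map (CommRingCat.ofHom (IsLocalRing.residue R))) :=
    IsClosedImmersion.spec_of_surjective _ IsLocalRing.residue_surjective
  exact MorphismProperty.of_isPullback hs.flip inferInstance

include hs in
/-- the stalk map of the special fibre kills `𝔪_R` -/
theorem stalkMap_toStalk_eq_zero (ξ : Xs) (r : R) (hr : r ∈ maximalIdeal R) :
    (gs.stalkMap ξ).hom (toStalk f (gs ξ) r) = 0 := by
  have h1 : (gs.stalkMap ξ).hom (toStalk f (gs ξ) r) =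
      toStalk (gs ≫ f) ξ r := by
    change (X.presheaf.germ ⊤ (gs ξ) trivial ≫ gs.stalkMap ξ).hom (Coh.toGlobal f r) = _
    rw [Scheme.Hom.germ_stalkMap]
    rfl
  rw [h1, hs.w]
  change (Xs.presheaf.germ ⊤ ξ trivial).hom (fs.appTop.hom
    ((Spec.map (CommRingCat.ofHom (IsLocalRing.residue R))).appTop.hom
      ((Scheme.ΓSpecIso (CommRingCat.of R)).inv.hom r))) = 0
  have h2 : (Spec.map (CommRingCat.ofHom (IsLocalRing.residue R))).appTop.hom
      ((Scheme.ΓSpecIso (CommRingCat.of R)).inv.hom r) =
      (Scheme.ΓSpecIso (CommRingCat.of (IsLocalRing.ResidueField R))).inv.hom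
        (IsLocalRing.residue R r) := by
    have := Scheme.ΓSpecIso_inv_naturality (CommRingCat.ofHom (IsLocalRing.residue R))
    exact (congrArg (fun φ => φ.hom r) this).symm
  rw [h2, (IsLocalRing.residue_eq_zero_iff r).mpr hr, map_zero, map_zero, map_zero]

include hs in
/-- the kernel of the stalk map of the special fibre is `𝔪_R O_{X,x}` -/
theorem ker_stalkMap (ξ : Xs) :
    RingHom.ker (gs.stalkMap ξ).hom = Ideal.map (toStalk f (gs ξ)) (maximalIdeal R) := by
  apply le_antisymm
  · set x := gs ξ with hx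
    set I := Ideal.map (toStalk f x) (maximalIdeal R) with hI
    by_cases hItop : I = ⊤
    · rw [hItop]; exact le_top
    haveI : Nontrivial (X.presheaf.stalk x ⧸ I) := Ideal.Quotient.nontrivial_iff.mpr hItop
    haveI : IsLocalRing (X.presheaf.stalk x ⧸ I) :=
      IsLocalRing.of_surjective' (Ideal.Quotient.mk _) Ideal.Quotient.mk_surjective
    let Q : CommRingCat.{u} := CommRingCat.of (X.presheaf.stalk x ⧸ I)
    let φ : X.presheaf.stalk x ⟶ Q := CommRingCat.ofHom (Ideal.Quotient.mk I)
    haveI : IsLocalHom φ.hom := IsLocalHom.of_surjective _ Ideal.Quotient.mk_surjective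
    let ψ' : CommRingCat.of (IsLocalRing.ResidueField R) ⟶ Q := CommRingCat.ofHom
      (Ideal.Quotient.lift _ ((Ideal.Quotient.mk I).comp (toStalk f x))
        (fun b hb => Ideal.Quotient.eq_zero_iff_mem.mpr (Ideal.mem_map_of_mem _ hb)))
    have hψ' : CommRingCat.ofHom (IsLocalRing.residue R) ≫ ψ' =
        CommRingCat.ofHom (toStalk f x) ≫ φ := by ext b; rfl
    have comm : (Spec.map φ ≫ X.fromSpecStalk x) ≫ f =
        Spec.map ψ' ≫ Spec.map (CommRingCat.ofHom (IsLocalRing.residue R)) := by
      rw [Category.assoc, fromSpecStalk_comp, ← Spec.map_comp, ← Spec.map_comp, hψ']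
    let h : Spec Q ⟶ Xs := hs.lift _ _ comm
    have hι : h ≫ gs = Spec.map φ ≫ X.fromSpecStalk x := hs.lift_fst _ _ _
    haveI := isClosedImmersion_gs hs
    have hcp : h (closedPoint Q) = ξ := by
      apply gs.isEmbedding.injective
      rw [← Scheme.Hom.comp_apply, hι, Scheme.Hom.comp_apply, Spec_closedPoint,
        Scheme.fromSpecStalk_closedPoint]
    have := Groth.Agent.H49.FibreStalk.ker_le_ker_of_lift gs Q h ξ hcp φ hι
    rwa [show RingHom.ker φ.hom = I from Ideal.mk_ker] at this
  · rw [Ideal.map_le_iff_le_comap]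
    intro r hr
    rw [Ideal.mem_comap, RingHom.mem_ker]
    exact stalkMap_toStalk_eq_zero hs ξ r hr

end ker

section field

/-- a point whose closure is an irreducible component has no proper generizations -/
theorem eq_of_specializes_of_mem_irreducibleComponents {Y : Scheme.{u}} (ξ : Y)
    (hξ : closure ({ξ} : Set Y) ∈ irreducibleComponents Y) (z : Y) (hz : z ⤳ ξ) : z = ξ := by
  have h1 : closure ({ξ} : Set Y) ⊆ closure ({z} : Set Y) := hz.closure_subset
  have h2 : IsIrreducible (closure ({z} : Set Y)) := isIrreducible_singleton.closure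
  have h3 : closure ({z} : Set Y) ⊆ closure ({ξ} : Set Y) := hξ.2 h2 h1
  have h4 : ξ ⤳ z := by
    rw [specializes_iff_closure_subset]
    exact h3
  exact (hz.antisymm h4).eq

/-- the local ring of a reduced scheme at the generic point of an irreducible component has zero
maximal ideal -/
theorem maximalIdeal_stalk_eq_bot {Y : Scheme.{u}} [IsReduced Y] (ξ : Y)
    (hξ : closure ({ξ} : Set Y) ∈ irreducibleComponents Y) :
    maximalIdeal (Y.presheaf.stalk ξ) = ⊥ := by
  have hprime : ∀ P : Ideal (Y.presheaf.stalk ξ), P.IsPrime →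
      P = maximalIdeal (Y.presheaf.stalk ξ) := by
    intro P hP
    let P' : PrimeSpectrum (Y.presheaf.stalk ξ) := ⟨P, hP⟩
    have h : Y.fromSpecStalk ξ P' ⤳ ξ := by
      have : Y.fromSpecStalk ξ P' ∈ Set.range (Y.fromSpecStalk ξ) := ⟨P', rfl⟩
      rwa [Scheme.range_fromSpecStalk] at this
    have h1 := eq_of_specializes_of_mem_irreducibleComponents ξ hξ _ h
    have h2 : Y.fromSpecStalk ξ P' = Y.fromSpecStalk ξ (closedPoint (Y.presheaf.stalk ξ)) := by
      rw [h1, Scheme.fromSpecStalk_closedPoint]
    have h3 := (Y.fromSpecStalk ξ).isEmbedding.injective h2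
    exact congrArg PrimeSpectrum.asIdeal h3
  have h1 : maximalIdeal (Y.presheaf.stalk ξ) ≤ nilradical (Y.presheaf.stalk ξ) := by
    rw [nilradical_eq_sInf]
    refine le_sInf ?_
    intro P hP
    rw [hprime P hP]
  rw [nilradical_eq_zero] at h1
  exact le_bot_iff.mp h1

end field

section main
variable {R : Type u} [CommRing R] [IsLocalRing R] {X Xs : Scheme.{u}}
  {f : X ⟶ Spec (CommRingCat.of R)} {gs : Xs ⟶ X}
  {fs : Xs ⟶ Spec (CommRingCat.of (IsLocalRing.ResidueField R))}
  (hs : IsPullback gs fs f (Spec.map (CommRingCat.ofHom (IsLocalRing.residue R))))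

include hs in
/-- at the generic point of an irreducible component of a reduced special fibre, the maximal ideal
of the local ring of `X` is `𝔪_R O_{X,x}` -/
theorem maximalIdeal_eq_map [IsReduced Xs] (ξ : Xs)
    (hξ : closure ({ξ} : Set Xs) ∈ irreducibleComponents Xs) :
    maximalIdeal (X.presheaf.stalk (gs ξ)) = Ideal.map (toStalk f (gs ξ)) (maximalIdeal R) := by
  rw [← ker_stalkMap hs ξ]
  ext a
  rw [RingHom.mem_ker, IsLocalRing.mem_maximalIdeal, mem_nonunits_iff]
  constructor
  · intro ha
    have h2 : (gs.stalkMap ξ).hom a ∈ maximalIdeal (Xs.presheaf.stalk ξ) := by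
      rw [IsLocalRing.mem_maximalIdeal, mem_nonunits_iff]
      intro hu
      exact ha (isUnit_of_map_unit (gs.stalkMap ξ).hom a hu)
    rw [maximalIdeal_stalk_eq_bot ξ hξ] at h2
    exact h2
  · intro h0 hu
    have := hu.map (gs.stalkMap ξ).hom
    rw [h0] at this
    exact not_isUnit_zero this

end main

end Groth.Agent.H54.SpecialFibreStalk
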