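import Mathlib.Topology.KrullDimension

set_option autoImplicit false
universe u
open Topology TopologicalSpace

namespace Groth.Agent.H54

variable {X : Type u} [TopologicalSpace X]

theorem isPreirreducible_preimage_val {Y Z : Set X} (hZ : IsPreirreducible Z) (hZY : Z ⊆ Y) :
    IsPreirreducible ((Subtype.val : ↥Y → X) ⁻¹' Z) := by
  rintro U' V' hU' hV' ⟨a, haZ, haU⟩ ⟨b, hbZ, hbV⟩
  obtain ⟨U, hU, rfl⟩ := isOpen_induced_iff.mp hU'
  obtain ⟨V, hV, rfl⟩ := isOpen_induced_iff.mp hV'
  obtain ⟨z, hzZ, hzU, hzV⟩ := hZ U V hU hV ⟨a.1, haZ, haU⟩ ⟨b.1, hbZ, hbV⟩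
  exact ⟨⟨z, hZY hzZ⟩, hzZ, hzU, hzV⟩

theorem isIrreducible_preimage_val {Y Z : Set X} (hZ : IsIrreducible Z) (hZY : Z ⊆ Y) :
    IsIrreducible ((Subtype.val : ↥Y → X) ⁻¹' Z) := by
  refine ⟨?_, isPreirreducible_preimage_val hZ.isPreirreducible hZY⟩
  obtain ⟨z, hz⟩ := hZ.nonempty
  exact ⟨⟨z, hZY hz⟩, hz⟩

/-- Restriction of irreducible closed subsets contained in `Y` to the subspace `Y`. -/
def restrictIC (Y : Set X) (Z : IrreducibleCloseds X) (h : (Z : Set X) ⊆ Y) :
    IrreducibleCloseds ↥Y where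
  carrier := (Subtype.val : ↥Y → X) ⁻¹' (Z : Set X)
  isIrreducible' := isIrreducible_preimage_val Z.isIrreducible h
  isClosed' := Z.isClosed.preimage continuous_subtype_val

/-- A chain of irreducible closed subsets of `X` whose last member lies in `Y` gives a chain of the
same length in the subspace `Y`. -/
theorem exists_ltSeries_subtype_of_last_subset (Y : Set X) (p : LTSeries (IrreducibleCloseds X))
    (h : (p.last : Set X) ⊆ Y) :
    ∃ q : LTSeries (IrreducibleCloseds ↥Y), q.length = p.length := by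
  have hsub : ∀ i, ((p i : IrreducibleCloseds X) : Set X) ⊆ Y := fun i =>
    (show ((p i : IrreducibleCloseds X) : Set X) ⊆ (p.last : Set X) from
      (LTSeries.monotone p (Fin.le_last i))).trans h
  refine ⟨⟨p.length, fun i => restrictIC Y (p i) (hsub i), ?_⟩, rfl⟩
  intro i
  have hlt : p i.castSucc < p i.succ := p.step i
  show restrictIC Y (p i.castSucc) (hsub _) < restrictIC Y (p i.succ) (hsub _)
  refine lt_of_le_of_ne ?_ ?_
  · intro y hy
    exact hlt.le hy
  · intro heq
    apply hlt.ne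
    apply IrreducibleCloseds.ext
    apply Set.Subset.antisymm hlt.le
    intro x hx
    have hxY : x ∈ Y := hsub _ hx
    have : (⟨x, hxY⟩ : ↥Y) ∈ ((restrictIC Y (p i.succ) (hsub _) : IrreducibleCloseds ↥Y) : Set ↥Y) := hx
    rw [← heq] at this
    exact this

theorem length_le_topologicalKrullDim_of_last_subset (Y : Set X) (p : LTSeries (IrreducibleCloseds X))
    (h : (p.last : Set X) ⊆ Y) : (p.length : WithBot ℕ∞) ≤ topologicalKrullDim ↥Y := by
  obtain ⟨q, hq⟩ := exists_ltSeries_subtype_of_last_subset Y p h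
  rw [← hq]
  exact Order.LTSeries.length_le_krullDim q

end Groth.Agent.H54
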