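import Mathlib
import Groth.Prelude.Def_PicF2
import Groth.Prelude.Def_SecTwist
import Groth.Prelude.Def_MeroDiv
import Groth.Agent.H54.ZeroChart
import Groth.Agent.H54.DivIdeal
import Groth.Agent.H18.GammaStarEval

set_option autoImplicit false
universe u
open CategoryTheory CategoryTheory.Limits AlgebraicGeometry TopologicalSpace Opposite

namespace Groth.Agent.H54.ZeroChart

open Mero Groth.Agent.H8 Groth.Agent.H18 Groth.Agent.H54.ZeroIdeal Groth.Agent.H54.GenSection
  Groth.Agent.H54.DivFrac Groth.Agent.H54.DivCrit Groth.Agent.H54.DivIdeal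

variable {X : Scheme.{u}}

/-- restriction of a chart -/
noncomputable def SecChart.res {L : X.Modules} {s : Coh.structureModule X ⟶ L} {U V : X.Opens}
    (c : SecChart L s U) (h : V ≤ U) : SecChart L s V where
  σ := mres L h c.σ
  hσ := c.hσ.res h
  f := ⟨X.presheaf.map (homOfLE h).op c.f.1, regSub_res (homOfLE h) c.f.2⟩
  hs := by
    have h1 := congrArg (mres L h) c.hs
    rw [mres_smul] at h1
    exact (res_val L s h).symm.trans h1

theorem SecChart.res_f_germ {L : X.Modules} {s : Coh.structureModule X ⟶ L} {U V : X.Opens}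
    (c : SecChart L s U) (h : V ≤ U) (y : V) :
    X.presheaf.germ V y.1 y.2 (c.res h).f.1 = X.presheaf.germ U y.1 (h y.2) c.f.1 :=
  TopCat.Presheaf.germ_res_apply X.presheaf (homOfLE h) y.1 y.2 c.f.1

theorem germ_sval {L : X.Modules} {s : Coh.structureModule X ⟶ L} {U V : X.Opens} (y : X)
    (hy : y ∈ U) (hy' : y ∈ V) :
    L.presheaf.germ U y hy (sval L s U) = L.presheaf.germ V y hy' (sval L s V) := by
  have hW : y ∈ U ⊓ V := ⟨hy, hy'⟩
  rw [← TopCat.Presheaf.germ_res_apply L.presheaf (homOfLE (inf_le_left : U ⊓ V ≤ U)) y hW,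
    ← TopCat.Presheaf.germ_res_apply L.presheaf (homOfLE (inf_le_right : U ⊓ V ≤ V)) y hW]
  congr 1
  exact (res_val L s inf_le_left).trans (res_val L s inf_le_right).symm

/-- comparison of two charts at a common point -/
theorem SecChart.germ_dvd {L : X.Modules} {s : Coh.structureModule X ⟶ L} {U U' : X.Opens}
    (c : SecChart L s U) (c' : SecChart L s U') (y : X) (hy : y ∈ U) (hy' : y ∈ U') :
    X.presheaf.germ U' y hy' c'.f.1 ∣ X.presheaf.germ U y hy c.f.1 := by
  have hb := c.hσ.germ_bijective hy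
  obtain ⟨u, hu⟩ := hb.2 (L.presheaf.germ U' y hy' c'.σ)
  have hu' : u • L.presheaf.germ U y hy c.σ = L.presheaf.germ U' y hy' c'.σ := hu
  refine ⟨u, ?_⟩
  apply hb.1
  change X.presheaf.germ U y hy c.f.1 • L.presheaf.germ U y hy c.σ =
    (X.presheaf.germ U' y hy' c'.f.1 * u) • L.presheaf.germ U y hy c.σ
  rw [mul_smul, hu', ← Mero.germ_smul, ← Mero.germ_smul, ← c.hs, ← c'.hs]
  exact germ_sval y hy hy'

theorem SecChart.mk_uOf_eq {L : X.Modules} {s : Coh.structureModule X ⟶ L} {U U' : X.Opens}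
    (c : SecChart L s U) (c' : SecChart L s U') (y : X) (hy : y ∈ U) (hy' : y ∈ U') :
    (QuotientGroup.mk (uOf (regGerm ⟨y, hy⟩ c.f)) : Germ X y) =
      QuotientGroup.mk (uOf (regGerm ⟨y, hy'⟩ c'.f)) :=
  mk_uOf_eq_of_dvd _ _ (c.germ_dvd c' y hy hy') (c'.germ_dvd c y hy' hy)

section Integral

variable [IsIntegral X]

omit [IsIntegral X] in
theorem sval_top_eq_zero_of_forall {L : X.Modules} (s : Coh.structureModule X ⟶ L)
    (h : ∀ x : X, ∃ W : X.Opens, x ∈ W ∧ sval L s W = 0) : sval L s ⊤ = 0 := by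
  apply modules_eq_of_locally_eq L
  intro x _
  obtain ⟨W, hxW, hW⟩ := h x
  refine ⟨W, le_top, hxW, ?_⟩
  change mres L le_top (sval L s ⊤) = mres L le_top 0
  rw [res_val L s le_top, hW, map_zero]

omit [IsIntegral X] in
theorem eq_zero_of_sval_top_eq_zero {L : X.Modules} (s : Coh.structureModule X ⟶ L)
    (h : sval L s ⊤ = 0) : s = 0 := by
  apply L.unitHomEquiv.injective
  ext U
  have h1 : sval L s U.unop = 0 := by
    rw [← res_val L s (le_top : U.unop ≤ ⊤), h, map_zero]
  have h2 : sval L 0 U.unop = 0 := by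
    change ((0 : Coh.structureModule X ⟶ L).val.app (op U.unop)).hom _ = 0
    rfl
  exact h1.trans h2.symm

/-- on an integral scheme a nonzero section of an invertible module is nonzero on every nonempty
open -/
theorem sval_ne_zero {L : X.Modules} (hL : PicF.IsInvertible L) {s : Coh.structureModule X ⟶ L}
    (hs : s ≠ 0) (U : X.Opens) (hU : (U : Set X).Nonempty) : sval L s U ≠ 0 := by
  intro h0
  apply hs
  apply eq_zero_of_sval_top_eq_zero
  apply sval_top_eq_zero_of_forall
  intro x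
  obtain ⟨W, hxW, τ, hτ⟩ := exists_isFreeGen_of_isInvertible hL x
  refine ⟨W, hxW, ?_⟩
  obtain ⟨h, hh⟩ := (hτ W le_rfl).2 (sval L s W)
  have hh' : h • τ = sval L s W := by
    rw [← hh]
    change h • τ = h • L.presheaf.map (homOfLE (le_refl W)).op τ
    rw [show L.presheaf.map (homOfLE (le_refl W)).op τ = τ from mres_self L le_rfl τ]
  -- restrict to `W ⊓ U`
  have hne : (((W ⊓ U : X.Opens) : Set X)).Nonempty := by
    have hirr : IsPreirreducible (Set.univ : Set X) :=
      (PreirreducibleSpace.isPreirreducible_univ (X := X))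
    obtain ⟨z, -, hzW, hzU⟩ := hirr W U W.2 U.2 ⟨x, trivial, hxW⟩
      (hU.imp fun z hz => ⟨trivial, hz⟩)
    exact ⟨z, hzW, hzU⟩
  have h1 : X.presheaf.map (homOfLE (inf_le_left : W ⊓ U ≤ W)).op h •
      mres L (inf_le_left : W ⊓ U ≤ W) τ = 0 := by
    rw [← mres_smul, hh', res_val L s inf_le_left, ← res_val L s (inf_le_right : W ⊓ U ≤ U), h0,
      map_zero]
  have h2 : X.presheaf.map (homOfLE (inf_le_left : W ⊓ U ≤ W)).op h = 0 := by
    apply (hτ (W ⊓ U) inf_le_left).1
    change _ • mres L _ τ = (0 : Γ(X, W ⊓ U)) • mres L _ τ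
    rw [h1, zero_smul]
  haveI : Nonempty (W ⊓ U : X.Opens) := hne.to_subtype
  have h3 : h = 0 := by
    apply map_injective_of_isIntegral X (homOfLE (inf_le_left : W ⊓ U ≤ W))
    rw [h2, map_zero]
  rw [← hh', h3, zero_smul]

theorem mem_regSub_of_ne_zero {U : X.Opens} {f : Γ(X, U)} (hf : f ≠ 0) : f ∈ regSub X U := by
  intro y
  apply mem_nonZeroDivisors_of_ne_zero
  intro h0
  apply hf
  apply germ_injective_of_isIntegral X y.1 y.2
  rw [map_zero]
  exact h0

/-- charts exist around every point for a nonzero section on an integral scheme -/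
theorem exists_secChart {L : X.Modules} (hL : PicF.IsInvertible L) {s : Coh.structureModule X ⟶ L}
    (hs : s ≠ 0) (x : X) :
    ∃ (U : X.affineOpens) (_ : x ∈ (U : X.Opens)), Nonempty (SecChart L s U.1) := by
  obtain ⟨U, hxU, σ, hσ⟩ := exists_affine_isFreeGen hL x
  obtain ⟨f, hf⟩ := (hσ U.1 le_rfl).2 (sval L s U.1)
  have hf' : f • σ = sval L s U.1 := by
    rw [← hf]
    change f • σ = f • L.presheaf.map (homOfLE (le_refl U.1)).op σ
    rw [show L.presheaf.map (homOfLE (le_refl U.1)).op σ = σ from mres_self L le_rfl σ]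
  have hfne : f ≠ 0 := by
    intro h0
    apply sval_ne_zero hL hs U.1 ⟨x, hxU⟩
    rw [← hf', h0, zero_smul]
  exact ⟨U, hxU, ⟨⟨σ, hσ, ⟨f, mem_regSub_of_ne_zero hfne⟩, hf'.symm⟩⟩⟩

end Integral

end Groth.Agent.H54.ZeroChart
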