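import Mathlib
import Groth.Prelude.Def_PicF2
import Groth.Prelude.Def_SecTwist
import Groth.Prelude.Def_MeroDiv
import Groth.Agent.H54.ZeroChartInt
import Groth.Agent.H54.MeroDivIso
import Groth.Agent.H54.CurveDiv

set_option autoImplicit false
universe u
open CategoryTheory CategoryTheory.Limits AlgebraicGeometry TopologicalSpace Opposite

namespace Groth.Agent.H54.ZeroDiv

open Mero Groth.Agent.H8 Groth.Agent.H18 Groth.Agent.H54.ZeroIdeal Groth.Agent.H54.GenSection
  Groth.Agent.H54.DivFrac Groth.Agent.H54.DivCrit Groth.Agent.H54.DivIdeal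
  Groth.Agent.H54.ZeroChart Groth.Agent.H54.DivModInv Groth.Agent.H54.MeroSec
  Groth.Agent.H54.MeroDivIso Groth.Agent.H54.FracIdeal

variable {X : Scheme.{u}}

/-- the unit of `Γ(U, K_X)` defined by a regular section -/
noncomputable def unitOfReg {U : X.Opens} (f : regSub X U) : (Γ(kmod X, U))ˣ :=
  (isUnit_toK_of_mem_regSub f).unit

theorem unitOfReg_val {U : X.Opens} (f : regSub X U) :
    ((unitOfReg f : (Γ(kmod X, U))ˣ) : Γ(kmod X, U)) = toK X U f.1 := rfl

theorem germOf_unitOfReg {U : X.Opens} (f : regSub X U) (y : U) :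
    germOf (unitOfReg f) y = QuotientGroup.mk (uOf (regGerm y f)) := by
  rw [germOf]
  congr 1
  exact Units.ext rfl

theorem inv_unitOfReg_val_mul {U : X.Opens} (f : regSub X U) (y : U) :
    ((unitOfReg f)⁻¹ : (Γ(kmod X, U))ˣ).1.1 y *
      algebraMap (X.presheaf.stalk y.1) (KStalk X y.1) (X.presheaf.germ U y.1 y.2 f.1) = 1 :=
  inv_val_mul (unitOfReg f) y

/-- the divisor of a section covered by charts -/
theorem exists_divisor_of_charts {L : X.Modules} {s : Coh.structureModule X ⟶ L}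
    (hcov : ∀ x : X, ∃ (U : X.Opens) (_ : x ∈ U), Nonempty (SecChart L s U)) :
    ∃ D : Divisor X, ∀ (U : X.Opens) (c : SecChart L s U) (y : U),
      D.1 y.1 = QuotientGroup.mk (uOf (regGerm y c.f)) := by
  choose U hxU c₀ using hcov
  let c : ∀ x, SecChart L s (U x) := fun x => (c₀ x).some
  refine ⟨⟨fun y => QuotientGroup.mk (uOf (regGerm ⟨y, hxU y⟩ (c y).f)),
    fun x => ⟨U x, hxU x, unitOfReg (c x).f, fun y => ?_⟩⟩, fun V d y => ?_⟩
  · rw [germOf_unitOfReg]
    exact (c y.1).mk_uOf_eq (c x) y.1 (hxU y.1) y.2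
  · exact (c y.1).mk_uOf_eq d y.1 (hxU y.1) y.2

theorem divCond_one_of_isEffectiveAt {D : Divisor X} {y : X} (h : IsEffectiveAt D y) :
    DivCond D y 1 := by
  obtain ⟨a, ha⟩ := h
  rw [divCond_iff D y (uOf a) ha, one_mul]
  exact ⟨a.1, rfl⟩

/-- the unit section of `O(D)` -/
noncomputable def oneSec (D : Divisor X) (h : ∀ y : X, DivCond D y 1) : Γ(divMod D, ⊤) :=
  divSec D 1 (fun y => h y.1)

theorem oneSec_val (D : Divisor X) (h : ∀ y : X, DivCond D y 1) (y : (⊤ : X.Opens)) :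
    (oneSec D h).1 y = 1 := rfl

theorem divModι_oneSec (D : Divisor X) (h : ∀ y : X, DivCond D y 1) :
    (divModι D).app ⊤ (oneSec D h) = 1 := rfl

/-- a regular germ acts injectively on the stalk of a module with a free generator -/
theorem smul_germ_injective {L : X.Modules} {U : X.Opens} {σ : Γ(L, U)} (hσ : IsFreeGen L U σ)
    {y : X} (hy : y ∈ U) {r : X.presheaf.stalk y} (hr : r ∈ nonZeroDivisors (X.presheaf.stalk y))
    {m : L.presheaf.stalk y} (h : r • m = 0) : m = 0 := by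
  have hb := hσ.germ_bijective hy
  obtain ⟨a, rfl⟩ := hb.2 m
  dsimp only at h ⊢
  rw [← mul_smul] at h
  have h1 : r * a = 0 := by
    apply hb.1
    change (r * a) • L.presheaf.germ U y hy σ = (0 : X.presheaf.stalk y) • _
    rw [h, zero_smul]
  have h2 : a = 0 := (mem_nonZeroDivisors_iff_right.mp hr) a (by rw [mul_comm]; exact h1)
  rw [h2, zero_smul]

set_option maxHeartbeats 1000000 in
/-- the isomorphism `O(D) ≅ L` for the divisor `D` of a section `s` covered by charts, sending `1`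
to `s` -/
theorem exists_iso_of_charts {L : X.Modules} {s : Coh.structureModule X ⟶ L}
    (hcov : ∀ x : X, ∃ (U : X.Opens) (_ : x ∈ U), Nonempty (SecChart L s U)) (D : Divisor X)
    (hD : ∀ (U : X.Opens) (c : SecChart L s U) (y : U),
      D.1 y.1 = QuotientGroup.mk (uOf (regGerm y c.f))) :
    ∃ (h1 : ∀ y : X, DivCond D y 1) (φ : divMod D ⟶ L),
      IsIso φ ∧ φ.app ⊤ (oneSec D h1) = sval L s ⊤ := by
  choose U hxU c₀ using hcov
  let c : ∀ x, SecChart L s (U x) := fun x => (c₀ x).some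
  have hDx : ∀ (x : X) (y : U x), D.1 y.1 = germOf (unitOfReg (c x).f) y := fun x y =>
    (hD _ (c x) y).trans (germOf_unitOfReg _ y).symm
  choose t htval ht using fun x => exists_free_gen D (U x) (unitOfReg (c x).f) (hDx x)
  have htf : ∀ (x : X) (y : U x), (t x).1 y *
      algebraMap (X.presheaf.stalk y.1) (KStalk X y.1)
        (X.presheaf.germ (U x) y.1 y.2 (c x).f.1) = 1 := fun x y => by
    rw [htval x y]; exact inv_unitOfReg_val_mul (c x).f y
  have h1 : ∀ y : X, DivCond D y 1 := fun y =>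
    divCond_one_of_isEffectiveAt ⟨regGerm ⟨y, hxU y⟩ (c y).f, hD _ (c y) ⟨y, hxU y⟩⟩
  have hγ : ∀ (x x' : X) (cc : Γ(X, U x ⊓ U x')),
      mres (divMod D) inf_le_right (t x') = cc • mres (divMod D) inf_le_left (t x) →
        mres L inf_le_right (c x').σ = cc • mres L inf_le_left (c x).σ := by
    intro x x' cc hcc
    let Ls : TopCat.Sheaf AddCommGrpCat X.toTopCat := ⟨L.presheaf, L.isSheaf⟩
    apply TopCat.Presheaf.section_ext Ls
    intro y hy
    have hyU : y ∈ U x := hy.1
    have hyU' : y ∈ U x' := hy.2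
    change L.presheaf.germ _ y hy (mres L inf_le_right (c x').σ) =
      L.presheaf.germ _ y hy (cc • mres L inf_le_left (c x).σ)
    rw [Mero.germ_smul,
      TopCat.Presheaf.germ_res_apply L.presheaf (homOfLE (inf_le_right : U x ⊓ U x' ≤ U x')) y hy,
      TopCat.Presheaf.germ_res_apply L.presheaf (homOfLE (inf_le_left : U x ⊓ U x' ≤ U x)) y hy]
    -- `f_y = cc_y f'_y`
    have h2 := congrArg (fun τ : Γ(divMod D, U x ⊓ U x') => τ.1 ⟨y, hy⟩) hcc
    have h3 : (t x').1 ⟨y, hyU'⟩ = X.presheaf.germ _ y hy cc • (t x).1 ⟨y, hyU⟩ := h2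
    rw [Algebra.smul_def] at h3
    have hF := htf x ⟨y, hyU⟩
    have hF' := htf x' ⟨y, hyU'⟩
    have h4 : algebraMap (X.presheaf.stalk y) (KStalk X y)
        (X.presheaf.germ (U x) y hyU (c x).f.1) =
        algebraMap (X.presheaf.stalk y) (KStalk X y)
          (X.presheaf.germ _ y hy cc * X.presheaf.germ (U x') y hyU' (c x').f.1) := by
      rw [map_mul]
      generalize algebraMap (X.presheaf.stalk y) (KStalk X y)
        (X.presheaf.germ (U x) y hyU (c x).f.1) = F at hF ⊢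
      generalize algebraMap (X.presheaf.stalk y) (KStalk X y)
        (X.presheaf.germ (U x') y hyU' (c x').f.1) = F' at hF' ⊢
      generalize algebraMap (X.presheaf.stalk y) (KStalk X y)
        (X.presheaf.germ _ y hy cc) = C at h3 ⊢
      generalize (t x).1 ⟨y, hyU⟩ = T at h3 hF
      generalize (t x').1 ⟨y, hyU'⟩ = T' at h3 hF'
      change KStalk X y at F F' C T T'
      linear_combination (F * F') * h3 - F * hF' + (C * F') * hF
    have h5 := algebraMap_KStalk_injective y h4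
    -- `f'_y (σ'_y - cc_y σ_y) = 0`
    have h6 : X.presheaf.germ (U x') y hyU' (c x').f.1 •
        (L.presheaf.germ (U x') y hyU' (c x').σ -
          X.presheaf.germ _ y hy cc • L.presheaf.germ (U x) y hyU (c x).σ) = 0 := by
      rw [smul_sub, ← mul_smul, mul_comm, ← h5, ← Mero.germ_smul, ← Mero.germ_smul,
        ← (c x).hs, ← (c x').hs, sub_eq_zero]
      exact germ_sval y hyU' hyU
    exact sub_eq_zero.mp (smul_germ_injective (c x').hσ hyU' ((c x').f.2 ⟨y, hyU'⟩) h6)
  have ht' : ∀ x, PUP.IsBasisOn (divMod D) (U x) (t x) := fun x V hV => ht x V hV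
  let φ : divMod D ⟶ L :=
    PUP.homOfLocalBasis U (fun y => ⟨y, hxU y⟩) t ht' (fun x => (c x).σ) hγ
  have hφ : ∀ x, φ.app (U x) (t x) = (c x).σ :=
    fun x => PUP.homOfLocalBasis_app U (fun y => ⟨y, hxU y⟩) t ht' (fun x => (c x).σ) hγ x
  have hiso : IsIso φ := by
    apply isIso_of_local_bases
    intro y
    refine ⟨U y, hxU y, t y, ?_, ?_⟩
    · exact IsFreeGen.germ_bijective (L := divMod D) (σ := t y) (fun V hV => ht y V hV) (hxU y)
    · rw [hφ y]
      exact (c y).hσ.germ_bijective (hxU y)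
  refine ⟨h1, φ, hiso, ?_⟩
  apply modules_eq_of_locally_eq L
  intro x _
  refine ⟨U x, le_top, hxU x, ?_⟩
  rw [← hom_app_mres φ le_top (oneSec D h1), res_val L s le_top, (c x).hs, ← hφ x]
  have e : mres (divMod D) (le_top : U x ≤ ⊤) (oneSec D h1) = (c x).f.1 • t x := by
    apply divMod_ext
    intro y
    change (1 : KStalk X y.1) = X.presheaf.germ (U x) y.1 y.2 (c x).f.1 • (t x).1 y
    rw [Algebra.smul_def, mul_comm]
    exact (htf x y).symm
  rw [e]
  exact Scheme.Modules.Hom.app_smul φ _ _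

theorem inv_app_app {M N : X.Modules} (φ : M ⟶ N) [IsIso φ] (U : X.Opens) (m : Γ(M, U)) :
    (inv φ).app U (φ.app U m) = m := by
  have h : φ ≫ inv φ = 𝟙 M := IsIso.hom_inv_id φ
  have h2 := congrArg (fun ψ : M ⟶ M => ψ.app U m) h
  exact h2

theorem main [IsIntegral X] (L : X.Modules) (hL : PicF.IsInvertible L)
    (s : Coh.structureModule X ⟶ L) (hs : s ≠ 0) :
    ∃ D : Mero.Divisor X, Mero.IsDivOfIdeal D (PicF2.zeroScheme L s) ∧
      ∃ e : L ≅ Mero.divMod D,
        (Mero.divModι D).app ⊤ (e.hom.app ⊤ (SecTwist.val s ⊤)) = 1 := by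
  have hcov : ∀ x : X, ∃ (U : X.Opens) (_ : x ∈ U), Nonempty (SecChart L s U) := by
    intro x
    obtain ⟨U, hxU, hc⟩ := exists_secChart hL hs x
    exact ⟨U.1, hxU, hc⟩
  obtain ⟨D, hD⟩ := exists_divisor_of_charts hcov
  refine ⟨D, ?_, ?_⟩
  · intro x
    obtain ⟨U, hxU, ⟨c⟩⟩ := exists_secChart hL hs x
    exact ⟨U, hxU, c.f.1, c.f.2, zeroScheme_ideal_eq_span hL U c, fun y => hD U.1 c y⟩
  · obtain ⟨h1, φ, hiso, hφ⟩ := exists_iso_of_charts hcov D hD
    refine ⟨(asIso φ).symm, ?_⟩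
    change (divModι D).app ⊤ ((inv φ).app ⊤ (sval L s ⊤)) = 1
    rw [← hφ, inv_app_app]
    exact divModι_oneSec D h1

end Groth.Agent.H54.ZeroDiv
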