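import Mathlib
import Groth.Prelude.Def_PicF2
import Groth.Prelude.Def_SecTwist
import Groth.Prelude.Def_MeroDiv
import Groth.Agent.H54.ZeroChartInt
import Groth.Agent.H18.STL.Invertible

set_option autoImplicit false
universe u
open CategoryTheory CategoryTheory.Limits AlgebraicGeometry TopologicalSpace Opposite

namespace Groth.Agent.H54.ZeroTensor

open Mero Groth.Agent.H8 Groth.Agent.H18 Groth.Agent.H54.ZeroIdeal Groth.Agent.H54.GenSection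
  Groth.Agent.H54.DivFrac Groth.Agent.H54.DivCrit Groth.Agent.H54.DivIdeal
  Groth.Agent.H54.ZeroChart

variable {X : Scheme.{u}}

/-- the tensor product of two charts -/
noncomputable def tensorChart {L₁ L₂ : X.Modules} {s₁ : Coh.structureModule X ⟶ L₁}
    {s₂ : Coh.structureModule X ⟶ L₂} {U : X.Opens} (c₁ : SecChart L₁ s₁ U)
    (c₂ : SecChart L₂ s₂ U) :
    SecChart (CohB1.tensorMod L₁ L₂) (SecTwist.tmulHom s₁ s₂) U where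
  σ := SecTwist.tmul L₁ L₂ U c₁.σ c₂.σ
  hσ := fun V hV => (STL.isBasisOn_tmul (fun V hV => c₁.hσ V hV) (fun V hV => c₂.hσ V hV)) V hV
  f := c₁.f * c₂.f
  hs := by
    have h0 : sval (CohB1.tensorMod L₁ L₂) (SecTwist.tmulHom s₁ s₂) U =
        SecTwist.tmul L₁ L₂ U (sval L₁ s₁ U) (sval L₂ s₂ U) := SecTwist.val_tmulHom s₁ s₂ U
    rw [h0, c₁.hs, c₂.hs, STL.tmul_smul_left, STL.tmul_smul_right]
    have key : ∀ τ : Γ(CohB1.tensorMod L₁ L₂, U),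
        c₁.f.1 • c₂.f.1 • τ = (c₁.f.1 * c₂.f.1) • τ := fun τ => (mul_smul _ _ τ).symm
    exact key _

theorem uOf_mul {y : X} (a b : regStalk X y) : uOf (a * b) = uOf a * uOf b := by
  apply Units.ext
  rw [Units.val_mul, uOf_val, uOf_val, uOf_val]
  exact map_mul _ _ _

theorem main [IsIntegral X] (L₁ L₂ : X.Modules) (hL₁ : PicF.IsInvertible L₁)
    (hL₂ : PicF.IsInvertible L₂)
    (s₁ : Coh.structureModule X ⟶ L₁) (s₂ : Coh.structureModule X ⟶ L₂) (hs₁ : s₁ ≠ 0)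
    (hs₂ : s₂ ≠ 0)
    (D₁ D₂ : Mero.Divisor X) (hD₁ : Mero.IsDivOfIdeal D₁ (PicF2.zeroScheme L₁ s₁))
    (hD₂ : Mero.IsDivOfIdeal D₂ (PicF2.zeroScheme L₂ s₂)) :
    Mero.IsDivOfIdeal (D₁ * D₂)
      (PicF2.zeroScheme (CohB1.tensorMod L₁ L₂) (SecTwist.tmulHom s₁ s₂)) := by
  intro x
  obtain ⟨U₁, hxU₁, ⟨c₁⟩⟩ := exists_secChart hL₁ hs₁ x
  obtain ⟨U₂, hxU₂, ⟨c₂⟩⟩ := exists_secChart hL₂ hs₂ x
  obtain ⟨V, hV, hxV, hVU⟩ := exists_isAffineOpen_mem_and_subset (x := x) (U := U₁.1 ⊓ U₂.1)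
    ⟨hxU₁, hxU₂⟩
  have hV₁ : V ≤ U₁.1 := fun z hz => (hVU hz).1
  have hV₂ : V ≤ U₂.1 := fun z hz => (hVU hz).2
  let d₁ := c₁.res hV₁
  let d₂ := c₂.res hV₂
  let d := tensorChart d₁ d₂
  have hL := STL.isInvertible_tensorMod hL₁ hL₂
  refine ⟨⟨V, hV⟩, hxV, d.f.1, d.f.2, zeroScheme_ideal_eq_span hL ⟨V, hV⟩ d, fun y => ?_⟩
  have e₁ := germ_eq_of_isDivOfIdeal hD₁ ⟨V, hV⟩ d₁.f (zeroScheme_ideal_eq_span hL₁ ⟨V, hV⟩ d₁) y
  have e₂ := germ_eq_of_isDivOfIdeal hD₂ ⟨V, hV⟩ d₂.f (zeroScheme_ideal_eq_span hL₂ ⟨V, hV⟩ d₂) y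
  change D₁.1 y.1 * D₂.1 y.1 = _
  have e₃ : regGerm y d₁.f * regGerm y d₂.f = regGerm y d.f :=
    Subtype.ext (map_mul (X.presheaf.germ V y.1 y.2).hom d₁.f.1 d₂.f.1).symm
  rw [e₁, e₂, ← QuotientGroup.mk_mul, ← uOf_mul, e₃]

end Groth.Agent.H54.ZeroTensor
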