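import Mathlib
import Groth.Prelude.Def_PicF2
import Groth.Prelude.Def_SecTwist
import Groth.Prelude.Def_MeroDiv
import Groth.Agent.H54.ZeroDiv
import Groth.Agent.H54.ZeroTensor
import Groth.Agent.H54.MeroDivReg
import Groth.Agent.H18.SectionHom

set_option autoImplicit false
universe u
open CategoryTheory CategoryTheory.Limits AlgebraicGeometry TopologicalSpace Opposite

namespace Groth.Agent.H54.ZeroEff

open Mero Groth.Agent.H8 Groth.Agent.H18 Groth.Agent.H54.ZeroIdeal Groth.Agent.H54.GenSection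
  Groth.Agent.H54.DivFrac Groth.Agent.H54.DivCrit Groth.Agent.H54.DivIdeal
  Groth.Agent.H54.ZeroChart Groth.Agent.H54.DivModInv Groth.Agent.H54.MeroSec
  Groth.Agent.H54.MeroDivIso Groth.Agent.H54.FracIdeal Groth.Agent.H54.ZeroDiv
  Groth.Agent.H54.ZeroTensor Groth.Agent.H54.MeroDivReg

variable {X : Scheme.{u}}

/-- the locus where `a / b` is a unit of the local ring is open -/
theorem exists_nhds_fracOf_eq_one {V : X.Opens} (a b : regSub X V) (x : X) (hxV : x ∈ V)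
    (hx : (QuotientGroup.mk (fracOf (regGerm ⟨x, hxV⟩ a) (regGerm ⟨x, hxV⟩ b)) : Germ X x) = 1) :
    ∃ (W : X.Opens) (hW : W ≤ V), x ∈ W ∧ ∀ y : W,
      (QuotientGroup.mk (fracOf (regGerm ⟨y.1, hW y.2⟩ a) (regGerm ⟨y.1, hW y.2⟩ b)) :
        Germ X y.1) = 1 := by
  obtain ⟨u, hu⟩ := (mk_fracOf_eq_one_iff _ _).mp hx
  obtain ⟨W₁, hxW₁, ũ, hũ⟩ := X.presheaf.exists_germ_eq (u : X.presheaf.stalk x)
  let W₂ : X.Opens := V ⊓ W₁
  have hxW₂ : x ∈ W₂ := ⟨hxV, hxW₁⟩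
  have hgerm : X.presheaf.germ W₂ x hxW₂ (X.presheaf.map (homOfLE (inf_le_left : W₂ ≤ V)).op a.1) =
      X.presheaf.germ W₂ x hxW₂ (X.presheaf.map (homOfLE (inf_le_right : W₂ ≤ W₁)).op ũ *
        X.presheaf.map (homOfLE (inf_le_left : W₂ ≤ V)).op b.1) := by
    rw [map_mul, TopCat.Presheaf.germ_res_apply, TopCat.Presheaf.germ_res_apply,
      TopCat.Presheaf.germ_res_apply, hũ]
    exact hu
  obtain ⟨W₃, hxW₃, i₁, i₂, he⟩ := TopCat.Presheaf.germ_eq X.presheaf x hxW₂ hxW₂ _ _ hgerm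
  have hW₃V : W₃ ≤ V := i₁.le.trans inf_le_left
  have hW₃W₁ : W₃ ≤ W₁ := i₁.le.trans inf_le_right
  have hxb : x ∈ X.basicOpen ũ := by
    rw [X.mem_basicOpen ũ x hxW₁, hũ]
    exact u.isUnit
  refine ⟨(W₃ ⊓ X.basicOpen ũ : X.Opens), inf_le_left.trans hW₃V, ⟨hxW₃, hxb⟩, ?_⟩
  rintro ⟨y, hyW₃, hyb⟩
  have hyu : IsUnit (X.presheaf.germ W₁ y (hW₃W₁ hyW₃) ũ) := (X.mem_basicOpen ũ y _).mp hyb
  have h2 := congrArg (X.presheaf.germ W₃ y hyW₃) he
  rw [TopCat.Presheaf.germ_res_apply, TopCat.Presheaf.germ_res_apply,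
    TopCat.Presheaf.germ_res_apply, map_mul, TopCat.Presheaf.germ_res_apply,
    TopCat.Presheaf.germ_res_apply] at h2
  apply mk_fracOf_eq_one_of_dvd
  · refine ⟨X.presheaf.germ W₁ y (hW₃W₁ hyW₃) ũ, ?_⟩
    change X.presheaf.germ V y _ a.1 = X.presheaf.germ V y _ b.1 * _
    rw [h2, mul_comm]
  · obtain ⟨v, hv⟩ := hyu.exists_left_inv
    refine ⟨v, ?_⟩
    change X.presheaf.germ V y _ b.1 = X.presheaf.germ V y _ a.1 * v
    rw [h2, mul_comm, ← mul_assoc, hv, one_mul]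

theorem fracOf_mul_right {y : X} (a b c : regStalk X y) :
    fracOf a (b * c) = fracOf a b * (uOf c)⁻¹ := by
  rw [fracOf, fracOf, uOf_mul, mul_inv, mul_assoc]

/-- a divisor effective at `x` is the class of a regular function near `x` -/
theorem exists_local_equation (D : Divisor X) (x : X) (hx : IsEffectiveAt D x) :
    ∃ (W : X.Opens) (_ : x ∈ W) (f : regSub X W), ∀ y : W,
      D.1 y.1 = QuotientGroup.mk (uOf (regGerm y f)) := by
  obtain ⟨a₀, ha₀⟩ := hx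
  obtain ⟨W₀, hxW₀, f₀, hf₀, hf₀a⟩ := a₀.2
  obtain ⟨V, hxV, a, b, hab⟩ := exists_frac D x
  let V' : X.Opens := V ⊓ W₀
  have hxV' : x ∈ V' := ⟨hxV, hxW₀⟩
  let a' : regSub X V' := ⟨X.presheaf.map (homOfLE (inf_le_left : V' ≤ V)).op a.1,
    regSub_res (homOfLE inf_le_left) a.2⟩
  let b' : regSub X V' := ⟨X.presheaf.map (homOfLE (inf_le_left : V' ≤ V)).op b.1,
    regSub_res (homOfLE inf_le_left) b.2⟩
  let f' : regSub X V' := ⟨X.presheaf.map (homOfLE (inf_le_right : V' ≤ W₀)).op f₀,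
    regSub_res (homOfLE inf_le_right) hf₀⟩
  have ea : ∀ y : V', regGerm y a' = regGerm ⟨y.1, y.2.1⟩ a := fun y =>
    Subtype.ext (TopCat.Presheaf.germ_res_apply X.presheaf (homOfLE inf_le_left) y.1 y.2 a.1)
  have eb : ∀ y : V', regGerm y b' = regGerm ⟨y.1, y.2.1⟩ b := fun y =>
    Subtype.ext (TopCat.Presheaf.germ_res_apply X.presheaf (homOfLE inf_le_left) y.1 y.2 b.1)
  have hkey : ∀ y : V', (QuotientGroup.mk (fracOf (regGerm y a') (regGerm y (b' * f'))) :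
      Germ X y.1) = D.1 y.1 * (QuotientGroup.mk (uOf (regGerm y f')))⁻¹ := by
    intro y
    have e3 : regGerm y (b' * f') = regGerm y b' * regGerm y f' :=
      Subtype.ext (map_mul (X.presheaf.germ V' y.1 y.2).hom b'.1 f'.1)
    rw [e3, fracOf_mul_right, QuotientGroup.mk_mul, QuotientGroup.mk_inv, ea, eb,
      ← hab ⟨y.1, y.2.1⟩]
  have hfx : regGerm ⟨x, hxV'⟩ f' = a₀ :=
    Subtype.ext ((TopCat.Presheaf.germ_res_apply X.presheaf (homOfLE inf_le_right) x hxV' f₀).trans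
      hf₀a)
  have hx1 : (QuotientGroup.mk (fracOf (regGerm ⟨x, hxV'⟩ a') (regGerm ⟨x, hxV'⟩ (b' * f'))) :
      Germ X x) = 1 := by
    rw [hkey ⟨x, hxV'⟩, hfx, ← ha₀, mul_inv_cancel]
  obtain ⟨W, hW, hxW, hWone⟩ := exists_nhds_fracOf_eq_one a' (b' * f') x hxV' hx1
  refine ⟨W, hxW, ⟨X.presheaf.map (homOfLE hW).op f'.1, regSub_res (homOfLE hW) f'.2⟩,
    fun y => ?_⟩
  have h1 := hWone y
  rw [hkey ⟨y.1, hW y.2⟩, mul_inv_eq_one] at h1
  rw [h1]
  congr 2
  exact Subtype.ext (TopCat.Presheaf.germ_res_apply X.presheaf (homOfLE hW) y.1 y.2 f'.1).symm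

theorem sval_sectionHom (L : X.Modules) (σ₀ : Γ(L, (⊤ : X.Opens))) (V : X.Opens) :
    sval L (sectionHom L σ₀) V = mres L (le_top : V ≤ ⊤) σ₀ :=
  sectionHom_app_one L σ₀ V

theorem main [IsIntegral X] (L : X.Modules) (hL : PicF.IsInvertible L) (D : Mero.Divisor X)
    (hD : Mero.IsEffective D) (e : L ≅ Mero.divMod D) :
    ∃ s : Coh.structureModule X ⟶ L, s ≠ 0 ∧ Mero.IsDivOfIdeal D (PicF2.zeroScheme L s) := by
  have h1 : ∀ y : X, DivCond D y 1 := fun y => divCond_one_of_isEffectiveAt (hD y)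
  let σ₀ : Γ(L, (⊤ : X.Opens)) := e.inv.app ⊤ (oneSec D h1)
  refine ⟨sectionHom L σ₀, ?_, ?_⟩
  · intro h0
    have h2 : sval L (sectionHom L σ₀) ⊤ = 0 := by
      rw [h0]
      change ((0 : Coh.structureModule X ⟶ L).val.app (op ⊤)).hom _ = 0
      rfl
    rw [sval_sectionHom, mres_self] at h2
    have h3 : e.hom.app ⊤ σ₀ = oneSec D h1 := by
      have h : e.inv ≫ e.hom = 𝟙 _ := e.inv_hom_id
      exact congrArg (fun ψ : divMod D ⟶ divMod D => ψ.app ⊤ (oneSec D h1)) h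
    rw [h2, map_zero] at h3
    obtain ⟨y⟩ : Nonempty X := inferInstance
    have h4 := congrArg (fun τ : Γ(divMod D, ⊤) => τ.1 ⟨y, Opens.mem_top y⟩) h3
    have h5 : (0 : KStalk X y) = 1 := h4
    exact zero_ne_one h5
  · intro x
    obtain ⟨W, hxW, f, hf⟩ := exists_local_equation D x (hD x)
    obtain ⟨V, hV, hxV, hVW⟩ := exists_isAffineOpen_mem_and_subset (x := x) (U := W) hxW
    have hVW : V ≤ W := hVW
    let f' : regSub X V := ⟨X.presheaf.map (homOfLE hVW).op f.1, regSub_res (homOfLE hVW) f.2⟩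
    have hf' : ∀ y : V, D.1 y.1 = QuotientGroup.mk (uOf (regGerm y f')) := by
      intro y
      rw [hf ⟨y.1, hVW y.2⟩]
      congr 2
      exact Subtype.ext (TopCat.Presheaf.germ_res_apply X.presheaf (homOfLE hVW) y.1 y.2 f.1).symm
    obtain ⟨t, htval, ht⟩ := exists_free_gen D V (unitOfReg f')
      (fun y => (hf' y).trans (germOf_unitOfReg f' y).symm)
    have ht' : IsFreeGen (divMod D) V t := fun V' hV' => ht V' hV'
    have hone : mres (divMod D) (le_top : V ≤ ⊤) (oneSec D h1) = f'.1 • t := by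
      apply divMod_ext
      intro y
      change (1 : KStalk X y.1) = X.presheaf.germ V y.1 y.2 f'.1 • t.1 y
      rw [Algebra.smul_def, mul_comm, htval y]
      exact (inv_unitOfReg_val_mul f' y).symm
    let c : SecChart L (sectionHom L σ₀) V :=
      { σ := e.inv.app V t
        hσ := isFreeGen_of_iso e.inv ht'
        f := f'
        hs := by
          rw [sval_sectionHom]
          change mres L le_top (e.inv.app ⊤ (oneSec D h1)) = _
          rw [← hom_app_mres e.inv le_top (oneSec D h1), hone]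
          exact Scheme.Modules.Hom.app_smul e.inv _ _ }
    exact ⟨⟨V, hV⟩, hxV, f'.1, f'.2, zeroScheme_ideal_eq_span hL ⟨V, hV⟩ c, hf'⟩

end Groth.Agent.H54.ZeroEff
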