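import Mathlib
import Groth.Prelude.Def_PicF2
import Groth.Agent.H54.ZeroChartInt

/-!
# Two sections of an invertible module with the same zero scheme differ by a global unit (helper54)
-/

set_option autoImplicit false
universe u
open CategoryTheory CategoryTheory.Limits AlgebraicGeometry TopologicalSpace Opposite

namespace Groth.Agent.H54.ZeroUnit

open Mero Groth.Agent.H8 Groth.Agent.H18 Groth.Agent.H54.ZeroIdeal Groth.Agent.H54.ZeroChart

variable {X : Scheme.{u}}

theorem res_smul (L : X.Modules) {U V : X.Opens} (h : V ≤ U) (a : Γ(X, U)) (m : Γ(L, U)) :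
    L.presheaf.map (homOfLE h).op (a • m) =
      (X.presheaf.map (homOfLE h).op).hom a • L.presheaf.map (homOfLE h).op m :=
  Scheme.Modules.map_smul L (homOfLE h) a m

/-- restriction of a relation `s' = h • s` between global sections -/
theorem sval_res_smul (L : X.Modules) (s s' : Coh.structureModule X ⟶ L) (h : Γ(X, ⊤))
    (hrel : sval L s' ⊤ = h • sval L s ⊤) (U : X.Opens) :
    sval L s' U = (X.presheaf.map (homOfLE (le_top : U ≤ ⊤)).op).hom h • sval L s U := by
  rw [← res_val L s' (le_top : U ≤ ⊤), hrel, res_smul, res_val]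

theorem zeroScheme_eq_of_smul {L : X.Modules} (hL : PicF.IsInvertible L)
    (s s' : Coh.structureModule X ⟶ L) (h : Γ(X, ⊤)) (hh : IsUnit h)
    (hrel : sval L s' ⊤ = h • sval L s ⊤) :
    PicF2.zeroScheme L s' = PicF2.zeroScheme L s := by
  apply Scheme.IdealSheafData.ext
  funext U
  rw [zeroScheme_ideal hL s' U, zeroScheme_ideal hL s U]
  have hUunit : IsUnit ((X.presheaf.map (homOfLE (le_top : U.1 ≤ ⊤)).op).hom h) := hh.map _
  have hrelU := sval_res_smul L s s' h hrel U.1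
  ext a
  rw [mem_zeroIdealOn, mem_zeroIdealOn]
  constructor
  · intro H m
    obtain ⟨b, hb⟩ := H m
    exact ⟨b * (X.presheaf.map (homOfLE (le_top : U.1 ≤ ⊤)).op).hom h, by
      rw [hb, hrelU, mul_smul]⟩
  · intro H m
    obtain ⟨b, hb⟩ := H m
    obtain ⟨v, hv⟩ := hUunit
    refine ⟨b * (↑v⁻¹ : (Γ(X, U.1))ˣ), ?_⟩
    rw [hb, hrelU, ← hv, ← mul_smul, mul_assoc, Units.inv_mul, mul_one]

section Integral

variable [IsIntegral X]

/-- on an integral scheme, functions acting the same way on a nonzero section of an invertible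
module over a nonempty open are equal -/
theorem eq_of_smul_sval_eq {L : X.Modules} (hL : PicF.IsInvertible L)
    {s : Coh.structureModule X ⟶ L} (hs : s ≠ 0) (W : X.Opens) (hW : (W : Set X).Nonempty)
    (a b : Γ(X, W)) (hab : a • sval L s W = b • sval L s W) : a = b := by
  obtain ⟨x, hxW⟩ := hW
  obtain ⟨T, hxT, τ, hτ⟩ := exists_isFreeGen_of_isInvertible hL x
  have hxV : x ∈ W ⊓ T := ⟨hxW, hxT⟩
  haveI : Nonempty (W ⊓ T : X.Opens) := ⟨⟨x, hxV⟩⟩
  obtain ⟨g, hg⟩ := (hτ (W ⊓ T) inf_le_right).2 (sval L s (W ⊓ T))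
  have hg' : g • mres L (inf_le_right : W ⊓ T ≤ T) τ = sval L s (W ⊓ T) := hg
  have hg0 : g ≠ 0 := by
    intro h0
    apply sval_ne_zero hL hs (W ⊓ T) ⟨x, hxV⟩
    rw [← hg', h0, zero_smul]
  have h1 := congrArg (mres L (inf_le_left : W ⊓ T ≤ W)) hab
  rw [mres_smul, mres_smul, res_val L s inf_le_left, ← hg', ← mul_smul, ← mul_smul] at h1
  have h2 : X.presheaf.map (homOfLE (inf_le_left : W ⊓ T ≤ W)).op a * g =
      X.presheaf.map (homOfLE (inf_le_left : W ⊓ T ≤ W)).op b * g :=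
    (hτ (W ⊓ T) inf_le_right).1 h1
  have h3 := mul_right_cancel₀ hg0 h2
  exact map_injective_of_isIntegral X (homOfLE (inf_le_left : W ⊓ T ≤ W)) h3

theorem exists_unit_of_zeroScheme_eq {L : X.Modules} (hL : PicF.IsInvertible L)
    (s s' : Coh.structureModule X ⟶ L) (hs : s ≠ 0) (hs' : s' ≠ 0)
    (heq : PicF2.zeroScheme L s' = PicF2.zeroScheme L s) :
    ∃ h : Γ(X, ⊤), IsUnit h ∧ sval L s' ⊤ = h • sval L s ⊤ := by
  -- local units
  have hloc : ∀ x : X, ∃ (U : X.Opens) (_ : x ∈ U) (w : (Γ(X, U))ˣ),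
      sval L s' U = (w : Γ(X, U)) • sval L s U := by
    intro x
    obtain ⟨U, hxU, σ, hσ⟩ := exists_affine_isFreeGen hL x
    haveI : Nonempty (U.1 : X.Opens) := ⟨⟨x, hxU⟩⟩
    have e : L.presheaf.map (homOfLE (le_refl U.1)).op σ = σ := mres_self L le_rfl σ
    obtain ⟨f, hf⟩ := (hσ U.1 le_rfl).2 (sval L s U.1)
    obtain ⟨f', hf'⟩ := (hσ U.1 le_rfl).2 (sval L s' U.1)
    have hf1 : f • σ = sval L s U.1 := by
      rw [← hf]
      change f • σ = f • L.presheaf.map (homOfLE (le_refl U.1)).op σ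
      rw [e]
    have hf1' : f' • σ = sval L s' U.1 := by
      rw [← hf']
      change f' • σ = f' • L.presheaf.map (homOfLE (le_refl U.1)).op σ
      rw [e]
    have hfne : f ≠ 0 := by
      intro h0
      apply sval_ne_zero hL hs U.1 ⟨x, hxU⟩
      rw [← hf1, h0, zero_smul]
    have hfne' : f' ≠ 0 := by
      intro h0
      apply sval_ne_zero hL hs' U.1 ⟨x, hxU⟩
      rw [← hf1', h0, zero_smul]
    let c : SecChart L s U.1 := ⟨σ, hσ, ⟨f, mem_regSub_of_ne_zero hfne⟩, hf1.symm⟩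
    let c' : SecChart L s' U.1 := ⟨σ, hσ, ⟨f', mem_regSub_of_ne_zero hfne'⟩, hf1'.symm⟩
    have hspan : Ideal.span {f'} = Ideal.span {f} := by
      have h1 := zeroScheme_ideal_eq_span hL U c
      have h2 := zeroScheme_ideal_eq_span hL U c'
      rw [heq] at h2
      exact h2.symm.trans h1
    obtain ⟨w, hw⟩ := Ideal.span_singleton_eq_span_singleton.mp hspan
    -- `f' * w = f`
    refine ⟨U.1, hxU, w⁻¹, ?_⟩
    rw [← hf1', ← hf1, ← mul_smul, ← hw, mul_comm, mul_assoc, Units.mul_inv, mul_one]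
  choose U hxU w hw using hloc
  have hne : ∀ x y : X, ((U x ⊓ U y : X.Opens) : Set X).Nonempty := by
    intro x y
    have hirr : IsPreirreducible (Set.univ : Set X) :=
      (PreirreducibleSpace.isPreirreducible_univ (X := X))
    obtain ⟨z, -, hz1, hz2⟩ := hirr (U x) (U y) (U x).2 (U y).2 ⟨x, trivial, hxU x⟩
      ⟨y, trivial, hxU y⟩
    exact ⟨z, hz1, hz2⟩
  have hcompat : ∀ x y : X, PUP.rres X (inf_le_left : U x ⊓ U y ≤ U x) (w x : Γ(X, U x)) =
      PUP.rres X (inf_le_right : U x ⊓ U y ≤ U y) (w y : Γ(X, U y)) := by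
    intro x y
    apply eq_of_smul_sval_eq hL hs (U x ⊓ U y) (hne x y)
    have h1 := congrArg (mres L (inf_le_left : U x ⊓ U y ≤ U x)) (hw x)
    have h2 := congrArg (mres L (inf_le_right : U x ⊓ U y ≤ U y)) (hw y)
    rw [mres_smul, res_val, res_val] at h1 h2
    exact h1.symm.trans h2
  obtain ⟨h, hh⟩ := STL.exists_glue_fun (fun x => U x) ⊤ (fun _ => le_top)
    (fun x _ => ⟨x, hxU x⟩) (fun x => (w x : Γ(X, U x))) hcompat
  refine ⟨h, ?_, ?_⟩
  · apply X.toRingedSpace.isUnit_of_isUnit_germ ⊤ h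
    intro x _
    have h1 : X.presheaf.germ ⊤ x trivial h = X.presheaf.germ (U x) x (hxU x) (w x : Γ(X, U x)) := by
      rw [← hh x]
      exact (TopCat.Presheaf.germ_res_apply X.presheaf (homOfLE le_top) x (hxU x) h).symm
    exact h1 ▸ (w x).isUnit.map _
  · apply modules_eq_of_locally_eq L
    intro x _
    refine ⟨U x, le_top, hxU x, ?_⟩
    rw [mres_smul, res_val, res_val]
    exact (hw x).trans (congrArg (· • sval L s (U x)) (hh x).symm)

theorem main (L : X.Modules) (hL : PicF.IsInvertible L) (s s' : Coh.structureModule X ⟶ L)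
    (hs : s ≠ 0) (hs' : s' ≠ 0) :
    PicF2.zeroScheme L s' = PicF2.zeroScheme L s ↔
      ∃ h : Γ(X, ⊤), IsUnit h ∧
        (SecTwist.val s' ⊤ : Γ(L, ⊤)) = h • (SecTwist.val s ⊤ : Γ(L, ⊤)) :=
  ⟨exists_unit_of_zeroScheme_eq hL s s' hs hs',
    fun ⟨h, hh, hrel⟩ => zeroScheme_eq_of_smul hL s s' h hh hrel⟩

end Integral

end Groth.Agent.H54.ZeroUnit
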